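import Mathlib
import Cfsg.Agent.AutOrth.Final
import Cfsg.Agent.LieClassical.OrthCenter
import Cfsg.Agent.LieClassical.FieldTransfer
import Cfsg.Agent.LieClassical.OmegaReindex

/-!
# The model of `Ω₈⁺(2)`

`V = 𝔽₂⁸`, `q` the hyperbolic form, `Om = E q` the group generated by the Siegel transformations.
`exists_equiv`: `POmega F (quadFormPlus 4 F) ≃* Om` when `|F| = 2`.
-/

set_option autoImplicit false

namespace Cfsg.Agent.StdO8.Model

open QuadraticMap Cfsg.Agent.LieClassical.OrthCore Cfsg.Agent.LieClassical.OrthTrans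
  Cfsg.Agent.LieClassical.OrthSimple Cfsg.Agent.LieClassical.OrthFinite Cfsg.Agent.AutOrth.Main
  Cfsg.Agent.LieClassical.QuadForms Cfsg.Agent.ClassicalGeometry.OrthAut1

/-- The space. -/
abbrev V : Type := Fin 4 ⊕ Fin 4 → ZMod 2

/-- The quadratic form. -/
abbrev q : QuadraticForm (ZMod 2) V := plusForm 4 (ZMod 2)

/-- The full isometry group. -/
abbrev O8 : Subgroup (V ≃ₗ[ZMod 2] V) := O q

/-- The group generated by the Siegel transformations. -/
abbrev Om : Subgroup (V ≃ₗ[ZMod 2] V) := E q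

theorem good : Good q := good_plus (by norm_num)

theorem q_apply (v : V) : q v = ∑ i : Fin 4, v (.inl i) * v (.inr i) := congrFun (coe_plusForm 4) v

section Field

variable {F K : Type*} [Field F] [Field K]

/-- Transport of the general linear group along an isomorphism of fields. -/
def glCongr (e : F ≃+* K) :
    Matrix.GeneralLinearGroup (Fin 4 ⊕ Fin 4) F ≃* Matrix.GeneralLinearGroup (Fin 4 ⊕ Fin 4) K :=
  Units.mapEquiv (RingEquiv.mapMatrix e).toMulEquiv

theorem coe_glCongr (e : F ≃+* K) (A : Matrix.GeneralLinearGroup (Fin 4 ⊕ Fin 4) F) :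
    ((glCongr e A : Matrix.GeneralLinearGroup (Fin 4 ⊕ Fin 4) K) : Matrix _ _ K) =
      (A : Matrix (Fin 4 ⊕ Fin 4) (Fin 4 ⊕ Fin 4) F).map e := rfl

theorem quad_map (e : F ≃+* K) (v : Fin 4 ⊕ Fin 4 → F) :
    Cfsg.quadFormPlus 4 K (fun i => e (v i)) = e (Cfsg.quadFormPlus 4 F v) := by
  simp [Cfsg.quadFormPlus]

theorem glCongr_mem (e : F ≃+* K) {A : Matrix.GeneralLinearGroup (Fin 4 ⊕ Fin 4) F}
    (hA : A ∈ Cfsg.isometryGroup F (Cfsg.quadFormPlus 4 F)) :
    glCongr e A ∈ Cfsg.isometryGroup K (Cfsg.quadFormPlus 4 K) := by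
  rw [mem_isometryGroup_iff] at hA ⊢
  intro v
  have hv : v = fun i => e ((fun i => e.symm (v i)) i) := by ext i; simp
  have h : ((glCongr e A : Matrix.GeneralLinearGroup _ K) : Matrix (Fin 4 ⊕ Fin 4) (Fin 4 ⊕ Fin 4) K).mulVec
      (fun i => e ((fun i => e.symm (v i)) i)) =
      fun i => e ((((A : Matrix (Fin 4 ⊕ Fin 4) (Fin 4 ⊕ Fin 4) F)).mulVec (fun i => e.symm (v i))) i) := by
    ext i
    simp [coe_glCongr, Matrix.mulVec, dotProduct]
  rw [hv, h, quad_map, quad_map, hA]

/-- Transport of the isometry group. -/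
def isoCongr (e : F ≃+* K) : Cfsg.isometryGroup F (Cfsg.quadFormPlus 4 F) ≃*
    Cfsg.isometryGroup K (Cfsg.quadFormPlus 4 K) where
  toFun A := ⟨glCongr e A.1, glCongr_mem e A.2⟩
  invFun A := ⟨glCongr e.symm A.1, glCongr_mem e.symm A.2⟩
  left_inv := by
    intro A
    apply Subtype.ext
    apply Units.ext
    ext i j
    simp [coe_glCongr]
  right_inv := by
    intro A
    apply Subtype.ext
    apply Units.ext
    ext i j
    simp [coe_glCongr]
  map_mul' := by
    intro A B
    apply Subtype.ext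
    simp

/-- Transport of `Ω`. -/
noncomputable def omCongr (e : F ≃+* K) : Cfsg.Omega F (Cfsg.quadFormPlus 4 F) ≃*
    Cfsg.Omega K (Cfsg.quadFormPlus 4 K) :=
  (MulEquiv.subgroupMap (isoCongr e) _).trans (MulEquiv.subgroupCongr (by
    have : (isoCongr e : Cfsg.isometryGroup F (Cfsg.quadFormPlus 4 F) →* _) =
      (isoCongr e).toMonoidHom := rfl
    rw [Cfsg.Omega, Cfsg.Omega, commutator_def, Subgroup.map_commutator]
    rw [Subgroup.map_top_of_surjective _ (isoCongr e).surjective]
    rfl))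

end Field

theorem center_eq : Subgroup.center (Cfsg.Omega (ZMod 2) (Cfsg.quadFormPlus 4 (ZMod 2))) = ⊥ := by
  have h := Cfsg.Agent.LieClassical.OrthCenter.center_omega_eq_bot_char_two
    (Q := Cfsg.Agent.LieClassical.OmegaReindex.quadPlus 4 (ZMod 2)) (by decide)
    Cfsg.Agent.LieClassical.OmegaReindex.quadPlus_nondegenerate (by decide)
    (Cfsg.Agent.LieClassical.OmegaReindex.quadPlus_isotropic (by norm_num))
  rw [Cfsg.Agent.LieClassical.OmegaReindex.coe_quadPlus] at h
  exact h

theorem exists_equiv {F : Type*} [Field F] [Fintype F] (hF : Fintype.card F = 2) :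
    Nonempty (Cfsg.POmega F (Cfsg.quadFormPlus 4 F) ≃* Om) := by
  have h : Fintype.card F = Fintype.card (ZMod 2) := by rw [hF, ZMod.card]
  have e : F ≃+* ZMod 2 := FiniteField.ringEquivOfCardEq h
  have e1 : Cfsg.POmega F (Cfsg.quadFormPlus 4 F) ≃* Cfsg.POmega (ZMod 2) (Cfsg.quadFormPlus 4 (ZMod 2)) :=
    quotientCenterCongr (omCongr e)
  have e2 : Cfsg.POmega (ZMod 2) (Cfsg.quadFormPlus 4 (ZMod 2)) ≃*
      Cfsg.Omega (ZMod 2) (Cfsg.quadFormPlus 4 (ZMod 2)) :=
    (QuotientGroup.quotientMulEquivOfEq center_eq).trans QuotientGroup.quotientBot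
  have e3 : Cfsg.Omega (ZMod 2) (Cfsg.quadFormPlus 4 (ZMod 2)) ≃* Om := by
    rw [← coe_plusForm]
    exact oe good
  exact ⟨(e1.trans e2).trans e3⟩

theorem center_Om : Subgroup.center Om = ⊥ := by
  have e3 : Cfsg.Omega (ZMod 2) (Cfsg.quadFormPlus 4 (ZMod 2)) ≃* Om := by
    rw [← coe_plusForm]
    exact oe good
  rw [← map_center_mulEquiv e3, center_eq, Subgroup.map_bot]

theorem finrank_V : Module.finrank (ZMod 2) V = 8 := by
  rw [Module.finrank_fintype_fun_eq_card]; rfl

/-! ### The polar form -/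

/-- The polar form. -/
abbrev B (u v : V) : ZMod 2 := polar q u v

theorem z2 (a : ZMod 2) : a = 0 ∨ a = 1 := by revert a; decide

theorem add_self (v : V) : v + v = 0 := by
  funext i
  have : ∀ a : ZMod 2, a + a = 0 := by decide
  exact this (v i)

theorem sub_eq (u v : V) : u - v = u + v := by
  rw [sub_eq_iff_eq_add, add_assoc, add_self, add_zero]

theorem neg_eq (v : V) : -v = v := neg_eq_of_add_eq_zero_left (add_self v)

theorem eq_of_add_eq_zero {u v : V} (h : u + v = 0) : u = v := by
  rw [← sub_eq] at h; exact sub_eq_zero.1 h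

theorem B_comm (u v : V) : B u v = B v u := polar_comm _ _ _

theorem q_add (u v : V) : q (u + v) = q u + q v + B u v := Q_add u v

theorem q_zero : q (0 : V) = 0 := QuadraticMap.map_zero _

theorem B_self (u : V) : B u u = 0 := by
  have h : B u u = 2 * q u := polar_self' u
  rw [h]
  have : (2 : ZMod 2) = 0 := by decide
  rw [this, zero_mul]

theorem B_add_left (u v w : V) : B (u + v) w = B u w + B v w := polar_add_left _ _ _ _
theorem B_add_right (u v w : V) : B u (v + w) = B u v + B u w := polar_add_right _ _ _ _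
theorem B_zero_left (w : V) : B 0 w = 0 := polar_zero_left _ _
theorem B_zero_right (w : V) : B w 0 = 0 := polar_zero_right _ _
theorem B_smul_left (a : ZMod 2) (u v : V) : B (a • u) v = a * B u v := by
  rw [B, polar_smul_left, smul_eq_mul]
theorem B_smul_right (a : ZMod 2) (u v : V) : B u (a • v) = a * B u v := by
  rw [B, polar_smul_right, smul_eq_mul]

theorem nondeg {u : V} (h : ∀ v, B u v = 0) : u = 0 := good.nondeg u h

theorem eq_of_B {u v : V} (h : ∀ w, B u w = B v w) : u = v := by
  apply eq_of_add_eq_zero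
  apply nondeg
  intro w
  rw [B_add_left, h w]
  have : ∀ a : ZMod 2, a + a = 0 := by decide
  exact this _

theorem O8_q {g : V ≃ₗ[ZMod 2] V} (hg : g ∈ O8) (v : V) : q (g v) = q v := mem_O.1 hg v
theorem O8_B {g : V ≃ₗ[ZMod 2] V} (hg : g ∈ O8) (u v : V) : B (g u) (g v) = B u v := polar_map hg u v

theorem mem_O8 {g : V ≃ₗ[ZMod 2] V} : g ∈ O8 ↔ ∀ v, q (g v) = q v := mem_O

/-! ### Siegel transformations -/

/-- The Siegel transformation `v ↦ v + b(u,v) w + b(w,v) u + q(w) b(u,v) u`, or `1` if `u` is not singular or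
`w` not orthogonal to `u`. For `q w = 0` it is the root element of the line `⟨u, w⟩`. -/
noncomputable def X (u w : V) : V ≃ₗ[ZMod 2] V :=
  if h : q u = 0 ∧ B u w = 0 then siegel q u w h.1 h.2 else 1

theorem X_eq {u w : V} (hu : q u = 0) (hw : B u w = 0) : X u w = siegel q u w hu hw := by
  rw [X, dif_pos ⟨hu, hw⟩]

theorem X_apply' {u w : V} (hu : q u = 0) (hw : B u w = 0) (v : V) :
    X u w v = v + B u v • w + B w v • u + (q w * B u v) • u := by
  rw [X_eq hu hw, siegel_apply, sub_eq, sub_eq]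

theorem X_apply {u w : V} (hu : q u = 0) (hq : q w = 0) (hw : B u w = 0) (v : V) :
    X u w v = v + B u v • w + B w v • u := by
  rw [X_apply' hu hw, hq, zero_mul, zero_smul, add_zero]

theorem X_mem (u w : V) : X u w ∈ Om := by
  rw [X]
  split_ifs with h
  · exact siegel_mem_E h.1 h.2
  · exact one_mem _

theorem Om_le : Om ≤ O8 := E_le_O

theorem X_mem_O8 (u w : V) : X u w ∈ O8 := Om_le (X_mem u w)

theorem X_conj {g : V ≃ₗ[ZMod 2] V} (hg : g ∈ O8) (u w : V) : g * X u w * g⁻¹ = X (g u) (g w) := by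
  by_cases h : q u = 0 ∧ B u w = 0
  · have h1 : q (g u) = 0 := by rw [O8_q hg]; exact h.1
    have h2 : B (g u) (g w) = 0 := by rw [O8_B hg]; exact h.2
    rw [X_eq h.1 h.2, X_eq h1 h2]
    exact siegel_conj hg h.1 h.2 h1 h2
  · have h' : ¬ (q (g u) = 0 ∧ B (g u) (g w) = 0) := by
      rwa [O8_q hg, O8_B hg]
    rw [X, X, dif_neg h, dif_neg h']
    group

theorem X_mul {u w w' : V} (hu : q u = 0) (hw : B u w = 0) (hw' : B u w' = 0) :
    X u w * X u w' = X u (w + w') := by
  have h : B u (w + w') = 0 := by rw [B_add_right, hw, hw', add_zero]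
  rw [X_eq hu hw, X_eq hu hw', X_eq hu h]
  exact siegel_mul hu hw hw' h

theorem X_zero_right (u : V) : X u 0 = 1 := by
  by_cases h : q u = 0
  · ext v : 1
    rw [X_apply h q_zero (B_zero_right u), B_zero_left]
    simp
  · rw [X, dif_neg fun h' => h h'.1]

theorem X_mul_self (u w : V) : X u w * X u w = 1 := by
  by_cases h : q u = 0 ∧ B u w = 0
  · rw [X_mul h.1 h.2 h.2, add_self, X_zero_right]
  · rw [X, dif_neg h, mul_one]

theorem X_inv (u w : V) : (X u w)⁻¹ = X u w := inv_eq_of_mul_eq_one_left (X_mul_self u w)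

theorem X_comm {u w : V} (hu : q u = 0) (hq : q w = 0) : X u w = X w u := by
  by_cases h : B u w = 0
  · ext v : 1
    rw [X_apply hu hq h, X_apply hq hu (by rw [B_comm]; exact h)]
    abel
  · rw [X, X, dif_neg fun h' => h h'.2, dif_neg fun h' => h (by rw [B_comm]; exact h'.2)]

/-- `X u (w + u) = X u w` -/
theorem X_add_left {u w : V} (hu : q u = 0) : X u (u + w) = X u w := by
  by_cases h : B u w = 0
  · have h1 : B u u = 0 := B_self u
    rw [← X_mul hu h1 h]
    have : X u u = 1 := by
      ext v : 1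
      rw [X_apply hu hu h1, add_assoc, ← add_smul]
      have : ∀ a : ZMod 2, a + a = 0 := by decide
      rw [this, zero_smul, add_zero]
      rfl
    rw [this, one_mul]
  · have h' : B u (u + w) ≠ 0 := by rw [B_add_right, B_self, zero_add]; exact h
    rw [X, X, dif_neg fun a => h' a.2, dif_neg fun a => h a.2]

theorem X_add_right {u w : V} (hu : q u = 0) : X u (w + u) = X u w := by
  rw [add_comm, X_add_left hu]

theorem X_self {u : V} (hu : q u = 0) : X u u = 1 := by
  have := X_add_left (u := u) (w := 0) hu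
  rwa [add_zero, X_zero_right] at this

/-- A vector moved by `X u w` into a given combination of `u` and `w`. -/
theorem exists_B {u w : V} (hu : u ≠ 0) (hw : w ≠ 0) (huw : u ≠ w) (a b : ZMod 2) :
    ∃ v, B u v = a ∧ B w v = b := by
  have h1 : ∃ v, B u v = 1 := by
    by_contra hcon
    push Not at hcon
    exact hu (nondeg fun v => (z2 _).resolve_right (hcon v))
  have h2 : ∃ v, B w v = 1 := by
    by_contra hcon
    push Not at hcon
    exact hw (nondeg fun v => (z2 _).resolve_right (hcon v))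
  have h3 : ∃ v, B (u + w) v = 1 := by
    by_contra hcon
    push Not at hcon
    exact huw (eq_of_add_eq_zero (nondeg fun v => (z2 _).resolve_right (hcon v)))
  have key : ∃ x y, B u x = 1 ∧ B w x = 0 ∧ B u y = 0 ∧ B w y = 1 := by
    obtain ⟨v1, e1⟩ := h1
    obtain ⟨v2, e2⟩ := h2
    obtain ⟨v3, e3⟩ := h3
    rw [B_add_left] at e3
    rcases z2 (B w v1) with f1 | f1
    · rcases z2 (B u v2) with f2 | f2
      · exact ⟨v1, v2, e1, f1, f2, e2⟩
      · refine ⟨v1, v2 + v1, e1, f1, ?_, ?_⟩
        · rw [B_add_right, f2, e1]; decide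
        · rw [B_add_right, e2, f1]; decide
    · rcases z2 (B u v3) with f3 | f3
      · rw [f3, zero_add] at e3
        refine ⟨v1 + v3, v3, ?_, ?_, f3, e3⟩
        · rw [B_add_right, e1, f3]; decide
        · rw [B_add_right, f1, e3]; decide
      · have f4 : B w v3 = 0 := by
          rcases z2 (B w v3) with h | h
          · exact h
          · rw [f3, h] at e3; exact absurd e3 (by decide)
        refine ⟨v3, v1 + v3, f3, f4, ?_, ?_⟩
        · rw [B_add_right, e1, f3]; decide
        · rw [B_add_right, f1, f4]; decide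
  obtain ⟨x, y, e1, e2, e3, e4⟩ := key
  refine ⟨a • x + b • y, ?_, ?_⟩
  · rw [B_add_right, B_smul_right, B_smul_right, e1, e3]; ring
  · rw [B_add_right, B_smul_right, B_smul_right, e2, e4]; ring

/-- Nonzero vectors of the form `(X u w - 1) v` for a singular line `⟨u, w⟩`. -/
theorem X_sub {u w : V} (hu : q u = 0) (hq : q w = 0) (h : B u w = 0) (v : V) :
    X u w v + v ∈ ({0, u, w, u + w} : Set V) := by
  have e : X u w v + v = B u v • w + B w v • u := by
    rw [X_apply hu hq h]
    have := add_self v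
    calc v + B u v • w + B w v • u + v = (v + v) + (B u v • w + B w v • u) := by abel
      _ = _ := by rw [this, zero_add]
  rw [e]
  rcases z2 (B u v) with h1 | h1 <;> rcases z2 (B w v) with h2 | h2 <;> rw [h1, h2] <;> simp [add_comm]

/-- The line of a root element is determined by the element. -/
theorem mem_of_X_eq {u w u' w' : V} (hu : q u = 0) (hq : q w = 0) (h : B u w = 0)
    (hu' : q u' = 0) (hq' : q w' = 0) (h' : B u' w' = 0) (h1 : u' ≠ 0) (h2 : w' ≠ 0) (h3 : u' ≠ w')
    (he : X u w = X u' w') : u' ∈ ({0, u, w, u + w} : Set V) ∧ w' ∈ ({0, u, w, u + w} : Set V) := by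
  obtain ⟨x, e1, e2⟩ := exists_B h1 h2 h3 0 1
  obtain ⟨y, e3, e4⟩ := exists_B h1 h2 h3 1 0
  constructor
  · have := X_sub hu hq h x
    rw [he, X_apply hu' hq' h', e1, e2, zero_smul, one_smul, add_zero] at this
    have e : x + u' + x = u' := by
      calc x + u' + x = (x + x) + u' := by abel
        _ = u' := by rw [add_self, zero_add]
    rwa [e] at this
  · have := X_sub hu hq h y
    rw [he, X_apply hu' hq' h', e3, e4, zero_smul, one_smul, add_zero] at this
    have e : y + w' + y = w' := by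
      calc y + w' + y = (y + y) + w' := by abel
        _ = w' := by rw [add_self, zero_add]
    rwa [e] at this

/-- An isometry commuting with a root element fixes its line. -/
theorem mem_of_commute {g : V ≃ₗ[ZMod 2] V} (hg : g ∈ O8) {u w : V} (hu : q u = 0) (hq : q w = 0)
    (h : B u w = 0) (h1 : u ≠ 0) (h2 : w ≠ 0) (h3 : u ≠ w) (hc : g * X u w = X u w * g) :
    (g u = u ∨ g u = w ∨ g u = u + w) ∧ (g w = u ∨ g w = w ∨ g w = u + w) := by
  have e : X u w = X (g u) (g w) := by
    rw [← X_conj hg, hc]; group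
  have hgu : g u ≠ 0 := fun h => h1 (g.map_eq_zero_iff.1 h)
  have hgw : g w ≠ 0 := fun h => h2 (g.map_eq_zero_iff.1 h)
  have := mem_of_X_eq hu hq h (by rw [O8_q hg]; exact hu) (by rw [O8_q hg]; exact hq)
    (by rw [O8_B hg]; exact h) hgu hgw (fun h => h3 (g.injective h)) e
  simp only [Set.mem_insert_iff, Set.mem_singleton_iff] at this
  exact ⟨this.1.resolve_left hgu, this.2.resolve_left hgw⟩

/-- Conversely. -/
theorem commute_of_mem {g : V ≃ₗ[ZMod 2] V} (hg : g ∈ O8) {u w : V} (hu : q u = 0) (hq : q w = 0)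
    (h1 : u ≠ 0) (h2 : w ≠ 0) (h3 : u ≠ w)
    (hgu : g u = u ∨ g u = w ∨ g u = u + w) (hgw : g w = u ∨ g w = w ∨ g w = u + w) :
    g * X u w = X u w * g := by
  have e : X (g u) (g w) = X u w := by
    have hne : g u ≠ g w := fun h => h3 (g.injective h)
    rcases hgu with a | a | a <;> rcases hgw with b | b | b <;> rw [a, b] <;>
      try (exact absurd (a.trans b.symm) hne)
    · exact X_add_left hu
    · exact (X_comm hu hq).symm
    · rw [add_comm, X_add_left hq]; exact (X_comm hu hq).symm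
    · have hq' : q (u + w) = 0 := by rw [← a, O8_q hg]; exact hu
      rw [X_comm hq' hu, X_add_left hu]
    · have hq' : q (u + w) = 0 := by rw [← a, O8_q hg]; exact hu
      rw [X_comm hq' hq, add_comm, X_add_left hq]; exact (X_comm hu hq).symm
  have := X_conj hg u w
  rw [e, mul_inv_eq_iff_eq_mul] at this
  exact this

end Cfsg.Agent.StdO8.Model
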