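import Mathlib
import Cfsg.Agent.StdO8.Model

/-!
# Bit codes for `𝔽₂⁸` and words in the Siegel transformations

`dec : ℕ → V` (bits 0..3 = `e i`, bits 4..7 = `f i`), `word l : Om` the product of the `X (dec u) (dec w)`, `ev l v` the
computed action. `word_eq`: two words with the same computed action are equal.
-/

set_option autoImplicit false

namespace Cfsg.Agent.StdO8.Code

open Cfsg.Agent.StdO8.Model

/-- Bit positions. -/
def ix : Fin 4 ⊕ Fin 4 → ℕ := Sum.elim (fun i => i.1) (fun i => i.1 + 4)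

/-- bit to scalar -/
def cc (b : Bool) : ZMod 2 := if b then 1 else 0

theorem cc_xor (a b : Bool) : cc (a ^^ b) = cc a + cc b := by cases a <;> cases b <;> decide
theorem cc_and (a b : Bool) : cc (a && b) = cc a * cc b := by cases a <;> cases b <;> decide
theorem cc_eq_zero {a : Bool} (h : cc a = 0) : a = false := by cases a <;> simp_all [cc]
theorem cc_eq_one {a : Bool} (h : cc a = 1) : a = true := by cases a <;> simp_all [cc]
theorem cc_inj {a b : Bool} (h : cc a = cc b) : a = b := by
  cases a <;> cases b <;> simp_all [cc]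

/-- Decoding. -/
def dec (n : ℕ) : V := fun i => cc (n.testBit (ix i))

theorem dec_xor (a b : ℕ) : dec (a ^^^ b) = dec a + dec b := by
  funext i
  show cc ((a ^^^ b).testBit (ix i)) = cc _ + cc _
  rw [Nat.testBit_xor, cc_xor]

theorem dec_zero : dec 0 = 0 := by
  funext i
  show cc ((0 : ℕ).testBit (ix i)) = 0
  rw [Nat.zero_testBit]; rfl

theorem dec_eq_zero : ∀ a : Fin 256, dec a.1 = 0 → a = 0 := by decide +kernel

theorem dec_inj {a b : ℕ} (ha : a < 256) (hb : b < 256) (h : dec a = dec b) : a = b := by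
  have h1 : dec (a ^^^ b) = 0 := by rw [dec_xor, h, add_self]
  have h2 := dec_eq_zero ⟨a ^^^ b, Nat.xor_lt_two_pow (n := 8) ha hb⟩ h1
  have h3 : a ^^^ b = 0 := congrArg Fin.val h2
  have h4 : (a ^^^ b) ^^^ b = a := by rw [Nat.xor_assoc, Nat.xor_self, Nat.xor_zero]
  rw [h3, Nat.zero_xor] at h4
  exact h4.symm

theorem dec_surj (v : V) : ∃ a < 256, dec a = v := by
  have hinj : Function.Injective (fun a : Fin 256 => dec a.1) := fun a b hab =>
    Fin.ext (dec_inj a.2 b.2 hab)
  have hbij : Function.Bijective (fun a : Fin 256 => dec a.1) := by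
    rw [Fintype.bijective_iff_injective_and_card]
    refine ⟨hinj, ?_⟩
    rw [Fintype.card_fun]
    simp [ZMod.card]
  obtain ⟨a, ha⟩ := hbij.2 v
  exact ⟨a.1, a.2, ha⟩

/-- the quadratic form on codes -/
def qn (n : ℕ) : Bool :=
  (n.testBit 0 && n.testBit 4) ^^ (n.testBit 1 && n.testBit 5) ^^ (n.testBit 2 && n.testBit 6) ^^
    (n.testBit 3 && n.testBit 7)

/-- the bilinear form on codes -/
def Bn (m n : ℕ) : Bool :=
  ((m.testBit 0 && n.testBit 4) ^^ (m.testBit 1 && n.testBit 5) ^^ (m.testBit 2 && n.testBit 6) ^^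
    (m.testBit 3 && n.testBit 7)) ^^
  ((m.testBit 4 && n.testBit 0) ^^ (m.testBit 5 && n.testBit 1) ^^ (m.testBit 6 && n.testBit 2) ^^
    (m.testBit 7 && n.testBit 3))

theorem q_dec (n : ℕ) : q (dec n) = cc (qn n) := by
  rw [q_apply, Fin.sum_univ_four]
  simp only [qn, cc_xor, cc_and]
  rfl

theorem B_dec (m n : ℕ) : B (dec m) (dec n) = cc (Bn m n) := by
  have h := q_add (dec m) (dec n)
  rw [← dec_xor, q_dec, q_dec, q_dec] at h
  have h1 : cc (qn (m ^^^ n)) = cc (qn m) + cc (qn n) + cc (Bn m n) := by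
    simp only [qn, Bn, cc_xor, cc_and, Nat.testBit_xor]
    ring
  rw [h1] at h
  exact (add_left_cancel h).symm

/-- one Siegel transformation on codes -/
def xn (u w v : ℕ) : ℕ :=
  v ^^^ ((if Bn u v then w else 0) ^^^ (if Bn w v then u else 0)) ^^^ (if qn w && Bn u v then u else 0)

/-- validity of a pair -/
def ok (p : ℕ × ℕ) : Bool := !qn p.1 && !Bn p.1 p.2

theorem ok_iff {p : ℕ × ℕ} (h : ok p = true) : q (dec p.1) = 0 ∧ B (dec p.1) (dec p.2) = 0 := by
  simp only [ok, Bool.and_eq_true, Bool.not_eq_true'] at h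
  rw [q_dec, B_dec, h.1, h.2]
  exact ⟨rfl, rfl⟩

theorem dec_ite (b : Bool) (w : ℕ) : dec (if b then w else 0) = cc b • dec w := by
  cases b
  · simp [cc, dec_zero]
  · simp [cc]

theorem X_dec {u w : ℕ} (h : ok (u, w) = true) (v : ℕ) : X (dec u) (dec w) (dec v) = dec (xn u w v) := by
  obtain ⟨h1, h2⟩ := ok_iff h
  rw [X_apply' h1 h2, xn, dec_xor, dec_xor, dec_xor, dec_ite, dec_ite, dec_ite, B_dec, B_dec, q_dec, cc_and]
  abel

/-- the generator of a pair -/
noncomputable def gen (p : ℕ × ℕ) : Om := ⟨X (dec p.1) (dec p.2), X_mem _ _⟩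

/-- the word of a list of pairs -/
noncomputable def word : List (ℕ × ℕ) → Om
  | [] => 1
  | p :: l => gen p * word l

theorem word_nil : word [] = 1 := rfl
theorem word_cons (p : ℕ × ℕ) (l : List (ℕ × ℕ)) : word (p :: l) = gen p * word l := rfl
theorem word_append (l l' : List (ℕ × ℕ)) : word (l ++ l') = word l * word l' := by
  induction l with
  | nil => rw [List.nil_append, word_nil, one_mul]
  | cons p l ih => rw [List.cons_append, word_cons, word_cons, ih, mul_assoc]
theorem word_single (p : ℕ × ℕ) : word [p] = gen p := by rw [word_cons, word_nil, mul_one]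
theorem word_reverse (l : List (ℕ × ℕ)) : word l.reverse = (word l)⁻¹ := by
  induction l with
  | nil => rw [List.reverse_nil, word_nil, inv_one]
  | cons p l ih =>
    have h : (gen p)⁻¹ = gen p := Subtype.ext (X_inv _ _)
    rw [List.reverse_cons, word_append, ih, word_single, word_cons, mul_inv_rev, h]

/-- computed action of a word -/
def ev : List (ℕ × ℕ) → ℕ → ℕ
  | [], v => v
  | p :: l, v => xn p.1 p.2 (ev l v)

theorem ev_append (l l' : List (ℕ × ℕ)) (v : ℕ) : ev (l ++ l') v = ev l (ev l' v) := by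
  induction l with
  | nil => rfl
  | cons p l ih => rw [List.cons_append, ev, ev, ih]

theorem word_dec {l : List (ℕ × ℕ)} (h : l.all ok = true) (v : ℕ) :
    ((word l : Om) : V ≃ₗ[ZMod 2] V) (dec v) = dec (ev l v) := by
  induction l with
  | nil => rfl
  | cons p l ih =>
    rw [List.all_cons, Bool.and_eq_true] at h
    rw [word_cons]
    show X (dec p.1) (dec p.2) (((word l : Om) : V ≃ₗ[ZMod 2] V) (dec v)) = _
    rw [ih h.2, X_dec h.1]
    rfl

/-- the eight basis codes -/
def basis : List ℕ := [1, 2, 4, 8, 16, 32, 64, 128]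

theorem dec_basis_inl (i : Fin 4) : dec (2 ^ i.1) = Pi.single (.inl i) 1 := by
  revert i; decide +kernel

theorem dec_basis_inr (i : Fin 4) : dec (2 ^ (i.1 + 4)) = Pi.single (.inr i) 1 := by
  revert i; decide +kernel

/-- two linear maps agreeing on the basis codes are equal -/
theorem lin_ext {g h : V ≃ₗ[ZMod 2] V} (e : ∀ b ∈ basis, g (dec b) = h (dec b)) : g = h := by
  apply LinearEquiv.toLinearMap_injective
  apply (Pi.basisFun (ZMod 2) (Fin 4 ⊕ Fin 4)).ext
  rintro (i | i)
  · rw [Pi.basisFun_apply]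
    show g _ = h _
    rw [← dec_basis_inl]
    apply e
    fin_cases i <;> decide
  · rw [Pi.basisFun_apply]
    show g _ = h _
    rw [← dec_basis_inr]
    apply e
    fin_cases i <;> decide

/-- comparison of words -/
def same (l l' : List (ℕ × ℕ)) : Bool :=
  l.all ok && l'.all ok && basis.all fun b => ev l b == ev l' b

theorem word_eq {l l' : List (ℕ × ℕ)} (h : same l l' = true) : word l = word l' := by
  rw [same, Bool.and_eq_true, Bool.and_eq_true, List.all_eq_true (l := basis)] at h
  apply Subtype.ext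
  apply lin_ext
  intro b hb
  rw [word_dec h.1.1, word_dec h.1.2]
  have := h.2 b hb
  rw [beq_iff_eq] at this
  rw [this]

/-- A map on vectors is determined by codes. -/
theorem eval_eq {g : V ≃ₗ[ZMod 2] V} {l : List (ℕ × ℕ)} (hl : l.all ok = true)
    (e : ∀ b ∈ basis, g (dec b) = dec (ev l b)) : g = word l := by
  apply lin_ext
  intro b hb
  rw [word_dec hl, e b hb]

end Cfsg.Agent.StdO8.Code
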