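import Mathlib
import Cfsg.Agent.StdO8.Code
import Cfsg.Agent.ClassicalGeometry.OrthDickson

/-!
# `C_L(z)` is generated by `z, r, dᵢ, τᵢ` (fact (f7))

Codes: `z = (1, 2)`, `r = (1, 4)`, `τ₀ = (1, 32)`, `τ₁ = (4, 128)`, `τ₂ = (4, 8)`, `d₀ = (1, 32)(2, 16)`,
`d₁ = (4, 128)(8, 64)`, `d₂ = (4, 8)(64, 128)`.
-/

set_option autoImplicit false

namespace Cfsg.Agent.StdO8.Gen

open Cfsg.Agent.StdO8.Model Cfsg.Agent.StdO8.Code
open Cfsg.Agent.LieClassical.OrthCore Cfsg.Agent.LieClassical.OrthFinite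

/-! ### A reflection is not in `Om` -/

theorem refl_notMem (n : V) (hn : q n ≠ 0) : refl q n hn ∉ Om := by
  intro h
  set M : Om := ⟨refl q n hn, h⟩
  set g := (Cfsg.Agent.AutOrth.Main.oe good).symm M with hg
  have hnd : (QuadraticMap.polarBilin q).Nondegenerate := by
    refine ⟨fun a ha => good.nondeg a ha, fun a ha => good.nondeg a fun b => ?_⟩
    rw [QuadraticMap.polar_comm]
    exact ha b
  have h1 : (g : Cfsg.isometryGroup (ZMod 2) ⇑q) =
      Cfsg.Agent.ClassicalGeometry.Reflection.reflIso q n hn := by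
    apply Cfsg.Agent.ClassicalGeometry.Reflection.isometryGroup_ext
    intro x
    have h2 := Cfsg.Agent.AutOrth.Main.oe_apply good g x
    rw [hg, MulEquiv.apply_symm_apply] at h2
    rw [← hg] at h2
    rw [← h2, Cfsg.Agent.ClassicalGeometry.Reflection.coe_reflIso,
      Cfsg.Agent.ClassicalGeometry.Reflection.reflectionMatrix_mulVec]
    show refl q n hn x = _
    rw [refl_apply]
  have h3 := Cfsg.Agent.ClassicalGeometry.OrthDickson.refl_notMem_commutator q hnd
    (Or.inr (by simp)) n hn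
  apply h3
  rw [← h1]
  exact g.2

/-! ### Generators -/

/-- `z, r, d₀, d₁, d₂, τ₀, τ₁, τ₂` -/
def Gw : ℕ → List (ℕ × ℕ)
  | 0 => [(1, 2)]
  | 1 => [(1, 4)]
  | 2 => [(1, 32), (2, 16)]
  | 3 => [(4, 128), (8, 64)]
  | 4 => [(4, 8), (64, 128)]
  | 5 => [(1, 32)]
  | 6 => [(4, 128)]
  | 7 => [(4, 8)]
  | _ => []

/-- words in the generators -/
def GW : List ℕ → List (ℕ × ℕ)
  | [] => []
  | i :: l => Gw i ++ GW l

/-- the group generated by them -/
def H8 : Subgroup Om := Subgroup.closure (Set.range fun i : Fin 8 => word (Gw i.1))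

theorem word_Gw_mem (i : ℕ) : word (Gw i) ∈ H8 := by
  by_cases h : i < 8
  · exact Subgroup.subset_closure ⟨⟨i, h⟩, rfl⟩
  · have : Gw i = [] := by
      match i, h with
      | i + 8, _ => rfl
    rw [this, word_nil]
    exact one_mem _

theorem word_GW_mem (l : List ℕ) : word (GW l) ∈ H8 := by
  induction l with
  | nil => exact one_mem _
  | cons i l ih => rw [GW, word_append]; exact mul_mem (word_Gw_mem i) ih

/-- the check for one transitivity step -/
def stepChk (fixed : List ℕ) (x : ℕ) (T : List (List ℕ)) : Bool :=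
  (List.range 256).all fun b =>
    (b == 0) || (!(qn b == qn x && fixed.all fun a => Bn a b == Bn a x)) ||
      T.any fun w => (GW w).all ok && (ev (GW w) x == b) && fixed.all fun a => ev (GW w) a == a

theorem step {fixed : List ℕ} {x : ℕ} {T : List (List ℕ)} (hx : dec x ≠ 0) (hchk : stepChk fixed x T = true)
    (M : Om) (hM : ∀ a ∈ fixed, (M : V ≃ₗ[ZMod 2] V) (dec a) = dec a) :
    ∃ w : List ℕ, ∀ a ∈ x :: fixed, ((((word (GW w))⁻¹ * M : Om)) : V ≃ₗ[ZMod 2] V) (dec a) = dec a := by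
  obtain ⟨b, hb, hbM⟩ := dec_surj ((M : V ≃ₗ[ZMod 2] V) (dec x))
  have hMO := Om_le M.2
  rw [stepChk, List.all_eq_true] at hchk
  have h1 := hchk b (List.mem_range.2 hb)
  rw [Bool.or_eq_true, Bool.or_eq_true] at h1
  rcases h1 with (h1 | h1) | h1
  · exfalso
    rw [beq_iff_eq] at h1
    rw [h1, dec_zero] at hbM
    exact hx ((M : V ≃ₗ[ZMod 2] V).map_eq_zero_iff.1 hbM.symm)
  · exfalso
    rw [Bool.not_eq_true', Bool.and_eq_false_iff] at h1
    rcases h1 with h1 | h1
    · apply (beq_eq_false_iff_ne.1 h1)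
      apply cc_inj
      rw [← q_dec, ← q_dec, hbM, O8_q hMO]
    · rw [← Bool.not_eq_true, List.all_eq_true] at h1
      apply h1
      intro a ha
      rw [beq_iff_eq]
      apply cc_inj
      rw [← B_dec, ← B_dec, hbM]
      have := O8_B hMO (dec a) (dec x)
      rwa [hM a ha] at this
  · rw [List.any_eq_true] at h1
    obtain ⟨w, -, hw⟩ := h1
    rw [Bool.and_eq_true, Bool.and_eq_true, beq_iff_eq, List.all_eq_true (l := fixed)] at hw
    obtain ⟨⟨hw1, hw2⟩, hw3⟩ := hw
    refine ⟨w, fun a ha => ?_⟩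
    show ((word (GW w) : Om) : V ≃ₗ[ZMod 2] V).symm ((M : V ≃ₗ[ZMod 2] V) (dec a)) = dec a
    rw [LinearEquiv.symm_apply_eq, word_dec hw1]
    rcases List.mem_cons.1 ha with rfl | ha
    · rw [hw2, hbM]
    · rw [hM a ha]
      have := hw3 a ha
      rw [beq_iff_eq] at this
      rw [this]

/-- words for the action on the line -/
def TA : List (List ℕ) :=
  [[], [2], [5], [2, 2], [5, 2], [2, 5]]

/-- words fixing `e₀, e₁`, for the images of `f₀` -/
def TB : List (List ℕ) :=
  [[], [0], [1], [1, 0], [3, 1], [4, 1], [3, 1, 0], [4, 1, 0], [1, 3, 1], [4, 3, 1], [1, 4, 1], [1, 3, 1, 0],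
   [4, 3, 1, 0], [1, 4, 1, 0], [4, 1, 3, 1], [1, 4, 3, 1], [4, 4, 3, 1], [4, 1, 3, 1, 0], [1, 4, 3, 1, 0], [4, 4,
   3, 1, 0], [1, 4, 1, 3, 1], [4, 4, 1, 3, 1], [3, 1, 4, 3, 1], [7, 1, 4, 3, 1], [1, 4, 1, 3, 1, 0], [4, 4, 1, 3,
   1, 0], [3, 1, 4, 3, 1, 0], [7, 1, 4, 3, 1, 0], [3, 1, 4, 1, 3, 1], [3, 3, 1, 4, 3, 1], [3, 1, 4, 1, 3, 1, 0],
   [3, 3, 1, 4, 3, 1, 0]]

/-- words fixing `e₀, e₁, f₀`, for the images of `f₁` -/
def TC : List (List ℕ) :=
  [[], [2, 1, 2, 2], [3, 2, 1, 2, 2], [4, 2, 1, 2, 2], [3, 3, 2, 1, 2, 2], [4, 3, 2, 1, 2, 2], [4, 4, 2, 1, 2,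
   2], [4, 3, 3, 2, 1, 2, 2], [4, 4, 3, 2, 1, 2, 2], [2, 1, 4, 3, 1, 2, 2], [4, 4, 3, 3, 2, 1, 2, 2], [2, 1, 4,
   1, 3, 1, 2, 2], [3, 2, 1, 4, 3, 1, 2, 2], [7, 2, 1, 4, 3, 1, 2, 2], [3, 2, 1, 4, 1, 3, 1, 2, 2], [3, 3, 2, 1,
   4, 3, 1, 2, 2]]

/-- words for the images of `e₂` -/
def TD : List (List ℕ) :=
  [[], [3], [4], [3, 3], [4, 3], [4, 4], [4, 3, 3], [4, 4, 3], [4, 4, 3, 3]]

/-- words fixing `e₂`, for the images of `f₂` -/
def TE : List (List ℕ) :=
  [[], [6], [7], [7, 6]]

theorem chkB : stepChk [1, 2] 16 TB = true := by decide +kernel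
theorem chkC : stepChk [1, 2, 16] 32 TC = true := by decide +kernel
theorem chkD : stepChk [1, 2, 16, 32] 4 TD = true := by decide +kernel
theorem chkE : stepChk [4, 1, 2, 16, 32] 64 TE = true := by decide +kernel

/-- code of an image -/
theorem exists_code {M : V ≃ₗ[ZMod 2] V} (hM : M ∈ O8) (x : ℕ) :
    ∃ b < 256, M (dec x) = dec b ∧ qn b = qn x ∧ (dec x ≠ 0 → b ≠ 0) ∧
      ∀ a, M (dec a) = dec a → Bn a b = Bn a x := by
  obtain ⟨b, hb, hbM⟩ := dec_surj (M (dec x))
  refine ⟨b, hb, hbM.symm, ?_, ?_, ?_⟩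
  · apply cc_inj
    rw [← q_dec, ← q_dec, hbM, O8_q hM]
  · rintro hx rfl
    rw [dec_zero] at hbM
    exact hx (M.map_eq_zero_iff.1 hbM.symm)
  · intro a ha
    apply cc_inj
    rw [← B_dec, ← B_dec, hbM]
    have := O8_B hM (dec a) (dec x)
    rwa [ha] at this

theorem dec_ne_zero {a : ℕ} (ha : a < 256) (h : a ≠ 0) : dec a ≠ 0 := by
  intro h1
  rw [← dec_zero] at h1
  exact h (dec_inj ha (by norm_num) h1)

/-- a list of conditions on a code -/
def cnd (S : List (ℕ × Bool)) (b : ℕ) : Bool := S.all fun p => Bn p.1 b == p.2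

theorem cnd_of {S : List (ℕ × Bool)} {b : ℕ} (h : ∀ p ∈ S, Bn p.1 b = p.2) : cnd S b = true := by
  rw [cnd, List.all_eq_true]
  intro p hp
  rw [beq_iff_eq]
  exact h p hp

/-- conditions on the image of `x` under an isometry fixing vectors -/
theorem cnd_of_fix {M : V ≃ₗ[ZMod 2] V} (hM : M ∈ O8) {x b : ℕ} (hb : M (dec x) = dec b) {S : List (ℕ × Bool)}
    (h : ∀ p ∈ S, M (dec p.1) = dec p.1) (hS : ∀ p ∈ S, Bn p.1 x = p.2) : cnd S b = true := by
  refine cnd_of fun p hp => ?_
  rw [← hS p hp]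
  apply cc_inj
  rw [← B_dec, ← B_dec, ← hb]
  have := O8_B hM (dec p.1) (dec x)
  rwa [h p hp] at this

theorem chk1 : ∀ b < 256, (!qn b && (b != 0) && cnd [(64, false), (4, false), (1, false), (2, false),
    (16, false), (32, false)] b) = true → b = 8 ∨ b = 128 := by decide +kernel

theorem chk2 : ∀ b < 256, (!qn b && cnd [(64, false), (4, false), (1, false), (2, false),
    (16, false), (32, false), (8, true)] b) = true → b = 128 := by decide +kernel

theorem chk3 : ∀ b < 256, (!qn b && cnd [(64, false), (4, false), (1, false), (2, false),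
    (16, false), (32, false), (128, true)] b) = true → b = 8 := by decide +kernel

theorem q136 : q (dec 136) ≠ 0 := by
  rw [q_dec]; decide

theorem refl_dec (n : ℕ) (hn : q (dec n) ≠ 0) (v : ℕ) :
    refl q (dec n) hn (dec v) = dec (v ^^^ (if Bn n v then n else 0)) := by
  have h1 : q (dec n) = 1 := (z2 _).resolve_left hn
  rw [refl_apply, h1, inv_one, one_mul, dec_xor, dec_ite, ← B_dec, sub_eq]

theorem fin_step (M : Om) (hM : ∀ a ∈ [64, 4, 1, 2, 16, 32], (M : V ≃ₗ[ZMod 2] V) (dec a) = dec a) : M = 1 := by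
  have hMO := Om_le M.2
  obtain ⟨b, hb, hbM, hq, h0, -⟩ := exists_code hMO 8
  have hc1 : cnd [(64, false), (4, false), (1, false), (2, false), (16, false), (32, false)] b = true :=
    cnd_of_fix hMO hbM (fun p hp => hM p.1 (by
      simp only [List.mem_cons, List.not_mem_nil, or_false] at hp
      rcases hp with rfl | rfl | rfl | rfl | rfl | rfl <;> decide)) (by decide)
  have hc := chk1 b hb (by
    rw [hq, hc1]
    have : (b != 0) = true := by simpa using h0 (dec_ne_zero (by norm_num) (by norm_num))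
    rw [this]
    decide)
  obtain ⟨b', hb', hbM', hq', h0', -⟩ := exists_code hMO 128
  rcases hc with rfl | rfl
  · -- identity
    have hc2 : cnd [(64, false), (4, false), (1, false), (2, false), (16, false), (32, false), (8, true)] b' = true :=
      cnd_of_fix hMO hbM' (fun p hp => by
        simp only [List.mem_cons, List.not_mem_nil, or_false] at hp
        rcases hp with rfl | rfl | rfl | rfl | rfl | rfl | rfl
        · exact hM _ (by decide)
        · exact hM _ (by decide)
        · exact hM _ (by decide)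
        · exact hM _ (by decide)
        · exact hM _ (by decide)
        · exact hM _ (by decide)
        · exact hbM) (by decide)
    have hb2 := chk2 b' hb' (by rw [hq', hc2]; decide)
    rw [hb2] at hbM'
    apply Subtype.ext
    apply lin_ext
    intro a ha
    show (M : V ≃ₗ[ZMod 2] V) (dec a) = dec a
    simp only [basis, List.mem_cons, List.not_mem_nil, or_false] at ha
    rcases ha with rfl | rfl | rfl | rfl | rfl | rfl | rfl | rfl
    · exact hM _ (by decide)
    · exact hM _ (by decide)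
    · exact hM _ (by decide)
    · exact hbM
    · exact hM _ (by decide)
    · exact hM _ (by decide)
    · exact hM _ (by decide)
    · exact hbM'
  · -- a reflection
    exfalso
    have hB2 : Bn 128 b' = true := by
      have e := O8_B hMO (dec 8) (dec 128)
      rw [hbM, hbM', B_dec, B_dec] at e
      rw [cc_inj e]
      decide
    have hc2 : cnd [(64, false), (4, false), (1, false), (2, false), (16, false), (32, false)] b' = true :=
      cnd_of_fix hMO hbM' (fun p hp => hM p.1 (by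
        simp only [List.mem_cons, List.not_mem_nil, or_false] at hp
        rcases hp with rfl | rfl | rfl | rfl | rfl | rfl <;> decide)) (by decide)
    have hb2 := chk3 b' hb' (by
      rw [hq']
      have : cnd [(64, false), (4, false), (1, false), (2, false), (16, false), (32, false), (128, true)] b' =
          (cnd [(64, false), (4, false), (1, false), (2, false), (16, false), (32, false)] b' && (Bn 128 b' == true)) := by
        simp [cnd, Bool.and_assoc]
      rw [this, hc2, hB2]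
      decide)
    rw [hb2] at hbM'
    apply refl_notMem (dec 136) q136
    have : (M : V ≃ₗ[ZMod 2] V) = refl q (dec 136) q136 := by
      apply lin_ext
      intro a ha
      rw [refl_dec]
      simp only [basis, List.mem_cons, List.not_mem_nil, or_false] at ha
      rcases ha with rfl | rfl | rfl | rfl | rfl | rfl | rfl | rfl
      · exact hM _ (by decide)
      · exact hM _ (by decide)
      · exact hM _ (by decide)
      · exact hbM
      · exact hM _ (by decide)
      · exact hM _ (by decide)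
      · exact hM _ (by decide)
      · exact hbM'
    rw [← this]
    exact M.2

theorem chkA : ∀ a ∈ [1, 2, 3], ∀ b ∈ [1, 2, 3], a ≠ b →
    ∃ w ∈ TA, (GW w).all ok = true ∧ ev (GW w) 1 = a ∧ ev (GW w) 2 = b := by decide +kernel

theorem line_code {v : V} (h : v = dec 1 ∨ v = dec 2 ∨ v = dec 1 + dec 2) : ∃ a ∈ [1, 2, 3], v = dec a := by
  rcases h with h | h | h
  · exact ⟨1, by decide, h⟩
  · exact ⟨2, by decide, h⟩
  · exact ⟨3, by decide, by rw [h, ← dec_xor]; rfl⟩

theorem stepA {M : Om} (hz : M * gen (1, 2) = gen (1, 2) * M) :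
    ∃ w : List ℕ, ∀ a ∈ [1, 2], ((((word (GW w))⁻¹ * M : Om)) : V ≃ₗ[ZMod 2] V) (dec a) = dec a := by
  have hMO := Om_le M.2
  have h12 : dec 1 ≠ dec 2 := fun h => absurd (dec_inj (by norm_num) (by norm_num) h) (by norm_num)
  have h := mem_of_commute hMO (u := dec 1) (w := dec 2) (by rw [q_dec]; decide) (by rw [q_dec]; decide)
    (by rw [B_dec]; decide) (dec_ne_zero (by norm_num) (by norm_num)) (dec_ne_zero (by norm_num) (by norm_num))
    h12 (congrArg Subtype.val hz)
  obtain ⟨a, ha, hMa⟩ := line_code h.1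
  obtain ⟨b, hb, hMb⟩ := line_code h.2
  have hab : a ≠ b := by
    rintro rfl
    exact h12 ((M : V ≃ₗ[ZMod 2] V).injective (hMa.trans hMb.symm))
  obtain ⟨w, -, hw, h1, h2⟩ := chkA a ha b hb hab
  refine ⟨w, fun c hc => ?_⟩
  show ((word (GW w) : Om) : V ≃ₗ[ZMod 2] V).symm ((M : V ≃ₗ[ZMod 2] V) (dec c)) = dec c
  rw [LinearEquiv.symm_apply_eq, word_dec hw]
  simp only [List.mem_cons, List.not_mem_nil, or_false] at hc
  rcases hc with rfl | rfl
  · rw [h1, hMa]
  · rw [h2, hMb]

/-- **(f7)**: the centraliser of `z` in `Om` is generated by `z, r, dᵢ, τᵢ`. -/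
theorem mem_H8 {M : Om} (hz : M * gen (1, 2) = gen (1, 2) * M) : M ∈ H8 := by
  obtain ⟨w1, h1⟩ := stepA hz
  obtain ⟨w2, h2⟩ := step (dec_ne_zero (by norm_num) (by norm_num)) chkB _ h1
  obtain ⟨w3, h3⟩ := step (x := 32) (fixed := [1, 2, 16]) (dec_ne_zero (by norm_num) (by norm_num)) chkC _ (by
    intro a ha
    apply h2
    revert a; decide)
  obtain ⟨w4, h4⟩ := step (x := 4) (fixed := [1, 2, 16, 32]) (dec_ne_zero (by norm_num) (by norm_num)) chkD _ (by
    intro a ha
    apply h3
    revert a; decide)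
  obtain ⟨w5, h5⟩ := step (x := 64) (fixed := [4, 1, 2, 16, 32]) (dec_ne_zero (by norm_num) (by norm_num)) chkE _ (by
    intro a ha
    apply h4
    revert a; decide)
  have h6 := fin_step _ (by
    intro a ha
    apply h5
    revert a; decide)
  have e : M = word (GW w1) * (word (GW w2) * (word (GW w3) * (word (GW w4) * word (GW w5)))) := by
    rw [inv_mul_eq_one] at h6
    rw [h6]; group
  rw [e]
  exact mul_mem (word_GW_mem _) (mul_mem (word_GW_mem _) (mul_mem (word_GW_mem _)
    (mul_mem (word_GW_mem _) (word_GW_mem _))))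

end Cfsg.Agent.StdO8.Gen
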