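import Mathlib
import Cfsg.Agent.StdO8.Model

/-!
# Automorphisms of `Ω₈⁺(2)`

`cj : O8 →* MulAut Om` is conjugation. Its range has index three (`index_range`), and an automorphism of `Om` which maps
one involution of type `c₂` (`IsC2`: `X u w` with `q w = 1`) to an involution of type `c₂` is in it
(`mem_range_of_c2`).
-/

set_option autoImplicit false

namespace Cfsg.Agent.StdO8.Aut

open QuadraticMap Cfsg.Agent.LieClassical.OrthCore Cfsg.Agent.LieClassical.OrthTrans
  Cfsg.Agent.LieClassical.OrthSimple Cfsg.Agent.LieClassical.OrthFinite Cfsg.Agent.AutOrth.Main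
  Cfsg.Agent.LieClassical.QuadForms Cfsg.Agent.ClassicalGeometry.OrthAut1
  Cfsg.Agent.ClassicalGeometry.OrthAut2 Cfsg.Agent.AutOrth.SemiSim
open Cfsg.Agent.StdO8.Model

/-- Conjugation by an isometry. -/
def cjFun (M : O8) (g : Om) : Om := ⟨(M : V ≃ₗ[ZMod 2] V) * g * (M : V ≃ₗ[ZMod 2] V)⁻¹, conj_mem_E M.2 g.2⟩

/-- Conjugation by an isometry, as an automorphism. -/
def cj : O8 →* MulAut Om where
  toFun M :=
    { toFun := cjFun M
      invFun := cjFun M⁻¹
      left_inv := fun g => Subtype.ext (by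
        show (M : V ≃ₗ[ZMod 2] V)⁻¹ * (M * g * (M : V ≃ₗ[ZMod 2] V)⁻¹) * (M : V ≃ₗ[ZMod 2] V)⁻¹⁻¹ = g
        group)
      right_inv := fun g => Subtype.ext (by
        show (M : V ≃ₗ[ZMod 2] V) * ((M : V ≃ₗ[ZMod 2] V)⁻¹ * g * (M : V ≃ₗ[ZMod 2] V)⁻¹⁻¹) *
          (M : V ≃ₗ[ZMod 2] V)⁻¹ = g
        group)
      map_mul' := fun g h => Subtype.ext (by
        show (M : V ≃ₗ[ZMod 2] V) * (g * h) * (M : V ≃ₗ[ZMod 2] V)⁻¹ =
          (M * g * (M : V ≃ₗ[ZMod 2] V)⁻¹) * (M * h * (M : V ≃ₗ[ZMod 2] V)⁻¹)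
        group) }
  map_one' := by
    ext g : 1
    exact Subtype.ext (by
      show (1 : V ≃ₗ[ZMod 2] V) * g * (1 : V ≃ₗ[ZMod 2] V)⁻¹ = g
      group)
  map_mul' M N := by
    ext g : 1
    exact Subtype.ext (by
      show (M * N : V ≃ₗ[ZMod 2] V) * g * (M * N : V ≃ₗ[ZMod 2] V)⁻¹ =
        M * (N * g * (N : V ≃ₗ[ZMod 2] V)⁻¹) * (M : V ≃ₗ[ZMod 2] V)⁻¹
      group)

theorem cj_coe (M : O8) (g : Om) :
    ((cj M g : Om) : V ≃ₗ[ZMod 2] V) = (M : V ≃ₗ[ZMod 2] V) * g * (M : V ≃ₗ[ZMod 2] V)⁻¹ := rfl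

/-- The identification with the projective group. -/
noncomputable def pm : Om ≃* P q :=
  ((QuotientGroup.quotientMulEquivOfEq center_Om).trans QuotientGroup.quotientBot).symm

theorem pm_apply (g : Om) : pm g = (g : P q) := by
  rw [pm, MulEquiv.symm_apply_eq]
  rfl

/-- Transport of automorphisms. -/
noncomputable def tra : MulAut Om ≃* MulAut (P q) := MulAut.congr pm

theorem tra_apply (α : MulAut Om) (g : Om) : tra α (g : P q) = ((α g : Om) : P q) := by
  rw [← pm_apply, ← pm_apply]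
  change pm (α (pm.symm (pm g))) = _
  rw [MulEquiv.symm_apply_apply]

theorem coe_P_inj {g h : Om} (e : (g : P q) = (h : P q)) : g = h := by
  rw [← pm_apply, ← pm_apply] at e
  exact pm.injective e

theorem ringEquiv_id (σ : ZMod 2 ≃+* ZMod 2) (a : ZMod 2) : σ a = a := by
  rcases z2 a with rfl | rfl
  · exact map_zero σ
  · exact map_one σ

theorem range_iff_pt (α : MulAut Om) : α ∈ cj.range ↔ Pt good (tra α) := by
  constructor
  · rintro ⟨M, rfl⟩
    have hM : IsSemi q ((M : V ≃ₗ[ZMod 2] V).toAddEquiv) (RingEquiv.refl (ZMod 2)) 1 :=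
      { ne := one_ne_zero
        smul := fun a v => (M : V ≃ₗ[ZMod 2] V).map_smul a v
        form := fun v => by
          rw [one_mul]
          exact M.2 v }
    refine pt_of_semi good hM fun g => ?_
    rw [tra_apply]
    congr 1
  · intro h
    obtain ⟨M, σ, c, hM, hα⟩ := Cfsg.Agent.ClassicalGeometry.OrthAut4.exists_semi_P good
      (by rw [finrank_V]; norm_num) (tra α) h
    have hc : c = 1 := (z2 c).resolve_left hM.ne
    let M' : V ≃ₗ[ZMod 2] V :=
      { M with
        map_smul' := fun a v => by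
          show M (a • v) = a • M v
          rw [hM.smul, ringEquiv_id] }
    have hM' : M' ∈ O8 := by
      intro v
      show q (M v) = q v
      rw [hM.form, hc, one_mul, ringEquiv_id]
    refine ⟨⟨M', hM'⟩, ?_⟩
    ext g : 1
    apply coe_P_inj
    have h1 := hα g
    rw [tra_apply] at h1
    rw [h1]
    congr 1

theorem index_range : (cj.range).index = 3 := by
  obtain ⟨Γ, hΓ, hind⟩ := Cfsg.Agent.ClassicalGeometry.TrialityFinal.exists_index_three good
    fun α x hx hx0 => by
      rcases Cfsg.Agent.ClassicalGeometry.OrthAut3.dichotomy good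
        (by rw [finrank_V]; norm_num) α hx hx0 with h | h
      · exact Or.inl h
      · exact Or.inr h.2
  have e : cj.range = Γ.comap (tra : MulAut Om →* MulAut (P q)) := by
    ext α
    rw [range_iff_pt, Subgroup.mem_comap]
    exact (hΓ _).symm
  rw [e, Subgroup.index_comap_of_surjective _ tra.surjective]
  exact hind

/-- Involutions of type `c₂`. -/
def IsC2 (c : V ≃ₗ[ZMod 2] V) : Prop := ∃ u w, q u = 0 ∧ u ≠ 0 ∧ B u w = 0 ∧ q w = 1 ∧ c = X u w

theorem IsC2.conj {c : V ≃ₗ[ZMod 2] V} (hc : IsC2 c) {M : V ≃ₗ[ZMod 2] V} (hM : M ∈ O8) :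
    IsC2 (M * c * M⁻¹) := by
  obtain ⟨u, w, h1, h2, h3, h4, rfl⟩ := hc
  refine ⟨M u, M w, ?_, ?_, ?_, ?_, X_conj hM u w⟩
  · rw [O8_q hM, h1]
  · intro h; exact h2 (M.map_eq_zero_iff.1 h)
  · rw [O8_B hM, h3]
  · rw [O8_q hM, h4]

/-- If `α` maps the stabiliser of one singular point to that of a singular point, it is linear. -/
theorem mem_range_of_one {α : MulAut Om} {x y : V} (hx : q x = 0) (hx0 : x ≠ 0) (hy : q y = 0) (hy0 : y ≠ 0)
    (h : (stab good (Submodule.span (ZMod 2) {x})).map (tra α).toMonoidHom =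
      stab good (Submodule.span (ZMod 2) {y})) : α ∈ cj.range := by
  rw [range_iff_pt]
  intro x' hx' hx0'
  obtain ⟨p, hp⟩ := Cfsg.Agent.ClassicalGeometry.OrthAut3.exists_pact_eq good hx hx' hx0 hx0'
  obtain ⟨g, hg⟩ := QuotientGroup.mk_surjective ((tra α) p)
  refine ⟨(g : V ≃ₗ[ZMod 2] V) y, ?_, ?_, ?_⟩
  · rw [O8_q (Om_le g.2), hy]
  · intro h0; exact hy0 ((g : V ≃ₗ[ZMod 2] V).map_eq_zero_iff.1 h0)
  · have hy' : Submodule.span (ZMod 2) {(g : V ≃ₗ[ZMod 2] V) y} =
        pact good ((tra α) p) (Submodule.span (ZMod 2) {y}) := by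
      rw [← hg, pact_mk, mapHom_span]
    have conjst : ∀ (r : P q) (W : Submodule (ZMod 2) V) (s : P q),
        s ∈ stab good (pact good r W) ↔ r⁻¹ * s * r ∈ stab good W := by
      intro r W s
      rw [mem_stab, mem_stab, map_mul, map_mul, map_inv, Equiv.Perm.mul_apply, Equiv.Perm.mul_apply,
        Equiv.Perm.inv_eq_iff_eq, eq_comm]
    ext s
    rw [hy', conjst, ← h, ← hp]
    constructor
    · rintro ⟨a, ha, rfl⟩
      have ha' := (conjst _ _ _).1 ha
      exact ⟨p⁻¹ * a * p, ha', by simp⟩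
    · rintro ⟨a, ha, ha'⟩
      refine ⟨p * a * p⁻¹, ?_, ?_⟩
      · show p * a * p⁻¹ ∈ stab good _
        rw [conjst]
        have : p⁻¹ * (p * a * p⁻¹) * p = a := by group
        rwa [this]
      · have e : (tra α).toMonoidHom (p * a * p⁻¹) = (tra α) p * (tra α) a * ((tra α) p)⁻¹ := by simp
        rw [e]
        have : (tra α) a = ((tra α) p)⁻¹ * s * (tra α) p := ha'
        rw [this]
        group

/-- `conj` of a Siegel transformation by an element of `Om`. -/
theorem sg_eq_X {u w : V} (hu : q u = 0) (hw : B u w = 0) :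
    ((sg u w hu hw : Om) : V ≃ₗ[ZMod 2] V) = X u w := by rw [coe_sg, X_eq hu hw]

/-- The unipotent radical of a totally singular 4-space contains no `c₂` involution. -/
theorem not_mem_U {W : Submodule (ZMod 2) V} (hW : TS q W) (hperp : ∀ w, (∀ v ∈ W, B w v = 0) → w ∈ W)
    {g : Om} (hg : g ∈ U q W) (hc : IsC2 (g : V ≃ₗ[ZMod 2] V)) : False := by
  obtain ⟨u, w, hu, hu0, huw, hw, hgX⟩ := hc
  obtain ⟨v, hv⟩ : ∃ v, B u v = 1 := by
    by_contra hcon
    push Not at hcon
    exact hu0 (Model.nondeg fun v => (z2 _).resolve_right (hcon v))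
  have h1 : (g : V ≃ₗ[ZMod 2] V) v - v ∈ W := by
    apply hperp
    intro x hx
    rw [B_comm]
    exact polar_sub_of_mem_U hg v hx
  rw [hgX, X_apply' hu huw, hv, hw, one_mul, one_smul, one_smul] at h1
  have e : v + w + B w v • u + u - v = w + (B w v + 1) • u := by
    rw [add_smul, one_smul]; abel
  rw [e] at h1
  have h2 := hW _ h1
  rw [q_add, hw, QuadraticMap.map_smul, hu, smul_zero, B_smul_right, B_comm w u, huw, mul_zero, add_zero,
    add_zero] at h2
  exact absurd h2 (by decide)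

theorem mem_range_of_c2 {α : MulAut Om} {c : Om} (hc : IsC2 (c : V ≃ₗ[ZMod 2] V))
    (hc' : IsC2 ((α c : Om) : V ≃ₗ[ZMod 2] V)) : α ∈ cj.range := by
  obtain ⟨u, w, hu, hu0, huw, hw, hcX⟩ := hc
  have hcsg : c = sg u w hu huw := Subtype.ext (by rw [sg_eq_X, hcX])
  rcases Cfsg.Agent.ClassicalGeometry.OrthAut3.dichotomy good (by rw [finrank_V]; norm_num) (tra α) hu hu0
    with ⟨y, hy, hy0, h⟩ | ⟨-, W, hTS, hk, h⟩
  · exact mem_range_of_one hu hu0 hy hy0 h
  · exfalso
    -- `W` is its own perp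
    have hperp : ∀ w, (∀ v ∈ W, B w v = 0) → w ∈ W := by
      have hnd : (polarBilin q).Nondegenerate := by
        refine ⟨fun a ha => good.nondeg a ha, fun a ha => good.nondeg a fun b => ?_⟩
        rw [polar_comm]
        exact ha b
      have h1 := LinearMap.BilinForm.finrank_orthogonal hnd W
      rw [finrank_V, hk] at h1
      have h2 : W ≤ LinearMap.BilinForm.orthogonal (polarBilin q) W := by
        intro w hw
        rw [LinearMap.BilinForm.mem_orthogonal_iff]
        intro v hv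
        exact hTS.polar hv hw
      have h3 : W = LinearMap.BilinForm.orthogonal (polarBilin q) W :=
        Submodule.eq_of_le_of_finrank_eq h2 (by omega)
      intro w hw
      rw [h3, LinearMap.BilinForm.mem_orthogonal_iff]
      intro v hv
      show B v w = 0
      rw [B_comm]
      exact hw v hv
    have hUP := Cfsg.Agent.ClassicalGeometry.OrthAut3.map_symm_UP_le good (by rw [finrank_V]; norm_num)
      (tra α) hu hu0 h
    -- the vectors `a` with `sg u a` in the preimage of `UP W`
    have hstab : ∀ g : P q, g ∈ stab good (Submodule.span (ZMod 2) {u}) → ∀ s : P q, tra α s ∈ UP q W →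
        tra α (g * s * g⁻¹) ∈ UP q W := by
      intro g hg s hs
      rw [map_mul, map_mul, map_inv]
      apply conj_mem_UP_of_stab (hG := good) _ hs
      rw [← h]
      exact ⟨g, hg, rfl⟩
    let A : Submodule (ZMod 2) V :=
      { carrier := {a | B u a = 0 ∧ ∀ (ha : B u a = 0), tra α ((sg u a hu ha : Om) : P q) ∈ UP q W}
        zero_mem' := by
          refine ⟨B_zero_right u, fun ha => ?_⟩
          have : (sg u 0 hu ha : Om) = 1 := Subtype.ext (by rw [sg_eq_X, X_zero_right]; rfl)
          rw [this]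
          simp
        add_mem' := by
          rintro a b ⟨ha, ha'⟩ ⟨hb, hb'⟩
          have hab : B u (a + b) = 0 := by rw [B_add_right, ha, hb, add_zero]
          refine ⟨hab, fun _ => ?_⟩
          have : (sg u (a + b) hu hab : Om) = sg u a hu ha * sg u b hu hb :=
            (Cfsg.Agent.ClassicalGeometry.OrthAut2.sg_mul hu ha hb hab).symm
          rw [this]
          have e : (((sg u a hu ha * sg u b hu hb : Om)) : P q) =
            ((sg u a hu ha : Om) : P q) * ((sg u b hu hb : Om) : P q) := rfl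
          rw [e, map_mul]
          exact mul_mem (ha' ha) (hb' hb)
        smul_mem' := by
          rintro r a ⟨ha, ha'⟩
          rcases z2 r with rfl | rfl
          · rw [zero_smul]
            refine ⟨B_zero_right u, fun ha => ?_⟩
            have : (sg u 0 hu ha : Om) = 1 := Subtype.ext (by rw [sg_eq_X, X_zero_right]; rfl)
            rw [this]
            simp
          · rw [one_smul]
            exact ⟨ha, ha'⟩ }
    have hAu : u ∈ A := by
      refine ⟨B_self u, fun ha => ?_⟩
      have : (sg u u hu ha : Om) = 1 := Subtype.ext (by rw [sg_eq_X, X_self hu]; rfl)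
      rw [this]
      simp
    have hAinv : ∀ g : Om, (g : V ≃ₗ[ZMod 2] V) u = u → ∀ a ∈ A, (g : V ≃ₗ[ZMod 2] V) a ∈ A := by
      rintro g hg a ⟨ha, ha'⟩
      have hga : B u ((g : V ≃ₗ[ZMod 2] V) a) = 0 := by
        have := O8_B (Om_le g.2) u a
        rw [hg] at this
        rw [this, ha]
      refine ⟨hga, fun _ => ?_⟩
      have e : g * sg u a hu ha * g⁻¹ = sg u ((g : V ≃ₗ[ZMod 2] V) a) hu hga := by
        apply Subtype.ext
        rw [sg_eq_X]
        show (g : V ≃ₗ[ZMod 2] V) * ((sg u a hu ha : Om) : V ≃ₗ[ZMod 2] V) * (g : V ≃ₗ[ZMod 2] V)⁻¹ = _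
        rw [sg_eq_X, X_conj (Om_le g.2), hg]
      rw [← e]
      refine hstab (g : P q) ?_ ((sg u a hu ha : Om) : P q) (ha' ha)
      rw [mem_stab, pact_mk, mapHom_span, hg]
    -- a nonzero element of `UP W`
    obtain ⟨a, haA, hau⟩ : ∃ a ∈ A, ∀ r : ZMod 2, a ≠ r • u := by
      -- two independent vectors in `W`
      have hWne : W ≠ ⊥ := by
        rintro rfl
        rw [finrank_bot] at hk
        omega
      obtain ⟨x, hxW, hx0⟩ := Submodule.exists_mem_ne_zero_of_ne_bot hWne
      obtain ⟨y, hyW, hy⟩ : ∃ y ∈ W, y ∉ Submodule.span (ZMod 2) {x} := by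
        by_contra hcon
        push Not at hcon
        have h1 : W ≤ Submodule.span (ZMod 2) {x} := hcon
        have h2 := Submodule.finrank_mono h1
        have h3 := finrank_span_singleton (K := ZMod 2) hx0
        omega
      have hxy : B x y = 0 := hTS.polar hxW hyW
      have hmem : (sg x y (hTS x hxW) hxy : Om) ∈ U q W :=
        sg_mem_U hTS hxW (fun v hv => hTS.polar hyW hv) _ _
      have hne : (sg x y (hTS x hxW) hxy : Om) ≠ 1 := by
        intro h1
        obtain ⟨c, hc⟩ := (sg_eq_one_iff good.nondeg (hTS x hxW) hx0 hxy).1 h1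
        exact hy (by rw [hc]; exact Submodule.smul_mem _ _ (Submodule.mem_span_singleton_self x))
      have h2 := hUP ⟨_, ⟨_, hmem, rfl⟩, rfl⟩
      obtain ⟨a, ha, e⟩ := (mem_UP_span_iff good.nondeg hu hu0).1 h2
      have e' : tra α ((sg u a hu ha : Om) : P q) = ((sg x y (hTS x hxW) hxy : Om) : P q) := by
        rw [← e]
        exact (tra α).apply_symm_apply _
      refine ⟨a, ⟨ha, fun _ => ?_⟩, fun r hr => ?_⟩
      · rw [e']
        exact ⟨_, hmem, rfl⟩
      · apply hne
        have : (sg u a hu ha : Om) = 1 := (sg_eq_one_iff good.nondeg hu hu0 ha).2 ⟨r, hr⟩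
        rw [this] at e'
        apply coe_P_inj
        rw [← e']
        simp
    have hall := Cfsg.Agent.ClassicalGeometry.OrthAut2b.irred good (by rw [finrank_V]; norm_num) hu hu0 A hAu
      (fun a ha => ha.1) hAinv haA hau w huw
    have h1 := hall.2 huw
    rw [← hcsg, tra_apply] at h1
    obtain ⟨g, hg, hg'⟩ := h1
    have : g = α c := coe_P_inj hg'
    rw [this] at hg
    exact not_mem_U hTS hperp hg hc'

end Cfsg.Agent.StdO8.Aut
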