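import Mathlib
import Cfsg.Agent.StdO8.Aut

/-!
# The context: `C_G(t)` acts on `L ≅ Ω₈⁺(2)` with kernel `⟨t⟩`

`Ctx G`: `t` an involution, `r : Om →* G` injective, `L = r.range` centralised by `t` and normal in `C_G(t)`,
`C_{C(t)}(L) = ⟨t⟩`, and the subgroup `Lin` of the elements of `C_G(t)` which act on `L` as conjugation by an isometry of
`q` has odd index in `C_G(t)`. `exists_ctx`: there is always such an `r`.
-/

set_option autoImplicit false

namespace Cfsg.Agent.StdO8.Frame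

open Cfsg.Agent.StdO8.Model Cfsg.Agent.StdO8.Aut

variable {G : Type*} [Group G]

/-- The elements of `C_G(t)` acting on `L` as isometries. -/
def Lin (t : G) (r : Om →* G) : Subgroup G where
  carrier := {g | Commute g t ∧ ∃ M : O8, ∀ m, g * r m * g⁻¹ = r (cj M m)}
  one_mem' := ⟨Commute.one_left t, 1, fun m => by rw [map_one]; group; rfl⟩
  mul_mem' := by
    rintro g h ⟨hg, M, hM⟩ ⟨hh, N, hN⟩
    refine ⟨hg.mul_left hh, M * N, fun m => ?_⟩
    calc g * h * r m * (g * h)⁻¹ = g * (h * r m * h⁻¹) * g⁻¹ := by group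
      _ = _ := by rw [hN, hM, map_mul]; rfl
  inv_mem' := by
    rintro g ⟨hg, M, hM⟩
    refine ⟨hg.inv_left, M⁻¹, fun m => ?_⟩
    have h := hM (cj M⁻¹ m)
    have e : cj M (cj M⁻¹ m) = m := by
      rw [← MulAut.mul_apply, ← map_mul, mul_inv_cancel, map_one]; rfl
    rw [e] at h
    rw [← h]; group

/-- The context. -/
structure Ctx (G : Type*) [Group G] where
  t : G
  tt : t * t = 1
  t_ne : t ≠ 1
  r : Om →* G
  inj : Function.Injective r
  comm : ∀ m, Commute (r m) t
  cent : ∀ g, Commute g t → (∀ m, Commute g (r m)) → g = 1 ∨ g = t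
  norm : ∀ g, Commute g t → ∃ α : MulAut Om, ∀ m, g * r m * g⁻¹ = r (α m)
  odd : Odd ((Lin t r).relIndex (Subgroup.centralizer {t}))

namespace Ctx

variable (C : Ctx G)

/-- The standard subgroup. -/
def L : Subgroup G := C.r.range

theorem r_mem (m : Om) : C.r m ∈ C.L := ⟨m, rfl⟩

theorem t_inv : C.t⁻¹ = C.t := inv_eq_of_mul_eq_one_left C.tt

theorem t_notMem : C.t ∉ C.L := by
  rintro ⟨m, hm⟩
  have h1 : m ∈ Subgroup.center Om := by
    rw [Subgroup.mem_center_iff]
    intro g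
    apply C.inj
    rw [map_mul, map_mul, hm]
    exact C.comm g
  rw [center_Om, Subgroup.mem_bot] at h1
  exact C.t_ne (by rw [← hm, h1, map_one])

/-- `g` centralises `t` and acts on `L` as `M`. -/
def IsLin (g : G) (M : O8) : Prop := Commute g C.t ∧ ∀ m, g * C.r m * g⁻¹ = C.r (cj M m)

theorem mem_Lin {g : G} : g ∈ Lin C.t C.r ↔ ∃ M, C.IsLin g M :=
  ⟨fun ⟨h, M, hM⟩ => ⟨M, h, hM⟩, fun ⟨M, h, hM⟩ => ⟨h, M, hM⟩⟩

theorem isLin_one : C.IsLin 1 1 := ⟨Commute.one_left _, fun m => by rw [map_one]; group; rfl⟩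

theorem IsLin.mul {C : Ctx G} {g h : G} {M N : O8} (hg : C.IsLin g M) (hh : C.IsLin h N) :
    C.IsLin (g * h) (M * N) := by
  refine ⟨hg.1.mul_left hh.1, fun m => ?_⟩
  calc g * h * C.r m * (g * h)⁻¹ = g * (h * C.r m * h⁻¹) * g⁻¹ := by group
    _ = _ := by rw [hh.2, hg.2, map_mul]; rfl

theorem IsLin.inv {C : Ctx G} {g : G} {M : O8} (hg : C.IsLin g M) : C.IsLin g⁻¹ M⁻¹ := by
  refine ⟨hg.1.inv_left, fun m => ?_⟩
  have h := hg.2 (cj M⁻¹ m)
  have e : cj M (cj M⁻¹ m) = m := by
    rw [← MulAut.mul_apply, ← map_mul, mul_inv_cancel, map_one]; rfl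
  rw [e] at h
  rw [← h]; group

theorem isLin_t : C.IsLin C.t 1 := by
  refine ⟨Commute.refl _, fun m => ?_⟩
  rw [map_one, ← (C.comm m).eq]
  show C.r m * C.t * C.t⁻¹ = C.r m
  group

/-- The element of `O8` given by an element of `Om`. -/
def up (m : Om) : O8 := ⟨m, Om_le m.2⟩

theorem isLin_r (m : Om) : C.IsLin (C.r m) (up m) := by
  refine ⟨C.comm m, fun m' => ?_⟩
  rw [← map_inv, ← map_mul, ← map_mul]
  rfl

/-- An isometry centralising `Om` is trivial. -/
theorem eq_one_of_cj {M : O8} (h : ∀ m, cj M m = m) : M = 1 := by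
  obtain ⟨c, hc⟩ := Cfsg.Agent.LieClassical.OrthSimple.good_eq_smul_of_fix good (n := (M : V ≃ₗ[ZMod 2] V))
    (fun u hu => by
      by_cases hu0 : u = 0
      · exact ⟨0, by rw [hu0, map_zero, smul_zero]⟩
      refine Cfsg.Agent.ClassicalGeometry.OrthAut2b.fix_unique good hu hu0 (by rw [O8_q M.2, hu])
        (fun h => hu0 ((M : V ≃ₗ[ZMod 2] V).map_eq_zero_iff.1 h)) fun w hw => ⟨1, ?_⟩
      rw [one_smul, sg_eq_X]
      have h1 := congrArg Subtype.val (h ⟨X u w, X_mem u w⟩)
      rw [cj_coe] at h1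
      have h2 : (M : V ≃ₗ[ZMod 2] V) * X u w = X u w * (M : V ≃ₗ[ZMod 2] V) := by
        rw [← mul_inv_eq_iff_eq_mul]
        exact h1
      have h3 := congrArg (fun g : V ≃ₗ[ZMod 2] V => g u) h2
      have h4 : X u w u = u := by
        have hw' : B w u = 0 := by rw [B_comm]; exact hw
        rw [X_apply' hu hw, B_self, hw']
        simp
      change (M : V ≃ₗ[ZMod 2] V) (X u w u) = X u w ((M : V ≃ₗ[ZMod 2] V) u) at h3
      rw [h4] at h3
      exact h3.symm)
  apply Subtype.ext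
  ext v : 1
  rw [hc v]
  rcases z2 c with rfl | rfl
  · exfalso
    obtain ⟨v, hv⟩ := good.exists_hyp
    obtain ⟨w, hw⟩ := hv
    have h1 := hc v
    rw [zero_smul] at h1
    exact hw.left_ne ((M : V ≃ₗ[ZMod 2] V).map_eq_zero_iff.1 h1)
  · rw [one_smul]; rfl

theorem cj_injective : Function.Injective cj := by
  rw [injective_iff_map_eq_one]
  intro M hM
  exact eq_one_of_cj fun m => by rw [hM]; rfl

theorem IsLin.unique {C : Ctx G} {g : G} {M N : O8} (hM : C.IsLin g M) (hN : C.IsLin g N) : M = N := by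
  apply cj_injective
  ext m : 1
  apply C.inj
  rw [← hM.2, ← hN.2]

theorem IsLin.eq_of_one {C : Ctx G} {g : G} (h : C.IsLin g 1) : g = 1 ∨ g = C.t := by
  refine C.cent g h.1 fun m => ?_
  have := h.2 m
  rw [map_one, mul_inv_eq_iff_eq_mul] at this
  exact this

/-- Two elements acting in the same way are equal up to `t`. -/
theorem IsLin.eq_or {C : Ctx G} {g h : G} {M : O8} (hg : C.IsLin g M) (hh : C.IsLin h M) :
    g = h ∨ g = C.t * h := by
  have h1 : C.IsLin (g * h⁻¹) 1 := by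
    have := hg.mul hh.inv
    rwa [mul_inv_cancel] at this
  rcases h1.eq_of_one with h2 | h2
  · left; rw [mul_inv_eq_one] at h2; exact h2
  · right; rw [mul_inv_eq_iff_eq_mul] at h2; exact h2

/-- An element acting as an element of `Om`. -/
theorem IsLin.eq_r {C : Ctx G} {g : G} {m : Om} (h : C.IsLin g (up m)) : g = C.r m ∨ g = C.t * C.r m :=
  h.eq_or (C.isLin_r m)

/-- `g` is linear as soon as it maps one involution of type `c₂` to an involution of type `c₂`. -/
theorem isLin_of_c2 {g : G} (hg : Commute g C.t) {c c' : Om} (hc : IsC2 (c : V ≃ₗ[ZMod 2] V))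
    (hc' : IsC2 (c' : V ≃ₗ[ZMod 2] V)) (h : g * C.r c * g⁻¹ = C.r c') : ∃ M, C.IsLin g M := by
  obtain ⟨α, hα⟩ := C.norm g hg
  have h1 : α c = c' := by
    apply C.inj
    rw [← hα, h]
  obtain ⟨M, hM⟩ := mem_range_of_c2 (α := α) hc (by rw [h1]; exact hc')
  exact ⟨M, hg, fun m => by rw [hα, hM]⟩

/-- in particular if it centralises one -/
theorem isLin_of_commute {g : G} (hg : Commute g C.t) {c : Om} (hc : IsC2 (c : V ≃ₗ[ZMod 2] V))
    (h : Commute g (C.r c)) : ∃ M, C.IsLin g M := by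
  refine C.isLin_of_c2 hg hc hc ?_
  rw [h.eq]; group

/-- the action on a linear element in terms of vectors -/
theorem IsLin.conj_X {C : Ctx G} {g : G} {M : O8} (h : C.IsLin g M) (u w : V) :
    g * C.r ⟨X u w, X_mem u w⟩ * g⁻¹ =
      C.r ⟨X ((M : V ≃ₗ[ZMod 2] V) u) ((M : V ≃ₗ[ZMod 2] V) w), X_mem _ _⟩ := by
  rw [h.2]
  congr 1
  apply Subtype.ext
  exact X_conj M.2 u w

/-- A linear element commutes with `C.r m` iff its matrix commutes with `m`. -/
theorem IsLin.commute_iff {C : Ctx G} {g : G} {M : O8} (h : C.IsLin g M) (m : Om) :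
    Commute g (C.r m) ↔ (M : V ≃ₗ[ZMod 2] V) * m = m * (M : V ≃ₗ[ZMod 2] V) := by
  constructor
  · intro hc
    have h1 := h.2 m
    rw [hc.eq, mul_inv_cancel_right] at h1
    have h2 := congrArg Subtype.val (C.inj h1)
    rw [cj_coe, eq_mul_inv_iff_mul_eq] at h2
    exact h2.symm
  · intro hc
    have h1 : cj M m = m := Subtype.ext (by rw [cj_coe, hc, mul_inv_cancel_right])
    have h2 := h.2 m
    rw [h1, mul_inv_eq_iff_eq_mul] at h2
    exact h2

theorem commute_conj {x g a : G} (h : Commute g (x * a * x⁻¹)) : Commute (x⁻¹ * g * x) a := by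
  have e : x⁻¹ * g * x * a = x⁻¹ * (g * (x * a * x⁻¹)) * x := by group
  rw [Commute, SemiconjBy, e, h.eq]
  group

/-- The conjugate context. -/
def conj (x : G) : Ctx G where
  t := x * C.t * x⁻¹
  tt := by
    calc x * C.t * x⁻¹ * (x * C.t * x⁻¹) = x * (C.t * C.t) * x⁻¹ := by group
      _ = 1 := by rw [C.tt]; group
  t_ne := fun h => C.t_ne (by
    have : C.t = x⁻¹ * (x * C.t * x⁻¹) * x := by group
    rw [this, h]; group)
  r := (MulAut.conj x).toMonoidHom.comp C.r
  inj := (MulAut.conj x).injective.comp C.inj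
  comm m := by
    show Commute (x * C.r m * x⁻¹) (x * C.t * x⁻¹)
    have e1 : x * C.r m * x⁻¹ * (x * C.t * x⁻¹) = x * (C.r m * C.t) * x⁻¹ := by group
    rw [Commute, SemiconjBy, e1, (C.comm m).eq]
    group
  cent g hg hm := by
    have h1 : Commute (x⁻¹ * g * x) C.t := commute_conj hg
    have h2 : ∀ m, Commute (x⁻¹ * g * x) (C.r m) := fun m => commute_conj (hm m)
    rcases C.cent _ h1 h2 with h | h
    · left
      have : g = x * (x⁻¹ * g * x) * x⁻¹ := by group
      rw [this, h]; group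
    · right
      have : g = x * (x⁻¹ * g * x) * x⁻¹ := by group
      rw [this, h]
  norm g hg := by
    have h1 : Commute (x⁻¹ * g * x) C.t := commute_conj hg
    obtain ⟨α, hα⟩ := C.norm _ h1
    refine ⟨α, fun m => ?_⟩
    show g * (x * C.r m * x⁻¹) * g⁻¹ = x * C.r (α m) * x⁻¹
    rw [← hα]; group
  odd := by
    have key : ∀ g : G, ∀ (x : G) (t : G) (r : Om →* G), g ∈ Lin t r →
        x * g * x⁻¹ ∈ Lin (x * t * x⁻¹) ((MulAut.conj x).toMonoidHom.comp r) := by
      rintro g x t r ⟨h1, M, hM⟩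
      refine ⟨?_, M, fun m => ?_⟩
      · have e1 : x * g * x⁻¹ * (x * t * x⁻¹) = x * (g * t) * x⁻¹ := by group
        rw [Commute, SemiconjBy, e1, h1.eq]
        group
      · show x * g * x⁻¹ * (x * r m * x⁻¹) * (x * g * x⁻¹)⁻¹ = x * r (cj M m) * x⁻¹
        rw [← hM]; group
    have e1 : Lin (x * C.t * x⁻¹) ((MulAut.conj x).toMonoidHom.comp C.r) =
        (Lin C.t C.r).map (MulAut.conj x).toMonoidHom := by
      apply le_antisymm
      · intro g hg
        refine ⟨x⁻¹ * g * x, ?_, by show x * (x⁻¹ * g * x) * x⁻¹ = g; group⟩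
        have := key g x⁻¹ _ _ hg
        have e2 : x⁻¹ * (x * C.t * x⁻¹) * x⁻¹⁻¹ = C.t := by group
        have e3 : (MulAut.conj x⁻¹).toMonoidHom.comp ((MulAut.conj x).toMonoidHom.comp C.r) = C.r := by
          ext m
          show x⁻¹ * (x * C.r m * x⁻¹) * x⁻¹⁻¹ = C.r m
          group
        rw [e2, e3, inv_inv] at this
        exact this
      · rintro _ ⟨g, hg, rfl⟩
        exact key g x _ _ hg
    have e2 : Subgroup.centralizer {x * C.t * x⁻¹} =
        (Subgroup.centralizer {C.t}).map (MulAut.conj x).toMonoidHom := by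
      ext g
      rw [Subgroup.mem_centralizer_singleton_iff]
      constructor
      · intro hg
        refine ⟨x⁻¹ * g * x, ?_, by show x * (x⁻¹ * g * x) * x⁻¹ = g; group⟩
        show x⁻¹ * g * x ∈ Subgroup.centralizer {C.t}
        rw [Subgroup.mem_centralizer_singleton_iff]
        exact (commute_conj (show Commute g (x * C.t * x⁻¹) from hg)).eq
      · rintro ⟨g, hg, rfl⟩
        have hg' : g * C.t = C.t * g := Subgroup.mem_centralizer_singleton_iff.1 hg
        show x * g * x⁻¹ * (x * C.t * x⁻¹) = x * C.t * x⁻¹ * (x * g * x⁻¹)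
        calc x * g * x⁻¹ * (x * C.t * x⁻¹) = x * (g * C.t) * x⁻¹ := by group
          _ = _ := by rw [hg']; group
    rw [e1, e2, Subgroup.relIndex_map_map_of_injective _ _ (MulAut.conj x).injective]
    exact C.odd

theorem conj_t (x : G) : (C.conj x).t = x * C.t * x⁻¹ := rfl
theorem conj_r (x : G) (m : Om) : (C.conj x).r m = x * C.r m * x⁻¹ := rfl

end Ctx

/-- Existence of the context. -/
theorem exists_ctx [Finite G] (L : Subgroup G) (e : L ≃* Om) {t : G} (tt : t * t = 1) (tne : t ≠ 1)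
    (hcomm : ∀ g ∈ L, Commute g t)
    (hnorm : ∀ g, Commute g t → g ∈ Subgroup.normalizer (L : Set G))
    (hcent : ∀ g, Commute g t → (∀ x ∈ L, Commute g x) → g = 1 ∨ g = t) :
    ∃ C : Ctx G, C.t = t ∧ C.L = L := by
  classical
  have hle : Subgroup.centralizer {t} ≤ Subgroup.normalizer (L : Set G) := fun g hg =>
    hnorm g (Subgroup.mem_centralizer_singleton_iff.1 hg)
  let φ : Subgroup.centralizer {t} →* MulAut Om :=
    (MulAut.congr e).toMonoidHom.comp (L.normalizerMonoidHom.comp (Subgroup.inclusion hle))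
  have hφ : ∀ (g : Subgroup.centralizer {t}) (m : Om),
      ((e.symm (φ g m) : L) : G) = g * ((e.symm m : L) : G) * (g : G)⁻¹ := by
    intro g m
    show ((e.symm (e (L.normalizerMonoidHom (Subgroup.inclusion hle g) (e.symm m))) : L) : G) = _
    rw [e.symm_apply_apply]
    rfl
  let S : Sylow 2 (Subgroup.centralizer {t}) := default
  let ψ : S →* MulAut Om := φ.comp (S : Subgroup (Subgroup.centralizer {t})).subtype
  let _ : MulAction S (MulAut Om ⧸ cj.range) := MulAction.compHom _ ψ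
  have hcard : Nat.card (MulAut Om ⧸ cj.range) = 3 := by
    rw [← Subgroup.index_eq_card]
    exact index_range
  have hfin : Finite (MulAut Om ⧸ cj.range) := Nat.finite_of_card_ne_zero (by rw [hcard]; norm_num)
  have h1 := S.isPGroup'.card_modEq_card_fixedPoints (MulAut Om ⧸ cj.range)
  rw [hcard] at h1
  have h2 : Nat.card (MulAction.fixedPoints S (MulAut Om ⧸ cj.range)) ≠ 0 := by
    intro h
    rw [h] at h1
    exact absurd h1 (by decide)
  obtain ⟨⟨x, hx⟩⟩ := (Nat.card_ne_zero.1 h2).1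
  obtain ⟨β, rfl⟩ := QuotientGroup.mk_surjective x
  let r : Om →* G := L.subtype.comp (e.symm.toMonoidHom.comp β.toMonoidHom)
  have hr : ∀ m, r m = ((e.symm (β m) : L) : G) := fun m => rfl
  have hrange : r.range = L := by
    ext g
    constructor
    · rintro ⟨m, rfl⟩
      exact (e.symm (β m)).2
    · intro hg
      refine ⟨β.symm (e ⟨g, hg⟩), ?_⟩
      rw [hr]
      have : β (β.symm (e ⟨g, hg⟩)) = e ⟨g, hg⟩ := β.apply_symm_apply _
      rw [this, e.symm_apply_apply]
  have hS : ∀ g : Subgroup.centralizer {t}, g ∈ (S : Subgroup (Subgroup.centralizer {t})) →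
      (g : G) ∈ Lin t r := by
    intro g hg
    have h3 : (⟨g, hg⟩ : S) • (QuotientGroup.mk β : MulAut Om ⧸ cj.range) = QuotientGroup.mk β := hx ⟨g, hg⟩
    have h4 : (QuotientGroup.mk (φ g * β) : MulAut Om ⧸ cj.range) = QuotientGroup.mk β := h3
    have h5 := (QuotientGroup.eq.1 h4.symm)
    obtain ⟨M, hM⟩ := h5
    refine ⟨Subgroup.mem_centralizer_singleton_iff.1 g.2, M, fun m => ?_⟩
    rw [hr, hr, ← hφ, hM]
    congr 2
    show φ g (β m) = β (β⁻¹ (φ g (β m)))
    exact (β.apply_symm_apply _).symm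
  refine ⟨⟨t, tt, tne, r, ?_, ?_, ?_, ?_, ?_⟩, rfl, hrange⟩
  · exact (Subgroup.subtype_injective L).comp (e.symm.injective.comp β.injective)
  · intro m
    exact hcomm _ (by rw [← hrange]; exact ⟨m, rfl⟩)
  · intro g hg hm
    refine hcent g hg fun x hx => ?_
    rw [← hrange] at hx
    obtain ⟨m, rfl⟩ := hx
    exact hm m
  · intro g hg
    have hg' : g ∈ Subgroup.centralizer {t} := Subgroup.mem_centralizer_singleton_iff.2 hg
    refine ⟨β⁻¹ * φ ⟨g, hg'⟩ * β, fun m => ?_⟩
    rw [hr, hr]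
    have h3 := hφ ⟨g, hg'⟩ (β m)
    rw [← h3]
    congr 2
    show φ ⟨g, hg'⟩ (β m) = β (β⁻¹ (φ ⟨g, hg'⟩ (β m)))
    exact (β.apply_symm_apply _).symm
  · have h3 : (S : Subgroup (Subgroup.centralizer {t})) ≤ (Lin t r).subgroupOf (Subgroup.centralizer {t}) :=
      fun g hg => hS g hg
    have h4 : ((Lin t r).relIndex (Subgroup.centralizer {t})) ∣ (S : Subgroup (Subgroup.centralizer {t})).index := by
      rw [Subgroup.relIndex]
      exact Subgroup.index_dvd_of_le h3
    have h5 : ¬ 2 ∣ (S : Subgroup (Subgroup.centralizer {t})).index := S.not_dvd_index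
    rw [← Nat.not_even_iff_odd, even_iff_two_dvd]
    exact fun h => h5 (h.trans h4)

end Cfsg.Agent.StdO8.Frame
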