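import Cfsg.Agent.Doubling.Rel

/-!
# The root system `D4`
-/

set_option autoImplicit false

namespace Cfsg.Agent.StdO8.D4Root

open Cfsg.Agent.OddHalf.SL.Defs (Roots)
open Cfsg.Agent.Doubling.Rel (Root)

/-- The root lattice is contained in `ℤ⁴`. -/
abbrev E := Fin 4 → ℤ

/-- The dot product. -/
def ip (a b : E) : ℤ := a 0 * b 0 + a 1 * b 1 + a 2 * b 2 + a 3 * b 3

/-- The twelve positive roots. -/
def pos : List E :=
  [![1, 1, 0, 0], ![1, -1, 0, 0], ![1, 0, 1, 0], ![1, 0, -1, 0], ![1, 0, 0, 1], ![1, 0, 0, -1],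
   ![0, 1, 1, 0], ![0, 1, -1, 0], ![0, 1, 0, 1], ![0, 1, 0, -1], ![0, 0, 1, 1], ![0, 0, 1, -1]]

/-- The twenty-four roots. -/
def roots : List E := pos ++ pos.map (fun v => -v)

/-- The root system. -/
def Φ : Set E := {v | v ∈ roots}

theorem mem_Φ {v : E} : v ∈ Φ ↔ v ∈ roots := Iff.rfl

instance : DecidablePred (· ∈ Φ) := fun v => inferInstanceAs (Decidable (v ∈ roots))

theorem ip_symm (a b : E) : ip a b = ip b a := by unfold ip; ring

theorem ip_add_left (a b c : E) : ip (a + b) c = ip a c + ip b c := by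
  unfold ip
  simp only [Pi.add_apply]
  ring

theorem two : ∀ r ∈ roots, ip r r = 2 := by decide

theorem neg_mem : ∀ r ∈ roots, -r ∈ roots := by decide +kernel

theorem le : ∀ r ∈ roots, ∀ s ∈ roots, ip r s ≤ 2 := by decide +kernel

theorem eq : ∀ r ∈ roots, ∀ s ∈ roots, ip r s = 2 → r = s := by decide +kernel

theorem add : ∀ r ∈ roots, ∀ s ∈ roots, ip r s = -1 → r + s ∈ roots := by decide +kernel

theorem rank : ∀ r ∈ roots, ∀ s ∈ roots, ip r s = -1 → ∃ u ∈ roots, ip r u = -1 ∧ ip u s = 1 := by decide +kernel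

theorem orth : ∀ r ∈ roots, ∀ s ∈ roots, ip r s = 0 → ∃ m ∈ roots, ip m s = -1 ∧ ip m r = 1 := by decide +kernel

theorem isRoots : Roots ip Φ where
  fin := (List.finite_toSet roots)
  symm := ip_symm
  add_left := ip_add_left
  two := two
  neg_mem := neg_mem
  le := le
  eq := eq
  add := add

/-- `D4` satisfies the combinatorial hypotheses. -/
theorem root : Root ip Φ where
  base := isRoots
  rank := rank
  orth := orth

end Cfsg.Agent.StdO8.D4Root
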