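import Cfsg.Agent.StdO8.DoubRefl
import Cfsg.Agent.StdO8.D4Root

/-!
# Doubling of a root element of `Ω₈⁺(2)`: root elements (S1734)

`XD`: the root elements `x s` (`s` in the root system `D4`) of `L`. `Core`, `Fr` in these coordinates:
`z = x (1,1,0,0)`, `r = x (1,0,1,0)`, `α = (1,-1,0,0), (0,0,1,-1), (0,0,1,1)`, `τ i = x (α i)`,
`d i = x (α i) x (-α i)`.
`exists_y`: the involution `y` with `t^y = tz` centralising `z, r, d i` and (mod `z`) `τ i`.
-/

set_option autoImplicit false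
set_option linter.all false

namespace Cfsg.Agent.StdO8.DoubRoot

open Subgroup Cfsg.Agent.StdO8.D4Root Cfsg.Agent.StdO8.DoubCore Cfsg.Agent.StdO8.DoubRefl

variable {G : Type*} [Group G]

/-- The root elements: the first eight fields of `Doubling.Rel.Data ip Φ t L x y`. -/
structure XD (t : G) (L : Subgroup G) (x : E → G) : Prop where
  tt : t * t = 1
  tL : ∀ g ∈ L, t * g = g * t
  t_notMem : t ∉ L
  xL : ∀ r ∈ Φ, x r ∈ L
  x_ne : ∀ r ∈ Φ, x r ≠ 1
  x_sq : ∀ r ∈ Φ, x r * x r = 1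
  x_comm : ∀ r ∈ Φ, ∀ s ∈ Φ, 0 ≤ ip r s → x r * x s = x s * x r
  x_conj : ∀ r ∈ Φ, ∀ s ∈ Φ, ip r s = -1 → x s * x r * x s = x r * x (r + s)

/-- the highest root -/
def zr : E := ![1, 1, 0, 0]

/-- the root `r` -/
def rr : E := ![1, 0, 1, 0]

/-- the three outer simple roots -/
def al : Fin 3 → E := ![![1, -1, 0, 0], ![0, 0, 1, -1], ![0, 0, 1, 1]]

/-- the central simple root -/
def ac : E := ![0, 1, -1, 0]

/-- `d i` -/
def dd (x : E → G) (i : Fin 3) : G := x (al i) * x (-al i)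

/-- `τ i` -/
def ta (x : E → G) (i : Fin 3) : G := x (al i)

/-- The Weyl element of the root `s`. -/
def nn (x : E → G) (s : E) : G := x s * x (-s) * x s

/-- The graph automorphism of `D4` fixing `al i` and interchanging `al j` and `al k`. -/
def gam (j k : Fin 3) (s : E) : E := s - (ip s (al j - al k) / 2) • (al j - al k)

/-- `v` centralises `t` and acts on the root elements of `L` as the graph automorphism. -/
structure Graph (t : G) (x : E → G) (j k : Fin 3) (v : G) : Prop where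
  vt : v * t = t * v
  vx : ∀ s ∈ Φ, v * x s * v⁻¹ = x (gam j k s)

/-- the conditions for `cj (x s) (x r) = x r * x q` -/
def CNeg (r s q : E) : Prop := r ∈ roots ∧ s ∈ roots ∧ ip r s = -1 ∧ r + s = q

/-- the conditions for `cj (x s) (x r) = x r` -/
def CFix (r s : E) : Prop := r ∈ roots ∧ s ∈ roots ∧ 0 ≤ ip r s

/-- the conditions for `cj (x s * x (-s)) (x r) = x q` -/
def EPos (r s q : E) : Prop :=
  CNeg r (-s) q ∧ CFix r s ∧ CNeg q s r ∧ q ∈ roots ∧ 0 ≤ ip q r

/-- the conditions for `cj (x s * x (-s)) (x r) = x r * x q` -/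
def ENeg (r s q : E) : Prop := CFix r (-s) ∧ CNeg r s q

/-- the conditions for `cj (nn x s) (x r) = x q` -/
def NPos (r s q : E) : Prop := CFix r s ∧ EPos r s q

/-- the conditions for `cj (nn x s) (x r) = x q` -/
def NNeg (r s q : E) : Prop :=
  CNeg r s q ∧ CFix r (-s) ∧ CNeg q (-s) r ∧ CFix q s ∧ 0 ≤ ip q r

/-- the conditions for `cj (nn x s) (x r) = x r` -/
def NZero (r s : E) : Prop := CFix r s ∧ CFix r (-s)

instance (r s q : E) : Decidable (CNeg r s q) := by unfold CNeg; infer_instance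
instance (r s : E) : Decidable (CFix r s) := by unfold CFix; infer_instance
instance (r s q : E) : Decidable (EPos r s q) := by unfold EPos; infer_instance
instance (r s q : E) : Decidable (ENeg r s q) := by unfold ENeg; infer_instance
instance (r s q : E) : Decidable (NPos r s q) := by unfold NPos; infer_instance
instance (r s q : E) : Decidable (NNeg r s q) := by unfold NNeg; infer_instance
instance (r s : E) : Decidable (NZero r s) := by unfold NZero; infer_instance

/-- the conditions of `frame` -/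
def FrOK (w a b c u n m : E) : Prop :=
  (∀ p ∈ [zr, w, rr, a, b, c], ∀ q ∈ [zr, w, rr, a, b, c], 0 ≤ ip p q) ∧
  (∀ p ∈ [zr, w, rr, a, b, c, u, n, m], p ∈ roots ∧ -p ∈ roots) ∧
  (EPos zr ac rr ∧ ENeg rr ac zr ∧ ENeg w ac c ∧ EPos c ac w ∧ NZero a ac ∧ NZero b ac) ∧
  (CFix zr u ∧ CFix rr u ∧ CFix a u ∧ CFix b u ∧ CNeg w u rr ∧ CNeg c u zr) ∧
  (NZero rr n ∧ NZero c n ∧ NPos zr n a ∧ NNeg a n zr ∧ NNeg w n b ∧ NPos b n w) ∧
  (NZero rr m ∧ NZero c m ∧ NPos zr m b ∧ NNeg b m zr ∧ NNeg w m a ∧ NPos a m w)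

instance (w a b c u n m : E) : Decidable (FrOK w a b c u n m) := by unfold FrOK; infer_instance

/-- the elements `u, n, m` -/
def fu : Fin 3 → E := ![![0, 1, 1, 0], ![1, 0, 0, 1], ![1, 0, 0, -1]]

/-- the elements `u, n, m` -/
def fn : Fin 3 → E := ![![0, 1, 0, -1], ![1, 0, -1, 0], ![1, 0, -1, 0]]

/-- the elements `u, n, m` -/
def fm : Fin 3 → E := ![![0, 1, 0, 1], ![0, 1, 0, 1], ![0, 1, 0, -1]]

/-- `j, k` -/
def oj : Fin 3 → Fin 3 := ![1, 0, 0]

/-- `j, k` -/
def ok : Fin 3 → Fin 3 := ![2, 2, 1]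

theorem frOK : ∀ i : Fin 3, FrOK (al i) (rr - al (oj i)) (rr - al (ok i)) (rr - al (oj i) - al (ok i))
    (fu i) (fn i) (fm i) := by decide +kernel

/-- `d j` on the roots of weight `+` -/
theorem dOK : ∀ i : Fin 3, EPos rr (al (oj i)) (rr - al (oj i)) ∧ EPos rr (al (ok i)) (rr - al (ok i)) ∧
    EPos (rr - al (oj i)) (al (ok i)) (rr - al (oj i) - al (ok i)) ∧
    EPos (rr - al (ok i)) (al (oj i)) (rr - al (oj i) - al (ok i)) := by decide +kernel

namespace XD

variable {t : G} {L : Subgroup G} {x : E → G} (X : XD t L x)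

include X

theorem inv {s : E} (hs : s ∈ Φ) : (x s)⁻¹ = x s := inv_eq_of_mul_eq_one_right (X.x_sq s hs)

/-- conjugation by a root element, special pair -/
theorem con {r s q : E} (h : CNeg r s q) : cj (x s) (x r) = x r * x q := by
  obtain ⟨hr, hs, h1, h2⟩ := h
  unfold cj
  rw [X.inv hs, X.x_conj r hr s hs h1, h2]

theorem fix {r s : E} (h : CFix r s) : cj (x s) (x r) = x r := by
  obtain ⟨hr, hs, h1⟩ := h
  unfold cj
  rw [← X.x_comm r hr s hs h1, mul_assoc, mul_inv_cancel, mul_one]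

theorem t_fix {g : G} (hg : g ∈ L) : cj g t = t := by
  unfold cj
  rw [← X.tL g hg, mul_assoc, mul_inv_cancel, mul_one]

theorem e_pos {r s q : E} (h : EPos r s q) : cj (x s * x (-s)) (x r) = x q := by
  obtain ⟨h1, h2, h3, hq, h4⟩ := h
  rw [cj_comp, X.con h1, cj_mul, X.fix h2, X.con h3, X.x_comm q hq r h1.1 h4, sq' (X.x_sq r h1.1)]

theorem e_neg {r s q : E} (h : ENeg r s q) : cj (x s * x (-s)) (x r) = x r * x q := by
  rw [cj_comp, X.fix h.1, X.con h.2]

theorem e_zero {r s : E} (h : NZero r s) : cj (x s * x (-s)) (x r) = x r := by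
  rw [cj_comp, X.fix h.2, X.fix h.1]

theorem n_pos {r s q : E} (h : NPos r s q) : cj (nn x s) (x r) = x q := by
  obtain ⟨h1, h2⟩ := h
  rw [nn, cj_comp, X.fix h1]
  exact X.e_pos h2

theorem n_neg {r s q : E} (h : NNeg r s q) : cj (nn x s) (x r) = x q := by
  obtain ⟨h1, h2, h3, h4, h5⟩ := h
  rw [nn, cj_comp, cj_comp, X.con h1, cj_mul, X.fix h2, X.con h3,
    X.x_comm q h3.1 r h1.1 h5, sq' (X.x_sq r h1.1), X.fix h4]

theorem n_zero {r s : E} (h : NZero r s) : cj (nn x s) (x r) = x r := by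
  rw [nn, cj_comp, X.fix h.1]
  exact X.e_zero h

theorem dL {s : E} (hs : s ∈ roots) (hs' : -s ∈ roots) : x s * x (-s) ∈ L :=
  L.mul_mem (X.xL s hs) (X.xL _ hs')

theorem nnL {s : E} (hs : s ∈ roots) (hs' : -s ∈ roots) : nn x s ∈ L :=
  L.mul_mem (X.dL hs hs') (X.xL s hs)

/-- the elements of the configuration `A_i` -/
theorem frame {w a b c u n m : E} (h : FrOK w a b c u n m) :
    Fr t (x zr) (x w) (x rr) (x a) (x b) (x c) (x ac * x (-ac)) (x u) (nn x n) (nn x m) := by
  obtain ⟨hc, hm, ⟨e1, e2, e3, e4, e5, e6⟩, ⟨u1, u2, u3, u4, u5, u6⟩, ⟨n1, n2, n3, n4, n5, n6⟩,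
    ⟨m1, m2, m3, m4, m5, m6⟩⟩ := h
  have mz := (hm zr (by simp)).1
  have mw := (hm w (by simp)).1
  have mr := (hm rr (by simp)).1
  have ma := (hm a (by simp)).1
  have mb := (hm b (by simp)).1
  have mc := (hm c (by simp)).1
  have mu := (hm u (by simp)).1
  have mn := hm n (by simp)
  have mm := hm m (by simp)
  have hmap : [t, x zr, x w, x rr, x a, x b, x c] = t :: ([zr, w, rr, a, b, c].map x) := rfl
  refine ⟨?_, ?_, X.t_fix (X.dL (by decide) (by decide)), X.e_pos e1, X.e_neg e2, X.e_neg e3, X.e_pos e4,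
    X.e_zero e5, X.e_zero e6, X.t_fix (X.xL u mu), X.fix u1, X.fix u2, X.fix u3, X.fix u4, X.con u5, X.con u6,
    X.t_fix (X.nnL mn.1 mn.2), X.n_zero n1, X.n_zero n2, X.n_pos n3, X.n_neg n4, X.n_neg n5, X.n_pos n6,
    X.t_fix (X.nnL mm.1 mm.2), X.n_zero m1, X.n_zero m2, X.n_pos m3, X.n_neg m4, X.n_neg m5, X.n_pos m6⟩
  · intro p hp
    rw [hmap, List.mem_cons] at hp
    rcases hp with rfl | hp
    · exact X.tt
    · obtain ⟨s, hs, rfl⟩ := List.mem_map.1 hp
      refine X.x_sq s (hm s ?_).1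
      simp only [List.mem_cons, List.not_mem_nil, or_false] at hs ⊢
      tauto
  · intro p hp q hq
    rw [hmap, List.mem_cons] at hp hq
    have key : ∀ s ∈ [zr, w, rr, a, b, c], s ∈ roots := by
      intro s hs
      refine (hm s ?_).1
      simp only [List.mem_cons, List.not_mem_nil, or_false] at hs ⊢
      tauto
    rcases hp with rfl | hp <;> rcases hq with rfl | hq
    · rfl
    · obtain ⟨s, hs, rfl⟩ := List.mem_map.1 hq
      exact X.tL _ (X.xL s (key s hs))
    · obtain ⟨s, hs, rfl⟩ := List.mem_map.1 hp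
      exact (X.tL _ (X.xL s (key s hs))).symm
    · obtain ⟨s, hs, rfl⟩ := List.mem_map.1 hp
      obtain ⟨s', hs', rfl⟩ := List.mem_map.1 hq
      exact X.x_comm s (key s hs) s' (key s' hs') (hc s hs s' hs')

theorem frame_i (i : Fin 3) : Fr t (x zr) (ta x i) (x rr) (x (rr - al (oj i))) (x (rr - al (ok i)))
    (x (rr - al (oj i) - al (ok i))) (x ac * x (-ac)) (x (fu i)) (nn x (fn i)) (nn x (fm i)) :=
  X.frame (frOK i)

theorem d_j (i : Fin 3) : cj (dd x (oj i)) (x rr) = x (rr - al (oj i)) := X.e_pos (dOK i).1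

theorem d_k (i : Fin 3) : cj (dd x (ok i)) (x rr) = x (rr - al (ok i)) := X.e_pos (dOK i).2.1

theorem d_kj (i : Fin 3) : cj (dd x (ok i)) (x (rr - al (oj i))) = x (rr - al (oj i) - al (ok i)) :=
  X.e_pos (dOK i).2.2.1

theorem d_jk (i : Fin 3) : cj (dd x (oj i)) (x (rr - al (ok i))) = x (rr - al (oj i) - al (ok i)) :=
  X.e_pos (dOK i).2.2.2

end XD

theorem cj_cj (y g x : G) : cj y (cj g x) = cj (cj y g) (cj y x) := by unfold cj; group

/-- correction to an involution -/
theorem act_inv {t z r : G} {L : Subgroup G} {d τ : Fin 3 → G} (K : Core t z r L d τ)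
    {π : Equiv.Perm (Fin 3)} {y : G} (A : Core.Act t z r d τ π y) (hπ : π * π = 1) :
    ∃ y', Core.Act t z r d τ π y' ∧ y' * y' = 1 := by
  rcases A.sq K hπ with h | h
  · exact ⟨_, A, h⟩
  · refine ⟨_, A.mul_t K, ?_⟩
    have h3 : y * t * (y * t) = (y * y) * (y⁻¹ * t * y) * t := by group
    have h4 : y⁻¹ * t * y = t * z := by
      have := A.ctz K
      have h5 : y * (t * z) = t * y := mul_inv_eq_iff_eq_mul.1 this
      rw [mul_assoc, ← h5, inv_mul_cancel_left]
    rw [h3, h, h4, K.tz]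
    have : z * (z * t) * t = (z * z) * (t * t) := by group
    rw [this, K.zz, K.tt, one_mul]

theorem perm_cases : ∀ π : Equiv.Perm (Fin 3), π * π = 1 → π = 1 ∨
    ∃ i : Fin 3, π i = i ∧ π (oj i) = ok i ∧ π (ok i) = oj i := by decide +kernel

/-- the root `al i` under the graph automorphism -/
theorem gam_al : ∀ i : Fin 3, gam (oj i) (ok i) (al i) = al i ∧ gam (oj i) (ok i) (-al i) = -al i ∧
    gam (oj i) (ok i) (al (oj i)) = al (ok i) ∧ gam (oj i) (ok i) (-al (oj i)) = -al (ok i) ∧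
    gam (oj i) (ok i) (al (ok i)) = al (oj i) ∧ gam (oj i) (ok i) (-al (ok i)) = -al (oj i) ∧
    gam (oj i) (ok i) zr = zr ∧ gam (oj i) (ok i) rr = rr := by decide +kernel

theorem al_mem : ∀ i : Fin 3, al i ∈ roots ∧ -al i ∈ roots := by decide +kernel

theorem fin_cases' : ∀ i l : Fin 3, l = i ∨ l = oj i ∨ l = ok i := by decide +kernel

/-- **The involution `y`.** -/
structure YZ (t : G) (x : E → G) (y : G) : Prop where
  yy : y * y = 1
  yt : y * t * y⁻¹ = t * x zr
  yz : y * x zr = x zr * y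
  yr : y * x rr = x rr * y
  yd : ∀ i, y * dd x i = dd x i * y
  yτ : ∀ i, y * ta x i * y⁻¹ = ta x i ∨
    (y * ta x i * y⁻¹ = ta x i * x zr ∧ ∃ v, Graph t x (oj i) (ok i) v)

theorem exists_y [Finite G] {t : G} {L : Subgroup G} {x : E → G} (X : XD t L x)
    (K : Core t (x zr) (x rr) L (dd x) (ta x))
    (f8 : ∀ i v, Fr.Refl t (x zr) (ta x i) (x rr) (x (rr - al (oj i))) (x (rr - al (ok i)))
      (x (rr - al (oj i) - al (ok i))) v → ∃ v', Graph t x (oj i) (ok i) v')
    {g : G} (hz : g * x zr * g⁻¹ = x zr) (ht : g * t * g⁻¹ = t * x zr) : ∃ y, YZ t x y := by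
  obtain ⟨π, y, A, yy, hπ⟩ := K.exists_inv hz ht
  -- reduction to `π = 1`
  obtain ⟨y, A, yy⟩ : ∃ y, Core.Act t (x zr) (x rr) (dd x) (ta x) 1 y ∧ y * y = 1 := by
    rcases perm_cases π hπ with rfl | ⟨i, hi, hj, hk⟩
    · exact ⟨y, A, yy⟩
    · have cd : ∀ l, cj y (dd x l) = dd x (π l) := A.cd
      have cr : cj y (x rr) = x rr := A.cr
      have ya : cj y (x (rr - al (oj i))) = x (rr - al (ok i)) := by
        rw [← X.d_j, cj_cj, cd, cr, hj, X.d_k]
      have yb : cj y (x (rr - al (ok i))) = x (rr - al (oj i)) := by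
        rw [← X.d_k, cj_cj, cd, cr, hk, X.d_j]
      have yc : cj y (x (rr - al (oj i) - al (ok i))) = x (rr - al (oj i) - al (ok i)) := by
        rw [← X.d_kj, cj_cj, cd, ya, hk, X.d_jk, X.d_kj]
      obtain ⟨v, hv⟩ := (X.frame_i i).perm A.ct A.cz cr ya yb yc (K.fix_τ A yy hi)
      obtain ⟨v', hv'⟩ := f8 i v hv
      have ginv := gam_al i
      have vx : ∀ s ∈ Φ, cj v' (x s) = x (gam (oj i) (ok i) s) := hv'.vx
      have vt : cj v' t = t := by unfold cj; rw [hv'.vt, mul_inv_cancel_right]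
      have hA : Core.Act t (x zr) (x rr) (dd x) (ta x) 1 (v' * y) := by
        have e : ∀ u, v' * y * u * (v' * y)⁻¹ = cj v' (cj y u) := by intro u; unfold cj; group
        have vz : cj v' (x zr) = x zr := by
          rw [vx zr (by decide), ginv.2.2.2.2.2.2.1]
        have vta : ∀ l, cj v' (x (al l)) = ta x (π l) := by
          intro l
          rw [vx _ (al_mem l).1]
          rcases fin_cases' i l with rfl | rfl | rfl
          · rw [ginv.1, hi]; rfl
          · rw [ginv.2.2.1, hj]; rfl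
          · rw [ginv.2.2.2.2.1, hk]; rfl
        have vta' : ∀ l, cj v' (x (-al l)) = x (-al (π l)) := by
          intro l
          rw [vx _ (al_mem l).2]
          rcases fin_cases' i l with rfl | rfl | rfl
          · rw [ginv.2.1, hi]
          · rw [ginv.2.2.2.1, hj]
          · rw [ginv.2.2.2.2.2.1, hk]
        have hππ : ∀ l, π (π l) = l := fun l => by
          have := congrArg (fun p : Equiv.Perm (Fin 3) => p l) hπ
          simpa using this
        refine ⟨?_, ?_, ?_, ?_, ?_⟩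
        · rw [e, show cj y (x zr) = x zr from A.cz, vz]
        · rw [e, show cj y t = t * x zr from A.ct, cj_mul, vt, vz]
        · rw [e, cr, vx rr (by decide), ginv.2.2.2.2.2.2.2]
        · intro l
          rw [e, cd, dd, cj_mul, vta, vta']
          change x (al (π (π l))) * x (-al (π (π l))) = x (al l) * x (-al l)
          rw [hππ]
        · intro l
          obtain ⟨s, hs, h1⟩ := A.cτ l
          refine ⟨cj v' s, ?_, ?_⟩
          · rcases hs with rfl | rfl | rfl | rfl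
            · left; unfold cj; group
            · right; left; exact vt
            · right; right; left; exact vz
            · right; right; right; rw [cj_mul, vt, vz]
          · rw [e, show cj y (ta x l) = ta x (π l) * s from h1, cj_mul]
            congr 1
            rw [show ta x (π l) = x (al (π l)) from rfl, vta]
            change ta x (π (π l)) = ta x l
            rw [hππ]
      exact act_inv K hA (by simp)
  have yinv : y⁻¹ = y := inv_eq_of_mul_eq_one_right yy
  have cd : ∀ l, cj y (dd x l) = dd x l := A.cd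
  have cr : cj y (x rr) = x rr := A.cr
  refine ⟨y, yy, A.ct, mul_inv_eq_iff_eq_mul.1 A.cz, mul_inv_eq_iff_eq_mul.1 A.cr,
    fun i => mul_inv_eq_iff_eq_mul.1 (A.cd i), fun i => ?_⟩
  rcases K.fix_τ A yy (i := i) rfl with h | h
  · left; exact h
  · right
    refine ⟨h, ?_⟩
    have ya : cj y (x (rr - al (oj i))) = x (rr - al (oj i)) := by
      rw [← X.d_j, cj_cj, cd, cr]
    have yb : cj y (x (rr - al (ok i))) = x (rr - al (ok i)) := by
      rw [← X.d_k, cj_cj, cd, cr]
    have yc : cj y (x (rr - al (oj i) - al (ok i))) = x (rr - al (oj i) - al (ok i)) := by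
      rw [← X.d_kj, cj_cj, cd, ya]
    obtain ⟨v, hv⟩ := (X.frame_i i).sign A.ct A.cz cr ya yb yc h
    exact f8 i v hv

theorem npos_of : ∀ p ∈ roots, ∀ q ∈ roots, ip p q = 1 → NPos p (p - q) q ∧ -(p - q) ∈ roots := by decide +kernel

theorem trans' : ∀ s ∈ roots, ∃ u ∈ roots, ∃ v ∈ roots, ip zr u = 1 ∧ ip u v = 1 ∧ ip v s = 1 := by
  decide +kernel

/-- `L` is transitive on the root elements. -/
theorem exists_conj {t : G} {L : Subgroup G} {x : E → G} (X : XD t L x) {s : E} (hs : s ∈ Φ) :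
    ∃ g ∈ L, g * x zr * g⁻¹ = x s := by
  have step : ∀ p ∈ roots, ∀ q ∈ roots, ip p q = 1 → ∃ g ∈ L, g * x p * g⁻¹ = x q := by
    intro p hp q hq h
    obtain ⟨h1, h2⟩ := npos_of p hp q hq h
    exact ⟨nn x (p - q), X.nnL h1.1.2.1 h2, X.n_pos h1⟩
  obtain ⟨u, hu, v, hv, h1, h2, h3⟩ := trans' s hs
  obtain ⟨a, ha, ha'⟩ := step zr (by decide) u hu h1
  obtain ⟨b, hb, hb'⟩ := step u hu v hv h2
  obtain ⟨c, hc, hc'⟩ := step v hv s hs h3
  refine ⟨c * b * a, L.mul_mem (L.mul_mem hc hb) ha, ?_⟩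
  rw [← hc', ← hb', ← ha']
  group

/-- The doubling involutions when `y` centralises `C_L(z)`. -/
theorem exists_Y {t : G} {L : Subgroup G} {x : E → G} (X : XD t L x)
    (f7 : ∀ g ∈ L, g * x zr = x zr * g → g ∈ closure ({x zr, x rr} ∪ Set.range (dd x) ∪ Set.range (ta x)))
    {y : G} (Y : YZ t x y) (h0 : ∀ i, y * ta x i * y⁻¹ = ta x i) :
    ∃ Y : E → G, (∀ r ∈ Φ, Y r * Y r = 1) ∧ (∀ r ∈ Φ, Y r * t * Y r = t * x r) ∧
      (∀ r ∈ Φ, ∀ g ∈ L, g * x r = x r * g → g * Y r = Y r * g) := by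
  classical
  have hy : ∀ g ∈ L, g * x zr = x zr * g → g * y = y * g := by
    intro g hg hgz
    have : closure ({x zr, x rr} ∪ Set.range (dd x) ∪ Set.range (ta x)) ≤ centralizer {y} := by
      rw [closure_le]
      rintro _ (((rfl | rfl) | ⟨i, rfl⟩) | ⟨i, rfl⟩)
      · exact mem_centralizer_singleton_iff.2 Y.yz.symm
      · exact mem_centralizer_singleton_iff.2 Y.yr.symm
      · exact mem_centralizer_singleton_iff.2 (Y.yd i).symm
      · exact mem_centralizer_singleton_iff.2 (mul_inv_eq_iff_eq_mul.1 (h0 i)).symm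
    exact mem_centralizer_singleton_iff.1 (this (f7 g hg hgz))
  have yinv : y⁻¹ = y := inv_eq_of_mul_eq_one_right Y.yy
  have hex : ∀ s, s ∈ Φ → ∃ g ∈ L, g * x zr * g⁻¹ = x s := fun s hs => exists_conj X hs
  refine ⟨fun s => if hs : s ∈ Φ then (hex s hs).choose * y * (hex s hs).choose⁻¹ else 1, ?_, ?_, ?_⟩
  · intro s hs
    simp only [dif_pos hs]
    generalize (hex s hs).choose = c
    calc c * y * c⁻¹ * (c * y * c⁻¹) = c * (y * y) * c⁻¹ := by group
      _ = 1 := by rw [Y.yy]; group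
  · intro s hs
    simp only [dif_pos hs]
    obtain ⟨hL, hc⟩ := (hex s hs).choose_spec
    revert hL hc
    generalize (hex s hs).choose = c
    intro hL hc
    have h1 : c⁻¹ * t * c = t := by
      rw [mul_assoc, X.tL c hL, inv_mul_cancel_left]
    have h2 : y * t * y = t * x zr := by
      have := Y.yt
      rwa [yinv] at this
    calc c * y * c⁻¹ * t * (c * y * c⁻¹) = c * (y * (c⁻¹ * t * c) * y) * c⁻¹ := by group
      _ = c * t * x zr * c⁻¹ := by rw [h1, h2]; group
      _ = t * (c * x zr * c⁻¹) := by rw [← X.tL c hL]; group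
      _ = t * x s := by rw [hc]
  · intro s hs g hg hgs
    simp only [dif_pos hs]
    obtain ⟨hL, hc⟩ := (hex s hs).choose_spec
    revert hL hc
    generalize (hex s hs).choose = c
    intro hL hc
    rw [← hc] at hgs
    have h1 : c⁻¹ * g * c * x zr = x zr * (c⁻¹ * g * c) := by
      calc c⁻¹ * g * c * x zr = c⁻¹ * (g * (c * x zr * c⁻¹)) * c := by group
        _ = c⁻¹ * ((c * x zr * c⁻¹) * g) * c := by rw [hgs]
        _ = x zr * (c⁻¹ * g * c) := by group
    have h2 := hy _ (L.mul_mem (L.mul_mem (L.inv_mem hL) hg) hL) h1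
    calc g * (c * y * c⁻¹) = c * (c⁻¹ * g * c * y) * c⁻¹ := by group
      _ = c * (y * (c⁻¹ * g * c)) * c⁻¹ := by rw [h2]
      _ = c * y * c⁻¹ * g := by group

end Cfsg.Agent.StdO8.DoubRoot
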