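import Cfsg.Agent.StdO8.DataOf
import Cfsg.Agent.OddHalf.SL.Bridge

/-!
# The positive root elements of `Ω₈⁺(2)`

Independence (`dir`) and order (`card_pos`) of the group generated by the positive root elements; the end of the doubling
argument for `L ≅ Ω₈⁺(2)` (`exists_hom`).
-/

set_option autoImplicit false

namespace Cfsg.Agent.StdO8.Uni

open Cfsg.Agent.StdO8.Model (V q B X O8 Om)
open Cfsg.Agent.StdO8.D4Root (E ip roots Φ)
open Cfsg.Agent.StdO8.Frame (Ctx)
open Cfsg.Agent.StdO8.Bas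
open Cfsg.Agent.StdO8.DataOf
open Cfsg.Agent.OddHalf.SL

/-- The height. -/
def ht : E →+ ℤ where
  toFun v := 3 * v 0 + 2 * v 1 + v 2
  map_zero' := rfl
  map_add' v w := by
    simp only [Pi.add_apply]
    ring

theorem ht_apply (v : E) : ht v = 3 * v 0 + 2 * v 1 + v 2 := rfl

/-- The height of a weight. -/
def hw (i : Fin 8) : ℤ := 3 * wt i 0 + 2 * wt i 1 + wt i 2

theorem ht_wt (i : Fin 8) : ht (wt i) = hw i := rfl

/-- The matrix entries. -/
def en (g : V ≃ₗ[ZMod 2] V) (k l : Fin 8) : ZMod 2 := th g (Dc.b k) l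

theorem th_add (g : V ≃ₗ[ZMod 2] V) (v w : Dc.V) : th g (v + w) = th g v + th g w := by
  unfold th
  rw [ofD_add, map_add, toD_add]

theorem th_smul (g : V ≃ₗ[ZMod 2] V) (a : ZMod 2) (v : Dc.V) : th g (a • v) = a • th g v := by
  unfold th
  rw [show ofD (a • v) = a • ofD v from rfl, map_smul, toD_smul]

/-- `th g` as a linear map. -/
def thL (g : V ≃ₗ[ZMod 2] V) : Dc.V →ₗ[ZMod 2] Dc.V where
  toFun := th g
  map_add' := th_add g
  map_smul' := th_smul g

theorem th_sum (g : V ≃ₗ[ZMod 2] V) (v : Dc.V) (l : Fin 8) : th g v l = ∑ m, v m * en g m l := by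
  have h := LinearMap.pi_apply_eq_sum_univ (thL g) v
  have h2 := congrFun h l
  rw [Finset.sum_apply] at h2
  refine h2.trans (Finset.sum_congr rfl fun m _ => ?_)
  rw [Pi.smul_apply, smul_eq_mul]
  congr 1
  show th g (fun j => if m = j then 1 else 0) l = th g (Dc.b m) l
  congr 2
  funext j
  rw [Dc.b_apply]
  by_cases h : m = j
  · rw [if_pos h, if_pos h.symm]
  · rw [if_neg h, if_neg (Ne.symm h)]

theorem en_mul (g g' : V ≃ₗ[ZMod 2] V) (k l : Fin 8) : en (g * g') k l = ∑ m, en g' k m * en g m l := by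
  unfold en
  rw [th_mul, th_sum]
  rfl

theorem en_one (k l : Fin 8) : en 1 k l = if l = k then 1 else 0 := by
  unfold en
  rw [th_one, Dc.b_apply]

/-- Unitriangular matrices which are trivial below height `h`. -/
structure Low (h : ℤ) (g : V ≃ₗ[ZMod 2] V) : Prop where
  diag : ∀ k, en g k k = 1
  off : ∀ k l, l ≠ k → hw l - hw k < h → en g k l = 0

theorem Low.one (h : ℤ) : Low h 1 where
  diag := fun k => by rw [en_one, if_pos rfl]
  off := fun k l hkl _ => by rw [en_one, if_neg hkl]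

theorem Low.mul {h : ℤ} (h1 : 1 ≤ h) {g g' : V ≃ₗ[ZMod 2] V} (hg : Low h g) (hg' : Low h g') : Low h (g * g') where
  diag := fun k => by
    rw [en_mul, Finset.sum_eq_single k]
    · rw [hg.diag, hg'.diag, mul_one]
    · intro m _ hm
      by_cases h2 : hw m - hw k < h
      · rw [hg'.off k m hm h2, zero_mul]
      · rw [hg.off m k hm.symm (by omega), mul_zero]
    · intro h2; exact absurd (Finset.mem_univ k) h2
  off := fun k l hkl hlt => by
    rw [en_mul]
    refine Finset.sum_eq_zero fun m _ => ?_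
    by_cases hm : m = k
    · rw [hm, hg.off k l hkl hlt, mul_zero]
    by_cases h2 : hw m - hw k < h
    · rw [hg'.off k m hm h2, zero_mul]
    · have hlm : l ≠ m := fun e => by rw [e] at hlt; exact h2 hlt
      rw [hg.off m l hlm (by omega), mul_zero]

theorem en_mul_eq {h : ℤ} (h1 : 1 ≤ h) {g g' : V ≃ₗ[ZMod 2] V} (hg : Low h g) (hg' : Low h g') {k l : Fin 8}
    (hkl : hw l - hw k = h) : en (g * g') k l = en g k l + en g' k l := by
  have hne : k ≠ l := fun e => by rw [e] at hkl; omega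
  rw [en_mul, ← Finset.sum_subset (Finset.subset_univ ({k, l} : Finset (Fin 8)))]
  · rw [Finset.sum_pair hne, hg'.diag, hg.diag, one_mul, mul_one]
  · intro m _ hm
    have hmk : m ≠ k := fun e => hm (by rw [e]; simp)
    have hml : m ≠ l := fun e => hm (by rw [e]; simp)
    by_cases h2 : hw m - hw k < h
    · rw [hg'.off k m hmk h2, zero_mul]
    · rw [hg.off m l hml.symm (by omega), mul_zero]

instance : Finite (V ≃ₗ[ZMod 2] V) := Finite.of_injective (fun g => (g : V → V)) DFunLike.coe_injective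

/-- The matrices of height at least `h` with entry `0` at the place `(k, l)`. -/
def K (h : ℤ) (h1 : 1 ≤ h) (k l : Fin 8) (hkl : hw l - hw k = h) : Subgroup (V ≃ₗ[ZMod 2] V) :=
  let M : Submonoid (V ≃ₗ[ZMod 2] V) :=
    { carrier := {g | Low h g ∧ en g k l = 0}
      one_mem' := ⟨Low.one h, by
        have hne : l ≠ k := fun e => by rw [e] at hkl; omega
        rw [en_one, if_neg hne]⟩
      mul_mem' := fun {g g'} hg hg' => ⟨Low.mul h1 hg.1 hg'.1, by
        rw [en_mul_eq h1 hg.1 hg'.1 hkl, hg.2, hg'.2, add_zero]⟩ }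
  { M with
    inv_mem' := fun {g} hg => by
      have hf : IsOfFinOrder g := isOfFinOrder_of_finite g
      have h2 : g⁻¹ ∈ Submonoid.powers g := hf.mem_powers_iff_mem_zpowers.2 (inv_mem (Subgroup.mem_zpowers g))
      have h3 : Submonoid.powers g ≤ M := by
        rw [Submonoid.powers_le]
        exact hg
      exact h3 h2 }

theorem mem_K {h : ℤ} {h1 : 1 ≤ h} {k l : Fin 8} {hkl : hw l - hw k = h} {g : V ≃ₗ[ZMod 2] V} :
    g ∈ K h h1 k l hkl ↔ Low h g ∧ en g k l = 0 := Iff.rfl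

/-- the entries of a root element -/
theorem en_xb {i j : Fin 8} (hij : ok i j) (k l : Fin 8) : en (xb i j) k l = Dc.Xf (Dc.b i) (Dc.b j) (Dc.b k) l := by
  unfold en
  rw [th_xb hij]

theorem ent1 : ∀ i j k : Fin 8, ok i j → Dc.Xf (Dc.b i) (Dc.b j) (Dc.b k) k = 1 := by decide +kernel

theorem ent2 : ∀ i j k l : Fin 8, ok i j → l ≠ k → Dc.Xf (Dc.b i) (Dc.b j) (Dc.b k) l ≠ 0 →
    (k = i + 4 ∧ l = j) ∨ (k = j + 4 ∧ l = i) := by decide +kernel

theorem ent3 : ∀ i j : Fin 8, ok i j → Dc.Xf (Dc.b i) (Dc.b j) (Dc.b (i + 4)) j = 1 := by decide +kernel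

theorem hw_bar : ∀ i : Fin 8, hw (i + 4) = - hw i := by decide

theorem low_xb {i j : Fin 8} (hij : ok i j) {h : ℤ} (hh : h ≤ hw i + hw j) : Low h (xb i j) where
  diag := fun k => by rw [en_xb hij, ent1 i j k hij]
  off := fun k l hkl hlt => by
    rw [en_xb hij]
    by_contra h0
    rcases ent2 i j k l hij hkl h0 with ⟨e1, e2⟩ | ⟨e1, e2⟩
    · rw [e1, e2, hw_bar] at hlt
      omega
    · rw [e1, e2, hw_bar] at hlt
      omega

/-- A root element is independent of the root elements of the other roots of at least the same height. -/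
theorem mem_K_of_ne {a b : E} (ha : a ∈ Φ) (hb : b ∈ Φ) (h1 : 1 ≤ ht a) (h2 : ht a ≤ ht b) (hab : b ≠ a) :
    ∃ k l, ∃ hkl : hw l - hw k = ht a, xO b ∈ K (ht a) h1 k l hkl ∧ en (xO a) k l = 1 ∧
      k = (hd a).1 + 4 ∧ l = (hd a).2 := by
  obtain ⟨ha1, ha2⟩ := wt_hd a ha
  obtain ⟨hb1, hb2⟩ := wt_hd b hb
  have e : hw (hd a).2 - hw ((hd a).1 + 4) = ht a := by
    rw [hw_bar, ← ht_wt, ← ht_wt, sub_neg_eq_add, ← map_add, add_comm, ha1]
  refine ⟨(hd a).1 + 4, (hd a).2, e, mem_K.2 ⟨?_, ?_⟩, ?_, rfl, rfl⟩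
  · unfold xO
    refine low_xb hb2 ?_
    rw [← ht_wt, ← ht_wt, ← map_add, hb1]
    exact h2
  · unfold xO
    rw [en_xb hb2]
    by_contra h0
    have hne : (hd a).2 ≠ (hd a).1 + 4 := ha2.2
    rcases ent2 _ _ _ _ hb2 hne h0 with ⟨e1, e2⟩ | ⟨e1, e2⟩
    · apply hab
      rw [← ha1, ← hb1, ← e2, add_right_cancel e1]
    · apply hab
      rw [← ha1, ← hb1, ← e2, add_right_cancel e1, add_comm]
  · unfold xO
    rw [en_xb ha2, ent3 _ _ ha2]

variable {G : Type*} [Group G] (C : Ctx G)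

theorem mem_zpowers {r : E} {g : G} (h : g ∈ Subgroup.zpowers (x C r)) : g = 1 ∨ g = x C r := by
  obtain ⟨k, rfl⟩ := h
  have h2 : x C r ^ (2 : ℤ) = 1 := by rw [zpow_ofNat, pow_two]; exact x_sq C r
  rcases Int.even_or_odd' k with ⟨m, rfl | rfl⟩
  · left
    show x C r ^ (2 * m) = 1
    rw [zpow_mul, h2, one_zpow]
  · right
    show x C r ^ (2 * m + 1) = x C r
    rw [zpow_add, zpow_mul, h2, one_zpow, one_mul, zpow_one]

/-- **Independence.** -/
theorem not_mem {a : E} (ha : a ∈ Φ) (h1 : 0 < ht a) :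
    x C a ∉ (⨆ b : E, ⨆ _ : b ∈ Φ ∧ ht a ≤ ht b ∧ b ≠ a, Subgroup.zpowers (x C b)) := by
  intro hmem
  obtain ⟨ha1, ha2⟩ := wt_hd a ha
  have e : hw (hd a).2 - hw ((hd a).1 + 4) = ht a := by
    rw [hw_bar, ← ht_wt, ← ht_wt, sub_neg_eq_add, ← map_add, add_comm, ha1]
  have hle : (⨆ b : E, ⨆ _ : b ∈ Φ ∧ ht a ≤ ht b ∧ b ≠ a, Subgroup.zpowers (x C b)) ≤
      ((K (ht a) h1 ((hd a).1 + 4) (hd a).2 e).comap Om.subtype).map C.r := by
    refine iSup₂_le fun b hb => ?_
    rw [Subgroup.zpowers_le]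
    obtain ⟨k, l, hkl, h2, -, rfl, rfl⟩ := mem_K_of_ne ha hb.1 h1 hb.2.1 hb.2.2
    exact ⟨xm b, h2, rfl⟩
  obtain ⟨m, hm, hm2⟩ := hle hmem
  have h3 : m = xm a := C.inj hm2
  have h4 : en (xO a) ((hd a).1 + 4) (hd a).2 = 0 := by
    rw [h3] at hm
    have h5 : Low (ht a) (xO a) ∧ en (xO a) ((hd a).1 + 4) (hd a).2 = 0 := hm
    exact h5.2
  unfold xO at h4
  rw [en_xb ha2, ent3 _ _ ha2] at h4
  exact absurd h4 (by decide)

theorem dir {a : E} (ha : a ∈ Φ) (h1 : 0 < ht a) :
    Subgroup.zpowers (x C a) ⊓ (⨆ b : E, ⨆ _ : b ∈ Φ ∧ ht a ≤ ht b ∧ b ≠ a, Subgroup.zpowers (x C b)) = ⊥ := by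
  rw [eq_bot_iff]
  intro g hg
  rw [Subgroup.mem_bot]
  rcases mem_zpowers C hg.1 with h | h
  · exact h
  · exact absurd (h ▸ hg.2) (not_mem C ha h1)

/-! ### Orders -/

/-- Adjoining an involution. -/
theorem card_sup [Finite G] {H : Subgroup G} {g : G} (hg : g * g = 1) (hn : ∀ h ∈ H, g * h * g ∈ H) (hgH : g ∉ H) :
    Nat.card (H ⊔ Subgroup.zpowers g : Subgroup G) = 2 * Nat.card H := by
  have ginv : g⁻¹ = g := inv_eq_of_mul_eq_one_left hg
  let K : Subgroup G :=
    { carrier := {a | a ∈ H ∨ g * a ∈ H}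
      one_mem' := Or.inl (one_mem _)
      mul_mem' := by
        rintro a b (ha | ha) (hb | hb)
        · exact Or.inl (mul_mem ha hb)
        · right
          have h1 := mul_mem (hn a ha) hb
          have e : g * a * g * (g * b) = g * (a * b) := by
            calc g * a * g * (g * b) = g * a * (g * g) * b := by group
              _ = g * (a * b) := by rw [hg]; group
          rwa [e] at h1
        · right
          have h1 := mul_mem ha hb
          rwa [mul_assoc] at h1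
        · left
          have h1 := mul_mem (hn _ ha) hb
          have e : g * (g * a) * g * (g * b) = a * b := by
            calc g * (g * a) * g * (g * b) = (g * g) * a * (g * g) * b := by group
              _ = a * b := by rw [hg]; group
          rwa [e] at h1
      inv_mem' := by
        rintro a (ha | ha)
        · exact Or.inl (inv_mem ha)
        · right
          have h1 := hn _ (inv_mem ha)
          have e : g * (g * a)⁻¹ * g = g * a⁻¹ := by
            rw [mul_inv_rev, ginv]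
            calc g * (a⁻¹ * g) * g = g * a⁻¹ * (g * g) := by group
              _ = g * a⁻¹ := by rw [hg]; group
          rwa [e] at h1 }
  have hK : H ⊔ Subgroup.zpowers g = K := by
    apply le_antisymm
    · rw [sup_le_iff, Subgroup.zpowers_le]
      exact ⟨fun a ha => Or.inl ha, Or.inr (by rw [hg]; exact one_mem _)⟩
    · rintro a (ha | ha)
      · exact (le_sup_left : H ≤ H ⊔ Subgroup.zpowers g) ha
      · have e : a = g * (g * a) := by rw [← mul_assoc, hg, one_mul]
        rw [e]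
        exact mul_mem ((le_sup_right : Subgroup.zpowers g ≤ H ⊔ Subgroup.zpowers g) (Subgroup.mem_zpowers g))
          ((le_sup_left : H ≤ H ⊔ Subgroup.zpowers g) ha)
  rw [hK]
  have hHK : H ≤ K := fun a ha => Or.inl ha
  have hidx : (H.subgroupOf K).index = 2 := by
    rw [Subgroup.index_eq_two_iff]
    refine ⟨⟨g, Or.inr (by rw [hg]; exact one_mem _)⟩, fun a => ?_⟩
    rw [Subgroup.mem_subgroupOf, Subgroup.mem_subgroupOf]
    show Xor ((a : G) * g ∈ H) ((a : G) ∈ H)
    rcases a.2 with ha | ha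
    · right
      exact ⟨ha, fun h => hgH ((Subgroup.mul_mem_cancel_left H ha).1 h)⟩
    · left
      have h1 := hn _ ha
      have e : g * (g * (a : G)) * g = a * g := by
        calc g * (g * (a : G)) * g = (g * g) * a * g := by group
          _ = a * g := by rw [hg, one_mul]
      rw [e] at h1
      refine ⟨h1, fun h => hgH ?_⟩
      have h2 := (Subgroup.mul_mem_cancel_right H h).1 ha
      exact h2
  have h1 := Subgroup.card_mul_index (H.subgroupOf K)
  rw [hidx, Nat.card_congr (Subgroup.subgroupOfEquivOfLe hHK).toEquiv] at h1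
  rw [← h1, mul_comm]

/-- The positive roots by decreasing height. -/
def posl : List E :=
  [![1, 1, 0, 0], ![1, 0, 1, 0], ![1, 0, 0, 1], ![1, 0, 0, -1], ![0, 1, 1, 0], ![1, 0, -1, 0], ![0, 1, 0, 1], ![0, 1, 0, -1],
   ![1, -1, 0, 0], ![0, 1, -1, 0], ![0, 0, 1, 1], ![0, 0, 1, -1]]

/-- The sequence of the positive roots. -/
def seq (i : ℕ) : E := posl.getD i 0

theorem seq_mem : ∀ i < 12, seq i ∈ roots := by decide +kernel

theorem seq_ht : ∀ i < 12, ∀ j ≤ i, 0 < 3 * seq i 0 + 2 * seq i 1 + seq i 2 ∧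
    3 * seq i 0 + 2 * seq i 1 + seq i 2 ≤ 3 * seq j 0 + 2 * seq j 1 + seq j 2 := by decide +kernel

theorem seq_ne : ∀ i < 12, ∀ j < i, seq j ≠ seq i := by decide +kernel

theorem seq_surj : ∀ r ∈ roots, 0 < 3 * r 0 + 2 * r 1 + r 2 → ∃ i ∈ Finset.range 12, seq i = r := by decide +kernel

theorem seq_add : ∀ i < 12, ∀ j < i, 0 ≤ ip (seq j) (seq i) ∨
    (ip (seq j) (seq i) = -1 ∧ ∃ k ∈ Finset.range i, seq k = seq j + seq i) := by decide +kernel

/-- The group generated by the first `k` positive root elements. -/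
noncomputable def Us (k : ℕ) : Subgroup G := Cfsg.Agent.Doubling.Growth.W (fun i => Subgroup.zpowers (x C (seq i))) k

theorem Us_succ (k : ℕ) : Us C (k + 1) = Us C k ⊔ Subgroup.zpowers (x C (seq k)) :=
  Cfsg.Agent.Doubling.Growth.W_succ _ k

theorem mem_Us {i k : ℕ} (h : i < k) : x C (seq i) ∈ Us C k :=
  Cfsg.Agent.Doubling.Growth.le_W (fun i => Subgroup.zpowers (x C (seq i))) h (Subgroup.mem_zpowers _)

theorem norm_Us {k : ℕ} (hk : k < 12) : ∀ h ∈ Us C k, x C (seq k) * h * x C (seq k) ∈ Us C k := by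
  have e : Us C k ≤ (Us C k).comap (MulAut.conj (x C (seq k))).toMonoidHom := by
    refine iSup₂_le fun i hi => ?_
    rw [Subgroup.zpowers_le]
    show x C (seq k) * x C (seq i) * (x C (seq k))⁻¹ ∈ Us C k
    rw [inv_eq_of_mul_eq_one_left (x_sq C _)]
    rcases seq_add k hk i hi with h1 | ⟨h1, j, hj, h2⟩
    · rw [← x_comm C (seq_mem i (hi.trans hk)) (seq_mem k hk) h1, mul_assoc, x_sq, mul_one]
      exact mem_Us C hi
    · rw [x_conj C (seq_mem i (hi.trans hk)) (seq_mem k hk) h1, ← h2]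
      exact mul_mem (mem_Us C hi) (mem_Us C (Finset.mem_range.1 hj))
  intro h hh
  have := e hh
  change x C (seq k) * h * (x C (seq k))⁻¹ ∈ Us C k at this
  rwa [inv_eq_of_mul_eq_one_left (x_sq C _)] at this

theorem not_mem_Us {k : ℕ} (hk : k < 12) : x C (seq k) ∉ Us C k := by
  intro h
  have h1 := seq_ht k hk k le_rfl
  refine not_mem C (a := seq k) (seq_mem k hk) h1.1 ?_
  refine (?_ : Us C k ≤ _) h
  refine iSup₂_le fun i hi => ?_
  refine le_iSup₂_of_le (f := fun b (_ : b ∈ Φ ∧ ht (seq k) ≤ ht b ∧ b ≠ seq k) => Subgroup.zpowers (x C b)) (seq i)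
    ⟨seq_mem i (hi.trans hk), (seq_ht k hk i hi.le).2, seq_ne k hk i hi⟩ le_rfl

theorem card_Us [Finite G] : ∀ k ≤ 12, Nat.card (Us C k) = 2 ^ k := by
  intro k
  induction k with
  | zero =>
    intro _
    have : Us C 0 = ⊥ := Cfsg.Agent.Doubling.Growth.W_zero _
    rw [this]
    simp
  | succ k ih =>
    intro hk
    rw [Us_succ, card_sup (x_sq C _) (norm_Us C (Nat.lt_of_succ_le hk)) (not_mem_Us C (Nat.lt_of_succ_le hk)),
      ih (Nat.le_of_succ_le hk), pow_succ]
    ring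

/-- The group generated by the positive root elements. -/
noncomputable abbrev U : Subgroup G := Bridge.pos ht Φ (fun r => Subgroup.zpowers (x C r))

theorem U_eq : U C = Us C 12 := by
  apply le_antisymm
  · refine iSup₂_le fun a ha => ?_
    obtain ⟨i, hi, rfl⟩ := seq_surj a ha.1 ha.2
    rw [Subgroup.zpowers_le]
    exact mem_Us C (Finset.mem_range.1 hi)
  · refine iSup₂_le fun i hi => ?_
    exact Bridge.le_pos (X := fun r => Subgroup.zpowers (x C r)) (seq_mem i hi) (seq_ht i hi i le_rfl).1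

/-- **The order of the group generated by the positive root elements.** -/
theorem card_U [Finite G] : Nat.card (U C) = 2 ^ 12 := by
  rw [U_eq]
  exact card_Us C 12 le_rfl

theorem U_le : U C ≤ C.L := iSup₂_le fun a _ => by
  rw [Subgroup.zpowers_le]
  exact x_mem C a

theorem card_Om : Nat.card Om = 2 ^ 12 * 42525 := by
  obtain ⟨e⟩ := Model.exists_equiv (F := ZMod 2) (ZMod.card 2)
  rw [← Nat.card_congr e.toEquiv]
  have h := Cfsg.Agent.S0293.result (F := ZMod 2) (q := 2) (ZMod.card 2) 4 le_rfl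
  have h1 : Nat.gcd 4 (2 ^ 4 - 1) = 1 := by norm_num
  rw [h1, one_mul] at h
  rw [h]
  simp [Finset.prod_range_succ]

theorem card_L : Nat.card C.L = 2 ^ 12 * 42525 := by
  rw [← card_Om]
  exact (Nat.card_congr (MonoidHom.ofInjective C.inj).toEquiv).symm

theorem t_conj {H : Subgroup G} (hH : H ≤ C.L) : ∀ h ∈ H, C.t * h * C.t ∈ H := fun h hh => by
  obtain ⟨m, rfl⟩ := hH hh
  rw [← (C.comm m).eq, mul_assoc, C.tt, mul_one]
  exact hh

/-- `⟨t⟩ U` is a Sylow subgroup of `⟨t⟩ L`. -/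
theorem odd_relIndex [Finite G] : Odd ((U C ⊔ Subgroup.zpowers C.t).relIndex (C.L ⊔ Subgroup.zpowers C.t)) := by
  have h1 : Nat.card (U C ⊔ Subgroup.zpowers C.t : Subgroup G) = 2 ^ 13 := by
    rw [card_sup C.tt (t_conj C (U_le C)) (fun h => C.t_notMem (U_le C h)), card_U]
    norm_num
  have h2 : Nat.card (C.L ⊔ Subgroup.zpowers C.t : Subgroup G) = 2 ^ 13 * 42525 := by
    rw [card_sup C.tt (t_conj C le_rfl) C.t_notMem, card_L]
    norm_num
  have hle : U C ⊔ Subgroup.zpowers C.t ≤ C.L ⊔ Subgroup.zpowers C.t := sup_le_sup_right (U_le C) _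
  have h3 := Subgroup.card_mul_index ((U C ⊔ Subgroup.zpowers C.t).subgroupOf (C.L ⊔ Subgroup.zpowers C.t))
  rw [Nat.card_congr (Subgroup.subgroupOfEquivOfLe hle).toEquiv, h1, h2] at h3
  have h4 : (U C ⊔ Subgroup.zpowers C.t).relIndex (C.L ⊔ Subgroup.zpowers C.t) = 42525 :=
    Nat.eq_of_mul_eq_mul_left (by norm_num) h3
  rw [h4]
  decide

/-- **The end of the doubling argument** for `L ≅ Ω₈⁺(2)` and `|C(t) : ⟨t⟩ L|` odd. -/
theorem exists_hom [Finite G] {y : E → G} (y_sq : ∀ r ∈ Φ, y r * y r = 1) (ty : ∀ r ∈ Φ, y r * C.t * y r = C.t * x C r)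
    (yC : ∀ r ∈ Φ, ∀ g ∈ C.L, g * x C r = x C r * g → g * y r = y r * g)
    (hodd : Odd ((C.L ⊔ Subgroup.zpowers C.t).relIndex (Subgroup.centralizer {C.t}))) :
    ∃ m : G →* ℤˣ, m C.t = -1 := by
  refine (data C y_sq ty yC).exists_hom D4Root.root ht (fun a ha h1 => dir C ha h1) ?_
  have h1 : C.L ⊔ Subgroup.zpowers C.t ≤ Subgroup.centralizer {C.t} := by
    rw [sup_le_iff, Subgroup.zpowers_le]
    refine ⟨?_, Subgroup.mem_centralizer_singleton_iff.2 rfl⟩
    rintro _ ⟨m, rfl⟩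
    exact Subgroup.mem_centralizer_singleton_iff.2 (C.comm m).eq
  have h2 := Subgroup.relIndex_mul_relIndex (U C ⊔ Subgroup.zpowers C.t) (C.L ⊔ Subgroup.zpowers C.t)
    (Subgroup.centralizer {C.t}) (sup_le_sup_right (U_le C) _) h1
  rw [← h2]
  exact (odd_relIndex C).mul hodd

end Cfsg.Agent.StdO8.Uni
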