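import Cfsg.Agent.StdO8.Triality
import Cfsg.Agent.StdO8.DoubRoot
import Cfsg.Agent.StdO8.Uni

/-!
# Graph automorphisms of `Ω₈⁺(2)` (fact (f8))

An automorphism of `Om` which acts on a standard `2⁶` as an orthogonal transvection is, up to an inner automorphism, the graph
automorphism on all root elements.
-/

set_option autoImplicit false

namespace Cfsg.Agent.StdO8.Graph

open Cfsg.Agent.StdO8.Model (V q B X O8 Om)
open Cfsg.Agent.StdO8.D4Root (E ip roots Φ)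
open Cfsg.Agent.StdO8.Frame (Ctx)
open Cfsg.Agent.StdO8.Bas
open Cfsg.Agent.StdO8.DataOf
open Cfsg.Agent.StdO8.Tri
open Cfsg.Agent.StdO8.DoubRoot (zr rr al ac oj gam)

/-! ### Isometries centralising the standard `2⁶` -/

/-- Linear maps are determined by the basis. -/
theorem ext_bv {g h : V ≃ₗ[ZMod 2] V} (e : ∀ i, g (bv i) = h (bv i)) : g = h := by
  apply th_inj
  intro v
  have e' : ∀ i, th g (Dc.b i) = th h (Dc.b i) := fun i => congrArg toD (e i)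
  rw [dcV_eq v]
  simp only [Tri.th_add, Tri.th_smul, e']

theorem fix_zero {N : V ≃ₗ[ZMod 2] V} (hN : N ∈ O8) (hc : ∀ j, ok 0 j → N * xb 0 j = xb 0 j * N) :
    N (bv 0) = bv 0 ∧ ∀ j, ok 0 j → ∃ c : ZMod 2, N (bv j) = bv j + c • bv 0 := by
  have inj : ∀ {i j : Fin 8}, bv i = bv j → i = j := fun {i j} h => by
    have h1 : Dc.b i = Dc.b j := by rw [← toD_bv, ← toD_bv, h]
    have h2 := congrFun h1 i
    rw [Dc.b_apply, Dc.b_apply, if_pos rfl] at h2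
    by_contra hne
    rw [if_neg hne] at h2
    exact absurd h2 (by decide)
  have hne : ∀ {j : Fin 8}, ok 0 j → bv 0 ≠ bv j := fun {j} h e => h.1 (inj e).symm
  have h1 : ∀ j, ok 0 j → (N (bv 0) = bv 0 ∨ N (bv 0) = bv j ∨ N (bv 0) = bv 0 + bv j) ∧
      (N (bv j) = bv 0 ∨ N (bv j) = bv j ∨ N (bv j) = bv 0 + bv j) := fun j hj =>
    Model.mem_of_commute hN (q_bv 0) (q_bv j) (B_ok hj) (bv_ne 0) (bv_ne j) (hne hj) (hc j hj)
  have o1 : ok 0 1 := by decide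
  have o2 : ok 0 2 := by decide
  have h0 : N (bv 0) = bv 0 := by
    rcases (h1 1 o1).1 with h | h | h
    · exact h
    · rcases (h1 2 o2).1 with h' | h' | h'
      · exact h'
      · exact absurd (inj (h.symm.trans h')) (by decide)
      · have e := congrArg (fun v => B v (bv 5)) (h.symm.trans h')
        simp only [Model.B_add_left, B_bv] at e
        exact absurd e (by decide)
    · rcases (h1 2 o2).1 with h' | h' | h'
      · exact h'
      · have e := congrArg (fun v => B v (bv 6)) (h.symm.trans h')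
        simp only [Model.B_add_left, B_bv] at e
        exact absurd e (by decide)
      · have e := congrArg (fun v => B v (bv 5)) (h.symm.trans h')
        simp only [Model.B_add_left, B_bv] at e
        exact absurd e (by decide)
  refine ⟨h0, fun j hj => ?_⟩
  rcases (h1 j hj).2 with h | h | h
  · exact absurd (N.injective (h0.trans h.symm)) (hne hj)
  · exact ⟨0, by rw [h, zero_smul, add_zero]⟩
  · exact ⟨1, by rw [h, one_smul, add_comm]⟩

theorem two_z (a : ZMod 2) : a + a = 0 := by revert a; decide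

/-- The centraliser of the standard `2⁶`. -/
theorem eq_X {N : V ≃ₗ[ZMod 2] V} (hN : N ∈ O8) (hc : ∀ j, ok 0 j → N * xb 0 j = xb 0 j * N) : ∃ w, N = X (bv 0) w := by
  obtain ⟨h0, h1⟩ := fix_zero hN hc
  set κ := B (N (bv 4)) (bv 4) with hκ
  set w := N (bv 4) + bv 4 + κ • bv 0 with hw
  have e0 : B (N (bv 4)) (bv 0) = 1 := by
    have h2 := Model.O8_B hN (bv 4) (bv 0)
    rw [h0] at h2
    rw [h2, B_bv]; decide
  have w0 : B (bv 0) w = 0 := by
    rw [hw, Model.B_comm, Model.B_add_left, Model.B_add_left, e0, Model.B_smul_left, B_bv, B_bv]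
    simp
    decide
  have w4 : B w (bv 4) = 0 := by
    rw [hw, Model.B_add_left, Model.B_add_left, Model.B_smul_left, Model.B_self, B_bv, ← hκ]
    simp
    exact two_z κ
  have qw : q w = κ := by
    rw [hw, Model.q_add, Model.q_add, Model.O8_q hN, q_bv, Model.B_add_left, Model.B_smul_right, Model.B_smul_right, e0, B_bv, ← hκ]
    have : q (κ • bv 0) = 0 := by
      rcases Model.z2 κ with h | h
      · rw [h, zero_smul, Model.q_zero]
      · rw [h, one_smul, q_bv]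
    rw [this]
    have e : (if (0 : Fin 8) = 4 + 4 then (1 : ZMod 2) else 0) = 1 := by decide
    rw [e]
    simp only [mul_one, add_zero, zero_add]
    rw [two_z, add_zero]
  refine ⟨w, ext_bv fun j => ?_⟩
  rw [Model.X_apply' (q_bv 0) w0, B_bv]
  by_cases hj4 : j = 4
  · rw [hj4, if_pos (show (4 : Fin 8) = 0 + 4 from rfl), one_smul, w4, zero_smul, add_zero, qw, mul_one, hw]
    have h6 : ∀ a b c : V, a = b + (a + b + c) + c := fun a b c => by
      have h7 : b + (a + b + c) + c = a + (b + b) + (c + c) := by abel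
      rw [h7, Model.add_self, Model.add_self, add_zero, add_zero]
    exact h6 _ _ _
  · have hj4' : j ≠ 0 + 4 := hj4
    rw [if_neg hj4', zero_smul, add_zero, mul_zero, zero_smul, add_zero]
    by_cases hj0 : j = 0
    · rw [hj0, h0, Model.B_comm w, w0, zero_smul, add_zero]
    · obtain ⟨c, hcj⟩ := h1 j ⟨hj0, hj4⟩
      rw [hcj]
      congr 2
      have e1 : B (N (bv 4)) (N (bv j)) = 0 := by
        rw [Model.O8_B hN, B_bv, if_neg (by simpa using hj0)]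
      rw [hcj, Model.B_add_right, Model.B_smul_right, e0, mul_one] at e1
      have e2 : B w (bv j) = B (N (bv 4)) (bv j) := by
        rw [hw, Model.B_add_left, Model.B_add_left, Model.B_smul_left, B_bv, B_bv]
        have : ∀ j : Fin 8, j ≠ 0 → j ≠ 4 → ((if j = 4 + 4 then (1 : ZMod 2) else 0) = 0 ∧ (if j = 0 + 4 then (1 : ZMod 2) else 0) = 0) := by
          decide
        rw [(this j hj0 hj4).1, (this j hj0 hj4).2, mul_zero, add_zero, add_zero]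
      rw [e2]
      rcases Model.z2 c with h | h <;> rcases Model.z2 (B (N (bv 4)) (bv j)) with h' | h' <;> rw [h, h'] at e1 <;> rw [h, h']
      · exact absurd e1 (by decide)
      · exact absurd e1 (by decide)

/-! ### The reflection -/

/-- The transposition of two coordinates. -/
def σ : Equiv.Perm (Fin 8) := Equiv.swap 3 7

theorem σ_bar : ∀ i, σ (i + 4) = σ i + 4 := by decide

theorem frame_σ : Dc.Frame σ := ⟨σ_bar⟩

/-- The coordinate permutation. -/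
def sw : V ≃ₗ[ZMod 2] V where
  toFun v := ofD (Dc.P σ (toD v))
  map_add' v w := by rw [toD_add, frame_σ.iso.add, ofD_add]
  map_smul' a v := by rw [toD_smul, frame_σ.iso.smul]; rfl
  invFun v := ofD (Dc.P σ (toD v))
  left_inv v := by
    show ofD (Dc.P σ (toD (ofD (Dc.P σ (toD v))))) = v
    rw [toD_ofD]
    have := Dc.P_symm σ (toD v)
    rw [show σ.symm = σ from rfl] at this
    rw [this, ofD_toD]
  right_inv v := by
    show ofD (Dc.P σ (toD (ofD (Dc.P σ (toD v))))) = v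
    rw [toD_ofD]
    have := Dc.P_symm σ (toD v)
    rw [show σ.symm = σ from rfl] at this
    rw [this, ofD_toD]

theorem sw_apply (v : V) : sw v = ofD (Dc.P σ (toD v)) := rfl

theorem sw_bv (i : Fin 8) : sw (bv i) = bv (σ i) := by
  rw [sw_apply, toD_bv, Dc.P_b]
  rfl

theorem sw_mem : sw ∈ O8 := by
  rw [Model.mem_O8]
  intro v
  rw [sw_apply, ← q_toD, toD_ofD, frame_σ.iso.isom, q_toD]

theorem sw_sq : sw * sw = 1 := by
  ext v : 1
  exact sw.left_inv v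

theorem sw_inv : sw⁻¹ = sw := inv_eq_of_mul_eq_one_left sw_sq

theorem sw_xb (i j : Fin 8) : sw * xb i j * sw = xb (σ i) (σ j) := by
  have h := xb_conj sw_mem i j
  rw [sw_inv, sw_bv, sw_bv] at h
  exact h

theorem gam_hd : ∀ s ∈ roots, gam 1 2 s = wt (σ (hd s).1) + wt (σ (hd s).2) ∧ ok (σ (hd s).1) (σ (hd s).2) := by
  decide +kernel

theorem sw_xO {s : E} (hs : s ∈ Φ) : sw * xO s * sw = xO (gam 1 2 s) := by
  obtain ⟨h1, h2⟩ := gam_hd s hs
  rw [h1, xO_wt h2]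
  exact sw_xb _ _

/-! ### The case of the first `2⁶` -/

/-- the hypotheses on an automorphism -/
structure RA (α : MulAut Om) (i : Fin 3) : Prop where
  z : α (xm zr) = xm zr
  w : α (xm (al i)) = xm (al i)
  r : α (xm rr) = xm rr
  a : α (xm (rr - al (oj i))) = xm (rr - al (DoubRoot.ok i))
  b : α (xm (rr - al (DoubRoot.ok i))) = xm (rr - al (oj i))
  c : α (xm (rr - al (oj i) - al (DoubRoot.ok i))) = xm (rr - al (oj i) - al (DoubRoot.ok i))

theorem r0 : zr = wt 0 + wt 1 ∧ al 0 = wt 0 + wt 5 ∧ rr = wt 0 + wt 2 ∧ rr - al (oj 0) = wt 0 + wt 3 ∧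
    rr - al (DoubRoot.ok 0) = wt 0 + wt 7 ∧ rr - al (oj 0) - al (DoubRoot.ok 0) = wt 0 + wt 6 := by decide +kernel

theorem xm_wt {i j : Fin 8} (h : ok i j) : ((xm (wt i + wt j) : Om) : V ≃ₗ[ZMod 2] V) = xb i j := xO_wt h

theorem main_zero {α : MulAut Om} (h : RA α 0) : ∃ m : Om, ∀ s ∈ Φ, α (m * xm s * m⁻¹) = xm (gam 1 2 s) := by
  obtain ⟨e1, e2, e3, e4, e5, e6⟩ := r0
  have hz := h.z
  have hw := h.w
  have hr := h.r
  have ha := h.a
  have hb := h.b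
  have hc := h.c
  rw [e1] at hz
  rw [e2] at hw
  rw [e6] at hc
  rw [e4, e5] at ha hb
  rw [e3] at hr
  have o1 : ok 0 1 := by decide
  have o5 : ok 0 5 := by decide
  have o2 : ok 0 2 := by decide
  have o6 : ok 0 6 := by decide
  have o3 : ok 0 3 := by decide
  have o7 : ok 0 7 := by decide
  have hc2 : Cfsg.Agent.StdO8.Aut.IsC2 ((xm (wt 0 + wt 1) * xm (wt 0 + wt 5) : Om) : V ≃ₗ[ZMod 2] V) := by
    refine ⟨bv 0, bv 1 + bv 5, q_bv 0, bv_ne 0, ?_, ?_, ?_⟩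
    · rw [Model.B_add_right, B_ok o1, B_ok o5, add_zero]
    · rw [Model.q_add, q_bv, q_bv, B_bv, if_pos (by decide), zero_add, zero_add]
    · show xO (wt 0 + wt 1) * xO (wt 0 + wt 5) = _
      rw [xO_wt o1, xO_wt o5, xb_mul o1 o5]
  obtain ⟨M, hM⟩ := Cfsg.Agent.StdO8.Aut.mem_range_of_c2 (α := α) hc2 (by rw [map_mul, hz, hw]; exact hc2)
  have cM : ∀ i j i' j' : Fin 8, ok i j → ok i' j' → α (xm (wt i + wt j)) = xm (wt i' + wt j') →
      (M : V ≃ₗ[ZMod 2] V) * xb i j = xb i' j' * (M : V ≃ₗ[ZMod 2] V) := by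
    intro i j i' j' h1 h2 h3
    rw [← hM] at h3
    have h4 := congrArg Subtype.val h3
    rw [Cfsg.Agent.StdO8.Aut.cj_coe, xm_wt h1, xm_wt h2, mul_inv_eq_iff_eq_mul] at h4
    exact h4
  have k1 := cM 0 1 0 1 o1 o1 hz
  have k5 := cM 0 5 0 5 o5 o5 hw
  have k2 := cM 0 2 0 2 o2 o2 hr
  have k6 := cM 0 6 0 6 o6 o6 hc
  have k3 := cM 0 3 0 7 o3 o7 ha
  have k7 := cM 0 7 0 3 o7 o3 hb
  set N : V ≃ₗ[ZMod 2] V := (M : V ≃ₗ[ZMod 2] V) * sw with hN
  have hNO : N ∈ O8 := mul_mem M.2 sw_mem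
  have cs : ∀ i j i' j' : Fin 8, σ i = i' → σ j = j' → sw * xb i j = xb i' j' * sw := by
    rintro i j _ _ rfl rfl
    rw [← sw_xb, mul_assoc (sw * xb i j), sw_sq, mul_one]
  have hNc : ∀ j, ok 0 j → N * xb 0 j = xb 0 j * N := by
    intro j hj
    have hcases : ∀ j : Fin 8, ok 0 j → j = 1 ∨ j = 5 ∨ j = 2 ∨ j = 6 ∨ j = 3 ∨ j = 7 := by decide
    rcases hcases j hj with rfl | rfl | rfl | rfl | rfl | rfl
    · rw [hN, mul_assoc, cs 0 1 0 1 (by decide) (by decide), ← mul_assoc, k1, mul_assoc]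
    · rw [hN, mul_assoc, cs 0 5 0 5 (by decide) (by decide), ← mul_assoc, k5, mul_assoc]
    · rw [hN, mul_assoc, cs 0 2 0 2 (by decide) (by decide), ← mul_assoc, k2, mul_assoc]
    · rw [hN, mul_assoc, cs 0 6 0 6 (by decide) (by decide), ← mul_assoc, k6, mul_assoc]
    · rw [hN, mul_assoc, cs 0 3 0 7 (by decide) (by decide), ← mul_assoc, k7, mul_assoc]
    · rw [hN, mul_assoc, cs 0 7 0 3 (by decide) (by decide), ← mul_assoc, k3, mul_assoc]
  obtain ⟨w, hw⟩ := eq_X hNO hNc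
  let n : Om := ⟨X (bv 0) w, Model.X_mem _ _⟩
  have hMn : (M : V ≃ₗ[ZMod 2] V) = (n : V ≃ₗ[ZMod 2] V) * sw := by
    show (M : V ≃ₗ[ZMod 2] V) = X (bv 0) w * sw
    rw [← hw, hN, mul_assoc, sw_sq, mul_one]
  refine ⟨Cfsg.Agent.StdO8.Aut.cj ⟨sw, sw_mem⟩ n⁻¹, fun s hs => ?_⟩
  rw [← hM]
  apply Subtype.ext
  rw [Cfsg.Agent.StdO8.Aut.cj_coe, hMn]
  show (n : V ≃ₗ[ZMod 2] V) * sw * ((sw * (n : V ≃ₗ[ZMod 2] V)⁻¹ * sw⁻¹) * xO s * (sw * (n : V ≃ₗ[ZMod 2] V)⁻¹ * sw⁻¹)⁻¹) *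
    ((n : V ≃ₗ[ZMod 2] V) * sw)⁻¹ = xO (gam 1 2 s)
  have h1 := sw_xO hs
  have h2 : (n : V ≃ₗ[ZMod 2] V) * sw * ((sw * (n : V ≃ₗ[ZMod 2] V)⁻¹ * sw⁻¹) * xO s * (sw * (n : V ≃ₗ[ZMod 2] V)⁻¹ * sw⁻¹)⁻¹) *
    ((n : V ≃ₗ[ZMod 2] V) * sw)⁻¹ = (n : V ≃ₗ[ZMod 2] V) * (sw * sw) * (n : V ≃ₗ[ZMod 2] V)⁻¹ * (sw⁻¹ * xO s * sw) * 
      ((n : V ≃ₗ[ZMod 2] V) * (sw * sw)⁻¹ * (n : V ≃ₗ[ZMod 2] V)⁻¹) := by
    group
  rw [h2, sw_inv, h1, sw_sq]
  group

/-! ### The general case -/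

theorem mem_all : zr ∈ roots ∧ rr ∈ roots ∧ (∀ i : Fin 3, al i ∈ roots ∧ rr - al (oj i) ∈ roots ∧ rr - al (DoubRoot.ok i) ∈ roots ∧
    rr - al (oj i) - al (DoubRoot.ok i) ∈ roots) := by decide +kernel

theorem rho_all : rho zr = zr ∧ rho rr = rr ∧ rho (al 0) = al 1 ∧ rho (rr - al (oj 0)) = rr - al (DoubRoot.ok 1) ∧
    rho (rr - al (DoubRoot.ok 0)) = rr - al (oj 1) ∧
    rho (rr - al (oj 0) - al (DoubRoot.ok 0)) = rr - al (oj 1) - al (DoubRoot.ok 1) := by decide +kernel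

theorem rhoi_all : rhoi zr = zr ∧ rhoi rr = rr ∧ rhoi (al 0) = al 2 ∧ rhoi (rr - al (oj 0)) = rr - al (oj 2) ∧
    rhoi (rr - al (DoubRoot.ok 0)) = rr - al (DoubRoot.ok 2) ∧
    rhoi (rr - al (oj 0) - al (DoubRoot.ok 0)) = rr - al (oj 2) - al (DoubRoot.ok 2) := by decide +kernel

theorem gam_rho : ∀ s ∈ roots, gam 1 2 s ∈ roots ∧ rho (gam 1 2 s) = gam (oj 1) (DoubRoot.ok 1) (rho s) ∧
    rhoi (gam 1 2 s) = gam (oj 2) (DoubRoot.ok 2) (rhoi s) := by decide +kernel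

/-- Transport of `main_zero`. -/
theorem transport {α γ : MulAut Om} {i : Fin 3} {f f' : E → E} (hγ : ∀ s ∈ Φ, γ (xm s) = xm (f s))
    (hf : ∀ s ∈ Φ, f s ∈ Φ ∧ f' s ∈ Φ ∧ f (f' s) = s)
    (hg : ∀ s ∈ Φ, f (gam 1 2 s) = gam (oj i) (DoubRoot.ok i) (f s)) (h : RA (γ⁻¹ * α * γ) 0) :
    ∃ m : Om, ∀ s ∈ Φ, α (m * xm s * m⁻¹) = xm (gam (oj i) (DoubRoot.ok i) s) := by
  obtain ⟨m, hm⟩ := main_zero h
  refine ⟨γ m, fun s hs => ?_⟩
  obtain ⟨h1, h2, h3⟩ := hf s hs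
  have h4 := hm (f' s) h2
  have h5 : (γ⁻¹ * α * γ) (m * xm (f' s) * m⁻¹) = γ.symm (α (γ (m * xm (f' s) * m⁻¹))) := rfl
  have h6 : γ (m * xm (f' s) * m⁻¹) = γ m * xm s * (γ m)⁻¹ := by
    rw [map_mul, map_mul, map_inv, hγ _ h2, h3]
  rw [h5, MulEquiv.symm_apply_eq, hγ _ (gam_rho _ h2).1, hg _ h2, h3, h6] at h4
  exact h4

theorem main {α : MulAut Om} {i : Fin 3} (h : RA α i) :
    ∃ m : Om, ∀ s ∈ Φ, α (m * xm s * m⁻¹) = xm (gam (oj i) (DoubRoot.ok i) s) := by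
  obtain ⟨mz, mr, mi⟩ := mem_all
  have key : ∀ (γ : MulAut Om) (f : E → E), (∀ s ∈ Φ, γ (xm s) = xm (f s)) → ∀ s ∈ Φ, ∀ s' ∈ Φ,
      α (xm (f s)) = xm (f s') → (γ⁻¹ * α * γ) (xm s) = xm s' := by
    intro γ f hγ s hs s' hs' h1
    show γ.symm (α (γ (xm s))) = xm s'
    rw [MulEquiv.symm_apply_eq, hγ s hs, hγ s' hs', h1]
  have hi : ∀ i : Fin 3, i = 0 ∨ i = 1 ∨ i = 2 := by decide
  rcases hi i with rfl | rfl | rfl
  · exact main_zero h
  · obtain ⟨r1, r2, r3, r4, r5, r6⟩ := rho_all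
    have k := key tri rho (fun s hs => tri_xm hs)
    refine transport (γ := tri) (f := rho) (f' := rhoi) (fun s hs => tri_xm hs)
      (fun s hs => ⟨(rho_mem s hs).1, (rho_mem s hs).2.1, (rho_mem s hs).2.2.1⟩) (fun s hs => (gam_rho s hs).2.1) ?_
    exact ⟨k zr mz zr mz (by rw [r1]; exact h.z), k _ (mi 0).1 _ (mi 0).1 (by rw [r3]; exact h.w),
      k rr mr rr mr (by rw [r2]; exact h.r), k _ (mi 0).2.1 _ (mi 0).2.2.1 (by rw [r4, r5]; exact h.b),
      k _ (mi 0).2.2.1 _ (mi 0).2.1 (by rw [r4, r5]; exact h.a),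
      k _ (mi 0).2.2.2 _ (mi 0).2.2.2 (by rw [r6]; exact h.c)⟩
  · obtain ⟨r1, r2, r3, r4, r5, r6⟩ := rhoi_all
    have k := key tri.symm rhoi (fun s hs => tri_symm_xm hs)
    refine transport (γ := tri.symm) (f := rhoi) (f' := rho) (fun s hs => tri_symm_xm hs)
      (fun s hs => ⟨(rho_mem s hs).2.1, (rho_mem s hs).1, (rho_mem s hs).2.2.2.1⟩) (fun s hs => (gam_rho s hs).2.2) ?_
    exact ⟨k zr mz zr mz (by rw [r1]; exact h.z), k _ (mi 0).1 _ (mi 0).1 (by rw [r3]; exact h.w),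
      k rr mr rr mr (by rw [r2]; exact h.r), k _ (mi 0).2.1 _ (mi 0).2.2.1 (by rw [r4, r5]; exact h.a),
      k _ (mi 0).2.2.1 _ (mi 0).2.1 (by rw [r4, r5]; exact h.b),
      k _ (mi 0).2.2.2 _ (mi 0).2.2.2 (by rw [r6]; exact h.c)⟩

variable {G : Type*} [Group G] (C : Ctx G)

/-- **(f8)** -/
theorem f8 (i : Fin 3) (v : G) (h : DoubRefl.Fr.Refl C.t (x C zr) (DoubRoot.ta (x C) i) (x C rr) (x C (rr - al (oj i)))
    (x C (rr - al (DoubRoot.ok i))) (x C (rr - al (oj i) - al (DoubRoot.ok i))) v) :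
    ∃ v', DoubRoot.Graph C.t (x C) (oj i) (DoubRoot.ok i) v' := by
  have hvt : Commute v C.t := by
    have h1 := h.vt
    unfold DoubRefl.cj at h1
    rw [mul_inv_eq_iff_eq_mul] at h1
    exact h1
  obtain ⟨α, hα⟩ := C.norm v hvt
  have key : ∀ s s' : E, DoubRefl.cj v (x C s) = x C s' → α (xm s) = xm s' := by
    intro s s' h1
    apply C.inj
    rw [← hα]
    exact h1
  have hR : RA α i := ⟨key _ _ h.vz, key _ _ h.vw, key _ _ h.vr, key _ _ h.va, key _ _ h.vb, key _ _ h.vc⟩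
  obtain ⟨m, hm⟩ := main hR
  refine ⟨v * C.r m, ⟨?_, fun s hs => ?_⟩⟩
  · exact (hvt.mul_left (C.comm m)).eq
  · have h1 := hm s hs
    have h2 : v * C.r m * x C s * (v * C.r m)⁻¹ = v * C.r (m * xm s * m⁻¹) * v⁻¹ := by
      rw [map_mul, map_mul, map_inv]
      show v * C.r m * C.r (xm s) * (v * C.r m)⁻¹ = v * (C.r m * C.r (xm s) * (C.r m)⁻¹) * v⁻¹
      group
    rw [h2, hα, h1]
    rfl

/-- **The first eight fields of `Rel.Data`.** -/
theorem xd : DoubRoot.XD C.t C.L (x C) where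
  tt := C.tt
  tL := by
    rintro _ ⟨m, rfl⟩
    exact (C.comm m).eq.symm
  t_notMem := C.t_notMem
  xL := fun r _ => x_mem C r
  x_ne := fun r hr => x_ne C hr
  x_sq := fun r _ => x_sq C r
  x_comm := fun r hr s hs h => x_comm C hr hs h
  x_conj := fun r hr s hs h => x_conj C hr hs h

/-- The graph automorphisms exist in `MulAut Om`. -/
theorem exists_graph (i : Fin 3) : ∃ γ : MulAut Om, ∀ s ∈ Φ, γ (xm s) = xm (gam (oj i) (DoubRoot.ok i) s) := by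
  have h0 : ∀ s ∈ Φ, Cfsg.Agent.StdO8.Aut.cj ⟨sw, sw_mem⟩ (xm s) = xm (gam 1 2 s) := fun s hs => by
    apply Subtype.ext
    rw [Cfsg.Agent.StdO8.Aut.cj_coe]
    show sw * xO s * sw⁻¹ = xO (gam 1 2 s)
    rw [sw_inv, sw_xO hs]
  have hi : i = 0 ∨ i = 1 ∨ i = 2 := by revert i; decide
  rcases hi with rfl | rfl | rfl
  · exact ⟨_, h0⟩
  · refine ⟨tri * Cfsg.Agent.StdO8.Aut.cj ⟨sw, sw_mem⟩ * tri.symm, fun s hs => ?_⟩
    obtain ⟨h1, h2, h3, h4, h5⟩ := rho_mem s hs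
    show tri (Cfsg.Agent.StdO8.Aut.cj ⟨sw, sw_mem⟩ (tri.symm (xm s))) = _
    rw [tri_symm_xm hs, h0 _ h2, tri_xm (gam_rho _ h2).1, (gam_rho _ h2).2.1, h3]
  · refine ⟨tri.symm * Cfsg.Agent.StdO8.Aut.cj ⟨sw, sw_mem⟩ * tri, fun s hs => ?_⟩
    obtain ⟨h1, h2, h3, h4, h5⟩ := rho_mem s hs
    show tri.symm (Cfsg.Agent.StdO8.Aut.cj ⟨sw, sw_mem⟩ (tri (xm s))) = _
    rw [tri_xm hs, h0 _ h1, tri_symm_xm (gam_rho _ h1).1, (gam_rho _ h1).2.2, h4]

end Cfsg.Agent.StdO8.Graph
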