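import Cfsg.Agent.StdO8.FactG
import Cfsg.Agent.StdO8.Graph
import Cfsg.Agent.ClassicalGeometry.WittQuad

/-!
# Involutions of `O₈⁺(2)` outside `Ω₈⁺(2)`

Every involution `M ∈ O8 ∖ Om` is conjugate under `Om` to the reflection `sw` or to `sw * xb 0 1` (`lin`).
-/

set_option autoImplicit false

namespace Cfsg.Agent.StdO8.EvenLin

open Cfsg.Agent.StdO8.Model Cfsg.Agent.StdO8.Bas Cfsg.Agent.StdO8.Graph
open Cfsg.Agent.ClassicalGeometry.OrthAut1 (TS)
open Cfsg.Agent.LieClassical.OrthCore (refl refl_apply refl_mem_O refl_mul_self refl_inv refl_conj)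

/-! ### The reflection -/

theorem q37 : q (bv 3 + bv 7) ≠ 0 := by
  rw [q_add, q_bv, q_bv, B_bv]
  decide

theorem refl_eq {n : V} (hn : q n ≠ 0) (v : V) : refl q n hn v = v + B n v • n := by
  rw [refl_apply, sub_eq, (z2 (q n)).resolve_left hn, inv_one, one_mul]

theorem sw_eq : sw = refl q (bv 3 + bv 7) q37 := by
  apply ext_bv
  intro i
  rw [sw_bv, refl_eq, B_add_left, B_bv, B_bv]
  have h : i = 3 ∨ i = 7 ∨ (σ i = i ∧ ¬ i = 3 + 4 ∧ ¬ i = 7 + 4) := by revert i; decide
  rcases h with rfl | rfl | ⟨h1, h2, h3⟩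
  · have e1 : σ 3 = 7 := by decide
    have e2 : ¬ ((3 : Fin 8) = 3 + 4) := by decide
    have e3 : (3 : Fin 8) = 7 + 4 := by decide
    rw [e1, if_neg e2, if_pos e3, zero_add, one_smul, ← add_assoc, add_self, zero_add]
  · have e1 : σ 7 = 3 := by decide
    have e2 : (7 : Fin 8) = 3 + 4 := by decide
    have e3 : ¬ ((7 : Fin 8) = 7 + 4) := by decide
    rw [e1, if_pos e2, if_neg e3, add_zero, one_smul, add_comm (bv 3), ← add_assoc, add_self, zero_add]
  · rw [h1, if_neg h2, if_neg h3, add_zero, zero_smul, add_zero]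

theorem sw_notMem : sw ∉ Om := by
  rw [sw_eq]
  exact Gen.refl_notMem _ _

theorem mem_or {M : V ≃ₗ[ZMod 2] V} (hM : M ∈ O8) : M ∈ Om ∨ M * sw ∈ Om := by
  rcases FactG.mem_or hM with h | h
  · exact Or.inl h
  · right
    have h1 : FactG.rh * sw ∈ Om := by
      rw [sw_eq]
      have e1 : q (Code.dec 136) = 1 := (z2 _).resolve_left Gen.q136
      have e2 : q (bv 3 + bv 7) = 1 := (z2 _).resolve_left q37
      exact good.refl_mul_refl_mem q37 Gen.q136 (e2.trans e1.symm)
    have e : M * sw = M * FactG.rh * (FactG.rh * sw) := by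
      calc M * sw = M * 1 * sw := by group
        _ = M * (FactG.rh * FactG.rh) * sw := by rw [FactG.rh_mul]
        _ = _ := by group
    rw [e]
    exact mul_mem h h1

/-! ### Totally singular involutions -/

/-- `v ↦ M v + v` -/
def N (M : V ≃ₗ[ZMod 2] V) (v : V) : V := M v + v

theorem N_add (M : V ≃ₗ[ZMod 2] V) (v w : V) : N M (v + w) = N M v + N M w := by
  unfold N
  rw [map_add]; abel

theorem N_smul (M : V ≃ₗ[ZMod 2] V) (a : ZMod 2) (v : V) : N M (a • v) = a • N M v := by
  unfold N
  rw [map_smul, smul_add]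

theorem app (M : V ≃ₗ[ZMod 2] V) (v : V) : M v = v + N M v := by
  unfold N
  rw [add_comm (M v), ← add_assoc, add_self, zero_add]

theorem N_eq_zero {M : V ≃ₗ[ZMod 2] V} {v : V} : N M v = 0 ↔ M v = v :=
  ⟨fun h => by rw [app, h, add_zero], fun h => by unfold N; rw [h, add_self]⟩

theorem zz (a : ZMod 2) : a + a = 0 := by revert a; decide

/-- If the image of `N` is totally isotropic, `N` is self adjoint. -/
theorem symm_of {M : V ≃ₗ[ZMod 2] V} (hM : M ∈ O8) (h : ∀ v w, B (N M v) (N M w) = 0) (v w : V) :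
    B v (N M w) = B (N M v) w := by
  have e := O8_B hM v w
  rw [app, app M w, B_add_left, B_add_right, B_add_right, h, add_zero] at e
  have e2 : B v (N M w) + B (N M v) w = 0 := by
    have h3 : B v w + B v (N M w) + B (N M v) w + B v w = B v w + B v w := by rw [e]
    rw [zz] at h3
    have h4 : B v w + B v (N M w) + B (N M v) w + B v w = (B v w + B v w) + (B v (N M w) + B (N M v) w) := by ring
    rw [h4, zz, zero_add] at h3
    exact h3
  have h5 : ∀ a b : ZMod 2, a + b = 0 → a = b := by decide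
  exact h5 _ _ e2

/-- The image of `N` is totally singular. -/
def TSI (M : V ≃ₗ[ZMod 2] V) : Prop := ∀ v, q (N M v) = 0

theorem TSI.isot {M : V ≃ₗ[ZMod 2] V} (h : TSI M) (v w : V) : B (N M v) (N M w) = 0 := by
  have h1 := h (v + w)
  rw [N_add, q_add, h, h, zero_add, zero_add] at h1
  exact h1

theorem TSI.alt {M : V ≃ₗ[ZMod 2] V} (hM : M ∈ O8) (h : TSI M) (v : V) : B (N M v) v = 0 := by
  have e := O8_q hM v
  rw [app, q_add, h, add_zero] at e
  rw [B_comm]
  have h5 : ∀ a b : ZMod 2, a + b = a → b = 0 := by decide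
  exact h5 _ _ e

theorem exists_one {u : V} (hu : u ≠ 0) : ∃ v, B u v = 1 := by
  by_contra hcon
  push Not at hcon
  exact hu (Model.nondeg fun v => (z2 _).resolve_right (hcon v))

/-- `N` of a product with a root element. -/
theorem N_X {M : V ≃ₗ[ZMod 2] V} (hM : M ∈ O8) {a b : V} (ha : q a = 0) (hab : B a b = 0) (hMa : M a = a)
    (hMb : M b = b) (v : V) : N (X a b * M) v = N M v + B a v • b + B b v • a + (q b * B a v) • a := by
  have e1 : B a (M v) = B a v := by
    have := O8_B hM a v
    rwa [hMa] at this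
  have e2 : B b (M v) = B b v := by
    have := O8_B hM b v
    rwa [hMb] at this
  show X a b (M v) + v = _
  rw [X_apply' ha hab, e1, e2]
  unfold N
  abel

theorem mem_Om_of_TSI (k : ℕ) : ∀ M : V ≃ₗ[ZMod 2] V, M ∈ O8 → TSI M → ({v | M v ≠ v} : Set V).ncard ≤ k → M ∈ Om := by
  induction k with
  | zero =>
    intro M hM h hk
    have h1 : ({v | M v ≠ v} : Set V) = ∅ := by
      rw [← Set.ncard_eq_zero (Set.toFinite _)]
      omega
    have h2 : M = 1 := by
      ext v : 1
      by_contra hne
      have h3 : v ∈ ({v | M v ≠ v} : Set V) := hne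
      rw [h1] at h3
      exact h3
    rw [h2]
    exact one_mem _
  | succ k ih =>
    intro M hM h hk
    by_cases h1 : ∀ v, N M v = 0
    · have h2 : M = 1 := by
        ext v : 1
        exact N_eq_zero.1 (h1 v)
      rw [h2]
      exact one_mem _
    push Not at h1
    obtain ⟨v0, hv0⟩ := h1
    obtain ⟨w0, hw0⟩ := exists_one hv0
    have hs := symm_of hM h.isot
    have fixN : ∀ v, M (N M v) = N M v := fun v => by
      rw [← N_eq_zero]
      refine Model.nondeg fun w => ?_
      rw [← hs, h.isot]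
    have hB : B (N M w0) v0 = 1 := by rw [B_comm, hs, hw0]
    have hN := N_X hM (h v0) (h.isot v0 w0) (fixN v0) (fixN w0)
    have hN' : ∀ v, N (X (N M v0) (N M w0) * M) v = N M v + B (N M v0) v • N M w0 + B (N M w0) v • N M v0 := fun v => by
      rw [hN, h w0, zero_mul, zero_smul, add_zero]
    have hle : ∀ v, M v = v → (X (N M v0) (N M w0) * M) v = v := fun v hv => by
      rw [← N_eq_zero, hN', N_eq_zero.2 hv, ← hs, ← hs, N_eq_zero.2 hv, B_zero_right, B_zero_right, zero_smul, zero_smul,
        add_zero, add_zero]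
    have hR : X (N M v0) (N M w0) * M ∈ Om := by
      refine ih _ (mul_mem (X_mem_O8 _ _) hM) (fun v => ?_) ?_
      · rw [hN', ← N_smul, ← N_smul, ← N_add, ← N_add]
        exact h _
      · have hlt : ({v | (X (N M v0) (N M w0) * M) v ≠ v} : Set V).ncard < ({v | M v ≠ v} : Set V).ncard := by
          refine Set.ncard_lt_ncard ?_ (Set.toFinite _)
          have hsub : ({v | (X (N M v0) (N M w0) * M) v ≠ v} : Set V) ⊆ {v | M v ≠ v} := by
            intro v hv
            have hv1 : (X (N M v0) (N M w0) * M) v ≠ v := hv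
            show M v ≠ v
            exact fun hv2 => hv1 (hle v hv2)
          rw [Set.ssubset_iff_of_subset hsub]
          refine ⟨v0, fun h2 => hv0 (N_eq_zero.2 h2), fun h2 => ?_⟩
          have h2' : (X (N M v0) (N M w0) * M) v0 ≠ v0 := h2
          apply h2'
          rw [← N_eq_zero, hN', h.alt hM, hB, zero_smul, add_zero, one_smul, add_self]
        omega
    have e : M = X (N M v0) (N M w0) * (X (N M v0) (N M w0) * M) := by
      rw [← mul_assoc, X_mul_self, one_mul]
    rw [e]
    exact mul_mem (X_mem _ _) hR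

theorem TSI.mem_Om {M : V ≃ₗ[ZMod 2] V} (hM : M ∈ O8) (h : TSI M) : M ∈ Om := mem_Om_of_TSI _ M hM h le_rfl

theorem q_smul (a : ZMod 2) (w : V) : q (a • w) = a * q w := by
  rcases z2 a with h | h
  · rw [h, zero_smul, q_zero, zero_mul]
  · rw [h, one_smul, one_mul]

theorem q_comb {x y z : V} {a : ZMod 2} (hx : q x = a) (hy : q y = 1) (hz : q z = 0) (hxy : B x y = 0) (hxz : B x z = 0)
    (hyz : B y z = 0) (b : ZMod 2) : q (x + a • y + b • z + a • z) = 0 := by
  have h1 : B (x + a • y + b • z) (a • z) = 0 := by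
    rw [B_smul_right, B_add_left, B_add_left, B_smul_left, B_smul_left, hxz, hyz, B_self]
    ring
  have h2 : B (x + a • y) (b • z) = 0 := by
    rw [B_smul_right, B_add_left, B_smul_left, hxz, hyz]
    ring
  have h3 : B x (a • y) = 0 := by rw [B_smul_right, hxy, mul_zero]
  rw [q_add, h1, q_add, h2, q_add, h3, q_smul, q_smul, q_smul, hx, hy, hz]
  have : ∀ a b : ZMod 2, a + a * 1 + 0 + b * 0 + 0 + a * 0 + 0 = 0 := by decide
  exact this a b

/-! ### Involutions -/

/-- Every linear functional is given by a vector. -/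
theorem exists_vec (f : V →ₗ[ZMod 2] ZMod 2) : ∃ n, ∀ v, f v = B n v := by
  have hnd : (QuadraticMap.polarBilin q).Nondegenerate := by
    refine ⟨fun a ha => good.nondeg a ha, fun a ha => good.nondeg a fun b => ?_⟩
    rw [QuadraticMap.polar_comm]
    exact ha b
  refine ⟨(LinearMap.BilinForm.toDual (QuadraticMap.polarBilin q) hnd).symm f, fun v => ?_⟩
  have := LinearMap.BilinForm.apply_toDual_symm_apply (B := QuadraticMap.polarBilin q) (hB := hnd) f v
  exact this.symm

/-- The data of an involution. -/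
structure Inv (M : V ≃ₗ[ZMod 2] V) (n : V) : Prop where
  mem : M ∈ O8
  isot : ∀ v w, B (N M v) (N M w) = 0
  vec : ∀ v, q (N M v) = B n v

theorem exists_inv {M : V ≃ₗ[ZMod 2] V} (hM : M ∈ O8) (h2 : M * M = 1) : ∃ n, Inv M n := by
  have hMM : ∀ v, M (M v) = v := fun v => by
    show (M * M) v = v
    rw [h2]; rfl
  have hB : ∀ v w, B (M v) w = B v (M w) := fun v w => by
    rw [← O8_B hM v (M w), hMM]
  have hi : ∀ v w, B (N M v) (N M w) = 0 := fun v w => by
    unfold N
    rw [B_add_left, B_add_right, B_add_right, O8_B hM, hB]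
    have h5 : ∀ a b : ZMod 2, a + b + (b + a) = 0 := by decide
    exact h5 _ _
  let f : V →ₗ[ZMod 2] ZMod 2 :=
    { toFun := fun v => q (N M v)
      map_add' := fun v w => by rw [N_add, q_add, hi, add_zero]
      map_smul' := fun a v => by
        rw [N_smul]
        rcases z2 a with h | h
        · rw [h, zero_smul, q_zero, map_zero, zero_smul]
        · rw [h, one_smul, map_one, one_smul] }
  obtain ⟨n, hn⟩ := exists_vec f
  exact ⟨n, hM, hi, hn⟩

namespace Inv

variable {M : V ≃ₗ[ZMod 2] V} {n : V}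

theorem symm (h : Inv M n) (v w : V) : B v (N M w) = B (N M v) w := symm_of h.mem h.isot v w

theorem NN (h : Inv M n) (v : V) : N M (N M v) = 0 := by
  refine Model.nondeg fun w => ?_
  rw [← h.symm, h.isot]

theorem Nn (h : Inv M n) : N M n = 0 := by
  refine Model.nondeg fun w => ?_
  rw [← h.symm, ← h.vec, h.NN, q_zero]

theorem fix (h : Inv M n) : M n = n := N_eq_zero.1 h.Nn

/-- The characteristic vector is nonsingular. -/
theorem qn (h : Inv M n) (hn : M ∉ Om) : q n = 1 := by
  refine (z2 _).resolve_left fun hq => hn ?_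
  by_cases h0 : n = 0
  · refine TSI.mem_Om h.mem fun v => ?_
    rw [h.vec, h0, B_zero_left]
  obtain ⟨v0, hv0⟩ := exists_one h0
  have hnn : B n (N M v0) = 0 := by rw [h.symm, h.Nn, B_zero_left]
  have hN := N_X h.mem hq hnn h.fix (N_eq_zero.1 (h.NN v0))
  have hq0 : q (N M v0) = 1 := by rw [h.vec, hv0]
  have hR : X n (N M v0) * M ∈ Om := by
    refine TSI.mem_Om (mul_mem (X_mem_O8 _ _) h.mem) fun v => ?_
    rw [hN, hq0, one_mul]
    have hvn : B (N M v) n = 0 := by rw [← h.symm, h.Nn, B_zero_right]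
    have hv0 : B (N M v) (N M v0) = 0 := h.isot v v0
    have hnn' : B (N M v0) n = 0 := by rw [B_comm]; exact hnn
    have hvv : q (N M v) = B n v := h.vec v
    exact q_comb hvv hq0 hq hv0 hvn hnn' _
  have e : M = X n (N M v0) * (X n (N M v0) * M) := by rw [← mul_assoc, X_mul_self, one_mul]
  rw [e]
  exact mul_mem (X_mem _ _) hR

end Inv

/-! ### Witt -/

theorem exists_isometry {k : ℕ} {x y : Fin k → V} (hx : LinearIndependent (ZMod 2) x) (hy : LinearIndependent (ZMod 2) y)
    (hq : ∀ i, q (x i) = q (y i)) (hB : ∀ i j, B (x i) (x j) = B (y i) (y j)) : ∃ g ∈ O8, ∀ i, g (x i) = y i := by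
  have hnd : (QuadraticMap.polarBilin q).Nondegenerate := by
    refine ⟨fun a ha => good.nondeg a ha, fun a ha => good.nondeg a fun b => ?_⟩
    rw [QuadraticMap.polar_comm]
    exact ha b
  obtain ⟨g, hg, h⟩ := Cfsg.Agent.ClassicalGeometry.WittQuad.extend_family q hnd k x y hx hy hq hB
  exact ⟨g, mem_O8.2 hg, h⟩

theorem refl_congr {n n' : V} (h : n = n') (hn : q n ≠ 0) (hn' : q n' ≠ 0) : refl q n hn = refl q n' hn' := by
  subst h
  rfl

theorem li_one {n : V} (hn : q n = 1) : LinearIndependent (ZMod 2) ![n] := by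
  rw [Fintype.linearIndependent_iff]
  intro c hc i
  have hc' : c 0 • n = 0 := by simpa using hc
  have : c 0 = 0 := by
    rcases z2 (c 0) with h | h
    · exact h
    · rw [h, one_smul] at hc'
      rw [hc', q_zero] at hn
      exact absurd hn (by decide)
  fin_cases i
  exact this

theorem li_three {n u w : V} (hn : q n = 1) (hu : q u = 0) (hw : q w = 0) (huw : B u w = 0) (hnu : B n u = 0)
    (hnw : B n w = 0) (h1 : u ≠ 0) (h2 : w ≠ 0) (h3 : u ≠ w) : LinearIndependent (ZMod 2) ![n, u, w] := by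
  rw [Fintype.linearIndependent_iff]
  intro c hc
  have hc' : c 0 • n + c 1 • u + c 2 • w = 0 := by
    have := hc
    rw [Fin.sum_univ_three] at this
    exact this
  have h0 : c 0 = 0 := by
    rcases z2 (c 0) with h | h
    · exact h
    · exfalso
      have e := congrArg q hc'
      rw [q_add, q_add, B_add_left, q_zero, q_smul, q_smul, q_smul] at e
      simp only [B_smul_left, B_smul_right, hn, hu, hw, huw, hnu, hnw, h, mul_zero, add_zero, mul_one] at e
      exact absurd e (by decide)
  rw [h0, zero_smul, zero_add] at hc'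
  have h12 : c 1 = 0 ∧ c 2 = 0 := by
    rcases z2 (c 1) with h | h <;> rcases z2 (c 2) with h' | h' <;> rw [h, h'] at hc'
    · exact ⟨h, h'⟩
    · rw [zero_smul, one_smul, zero_add] at hc'
      exact absurd hc' h2
    · rw [zero_smul, one_smul, add_zero] at hc'
      exact absurd hc' h1
    · rw [one_smul, one_smul] at hc'
      exact absurd (eq_of_add_eq_zero hc') h3
  intro i
  fin_cases i
  · exact h0
  · exact h12.1
  · exact h12.2

theorem bv_inj {i j : Fin 8} (h : bv i = bv j) : i = j := by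
  have h1 : Dc.b i = Dc.b j := by rw [← toD_bv, ← toD_bv, h]
  have h2 := congrFun h1 i
  rw [Dc.b_apply, Dc.b_apply, if_pos rfl] at h2
  by_contra hne
  rw [if_neg hne] at h2
  exact absurd h2 (by decide)

/-- Correction of the conjugating element. -/
theorem adjust {M T : V ≃ₗ[ZMod 2] V} {g : V ≃ₗ[ZMod 2] V} (hg : g ∈ O8) (h : g * M * g⁻¹ = T) (hT : sw * T * sw = T) :
    ∃ g ∈ Om, g * M * g⁻¹ = T := by
  rcases mem_or hg with h1 | h1
  · exact ⟨g, h1, h⟩
  · refine ⟨sw * g, ?_, ?_⟩
    · have e : sw * g = sw * (g * sw) * sw⁻¹ := by group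
      rw [e]
      exact Cfsg.Agent.LieClassical.OrthCore.conj_mem_E sw_mem h1
    · have e : sw * g * M * (sw * g)⁻¹ = sw * (g * M * g⁻¹) * sw⁻¹ := by group
      rw [e, h, sw_inv, hT]

theorem sw_z : sw * xb 0 1 = xb 0 1 * sw := by
  have h := sw_xb 0 1
  have e1 : σ 0 = 0 := by decide
  have e2 : σ 1 = 1 := by decide
  rw [e1, e2] at h
  calc sw * xb 0 1 = sw * xb 0 1 * (sw * sw) := by rw [sw_sq, mul_one]
    _ = sw * xb 0 1 * sw * sw := by group
    _ = xb 0 1 * sw := by rw [h]

/-- **Involutions outside `Om`.** -/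
theorem lin {M : V ≃ₗ[ZMod 2] V} (hM : M ∈ O8) (hn : M ∉ Om) (h2 : M * M = 1) :
    ∃ g ∈ Om, g * M * g⁻¹ = sw ∨ g * M * g⁻¹ = sw * xb 0 1 := by
  obtain ⟨n, h⟩ := exists_inv hM h2
  have hq := h.qn hn
  have hq0 : q n ≠ 0 := by rw [hq]; decide
  set R := refl q n hq0 * M with hR
  have hRO : R ∈ O8 := mul_mem (refl_mem_O _) hM
  have hMR : M = refl q n hq0 * R := by rw [hR, ← mul_assoc, refl_mul_self, one_mul]
  have hRN : ∀ v, N R v = N M v + B n v • n := fun v => by
    have e1 : B n (M v) = B n v := by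
      have := O8_B hM n v
      rwa [h.fix] at this
    show refl q n hq0 (M v) + v = _
    rw [refl_eq, e1]
    unfold N
    abel
  have hNn : ∀ v, B n (N M v) = 0 := fun v => by rw [h.symm, h.Nn, B_zero_left]
  have hTSI : TSI R := fun v => by
    have e1 : B (N M v) (B n v • n) = 0 := by rw [B_smul_right, B_comm _ n, hNn, mul_zero]
    rw [hRN, q_add, e1, q_smul, hq, h.vec, add_zero, mul_one]
    exact zz _
  have hBn : ∀ v, B n (N R v) = 0 := fun v => by
    rw [hRN, B_add_right, hNn, B_smul_right, B_self, mul_zero, add_zero]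
  -- the image
  let K : Submodule (ZMod 2) V :=
    { carrier := {w | ∃ v, N R v = w}
      zero_mem' := ⟨0, by unfold N; rw [map_zero, add_zero]⟩
      add_mem' := by
        rintro _ _ ⟨v, rfl⟩ ⟨w, rfl⟩
        exact ⟨v + w, N_add _ _ _⟩
      smul_mem' := by
        rintro a _ ⟨v, rfl⟩
        exact ⟨a • v, N_smul _ _ _⟩ }
  have hTS : TS q K := by
    rintro _ ⟨v, rfl⟩
    exact hTSI v
  have hk : Module.finrank (ZMod 2) K ≤ 3 := by
    have hnd : (QuadraticMap.polarBilin q).Nondegenerate := by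
      refine ⟨fun a ha => good.nondeg a ha, fun a ha => good.nondeg a fun b => ?_⟩
      rw [QuadraticMap.polar_comm]
      exact ha b
    have h1 := LinearMap.BilinForm.finrank_orthogonal hnd K
    rw [finrank_V] at h1
    have h2 : K < LinearMap.BilinForm.orthogonal (QuadraticMap.polarBilin q) K := by
      refine lt_of_le_of_ne ?_ ?_
      · rintro _ ⟨w, rfl⟩
        rw [LinearMap.BilinForm.mem_orthogonal_iff]
        rintro _ ⟨v, rfl⟩
        exact hTSI.isot v w
      · intro e
        have h3 : n ∈ LinearMap.BilinForm.orthogonal (QuadraticMap.polarBilin q) K := by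
          rw [LinearMap.BilinForm.mem_orthogonal_iff]
          rintro _ ⟨v, rfl⟩
          show B (N R v) n = 0
          rw [B_comm]
          exact hBn v
        rw [← e] at h3
        have h4 := hTS n h3
        rw [hq] at h4
        exact absurd h4 (by decide)
    have h3 := Submodule.finrank_lt_finrank_of_lt h2
    omega
  by_cases hR1 : R = 1
  · -- a reflection
    obtain ⟨g, hg, hgn⟩ := exists_isometry (x := ![n]) (y := ![bv 3 + bv 7]) (li_one hq)
      (li_one ((z2 _).resolve_left q37)) (fun i => by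
        fin_cases i
        show q n = q (bv 3 + bv 7)
        rw [hq, (z2 _).resolve_left q37]) (fun i j => by
        fin_cases i
        fin_cases j
        show B n n = B (bv 3 + bv 7) (bv 3 + bv 7)
        rw [B_self, B_self])
    have hgn0 : g n = bv 3 + bv 7 := hgn 0
    obtain ⟨g', hg', e⟩ := adjust (M := M) (T := sw) hg (by
      rw [hMR, hR1, mul_one, refl_conj hg hq0 (by rw [hgn0]; exact q37), sw_eq]
      exact refl_congr hgn0 _ _) (by rw [sw_sq, one_mul])
    exact ⟨g', hg', Or.inl e⟩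
  · obtain ⟨u, w, hu, hw, huw, hu0, hw0, hne, e⟩ := Root.isRoot_of_sub hTS hk hRO hR1 (fun v => ⟨v, rfl⟩)
    have hXN : ∀ v, N R v = B u v • w + B w v • u := fun v => by
      show R v + v = _
      rw [e, X_apply hu hw huw]
      calc v + B u v • w + B w v • u + v = (v + v) + (B u v • w + B w v • u) := by abel
        _ = _ := by rw [add_self, zero_add]
    obtain ⟨v1, a1, a2⟩ := exists_B hu0 hw0 hne 1 0
    obtain ⟨v2, b1, b2⟩ := exists_B hu0 hw0 hne 0 1
    have hnw : B n w = 0 := by
      have := hBn v1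
      rwa [hXN, a1, a2, one_smul, zero_smul, add_zero] at this
    have hnu : B n u = 0 := by
      have := hBn v2
      rwa [hXN, b1, b2, one_smul, zero_smul, zero_add] at this
    have k0 : B (bv 3 + bv 7) (bv 0) = 0 := by rw [B_add_left, B_bv, B_bv]; decide
    have k1 : B (bv 3 + bv 7) (bv 1) = 0 := by rw [B_add_left, B_bv, B_bv]; decide
    have k01 : B (bv 0) (bv 1) = 0 := by rw [B_bv]; decide
    obtain ⟨g, hg, hgn⟩ := exists_isometry (x := ![n, u, w]) (y := ![bv 3 + bv 7, bv 0, bv 1])
      (li_three hq hu hw huw hnu hnw hu0 hw0 hne)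
      (li_three ((z2 _).resolve_left q37) (q_bv 0) (q_bv 1) k01 k0 k1 (bv_ne 0) (bv_ne 1)
        (fun h => absurd (bv_inj h) (by decide)))
      (fun i => by
        fin_cases i
        · show q n = q (bv 3 + bv 7)
          rw [hq, (z2 _).resolve_left q37]
        · show q u = q (bv 0)
          rw [hu, q_bv]
        · show q w = q (bv 1)
          rw [hw, q_bv])
      (fun i j => by
        fin_cases i <;> fin_cases j
        · show B n n = B (bv 3 + bv 7) (bv 3 + bv 7)
          rw [B_self, B_self]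
        · show B n u = B (bv 3 + bv 7) (bv 0)
          rw [hnu, k0]
        · show B n w = B (bv 3 + bv 7) (bv 1)
          rw [hnw, k1]
        · show B u n = B (bv 0) (bv 3 + bv 7)
          rw [B_comm u, B_comm (bv 0), hnu, k0]
        · show B u u = B (bv 0) (bv 0)
          rw [B_self, B_self]
        · show B u w = B (bv 0) (bv 1)
          rw [huw, k01]
        · show B w n = B (bv 1) (bv 3 + bv 7)
          rw [B_comm w, B_comm (bv 1), hnw, k1]
        · show B w u = B (bv 1) (bv 0)
          rw [B_comm w, B_comm (bv 1), huw, k01]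
        · show B w w = B (bv 1) (bv 1)
          rw [B_self, B_self])
    have hgn0 : g n = bv 3 + bv 7 := hgn 0
    have hgu : g u = bv 0 := hgn 1
    have hgw : g w = bv 1 := hgn 2
    obtain ⟨g', hg', e'⟩ := adjust (M := M) (T := sw * xb 0 1) hg (by
      have e2 : g * M * g⁻¹ = (g * refl q n hq0 * g⁻¹) * (g * X u w * g⁻¹) := by
        rw [hMR, ← e]; group
      rw [e2, refl_conj hg hq0 (by rw [hgn0]; exact q37), X_conj hg, hgu, hgw, sw_eq, refl_congr hgn0 _ q37]
      rfl) (by
        rw [← mul_assoc, sw_sq, one_mul, ← sw_z])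
    exact ⟨g', hg', Or.inr e'⟩

end Cfsg.Agent.StdO8.EvenLin
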