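import Cfsg.Agent.StdO8.Tri

/-!
# Triality of `Ω₈⁺(2)`: the automorphism

`tri : MulAut Om`, `tri (xm s) = xm (rho s)` for `s` in `D4`.
-/

set_option autoImplicit false

namespace Cfsg.Agent.StdO8.Tri

open Cfsg.Agent.StdO8.Model (V q B X O8 Om)
open Cfsg.Agent.StdO8.D4Root (E ip roots Φ)
open Cfsg.Agent.StdO8.Bas
open Cfsg.Agent.StdO8.DataOf (xm)

/-- Related triples. -/
def Rel (g g2 g3 : V ≃ₗ[ZMod 2] V) : Prop := ∀ v w : Dc.V, th g (pr v w) = pr (th g2 v) (th g3 w)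

theorem Rel.one : Rel 1 1 1 := fun v w => by rw [th_one, th_one, th_one]

theorem Rel.mul {g g2 g3 h h2 h3 : V ≃ₗ[ZMod 2] V} (hg : Rel g g2 g3) (hh : Rel h h2 h3) : Rel (g * h) (g2 * h2) (g3 * h3) :=
  fun v w => by rw [th_mul, th_mul, th_mul, hh, hg]

theorem th_inv_left (g : V ≃ₗ[ZMod 2] V) (v : Dc.V) : th g⁻¹ (th g v) = v := by
  rw [← th_mul, inv_mul_cancel, th_one]

theorem th_inv_right (g : V ≃ₗ[ZMod 2] V) (v : Dc.V) : th g (th g⁻¹ v) = v := by
  rw [← th_mul, mul_inv_cancel, th_one]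

theorem Rel.inv {g g2 g3 : V ≃ₗ[ZMod 2] V} (hg : Rel g g2 g3) : Rel g⁻¹ g2⁻¹ g3⁻¹ := fun v w => by
  have h1 := hg (th g2⁻¹ v) (th g3⁻¹ w)
  rw [th_inv_right, th_inv_right] at h1
  rw [← h1, th_inv_left]

theorem th_add (g : V ≃ₗ[ZMod 2] V) (v w : Dc.V) : th g (v + w) = th g v + th g w := by
  unfold th
  rw [ofD_add, map_add, toD_add]

theorem th_smul (g : V ≃ₗ[ZMod 2] V) (a : ZMod 2) (v : Dc.V) : th g (a • v) = a • th g v := by
  unfold th
  rw [show ofD (a • v) = a • ofD v from rfl, map_smul, toD_smul]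

theorem dcV_eq (v : Dc.V) :
    v = v 0 • Dc.b 0 + (v 1 • Dc.b 1 + (v 2 • Dc.b 2 + (v 3 • Dc.b 3 + (v 4 • Dc.b 4 + (v 5 • Dc.b 5 + (v 6 • Dc.b 6 + v 7 • Dc.b 7)))))) := by
  funext k
  simp only [Pi.add_apply, Pi.smul_apply, Dc.b_apply, smul_eq_mul]
  fin_cases k <;> simp

/-- It is enough to check the relation on the basis. -/
theorem rel_of_basis {g g2 g3 : V ≃ₗ[ZMod 2] V}
    (h : ∀ k l, th g (pr (Dc.b k) (Dc.b l)) = pr (th g2 (Dc.b k)) (th g3 (Dc.b l))) : Rel g g2 g3 := by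
  have h1 : ∀ k w, th g (pr (Dc.b k) w) = pr (th g2 (Dc.b k)) (th g3 w) := by
    intro k w
    rw [dcV_eq w]
    simp only [pr_add_right, pr_smul_right, th_add, th_smul, h]
  intro v w
  rw [dcV_eq v]
  simp only [pr_add_left, pr_smul_left, th_add, th_smul, h1]

theorem th_xO (s : E) (hs : s ∈ Φ) (v : Dc.V) : th (xO s) v = xf s v := th_xb (wt_hd s hs).2 v

theorem rel_xO {s : E} (hs : s ∈ Φ) : Rel (xO s) (xO (rho s)) (xO (rhoi s)) := by
  have h := rho_mem s hs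
  refine rel_of_basis fun k l => ?_
  rw [th_xO s hs, th_xO _ h.1, th_xO _ h.2.1]
  exact pr_b s hs k l

/-- Every element of `Om` is part of a related triple. -/
theorem exists_rel (g : Om) : ∃ g2 g3 : Om, Rel (g : V ≃ₗ[ZMod 2] V) g2 g3 := by
  have hg : g ∈ Subgroup.closure {m : Om | ∃ s ∈ Φ, m = xm s} := by rw [gen]; trivial
  induction hg using Subgroup.closure_induction with
  | mem x hx =>
    obtain ⟨s, hs, rfl⟩ := hx
    exact ⟨xm (rho s), xm (rhoi s), rel_xO hs⟩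
  | one => exact ⟨1, 1, Rel.one⟩
  | mul x y _ _ hx hy =>
    obtain ⟨x2, x3, hx⟩ := hx
    obtain ⟨y2, y3, hy⟩ := hy
    exact ⟨x2 * y2, x3 * y3, hx.mul hy⟩
  | inv x _ hx =>
    obtain ⟨x2, x3, hx⟩ := hx
    exact ⟨x2⁻¹, x3⁻¹, hx.inv⟩

/-- the coordinates vanishing on `b i * V` -/
def Z : Fin 8 → List (Fin 8) := fun i => (List.finRange 8).filter fun k => ∀ l : Fin 8, pr (Dc.b i) (Dc.b l) k = 0

/-- the coordinates vanishing on `V * b i` -/
def Z' : Fin 8 → List (Fin 8) := fun i => (List.finRange 8).filter fun k => ∀ l : Fin 8, pr (Dc.b l) (Dc.b i) k = 0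

theorem uniq : ∀ i a : Fin 8, a ≠ i → ∃ k ∈ Z i, ∃ j : Fin 8, pr (Dc.b a) (Dc.b j) k = 1 ∧
    ∀ c : Fin 8, c ≠ a → pr (Dc.b c) (Dc.b j) k = 0 := by decide +kernel

theorem uniq' : ∀ i a : Fin 8, a ≠ i → ∃ k ∈ Z' i, ∃ j : Fin 8, pr (Dc.b j) (Dc.b a) k = 1 ∧
    ∀ c : Fin 8, c ≠ a → pr (Dc.b j) (Dc.b c) k = 0 := by decide +kernel

theorem pr_sum_left (v w : Dc.V) (k : Fin 8) : pr v w k = ∑ c : Fin 8, v c * pr (Dc.b c) w k := by
  conv_lhs => rw [dcV_eq v]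
  simp only [pr_add_left, pr_smul_left, Pi.add_apply, Pi.smul_apply, smul_eq_mul]
  simp only [Fin.sum_univ_succ, Fin.sum_univ_zero, add_zero]
  rfl

theorem pr_sum_right (v w : Dc.V) (k : Fin 8) : pr v w k = ∑ c : Fin 8, w c * pr v (Dc.b c) k := by
  conv_lhs => rw [dcV_eq w]
  simp only [pr_add_right, pr_smul_right, Pi.add_apply, Pi.smul_apply, smul_eq_mul]
  simp only [Fin.sum_univ_succ, Fin.sum_univ_zero, add_zero]
  rfl

theorem eq_b {v : Dc.V} (h0 : v ≠ 0) {i : Fin 8} (h : ∀ a, a ≠ i → v a = 0) : v = Dc.b i := by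
  have h4 : v i = 1 := Dc.zmod_ne fun h1 => h0 <| funext fun l => by
    by_cases e : l = i
    · rw [e, h1]; rfl
    · exact h l e
  funext l
  rw [Dc.b_apply]
  split_ifs with e
  · rw [e, h4]
  · exact h l e

theorem eq_one_of_basis {g : V ≃ₗ[ZMod 2] V} (h : ∀ i, th g (Dc.b i) = Dc.b i) : g = 1 := by
  apply th_inj
  intro v
  rw [dcV_eq v]
  simp only [th_add, th_smul, h, th_one]

theorem b_ne (i : Fin 8) : Dc.b i ≠ 0 := fun h => by
  have h2 := congrFun h i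
  rw [Dc.b_apply, if_pos rfl] at h2
  exact absurd (show (1 : ZMod 2) = 0 from h2) (by decide)

theorem th_ne {g : V ≃ₗ[ZMod 2] V} {v : Dc.V} (h : v ≠ 0) : th g v ≠ 0 := fun e => h (by
  have h1 := th_inv_left g v
  rw [e] at h1
  rw [← h1]
  unfold th
  show toD (g⁻¹ (ofD 0)) = 0
  rw [show ofD 0 = 0 from rfl, map_zero]
  rfl)

/-- Uniqueness. -/
theorem eq_one_of_rel {g2 g3 : V ≃ₗ[ZMod 2] V} (h : Rel 1 g2 g3) : g2 = 1 ∧ g3 = 1 := by
  constructor
  · refine eq_one_of_basis fun i => eq_b (th_ne (b_ne i)) fun a ha => ?_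
    obtain ⟨k, hk, j, h1, h2⟩ := uniq i a ha
    have h3 : ∀ l : Fin 8, pr (Dc.b i) (Dc.b l) k = 0 := by
      unfold Z at hk
      rw [List.mem_filter] at hk
      exact of_decide_eq_true hk.2
    have h4 := h (Dc.b i) (th g3⁻¹ (Dc.b j))
    rw [th_inv_right, th_one] at h4
    have h5 := congrFun h4 k
    rw [pr_sum_right (Dc.b i)] at h5
    rw [Finset.sum_eq_zero (fun c _ => by rw [h3 c, mul_zero]), pr_sum_left,
      Finset.sum_eq_single a (fun c _ hc => by rw [h2 c hc, mul_zero]) (fun h6 => absurd (Finset.mem_univ a) h6), h1, mul_one] at h5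
    exact h5.symm
  · refine eq_one_of_basis fun i => eq_b (th_ne (b_ne i)) fun a ha => ?_
    obtain ⟨k, hk, j, h1, h2⟩ := uniq' i a ha
    have h3 : ∀ l : Fin 8, pr (Dc.b l) (Dc.b i) k = 0 := by
      unfold Z' at hk
      rw [List.mem_filter] at hk
      exact of_decide_eq_true hk.2
    have h4 := h (th g2⁻¹ (Dc.b j)) (Dc.b i)
    rw [th_inv_right, th_one] at h4
    have h5 := congrFun h4 k
    rw [pr_sum_left _ (Dc.b i)] at h5
    rw [Finset.sum_eq_zero (fun c _ => by rw [h3 c, mul_zero]), pr_sum_right,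
      Finset.sum_eq_single a (fun c _ hc => by rw [h2 c hc, mul_zero]) (fun h6 => absurd (Finset.mem_univ a) h6), h1, mul_one] at h5
    exact h5.symm

theorem Rel.unique {g g2 g3 h2 h3 : V ≃ₗ[ZMod 2] V} (hg : Rel g g2 g3) (hh : Rel g h2 h3) : g2 = h2 ∧ g3 = h3 := by
  have h1 := hg.mul hh.inv
  rw [mul_inv_cancel] at h1
  obtain ⟨h4, h5⟩ := eq_one_of_rel h1
  exact ⟨mul_inv_eq_one.1 h4, mul_inv_eq_one.1 h5⟩

/-- The second component. -/
noncomputable def tau (g : Om) : Om := (exists_rel g).choose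

theorem tau_spec (g : Om) : ∃ g3 : Om, Rel (g : V ≃ₗ[ZMod 2] V) (tau g) g3 := (exists_rel g).choose_spec

theorem tau_eq {g g2 g3 : Om} (h : Rel (g : V ≃ₗ[ZMod 2] V) g2 g3) : tau g = g2 := by
  obtain ⟨h3, h1⟩ := tau_spec g
  exact Subtype.ext (h1.unique h).1

/-- Triality as an endomorphism. -/
noncomputable def tauHom : Om →* Om where
  toFun := tau
  map_one' := tau_eq (g := 1) (g2 := 1) (g3 := 1) Rel.one
  map_mul' g h := by
    obtain ⟨g3, hg⟩ := tau_spec g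
    obtain ⟨h3, hh⟩ := tau_spec h
    exact tau_eq (g := g * h) (g2 := tau g * tau h) (g3 := g3 * h3) (hg.mul hh)

theorem tauHom_xm {s : E} (hs : s ∈ Φ) : tauHom (xm s) = xm (rho s) :=
  tau_eq (g := xm s) (g2 := xm (rho s)) (g3 := xm (rhoi s)) (rel_xO hs)

theorem tauHom_surj : Function.Surjective tauHom := by
  rw [← MonoidHom.range_eq_top, eq_top_iff, ← gen, Subgroup.closure_le]
  rintro _ ⟨s, hs, rfl⟩
  have h := rho_mem s hs
  exact ⟨xm (rhoi s), by rw [tauHom_xm h.2.1, h.2.2.1]⟩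

instance : Finite (V ≃ₗ[ZMod 2] V) := Finite.of_injective (fun g => (g : V → V)) DFunLike.coe_injective

/-- **Triality.** -/
noncomputable def tri : MulAut Om :=
  MulEquiv.ofBijective tauHom ⟨Finite.injective_iff_surjective.2 tauHom_surj, tauHom_surj⟩

theorem tri_xm {s : E} (hs : s ∈ Φ) : tri (xm s) = xm (rho s) := tauHom_xm hs

theorem tri_symm_xm {s : E} (hs : s ∈ Φ) : tri.symm (xm s) = xm (rhoi s) := by
  have h := rho_mem s hs
  rw [MulEquiv.symm_apply_eq, tri_xm h.2.1, h.2.2.1]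

/-- An endomorphism is determined by its values on the root elements. -/
theorem hom_ext {N : Type*} [Group N] {f g : Om →* N} (h : ∀ s ∈ Φ, f (xm s) = g (xm s)) : f = g := by
  apply MonoidHom.eq_of_eqOn_dense gen
  rintro _ ⟨s, hs, rfl⟩
  exact h s hs

end Cfsg.Agent.StdO8.Tri
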