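import Mathlib

/-!
# Double centralisers of root elements in `O8+(2)`

`V` is the quadratic space of dimension 8 over the field with two elements, `b i` the standard hyperbolic basis (`b (i + 4)` is the
partner of `b i`), `Xf u v` the root element of the totally singular line `⟨u, v⟩`. An isometry which commutes with all root
elements of the frame which commute with two given root elements of the frame lies in the group generated by these two.
-/

set_option autoImplicit false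

namespace Cfsg.Agent.StdO8.Dc

/-- The natural module. -/
abbrev V := Fin 8 → ZMod 2

/-- The quadratic form. -/
def q (v : V) : ZMod 2 := v 0 * v 4 + v 1 * v 5 + v 2 * v 6 + v 3 * v 7

/-- The polar form. -/
def B (v w : V) : ZMod 2 :=
  v 0 * w 4 + v 4 * w 0 + (v 1 * w 5 + v 5 * w 1) + (v 2 * w 6 + v 6 * w 2) + (v 3 * w 7 + v 7 * w 3)

/-- The standard basis. -/
def b (i : Fin 8) : V := Pi.single i 1

theorem b_apply (i j : Fin 8) : b i j = if j = i then 1 else 0 := by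
  unfold b
  rw [Pi.single_apply]

theorem q_add (v w : V) : q (v + w) = q v + q w + B v w := by
  unfold q B
  simp only [Pi.add_apply]
  ring

theorem B_comm (v w : V) : B v w = B w v := by unfold B; ring

theorem B_add_left (u v w : V) : B (u + v) w = B u w + B v w := by
  unfold B
  simp only [Pi.add_apply]
  ring

theorem B_add_right (u v w : V) : B u (v + w) = B u v + B u w := by
  rw [B_comm, B_add_left, B_comm v, B_comm w]

theorem B_smul_left (a : ZMod 2) (v w : V) : B (a • v) w = a * B v w := by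
  unfold B
  simp only [Pi.smul_apply, smul_eq_mul]
  ring

theorem B_smul_right (a : ZMod 2) (v w : V) : B v (a • w) = a * B v w := by
  rw [B_comm, B_smul_left, B_comm]

/-- The root element of the line `⟨u, v⟩`. -/
def Xf (u v w : V) : V := w + B w v • u + B w u • v

/-- The coordinates are given by the form. -/
theorem coord (v : V) (i : Fin 8) : v i = B v (b (i + 4)) := by
  revert v
  fin_cases i <;> intro v <;> simp [B, b_apply]

theorem B_b (i j : Fin 8) : B (b i) (b j) = if j = i + 4 then 1 else 0 := by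
  revert i j
  decide

theorem q_b (i : Fin 8) : q (b i) = 0 := by
  revert i
  decide

theorem zmod_ne {a : ZMod 2} (h : a ≠ 0) : a = 1 := by
  revert a
  decide

/-- `v` lies on the line `⟨b i, b j⟩`. -/
def On (i j : Fin 8) (v : V) : Prop := ∀ k, k ≠ i → k ≠ j → v k = 0

theorem On.symm {i j : Fin 8} {v : V} (h : On i j v) : On j i v := fun k h1 h2 => h k h2 h1

/-- Two different lines through `b i` meet in `b i`. -/
theorem fix {i j k : Fin 8} {v : V} (h1 : On i j v) (h2 : On i k v) (hjk : j ≠ k) (h0 : v ≠ 0) : v = b i := by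
  have h3 : ∀ l, l ≠ i → v l = 0 := fun l hl => by
    by_cases h : l = j
    · exact h2 l hl (fun e => hjk (h ▸ e))
    · exact h1 l hl h
  have h4 : v i = 1 := zmod_ne fun h => h0 <| funext fun l => by
    by_cases e : l = i
    · rw [e, h]; rfl
    · exact h3 l e
  funext l
  rw [b_apply]
  split_ifs with e
  · rw [e, h4]
  · exact h3 l e

/-- An isometry. -/
structure Iso (g : V → V) : Prop where
  add : ∀ v w, g (v + w) = g v + g w
  isom : ∀ v, q (g v) = q v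
  inj : ∀ v, g v = 0 → v = 0

namespace Iso

variable {g : V → V}

theorem zero (h : Iso g) : g 0 = 0 := by
  have := h.add 0 0
  rw [add_zero] at this
  simpa using this

theorem smul (h : Iso g) (a : ZMod 2) (v : V) : g (a • v) = a • g v := by
  have h2 : a = 0 ∨ a = 1 := by revert a; decide
  rcases h2 with rfl | rfl
  · rw [zero_smul, zero_smul, h.zero]
  · rw [one_smul, one_smul]

theorem B_eq (h : Iso g) (v w : V) : B (g v) (g w) = B v w := by
  have h1 := q_add (g v) (g w)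
  rw [← h.add, h.isom, h.isom, h.isom, q_add] at h1
  exact (add_left_cancel h1).symm

theorem ne (h : Iso g) (i : Fin 8) : g (b i) ≠ 0 := fun e => by
  have h1 := h.inj _ e
  have h2 := congrFun h1 i
  rw [b_apply, if_pos rfl] at h2
  exact absurd (show (1 : ZMod 2) = 0 from h2) (by decide)

theorem Xf_eq (h : Iso g) (u v w : V) : g (Xf u v w) = Xf (g u) (g v) (g w) := by
  unfold Xf
  rw [h.add, h.add, h.smul, h.smul, h.B_eq, h.B_eq]

theorem comp {f : V → V} (h : Iso g) (hf : Iso f) : Iso (fun v => g (f v)) where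
  add := fun v w => by rw [hf.add, h.add]
  isom := fun v => by rw [h.isom, hf.isom]
  inj := fun v hv => hf.inj _ (h.inj _ hv)

/-- Two isometries which agree on the basis are equal. -/
theorem ext {f : V → V} (h : Iso g) (hf : Iso f) (e : ∀ i, g (b i) = f (b i)) (v : V) : g v = f v := by
  have h1 : v = v 0 • b 0 + (v 1 • b 1 + (v 2 • b 2 + (v 3 • b 3 + (v 4 • b 4 + (v 5 • b 5 + (v 6 • b 6 + v 7 • b 7)))))) := by
    funext k
    simp only [Pi.add_apply, Pi.smul_apply, b_apply, smul_eq_mul]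
    fin_cases k <;> simp
  rw [h1]
  simp only [h.add, hf.add, h.smul, hf.smul, e]

end Iso

theorem iso_id : Iso (fun v => v) := ⟨fun _ _ => rfl, fun _ => rfl, fun _ h => h⟩

theorem iso_Xf {u v : V} (hu : q u = 0) (hv : q v = 0) (huv : B u v = 0) : Iso (Xf u v) := by
  have add : ∀ w w', Xf u v (w + w') = Xf u v w + Xf u v w' := fun w w' => by
    unfold Xf
    rw [B_add_left, B_add_left, add_smul, add_smul]
    abel
  have two : ∀ a : ZMod 2, a + a = 0 := by decide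
  have B_self : ∀ v : V, B v v = 0 := fun v => by
    have := q_add v v
    have h2 : v + v = 0 := by funext k; exact two _
    rw [h2, two (q v), zero_add] at this
    rw [← this]
    unfold q
    simp
  have q_smul : ∀ (a : ZMod 2) (v : V), q (a • v) = a * a * q v := fun a v => by
    unfold q
    simp only [Pi.smul_apply, smul_eq_mul]
    ring
  have sq : ∀ w, Xf u v (Xf u v w) = w := fun w => by
    have h1 : B (Xf u v w) v = B w v := by
      unfold Xf
      rw [B_add_left, B_add_left, B_smul_left, B_smul_left, huv, B_self, mul_zero, mul_zero, add_zero, add_zero]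
    have h2 : B (Xf u v w) u = B w u := by
      unfold Xf
      rw [B_add_left, B_add_left, B_smul_left, B_smul_left, B_self, B_comm v u, huv, mul_zero, mul_zero, add_zero, add_zero]
    have h3 : Xf u v (Xf u v w) = Xf u v w + B w v • u + B w u • v := by
      show Xf u v w + B (Xf u v w) v • u + B (Xf u v w) u • v = _
      rw [h1, h2]
    rw [h3]
    unfold Xf
    funext k
    simp only [Pi.add_apply, Pi.smul_apply, smul_eq_mul]
    have := two (B w v * u k)
    have := two (B w u * v k)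
    linear_combination two (B w v * u k) + two (B w u * v k)
  refine ⟨add, fun w => ?_, fun w hw => ?_⟩
  · unfold Xf
    rw [q_add, q_add, q_smul, q_smul, hu, hv, B_add_left, B_smul_right, B_smul_right, B_smul_right, B_smul_left, huv]
    linear_combination two (B w v * B w u)
  · have := sq w
    rw [hw] at this
    rw [← this]
    have := add 0 0
    rw [add_zero] at this
    simpa using this

/-- the lines fixed by `g` -/
theorem on_of_comm {g : V → V} (h : Iso g) {i j : Fin 8} (hij : j ≠ i) (hij' : j ≠ i + 4)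
    (hc : ∀ w, g (Xf (b i) (b j) w) = Xf (b i) (b j) (g w)) : On i j (g (b i)) := by
  have h1 : Xf (b i) (b j) (b (j + 4)) = b (j + 4) + b i := by
    revert i j
    have : ∀ i j : Fin 8, j ≠ i → j ≠ i + 4 → Xf (b i) (b j) (b (j + 4)) = b (j + 4) + b i := by decide +kernel
    intro i j h1 h2 _
    exact this i j h1 h2
  have h2 := hc (b (j + 4))
  rw [h1, h.add] at h2
  intro k hki hkj
  have h3 := congrFun h2 k
  unfold Xf at h3
  simp only [Pi.add_apply, Pi.smul_apply, smul_eq_mul] at h3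
  rw [b_apply i k, b_apply j k, if_neg hki, if_neg hkj, mul_zero, mul_zero, add_zero, add_zero] at h3
  exact add_left_cancel (h3.trans (add_zero _).symm)


/-! ### The standard frame -/

/-- The form on images of basis vectors. -/
theorem Iso.Bv {g : V → V} (h : Iso g) (i j : Fin 8) {v : V} (e : g (b j) = v) : B (g (b i)) v = B (b i) (b j) := by
  rw [← e, h.B_eq]

/-- `w` on the line `⟨b i, b j⟩`. -/
theorem on_eq {g : V → V} (h : Iso g) {i j : Fin 8} (h1 : On i j (g (b i))) (hij : i ≠ j) (h2 : g (b (i + 4)) = b (i + 4)) :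
    g (b i) = b i + g (b i) j • b j := by
  have h3 : g (b i) i = 1 := by
    rw [coord (g (b i)) i, h.Bv _ _ h2, B_b, if_pos rfl]
  funext k
  simp only [Pi.add_apply, Pi.smul_apply, b_apply, smul_eq_mul]
  by_cases h4 : k = i
  · rw [if_pos h4, if_neg (fun e => hij (h4 ▸ e)), mul_zero, add_zero, h4, h3]
  · by_cases h5 : k = j
    · rw [if_neg h4, if_pos h5, zero_add, mul_one, h5]
    · rw [if_neg h4, if_neg h5, mul_zero, add_zero, h1 k h4 h5]

/-- `g` commutes with the root elements of the lines in the list `S`. -/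
def Comm (g : V → V) (S : List (Fin 8 × Fin 8)) : Prop := ∀ p ∈ S, ∀ w, g (Xf (b p.1) (b p.2) w) = Xf (b p.1) (b p.2) (g w)

theorem Xf_symm (u v w : V) : Xf u v w = Xf v u w := by
  unfold Xf
  abel

theorem Comm.on {g : V → V} (h : Iso g) {S : List (Fin 8 × Fin 8)} (hc : Comm g S) (i j : Fin 8)
    (hij : ((i, j) ∈ S ∨ (j, i) ∈ S) ∧ j ≠ i ∧ j ≠ i + 4) : On i j (g (b i)) := by
  obtain ⟨hS, h1, h2⟩ := hij
  rcases hS with hS | hS
  · exact on_of_comm h h1 h2 (fun w => hc (i, j) hS w)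
  · refine on_of_comm h h1 h2 fun w => ?_
    have h3 : g (Xf (b j) (b i) w) = Xf (b j) (b i) (g w) := hc (j, i) hS w
    rw [Xf_symm (b i) (b j) w, Xf_symm (b i) (b j) (g w)]
    exact h3

/-- The fixed basis vectors. -/
theorem Comm.fix {g : V → V} (h : Iso g) {S : List (Fin 8 × Fin 8)} (hc : Comm g S) (i j k : Fin 8)
    (hij : (((i, j) ∈ S ∨ (j, i) ∈ S) ∧ j ≠ i ∧ j ≠ i + 4) ∧ (((i, k) ∈ S ∨ (k, i) ∈ S) ∧ k ≠ i ∧ k ≠ i + 4) ∧ j ≠ k) :
    g (b i) = b i :=
  Dc.fix (hc.on h i j hij.1) (hc.on h i k hij.2.1) hij.2.2 (h.ne i)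

theorem aux_one : ∀ i j : ZMod 2, ∀ v : V, (B v (b 0) = 1 ∧ B v (b 1) = 0 ∧ B v (b 2) = 0 ∧ B v (b 3) = 0 ∧
    B v (b 7) = 0 ∧ B v (b 5 + i • b 0) = 0 ∧ B v (b 6 + j • b 0) = 0 ∧ q v = 0) → v = b 4 + i • b 1 + j • b 2 := by
  decide +kernel

/-- The case of collinear roots. -/
theorem core_one {g : V → V} (h : Iso g)
    (hc : Comm g [(0, 1), (0, 2), (0, 3), (0, 7), (0, 5), (0, 6), (1, 2), (1, 3), (1, 7), (2, 3), (2, 7)]) :
    ∃ i j : ZMod 2, g (b 0) = b 0 ∧ g (b 1) = b 1 ∧ g (b 2) = b 2 ∧ g (b 3) = b 3 ∧ g (b 4) = b 4 + i • b 1 + j • b 2 ∧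
      g (b 5) = b 5 + i • b 0 ∧ g (b 6) = b 6 + j • b 0 ∧ g (b 7) = b 7 := by
  have w0 := hc.fix h 0 1 2 (by decide)
  have w1 := hc.fix h 1 0 2 (by decide)
  have w2 := hc.fix h 2 0 1 (by decide)
  have w3 := hc.fix h 3 0 1 (by decide)
  have w7 := hc.fix h 7 0 1 (by decide)
  have w5 := on_eq h (hc.on h 5 0 (by decide)) (by decide) w1
  have w6 := on_eq h (hc.on h 6 0 (by decide)) (by decide) w2
  have w4 := aux_one (g (b 5) 0) (g (b 6) 0) (g (b 4)) ⟨(h.Bv 4 0 w0).trans (by decide), (h.Bv 4 1 w1).trans (by decide),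
    (h.Bv 4 2 w2).trans (by decide), (h.Bv 4 3 w3).trans (by decide), (h.Bv 4 7 w7).trans (by decide),
    (h.Bv 4 5 w5).trans (by decide), (h.Bv 4 6 w6).trans (by decide), by rw [h.isom, q_b]⟩
  exact ⟨_, _, w0, w1, w2, w3, w4, w5, w6, w7⟩

theorem aux_neg : ∀ i j : ZMod 2, ∀ v : V, (B v (b 0) = 1 ∧ B v (b 2) = 0 ∧ B v (b 3) = 0 ∧
    B v (b 7) = 0 ∧ B v (b 1 + j • b 2) = 0 ∧ B v (b 5 + i • b 0) = 0 ∧ q v = 0) → v = b 4 + i • b 1 + v 2 • b 2 := by
  decide +kernel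

theorem aux_neg' : ∀ i j k : ZMod 2, ∀ v : V, (B v (b 0) = 0 ∧ B v (b 2) = 1 ∧ B v (b 3) = 0 ∧
    B v (b 7) = 0 ∧ B v (b 1 + j • b 2) = 0 ∧ B v (b 5 + i • b 0) = 0 ∧ B v (b 4 + i • b 1 + k • b 2) = 0 ∧ q v = 0) →
    v = b 6 + j • b 5 + (i * j + k) • b 0 := by
  decide +kernel

/-- The case of special pairs. -/
theorem core_neg {g : V → V} (h : Iso g) (hc : Comm g [(0, 5), (0, 2), (0, 3), (0, 7), (1, 2), (2, 3), (2, 7)]) :
    ∃ i j k : ZMod 2, g (b 0) = b 0 ∧ g (b 1) = b 1 + j • b 2 ∧ g (b 2) = b 2 ∧ g (b 3) = b 3 ∧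
      g (b 4) = b 4 + i • b 1 + k • b 2 ∧ g (b 5) = b 5 + i • b 0 ∧ g (b 6) = b 6 + j • b 5 + (i * j + k) • b 0 ∧
      g (b 7) = b 7 := by
  have w0 := hc.fix h 0 5 2 (by decide)
  have w2 := hc.fix h 2 0 1 (by decide)
  have w3 := hc.fix h 3 0 2 (by decide)
  have w7 := hc.fix h 7 0 2 (by decide)
  have l1 := hc.on h 1 2 (by decide)
  have l5 := hc.on h 5 0 (by decide)
  -- the pair `1, 5`
  have e : g (b 1) 1 * g (b 5) 5 = 1 := by
    have h1 := h.B_eq (b 1) (b 5)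
    have h2 : B (g (b 1)) (g (b 5)) = g (b 1) 1 * g (b 5) 5 := by
      unfold B
      rw [l1 0 (by decide) (by decide), l1 3 (by decide) (by decide), l1 4 (by decide) (by decide), l1 5 (by decide) (by decide),
        l1 6 (by decide) (by decide), l1 7 (by decide) (by decide), l5 6 (by decide) (by decide)]
      ring
    rw [← h2, h1]
    decide
  have e2 : ∀ x y : ZMod 2, x * y = 1 → x = 1 ∧ y = 1 := by decide
  obtain ⟨e1, e5⟩ := e2 _ _ e
  have w1 : g (b 1) = b 1 + g (b 1) 2 • b 2 := by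
    funext k
    simp only [Pi.add_apply, Pi.smul_apply, b_apply, smul_eq_mul]
    by_cases h4 : k = 1
    · rw [if_pos h4, if_neg (fun e => absurd (h4 ▸ e) (by decide)), mul_zero, add_zero, h4, e1]
    · by_cases h5 : k = 2
      · rw [if_neg h4, if_pos h5, zero_add, mul_one, h5]
      · rw [if_neg h4, if_neg h5, mul_zero, add_zero, l1 k h4 h5]
  have w5 : g (b 5) = b 5 + g (b 5) 0 • b 0 := by
    funext k
    simp only [Pi.add_apply, Pi.smul_apply, b_apply, smul_eq_mul]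
    by_cases h4 : k = 5
    · rw [if_pos h4, if_neg (fun e => absurd (h4 ▸ e) (by decide)), mul_zero, add_zero, h4, e5]
    · by_cases h5 : k = 0
      · rw [if_neg h4, if_pos h5, zero_add, mul_one, h5]
      · rw [if_neg h4, if_neg h5, mul_zero, add_zero, l5 k h4 h5]
  have w4 := aux_neg (g (b 5) 0) (g (b 1) 2) (g (b 4)) ⟨(h.Bv 4 0 w0).trans (by decide),
    (h.Bv 4 2 w2).trans (by decide), (h.Bv 4 3 w3).trans (by decide), (h.Bv 4 7 w7).trans (by decide),
    (h.Bv 4 1 w1).trans (by decide), (h.Bv 4 5 w5).trans (by decide), by rw [h.isom, q_b]⟩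
  have w6 := aux_neg' (g (b 5) 0) (g (b 1) 2) (g (b 4) 2) (g (b 6)) ⟨(h.Bv 6 0 w0).trans (by decide),
    (h.Bv 6 2 w2).trans (by decide), (h.Bv 6 3 w3).trans (by decide), (h.Bv 6 7 w7).trans (by decide),
    (h.Bv 6 1 w1).trans (by decide), (h.Bv 6 5 w5).trans (by decide), (h.Bv 6 4 w4).trans (by decide), by rw [h.isom, q_b]⟩
  exact ⟨_, _, _, w0, w1, w2, w3, w4, w5, w6, w7⟩

theorem aux_orth : ∀ i j : ZMod 2, ∀ v : V, (B v (b 0) = 1 ∧ B v (b 2) = 0 ∧ B v (b 3) = 0 ∧ B v (b 6) = 0 ∧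
    B v (b 7) = 0 ∧ B v (b 1 + j • b 0) = 0 ∧ B v (b 5 + i • b 0) = 0 ∧ q v = 0) →
    v = b 4 + i • b 1 + j • b 5 + (i * j) • b 0 := by
  decide +kernel

/-- The case of orthogonal pairs of the first kind. -/
theorem core_orth {g : V → V} (h : Iso g)
    (hc : Comm g [(0, 1), (0, 5), (0, 2), (0, 6), (0, 3), (0, 7), (2, 3), (2, 7), (6, 3), (6, 7)]) :
    ∃ i j : ZMod 2, g (b 0) = b 0 ∧ g (b 1) = b 1 + j • b 0 ∧ g (b 2) = b 2 ∧ g (b 3) = b 3 ∧
      g (b 4) = b 4 + i • b 1 + j • b 5 + (i * j) • b 0 ∧ g (b 5) = b 5 + i • b 0 ∧ g (b 6) = b 6 ∧ g (b 7) = b 7 := by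
  have w0 := hc.fix h 0 1 2 (by decide)
  have w2 := hc.fix h 2 0 3 (by decide)
  have w3 := hc.fix h 3 0 2 (by decide)
  have w6 := hc.fix h 6 0 3 (by decide)
  have w7 := hc.fix h 7 0 2 (by decide)
  have l1 := hc.on h 1 0 (by decide)
  have l5 := hc.on h 5 0 (by decide)
  have e : g (b 1) 1 * g (b 5) 5 = 1 := by
    have h1 := h.B_eq (b 1) (b 5)
    have h2 : B (g (b 1)) (g (b 5)) = g (b 1) 1 * g (b 5) 5 := by
      unfold B
      rw [l1 2 (by decide) (by decide), l1 3 (by decide) (by decide), l1 4 (by decide) (by decide), l1 5 (by decide) (by decide),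
        l1 6 (by decide) (by decide), l1 7 (by decide) (by decide), l5 4 (by decide) (by decide)]
      ring
    rw [← h2, h1]
    decide
  have e2 : ∀ x y : ZMod 2, x * y = 1 → x = 1 ∧ y = 1 := by decide
  obtain ⟨e1, e5⟩ := e2 _ _ e
  have w1 : g (b 1) = b 1 + g (b 1) 0 • b 0 := by
    funext k
    simp only [Pi.add_apply, Pi.smul_apply, b_apply, smul_eq_mul]
    by_cases h4 : k = 1
    · rw [if_pos h4, if_neg (fun e => absurd (h4 ▸ e) (by decide)), mul_zero, add_zero, h4, e1]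
    · by_cases h5 : k = 0
      · rw [if_neg h4, if_pos h5, zero_add, mul_one, h5]
      · rw [if_neg h4, if_neg h5, mul_zero, add_zero, l1 k h4 h5]
  have w5 : g (b 5) = b 5 + g (b 5) 0 • b 0 := by
    funext k
    simp only [Pi.add_apply, Pi.smul_apply, b_apply, smul_eq_mul]
    by_cases h4 : k = 5
    · rw [if_pos h4, if_neg (fun e => absurd (h4 ▸ e) (by decide)), mul_zero, add_zero, h4, e5]
    · by_cases h5 : k = 0
      · rw [if_neg h4, if_pos h5, zero_add, mul_one, h5]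
      · rw [if_neg h4, if_neg h5, mul_zero, add_zero, l5 k h4 h5]
  have w4 := aux_orth (g (b 5) 0) (g (b 1) 0) (g (b 4)) ⟨(h.Bv 4 0 w0).trans (by decide),
    (h.Bv 4 2 w2).trans (by decide), (h.Bv 4 3 w3).trans (by decide), (h.Bv 4 6 w6).trans (by decide),
    (h.Bv 4 7 w7).trans (by decide), (h.Bv 4 1 w1).trans (by decide), (h.Bv 4 5 w5).trans (by decide), by rw [h.isom, q_b]⟩
  exact ⟨_, _, w0, w1, w2, w3, w4, w5, w6, w7⟩

/-- The case of orthogonal pairs of the second kind. -/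
theorem core_orth' {g : V → V} (h : Iso g)
    (hc : Comm g [(0, 1), (0, 2), (0, 3), (1, 2), (1, 3), (2, 3), (0, 5), (1, 4), (2, 7), (3, 6)]) :
    ∃ i j : ZMod 2, g (b 0) = b 0 ∧ g (b 1) = b 1 ∧ g (b 2) = b 2 ∧ g (b 3) = b 3 ∧
      g (b 4) = b 4 + i • b 1 ∧ g (b 5) = b 5 + i • b 0 ∧ g (b 6) = b 6 + j • b 3 ∧ g (b 7) = b 7 + j • b 2 := by
  have w0 := hc.fix h 0 1 2 (by decide)
  have w1 := hc.fix h 1 0 2 (by decide)
  have w2 := hc.fix h 2 0 1 (by decide)
  have w3 := hc.fix h 3 0 1 (by decide)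
  have w4 := on_eq h (hc.on h 4 1 (by decide)) (by decide) w0
  have w5 := on_eq h (hc.on h 5 0 (by decide)) (by decide) w1
  have w6 := on_eq h (hc.on h 6 3 (by decide)) (by decide) w2
  have w7 := on_eq h (hc.on h 7 2 (by decide)) (by decide) w3
  have e1 : ∀ x y : ZMod 2, B (b 4 + x • b 1) (b 5 + y • b 0) = 0 → x = y := by decide
  have e2 : ∀ x y : ZMod 2, B (b 6 + x • b 3) (b 7 + y • b 2) = 0 → x = y := by decide
  have e3 := e1 (g (b 4) 1) (g (b 5) 0) (by rw [← w4, ← w5, h.B_eq]; decide)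
  have e4 := e2 (g (b 6) 3) (g (b 7) 2) (by rw [← w6, ← w7, h.B_eq]; decide)
  refine ⟨g (b 4) 1, g (b 6) 3, w0, w1, w2, w3, w4, ?_, w6, ?_⟩
  · rw [e3]; exact w5
  · rw [e4]; exact w7

/-! ### Products of root elements -/

/-- The power `i` of the root element. -/
def Xp (i : ZMod 2) (u v w : V) : V := w + i • (B w v • u + B w u • v)

theorem Xp_zero (u v w : V) : Xp 0 u v w = w := by
  unfold Xp
  rw [zero_smul, add_zero]

theorem Xp_one (u v w : V) : Xp 1 u v w = Xf u v w := by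
  unfold Xp Xf
  rw [one_smul, add_assoc]

theorem zmod_cases (i : ZMod 2) : i = 0 ∨ i = 1 := by
  revert i
  decide

theorem iso_Xp (i : ZMod 2) {u v : V} (hu : q u = 0) (hv : q v = 0) (huv : B u v = 0) : Iso (Xp i u v) := by
  rcases zmod_cases i with rfl | rfl
  · rw [show Xp 0 u v = fun w => w from funext fun w => Xp_zero u v w]
    exact iso_id
  · rw [show Xp 1 u v = Xf u v from funext fun w => Xp_one u v w]
    exact iso_Xf hu hv huv

theorem Iso.Xp_eq {g : V → V} (h : Iso g) (i : ZMod 2) (u v w : V) : g (Xp i u v w) = Xp i (g u) (g v) (g w) := by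
  unfold Xp
  rw [h.add, h.smul, h.add, h.smul, h.smul, h.B_eq, h.B_eq]

theorem iso_Xp_b (k : ZMod 2) (i j : Fin 8) (hij : j ≠ i + 4) : Iso (Xp k (b i) (b j)) :=
  iso_Xp k (q_b i) (q_b j) (by rw [B_b, if_neg hij])

theorem std_one {g : V → V} (h : Iso g)
    (hc : Comm g [(0, 1), (0, 2), (0, 3), (0, 7), (0, 5), (0, 6), (1, 2), (1, 3), (1, 7), (2, 3), (2, 7)]) :
    ∃ i j : ZMod 2, ∀ w, g w = Xp i (b 0) (b 1) (Xp j (b 0) (b 2) w) := by
  obtain ⟨i, j, w0, w1, w2, w3, w4, w5, w6, w7⟩ := core_one h hc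
  refine ⟨i, j, h.ext ((iso_Xp_b i 0 1 (by decide)).comp (iso_Xp_b j 0 2 (by decide))) fun k => ?_⟩
  have e0 : ∀ i j : ZMod 2, b 0 = Xp i (b 0) (b 1) (Xp j (b 0) (b 2) (b 0)) := by decide
  have e1 : ∀ i j : ZMod 2, b 1 = Xp i (b 0) (b 1) (Xp j (b 0) (b 2) (b 1)) := by decide
  have e2 : ∀ i j : ZMod 2, b 2 = Xp i (b 0) (b 1) (Xp j (b 0) (b 2) (b 2)) := by decide
  have e3 : ∀ i j : ZMod 2, b 3 = Xp i (b 0) (b 1) (Xp j (b 0) (b 2) (b 3)) := by decide
  have e4 : ∀ i j : ZMod 2, b 4 + i • b 1 + j • b 2 = Xp i (b 0) (b 1) (Xp j (b 0) (b 2) (b 4)) := by decide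
  have e5 : ∀ i j : ZMod 2, b 5 + i • b 0 = Xp i (b 0) (b 1) (Xp j (b 0) (b 2) (b 5)) := by decide
  have e6 : ∀ i j : ZMod 2, b 6 + j • b 0 = Xp i (b 0) (b 1) (Xp j (b 0) (b 2) (b 6)) := by decide
  have e7 : ∀ i j : ZMod 2, b 7 = Xp i (b 0) (b 1) (Xp j (b 0) (b 2) (b 7)) := by decide
  fin_cases k
  · exact w0.trans (e0 i j)
  · exact w1.trans (e1 i j)
  · exact w2.trans (e2 i j)
  · exact w3.trans (e3 i j)
  · exact w4.trans (e4 i j)
  · exact w5.trans (e5 i j)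
  · exact w6.trans (e6 i j)
  · exact w7.trans (e7 i j)

theorem std_neg {g : V → V} (h : Iso g) (hc : Comm g [(0, 5), (0, 2), (0, 3), (0, 7), (1, 2), (2, 3), (2, 7)]) :
    ∃ i j k : ZMod 2, ∀ w, g w = Xp i (b 0) (b 1) (Xp j (b 5) (b 2) (Xp k (b 0) (b 2) w)) := by
  obtain ⟨i, j, k, w0, w1, w2, w3, w4, w5, w6, w7⟩ := core_neg h hc
  refine ⟨i, j, k, h.ext ((iso_Xp_b i 0 1 (by decide)).comp ((iso_Xp_b j 5 2 (by decide)).comp (iso_Xp_b k 0 2 (by decide))))
    fun l => ?_⟩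
  have e0 : ∀ i j k : ZMod 2, b 0 = Xp i (b 0) (b 1) (Xp j (b 5) (b 2) (Xp k (b 0) (b 2) (b 0))) := by decide
  have e1 : ∀ i j k : ZMod 2, b 1 + j • b 2 = Xp i (b 0) (b 1) (Xp j (b 5) (b 2) (Xp k (b 0) (b 2) (b 1))) := by decide
  have e2 : ∀ i j k : ZMod 2, b 2 = Xp i (b 0) (b 1) (Xp j (b 5) (b 2) (Xp k (b 0) (b 2) (b 2))) := by decide
  have e3 : ∀ i j k : ZMod 2, b 3 = Xp i (b 0) (b 1) (Xp j (b 5) (b 2) (Xp k (b 0) (b 2) (b 3))) := by decide
  have e4 : ∀ i j k : ZMod 2, b 4 + i • b 1 + k • b 2 = Xp i (b 0) (b 1) (Xp j (b 5) (b 2) (Xp k (b 0) (b 2) (b 4))) := by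
    decide
  have e5 : ∀ i j k : ZMod 2, b 5 + i • b 0 = Xp i (b 0) (b 1) (Xp j (b 5) (b 2) (Xp k (b 0) (b 2) (b 5))) := by decide
  have e6 : ∀ i j k : ZMod 2, b 6 + j • b 5 + (i * j + k) • b 0 =
      Xp i (b 0) (b 1) (Xp j (b 5) (b 2) (Xp k (b 0) (b 2) (b 6))) := by decide
  have e7 : ∀ i j k : ZMod 2, b 7 = Xp i (b 0) (b 1) (Xp j (b 5) (b 2) (Xp k (b 0) (b 2) (b 7))) := by decide
  fin_cases l
  · exact w0.trans (e0 i j k)
  · exact w1.trans (e1 i j k)
  · exact w2.trans (e2 i j k)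
  · exact w3.trans (e3 i j k)
  · exact w4.trans (e4 i j k)
  · exact w5.trans (e5 i j k)
  · exact w6.trans (e6 i j k)
  · exact w7.trans (e7 i j k)

theorem std_orth {g : V → V} (h : Iso g)
    (hc : Comm g [(0, 1), (0, 5), (0, 2), (0, 6), (0, 3), (0, 7), (2, 3), (2, 7), (6, 3), (6, 7)]) :
    ∃ i j : ZMod 2, ∀ w, g w = Xp i (b 0) (b 1) (Xp j (b 0) (b 5) w) := by
  obtain ⟨i, j, w0, w1, w2, w3, w4, w5, w6, w7⟩ := core_orth h hc
  refine ⟨i, j, h.ext ((iso_Xp_b i 0 1 (by decide)).comp (iso_Xp_b j 0 5 (by decide))) fun k => ?_⟩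
  have e0 : ∀ i j : ZMod 2, b 0 = Xp i (b 0) (b 1) (Xp j (b 0) (b 5) (b 0)) := by decide
  have e1 : ∀ i j : ZMod 2, b 1 + j • b 0 = Xp i (b 0) (b 1) (Xp j (b 0) (b 5) (b 1)) := by decide
  have e2 : ∀ i j : ZMod 2, b 2 = Xp i (b 0) (b 1) (Xp j (b 0) (b 5) (b 2)) := by decide
  have e3 : ∀ i j : ZMod 2, b 3 = Xp i (b 0) (b 1) (Xp j (b 0) (b 5) (b 3)) := by decide
  have e4 : ∀ i j : ZMod 2, b 4 + i • b 1 + j • b 5 + (i * j) • b 0 = Xp i (b 0) (b 1) (Xp j (b 0) (b 5) (b 4)) := by decide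
  have e5 : ∀ i j : ZMod 2, b 5 + i • b 0 = Xp i (b 0) (b 1) (Xp j (b 0) (b 5) (b 5)) := by decide
  have e6 : ∀ i j : ZMod 2, b 6 = Xp i (b 0) (b 1) (Xp j (b 0) (b 5) (b 6)) := by decide
  have e7 : ∀ i j : ZMod 2, b 7 = Xp i (b 0) (b 1) (Xp j (b 0) (b 5) (b 7)) := by decide
  fin_cases k
  · exact w0.trans (e0 i j)
  · exact w1.trans (e1 i j)
  · exact w2.trans (e2 i j)
  · exact w3.trans (e3 i j)
  · exact w4.trans (e4 i j)
  · exact w5.trans (e5 i j)
  · exact w6.trans (e6 i j)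
  · exact w7.trans (e7 i j)

theorem std_orth' {g : V → V} (h : Iso g)
    (hc : Comm g [(0, 1), (0, 2), (0, 3), (1, 2), (1, 3), (2, 3), (0, 5), (1, 4), (2, 7), (3, 6)]) :
    ∃ i j : ZMod 2, ∀ w, g w = Xp i (b 0) (b 1) (Xp j (b 2) (b 3) w) := by
  obtain ⟨i, j, w0, w1, w2, w3, w4, w5, w6, w7⟩ := core_orth' h hc
  refine ⟨i, j, h.ext ((iso_Xp_b i 0 1 (by decide)).comp (iso_Xp_b j 2 3 (by decide))) fun k => ?_⟩
  have e0 : ∀ i j : ZMod 2, b 0 = Xp i (b 0) (b 1) (Xp j (b 2) (b 3) (b 0)) := by decide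
  have e1 : ∀ i j : ZMod 2, b 1 = Xp i (b 0) (b 1) (Xp j (b 2) (b 3) (b 1)) := by decide
  have e2 : ∀ i j : ZMod 2, b 2 = Xp i (b 0) (b 1) (Xp j (b 2) (b 3) (b 2)) := by decide
  have e3 : ∀ i j : ZMod 2, b 3 = Xp i (b 0) (b 1) (Xp j (b 2) (b 3) (b 3)) := by decide
  have e4 : ∀ i j : ZMod 2, b 4 + i • b 1 = Xp i (b 0) (b 1) (Xp j (b 2) (b 3) (b 4)) := by decide
  have e5 : ∀ i j : ZMod 2, b 5 + i • b 0 = Xp i (b 0) (b 1) (Xp j (b 2) (b 3) (b 5)) := by decide
  have e6 : ∀ i j : ZMod 2, b 6 + j • b 3 = Xp i (b 0) (b 1) (Xp j (b 2) (b 3) (b 6)) := by decide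
  have e7 : ∀ i j : ZMod 2, b 7 + j • b 2 = Xp i (b 0) (b 1) (Xp j (b 2) (b 3) (b 7)) := by decide
  fin_cases k
  · exact w0.trans (e0 i j)
  · exact w1.trans (e1 i j)
  · exact w2.trans (e2 i j)
  · exact w3.trans (e3 i j)
  · exact w4.trans (e4 i j)
  · exact w5.trans (e5 i j)
  · exact w6.trans (e6 i j)
  · exact w7.trans (e7 i j)

/-! ### Arbitrary frames -/

/-- A frame: a permutation of the basis which respects the hyperbolic pairs. -/
structure Frame (φ : Equiv.Perm (Fin 8)) : Prop where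
  bar : ∀ i, φ (i + 4) = φ i + 4

/-- The permutation of the coordinates. -/
def P (φ : Equiv.Perm (Fin 8)) (v : V) : V := fun i => v (φ.symm i)

theorem P_b (φ : Equiv.Perm (Fin 8)) (i : Fin 8) : P φ (b i) = b (φ i) := by
  funext k
  show b i (φ.symm k) = b (φ i) k
  rw [b_apply, b_apply]
  congr 1
  exact propext ⟨fun h => by rw [← h, Equiv.apply_symm_apply], fun h => by rw [h, Equiv.symm_apply_apply]⟩

theorem P_symm (φ : Equiv.Perm (Fin 8)) (v : V) : P φ (P φ.symm v) = v := by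
  funext k
  show v (φ.symm.symm (φ.symm k)) = v k
  rw [Equiv.symm_symm, Equiv.apply_symm_apply]

theorem P_symm' (φ : Equiv.Perm (Fin 8)) (v : V) : P φ.symm (P φ v) = v := by
  have := P_symm φ.symm v
  rwa [Equiv.symm_symm] at this

/-- the index modulo 4 -/
def c (i : Fin 4) : Fin 8 := ⟨i, by omega⟩

theorem q_sum (v : V) : q v = ∑ i : Fin 4, v (c i) * v (c i + 4) := by
  rw [Fin.sum_univ_four]
  rfl

def md (i : Fin 8) : Fin 4 := ⟨i % 4, Nat.mod_lt _ (by norm_num)⟩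

theorem c_md (i : Fin 8) : c (md i) = i ∨ c (md i) = i + 4 := by
  revert i
  decide

theorem add_four (i : Fin 8) : i + 4 + 4 = i := by
  revert i
  decide

theorem val_md (v : V) (i : Fin 8) : v (c (md i)) * v (c (md i) + 4) = v i * v (i + 4) := by
  rcases c_md i with h | h
  · rw [h]
  · rw [h, add_four, mul_comm]

theorem c_inj {i j : Fin 4} (h : c i = c j) : i = j := by
  revert i j
  decide

theorem c_ne (i j : Fin 4) : c i ≠ c j + 4 := by
  revert i j
  decide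

theorem Frame.symm {φ : Equiv.Perm (Fin 8)} (h : Frame φ) : Frame φ.symm where
  bar := fun i => by
    apply φ.injective
    rw [Equiv.apply_symm_apply, h.bar, Equiv.apply_symm_apply]

theorem Frame.iso {φ : Equiv.Perm (Fin 8)} (h : Frame φ) : Iso (P φ) where
  add := fun _ _ => rfl
  inj := fun v hv => by
    have := P_symm' φ v
    rw [hv] at this
    rw [← this]
    rfl
  isom := fun v => by
    have hs := h.symm
    let σ : Fin 4 → Fin 4 := fun i => md (φ.symm (c i))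
    have hσ : Function.Injective σ := by
      intro i j hij
      have e1 : c (md (φ.symm (c i))) = c (md (φ.symm (c j))) := congrArg c hij
      rcases c_md (φ.symm (c i)) with h1 | h1 <;> rcases c_md (φ.symm (c j)) with h2 | h2 <;> rw [h1, h2] at e1
      · exact c_inj (φ.symm.injective e1)
      · rw [← hs.bar] at e1
        exact absurd (φ.symm.injective e1) (c_ne i j)
      · rw [← hs.bar] at e1
        exact absurd (φ.symm.injective e1).symm (c_ne j i)
      · rw [← hs.bar, ← hs.bar] at e1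
        have e2 := congrArg (· + 4) (φ.symm.injective e1)
        simp only [add_four] at e2
        exact c_inj e2
    have hb : Function.Bijective σ := Finite.injective_iff_bijective.1 hσ
    rw [q_sum, q_sum]
    rw [← hb.sum_comp fun i => v (c i) * v (c i + 4)]
    refine Finset.sum_congr rfl fun i _ => ?_
    show v (φ.symm (c i)) * v (φ.symm (c i + 4)) = v (c (md (φ.symm (c i)))) * v (c (md (φ.symm (c i))) + 4)
    rw [val_md, hs.bar]

/-- transport of the hypothesis -/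
theorem Comm.conj {φ : Equiv.Perm (Fin 8)} (hφ : Frame φ) {g : V → V} {S : List (Fin 8 × Fin 8)}
    (hc : Comm g (S.map fun p => (φ p.1, φ p.2))) : Comm (fun v => P φ.symm (g (P φ v))) S := by
  intro p hp w
  have h1 : g (Xf (b (φ p.1)) (b (φ p.2)) (P φ w)) = Xf (b (φ p.1)) (b (φ p.2)) (g (P φ w)) :=
    hc (φ p.1, φ p.2) (List.mem_map.2 ⟨p, hp, rfl⟩) (P φ w)
  show P φ.symm (g (P φ (Xf (b p.1) (b p.2) w))) = Xf (b p.1) (b p.2) (P φ.symm (g (P φ w)))
  rw [hφ.iso.Xf_eq, P_b, P_b, h1, hφ.symm.iso.Xf_eq, P_b, P_b, Equiv.symm_apply_apply, Equiv.symm_apply_apply]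

theorem dc_one {φ : Equiv.Perm (Fin 8)} (hφ : Frame φ) {g : V → V} (h : Iso g)
    (hc : Comm g ([(0, 1), (0, 2), (0, 3), (0, 7), (0, 5), (0, 6), (1, 2), (1, 3), (1, 7), (2, 3), (2, 7)].map
      fun p => (φ p.1, φ p.2))) :
    ∃ i j : ZMod 2, ∀ w, g w = Xp i (b (φ 0)) (b (φ 1)) (Xp j (b (φ 0)) (b (φ 2)) w) := by
  obtain ⟨i, j, e⟩ := std_one (hφ.symm.iso.comp (h.comp hφ.iso)) (hc.conj hφ)
  refine ⟨i, j, fun w => ?_⟩
  have e1 := congrArg (P φ) (e (P φ.symm w))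
  simp only [P_symm] at e1
  rw [e1, hφ.iso.Xp_eq, hφ.iso.Xp_eq, P_b, P_b, P_b, P_symm]

theorem dc_neg {φ : Equiv.Perm (Fin 8)} (hφ : Frame φ) {g : V → V} (h : Iso g)
    (hc : Comm g ([(0, 5), (0, 2), (0, 3), (0, 7), (1, 2), (2, 3), (2, 7)].map fun p => (φ p.1, φ p.2))) :
    ∃ i j k : ZMod 2, ∀ w, g w = Xp i (b (φ 0)) (b (φ 1)) (Xp j (b (φ 5)) (b (φ 2)) (Xp k (b (φ 0)) (b (φ 2)) w)) := by
  obtain ⟨i, j, k, e⟩ := std_neg (hφ.symm.iso.comp (h.comp hφ.iso)) (hc.conj hφ)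
  refine ⟨i, j, k, fun w => ?_⟩
  have e1 := congrArg (P φ) (e (P φ.symm w))
  simp only [P_symm] at e1
  rw [e1, hφ.iso.Xp_eq, hφ.iso.Xp_eq, hφ.iso.Xp_eq, P_b, P_b, P_b, P_b, P_symm]

theorem dc_orth {φ : Equiv.Perm (Fin 8)} (hφ : Frame φ) {g : V → V} (h : Iso g)
    (hc : Comm g ([(0, 1), (0, 5), (0, 2), (0, 6), (0, 3), (0, 7), (2, 3), (2, 7), (6, 3), (6, 7)].map
      fun p => (φ p.1, φ p.2))) :
    ∃ i j : ZMod 2, ∀ w, g w = Xp i (b (φ 0)) (b (φ 1)) (Xp j (b (φ 0)) (b (φ 5)) w) := by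
  obtain ⟨i, j, e⟩ := std_orth (hφ.symm.iso.comp (h.comp hφ.iso)) (hc.conj hφ)
  refine ⟨i, j, fun w => ?_⟩
  have e1 := congrArg (P φ) (e (P φ.symm w))
  simp only [P_symm] at e1
  rw [e1, hφ.iso.Xp_eq, hφ.iso.Xp_eq, P_b, P_b, P_b, P_symm]

theorem dc_orth' {φ : Equiv.Perm (Fin 8)} (hφ : Frame φ) {g : V → V} (h : Iso g)
    (hc : Comm g ([(0, 1), (0, 2), (0, 3), (1, 2), (1, 3), (2, 3), (0, 5), (1, 4), (2, 7), (3, 6)].map
      fun p => (φ p.1, φ p.2))) :
    ∃ i j : ZMod 2, ∀ w, g w = Xp i (b (φ 0)) (b (φ 1)) (Xp j (b (φ 2)) (b (φ 3)) w) := by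
  obtain ⟨i, j, e⟩ := std_orth' (hφ.symm.iso.comp (h.comp hφ.iso)) (hc.conj hφ)
  refine ⟨i, j, fun w => ?_⟩
  have e1 := congrArg (P φ) (e (P φ.symm w))
  simp only [P_symm] at e1
  rw [e1, hφ.iso.Xp_eq, hφ.iso.Xp_eq, P_b, P_b, P_b, P_b, P_symm]

end Cfsg.Agent.StdO8.Dc
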