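import Cfsg.Agent.StdO8.Model
import Cfsg.Agent.StdO8.Dc
import Cfsg.Agent.StdO8.D4Root

/-!
# The root elements of the standard frame of `Ω₈⁺(2)`

`bv i` (`i : Fin 8`) the standard basis of the natural module, `wt i` the weight of `bv i` in `ℤ⁴`, `xO r` the root element of the
root `r` of `D4` (the line `⟨bv i, bv j⟩` with `wt i + wt j = r`).
-/

set_option autoImplicit false

namespace Cfsg.Agent.StdO8.Bas

open Cfsg.Agent.StdO8.Model (V q B X O8 Om)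
open Cfsg.Agent.StdO8.D4Root (E ip roots Φ)

/-! ### Coordinates -/

/-- The index set of the basis. -/
def ix : Fin 8 ≃ Fin 4 ⊕ Fin 4 := (finSumFinEquiv (m := 4) (n := 4)).symm

/-- Coordinates. -/
def toD (v : V) : Dc.V := fun i => v (ix i)

/-- The inverse of `toD`. -/
def ofD (v : Dc.V) : V := fun i => v (ix.symm i)

theorem toD_ofD (v : Dc.V) : toD (ofD v) = v := by
  funext i
  show v (ix.symm (ix i)) = v i
  rw [Equiv.symm_apply_apply]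

theorem ofD_toD (v : V) : ofD (toD v) = v := by
  funext i
  show v (ix (ix.symm i)) = v i
  rw [Equiv.apply_symm_apply]

theorem toD_add (v w : V) : toD (v + w) = toD v + toD w := rfl

theorem ofD_add (v w : Dc.V) : ofD (v + w) = ofD v + ofD w := rfl

theorem toD_smul (a : ZMod 2) (w : V) : toD (a • w) = a • toD w := rfl

theorem q_toD (v : V) : Dc.q (toD v) = q v := by
  rw [Model.q_apply, Fin.sum_univ_four]
  rfl

theorem B_toD (v w : V) : Dc.B (toD v) (toD w) = B v w := by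
  have h1 := Dc.q_add (toD v) (toD w)
  rw [← toD_add, q_toD, q_toD, q_toD, Model.q_add] at h1
  exact (add_left_cancel h1).symm

/-- The standard basis. -/
def bv (i : Fin 8) : V := ofD (Dc.b i)

theorem toD_bv (i : Fin 8) : toD (bv i) = Dc.b i := toD_ofD _

theorem q_bv (i : Fin 8) : q (bv i) = 0 := by rw [← q_toD, toD_bv, Dc.q_b]

theorem B_bv (i j : Fin 8) : B (bv i) (bv j) = if j = i + 4 then 1 else 0 := by
  rw [← B_toD, toD_bv, toD_bv, Dc.B_b]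

theorem bv_ne (i : Fin 8) : bv i ≠ 0 := fun h => by
  have h1 : Dc.b i = 0 := by rw [← toD_bv, h]; rfl
  have h2 := congrFun h1 i
  rw [Dc.b_apply, if_pos rfl] at h2
  exact absurd (show (1 : ZMod 2) = 0 from h2) (by decide)

/-- The action of an endomorphism in coordinates. -/
def th (g : V ≃ₗ[ZMod 2] V) (v : Dc.V) : Dc.V := toD (g (ofD v))

theorem th_mul (g h : V ≃ₗ[ZMod 2] V) (v : Dc.V) : th (g * h) v = th g (th h v) := by
  unfold th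
  rw [ofD_toD]
  rfl

theorem th_one (v : Dc.V) : th 1 v = v := toD_ofD v

theorem th_inj {g h : V ≃ₗ[ZMod 2] V} (e : ∀ v, th g v = th h v) : g = h := by
  ext v : 1
  have := e (toD v)
  unfold th at this
  rw [ofD_toD] at this
  have h2 := congrArg ofD this
  rwa [ofD_toD, ofD_toD] at h2

theorem th_iso {g : V ≃ₗ[ZMod 2] V} (hg : g ∈ O8) : Dc.Iso (th g) where
  add := fun v w => by
    unfold th
    rw [ofD_add, map_add, toD_add]
  isom := fun v => by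
    unfold th
    rw [q_toD, Model.O8_q hg, ← q_toD, toD_ofD]
  inj := fun v hv => by
    have h1 : g (ofD v) = 0 := by
      rw [← ofD_toD (g (ofD v))]
      show ofD (th g v) = 0
      rw [hv]; rfl
    have h2 : ofD v = 0 := g.map_eq_zero_iff.1 h1
    rw [← toD_ofD v, h2]; rfl

theorem th_X {u w : V} (hu : q u = 0) (hq : q w = 0) (h : B u w = 0) (v : Dc.V) :
    th (X u w) v = Dc.Xf (toD u) (toD w) v := by
  unfold th
  rw [Model.X_apply hu hq h, toD_add, toD_add, toD_smul, toD_smul, toD_ofD, ← B_toD, ← B_toD, toD_ofD]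
  unfold Dc.Xf
  rw [Dc.B_comm v (toD w), Dc.B_comm v (toD u)]
  abel

/-! ### Pairs of basis vectors -/

/-- The two basis vectors span a totally singular line. -/
abbrev ok (i j : Fin 8) : Prop := j ≠ i ∧ j ≠ i + 4

theorem ok_symm {i j : Fin 8} (h : ok i j) : ok j i := by
  revert i j
  decide

/-- The root element of the line `⟨bv i, bv j⟩`. -/
noncomputable def xb (i j : Fin 8) : V ≃ₗ[ZMod 2] V := X (bv i) (bv j)

theorem B_ok {i j : Fin 8} (h : ok i j) : B (bv i) (bv j) = 0 := by rw [B_bv, if_neg h.2]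

theorem th_xb {i j : Fin 8} (h : ok i j) (v : Dc.V) : th (xb i j) v = Dc.Xf (Dc.b i) (Dc.b j) v := by
  unfold xb
  rw [th_X (q_bv i) (q_bv j) (B_ok h), toD_bv, toD_bv]

theorem xb_symm (i j : Fin 8) : xb i j = xb j i := Model.X_comm (q_bv i) (q_bv j)

theorem xb_sq (i j : Fin 8) : xb i j * xb i j = 1 := Model.X_mul_self _ _

theorem xb_mem (i j : Fin 8) : xb i j ∈ Om := Model.X_mem _ _

theorem xb_mem_O8 (i j : Fin 8) : xb i j ∈ O8 := Model.X_mem_O8 _ _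

theorem xb_apply {i j : Fin 8} (h : ok i j) (k : Fin 8) :
    xb i j (bv k) = bv k + (if k = i + 4 then (1 : ZMod 2) else 0) • bv j + (if k = j + 4 then (1 : ZMod 2) else 0) • bv i := by
  unfold xb
  rw [Model.X_apply (q_bv i) (q_bv j) (B_ok h), B_bv, B_bv]

theorem xb_fix {i j : Fin 8} (h : ok i j) {k : Fin 8} (h1 : k ≠ i + 4) (h2 : k ≠ j + 4) : xb i j (bv k) = bv k := by
  rw [xb_apply h, if_neg h1, if_neg h2, zero_smul, zero_smul, add_zero, add_zero]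

theorem xb_bar {i j : Fin 8} (h : ok i j) : xb i j (bv (i + 4)) = bv (i + 4) + bv j := by
  have h1 : i + 4 ≠ j + 4 := fun e => h.1 (add_right_cancel e).symm
  rw [xb_apply h, if_pos rfl, if_neg h1, one_smul, zero_smul, add_zero]

theorem xb_ne {i j : Fin 8} (h : ok i j) : xb i j ≠ 1 := fun e => by
  have h1 := xb_bar h
  rw [e] at h1
  exact bv_ne j (left_eq_add.1 h1)

/-- Conjugation. -/
theorem xb_conj {g : V ≃ₗ[ZMod 2] V} (hg : g ∈ O8) (i j : Fin 8) : g * xb i j * g⁻¹ = X (g (bv i)) (g (bv j)) :=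
  Model.X_conj hg _ _

/-! ### Roots -/

/-- The weight of the basis vector `bv i`. -/
def wt (i : Fin 8) : E :=
  (![![1, 0, 0, 0], ![0, 1, 0, 0], ![0, 0, 1, 0], ![0, 0, 0, 1], ![-1, 0, 0, 0], ![0, -1, 0, 0], ![0, 0, -1, 0], ![0, 0, 0, -1]] :
    Fin 8 → E) i

/-- All pairs. -/
def pairs : List (Fin 8 × Fin 8) :=
  [(0, 1), (0, 5), (0, 2), (0, 6), (0, 3), (0, 7), (1, 2), (1, 6), (1, 3), (1, 7), (2, 3), (2, 7),
   (4, 5), (1, 4), (4, 6), (2, 4), (4, 7), (3, 4), (5, 6), (2, 5), (5, 7), (3, 5), (6, 7), (3, 6)]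

/-- The basis vectors of a root. -/
def hd (r : E) : Fin 8 × Fin 8 := (pairs.find? fun p => wt p.1 + wt p.2 = r).getD (0, 1)

theorem hd_wt : ∀ i j : Fin 8, ok i j → hd (wt i + wt j) = (i, j) ∨ hd (wt i + wt j) = (j, i) := by decide +kernel

theorem wt_mem : ∀ i j : Fin 8, ok i j → wt i + wt j ∈ roots := by decide +kernel

theorem wt_hd : ∀ r ∈ roots, wt (hd r).1 + wt (hd r).2 = r ∧ ok (hd r).1 (hd r).2 := by decide +kernel

theorem ip_wt : ∀ i j : Fin 8, ip (wt i) (wt j) = if i = j then 1 else if j = i + 4 then -1 else 0 := by decide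

/-- The root element of the root `r`. -/
noncomputable def xO (r : E) : V ≃ₗ[ZMod 2] V := xb (hd r).1 (hd r).2

theorem xO_wt {i j : Fin 8} (h : ok i j) : xO (wt i + wt j) = xb i j := by
  unfold xO
  rcases hd_wt i j h with e | e
  · rw [e]
  · rw [e]; exact xb_symm j i

theorem xO_mem (r : E) : xO r ∈ Om := xb_mem _ _

theorem xO_mem_O8 (r : E) : xO r ∈ O8 := xb_mem_O8 _ _

theorem xO_sq (r : E) : xO r * xO r = 1 := xb_sq _ _

theorem xO_inv (r : E) : (xO r)⁻¹ = xO r := inv_eq_of_mul_eq_one_left (xO_sq r)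

theorem xO_ne {r : E} (hr : r ∈ Φ) : xO r ≠ 1 := xb_ne (wt_hd r hr).2

/-- The pair of collinear roots. -/
def f1 (r s : E) : Fin 8 × Fin 8 × Fin 8 :=
  let p := hd r
  let p' := hd s
  if p.1 = p'.1 then (p.1, p.2, p'.2) else if p.1 = p'.2 then (p.1, p.2, p'.1) else
    if p.2 = p'.1 then (p.2, p.1, p'.2) else (p.2, p.1, p'.1)

theorem f1_spec : ∀ r ∈ roots, ∀ s ∈ roots, ip r s = 1 → (ok (f1 r s).1 (f1 r s).2.1 ∧ ok (f1 r s).1 (f1 r s).2.2 ∧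
    ok (f1 r s).2.1 (f1 r s).2.2 ∧ r = wt (f1 r s).1 + wt (f1 r s).2.1 ∧ s = wt (f1 r s).1 + wt (f1 r s).2.2) := by
  decide +kernel

/-- Collinear roots. -/
theorem pair_one {r s : E} (hr : r ∈ Φ) (hs : s ∈ Φ) (h : ip r s = 1) :
    ∃ a b c, ok a b ∧ ok a c ∧ ok b c ∧ r = wt a + wt b ∧ s = wt a + wt c :=
  ⟨_, _, _, f1_spec r hr s hs h⟩

/-- The pair of special roots. -/
def f2 (r s : E) : Fin 8 × Fin 8 × Fin 8 :=
  let p := hd r
  let p' := hd s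
  if p'.1 = p.1 + 4 then (p.2, p.1, p'.2) else if p'.2 = p.1 + 4 then (p.2, p.1, p'.1) else
    if p'.1 = p.2 + 4 then (p.1, p.2, p'.2) else (p.1, p.2, p'.1)

theorem f2_spec : ∀ r ∈ roots, ∀ s ∈ roots, ip r s = -1 → (ok (f2 r s).1 (f2 r s).2.1 ∧ ok (f2 r s).1 (f2 r s).2.2 ∧
    ok (f2 r s).2.1 (f2 r s).2.2 ∧ r = wt (f2 r s).1 + wt (f2 r s).2.1 ∧ s = wt ((f2 r s).2.1 + 4) + wt (f2 r s).2.2) := by
  decide +kernel

/-- Special roots. -/
theorem pair_neg {r s : E} (hr : r ∈ Φ) (hs : s ∈ Φ) (h : ip r s = -1) :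
    ∃ a b c, ok a b ∧ ok a c ∧ ok b c ∧ r = wt a + wt b ∧ s = wt (b + 4) + wt c :=
  ⟨_, _, _, f2_spec r hr s hs h⟩

/-- The pair of orthogonal roots. -/
def f3 (r s : E) : Fin 8 × Fin 8 × Fin 8 × Fin 8 :=
  let p := hd r
  let p' := hd s
  if p.1 = p'.1 ∨ p.1 = p'.2 then (p.1, p.2, p.1, p.2 + 4) else if p.2 = p'.1 ∨ p.2 = p'.2 then (p.2, p.1, p.2, p.1 + 4) else
    (p.1, p.2, p'.1, p'.2)

theorem f3_spec : ∀ r ∈ roots, ∀ s ∈ roots, ip r s = 0 → (ok (f3 r s).1 (f3 r s).2.1 ∧ r = wt (f3 r s).1 + wt (f3 r s).2.1 ∧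
    s = wt (f3 r s).2.2.1 + wt (f3 r s).2.2.2 ∧ ((f3 r s).2.2.1 = (f3 r s).1 ∧ (f3 r s).2.2.2 = (f3 r s).2.1 + 4 ∨
      (ok (f3 r s).1 (f3 r s).2.2.1 ∧ ok (f3 r s).1 (f3 r s).2.2.2 ∧ ok (f3 r s).2.1 (f3 r s).2.2.1 ∧
      ok (f3 r s).2.1 (f3 r s).2.2.2 ∧ ok (f3 r s).2.2.1 (f3 r s).2.2.2))) := by
  decide +kernel

/-- Orthogonal roots. -/
theorem pair_zero {r s : E} (hr : r ∈ Φ) (hs : s ∈ Φ) (h : ip r s = 0) :
    ∃ a b, ok a b ∧ r = wt a + wt b ∧ (s = wt a + wt (b + 4) ∨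
      ∃ c d, ok a c ∧ ok a d ∧ ok b c ∧ ok b d ∧ ok c d ∧ s = wt c + wt d) := by
  obtain ⟨h1, h2, h3, h4⟩ := f3_spec r hr s hs h
  refine ⟨_, _, h1, h2, ?_⟩
  rcases h4 with ⟨h4, h5⟩ | ⟨h4, h5, h6, h7, h8⟩
  · left
    rw [h4, h5] at h3
    exact h3
  · right
    exact ⟨_, _, h4, h5, h6, h7, h8, h3⟩

/-! ### Relations -/

theorem add_four (i : Fin 8) : i + 4 + 4 = i := Dc.add_four i

/-- Two root elements whose lines are orthogonal commute. -/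
theorem xb_comm_of_fix {i j k l : Fin 8} (hij : ok i j) (h1 : k ≠ i + 4) (h2 : k ≠ j + 4) (h3 : l ≠ i + 4) (h4 : l ≠ j + 4) :
    xb i j * xb k l = xb k l * xb i j := by
  have h := xb_conj (xb_mem_O8 i j) k l
  rw [xb_fix hij h1 h2, xb_fix hij h3 h4] at h
  rw [mul_inv_eq_iff_eq_mul] at h
  exact h

theorem ip_self_wt (i : Fin 8) : ip (wt i) (wt i) = 1 := by rw [ip_wt, if_pos rfl]

theorem ip_add_right (a b c : E) : ip a (b + c) = ip a b + ip a c := by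
  rw [D4Root.ip_symm, D4Root.ip_add_left, D4Root.ip_symm b, D4Root.ip_symm c]

/-- Root elements with nonnegative inner product commute. -/
theorem xO_comm {r s : E} (hr : r ∈ Φ) (hs : s ∈ Φ) (h : 0 ≤ ip r s) : xO r * xO s = xO s * xO r := by
  obtain ⟨hr1, hr2⟩ := wt_hd r hr
  obtain ⟨hs1, hs2⟩ := wt_hd s hs
  unfold xO
  set i := (hd r).1
  set j := (hd r).2
  set k := (hd s).1
  set l := (hd s).2
  rw [← hr1, ← hs1] at h
  clear_value i j k l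
  clear hr1 hs1 hr hs
  have key : ∀ i j k l : Fin 8, ok i j → ok k l → 0 ≤ ip (wt i + wt j) (wt k + wt l) →
      (k ≠ i + 4 ∧ k ≠ j + 4 ∧ l ≠ i + 4 ∧ l ≠ j + 4) ∨ (k = i + 4 ∧ l = j) ∨ (k = i ∧ l = j + 4) ∨
        (k = j + 4 ∧ l = i) ∨ (k = j ∧ l = i + 4) := by decide +kernel
  -- the case of two lines `⟨i, j⟩` and `⟨i + 4, j⟩`
  have c1 : ∀ i j : Fin 8, ok i j → xb i j * xb (i + 4) j = xb (i + 4) j * xb i j := by
    intro i j hij
    have h1 := xb_conj (xb_mem_O8 i j) j (i + 4)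
    have h2 : ∀ i j : Fin 8, ok i j → j ≠ i + 4 ∧ j ≠ j + 4 := by decide
    obtain ⟨h3, h4⟩ := h2 i j hij
    rw [xb_fix hij h3 h4, xb_bar hij, Model.X_add_right (q_bv j), mul_inv_eq_iff_eq_mul] at h1
    rw [xb_symm (i + 4) j]
    exact h1
  rcases key i j k l hr2 hs2 h with h1 | h1 | h1 | h1 | h1
  · exact xb_comm_of_fix hr2 h1.1 h1.2.1 h1.2.2.1 h1.2.2.2
  · rw [h1.1, h1.2]; exact c1 i j hr2
  · rw [h1.1, h1.2, xb_symm i j, xb_symm i (j + 4)]; exact c1 j i (ok_symm hr2)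
  · rw [h1.1, h1.2, xb_symm i j]; exact c1 j i (ok_symm hr2)
  · rw [h1.1, h1.2, xb_symm j (i + 4)]; exact c1 i j hr2

theorem xb_mul {a b c : Fin 8} (h1 : ok a b) (h2 : ok a c) : xb a b * xb a c = X (bv a) (bv b + bv c) :=
  Model.X_mul (q_bv a) (B_ok h1) (B_ok h2)

/-- The commutator relation. -/
theorem xO_conj {r s : E} (hr : r ∈ Φ) (hs : s ∈ Φ) (h : ip r s = -1) : xO s * xO r * xO s = xO r * xO (r + s) := by
  obtain ⟨a, b, c, h1, h2, h3, rfl, rfl⟩ := pair_neg hr hs h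
  have k : ∀ a b c : Fin 8, ok a b → ok a c → ok b c → ok (b + 4) c ∧ a ≠ b + 4 + 4 ∧ a ≠ c + 4 ∧ b + 4 + 4 = b ∧
      wt a + wt b + (wt (b + 4) + wt c) = wt a + wt c := by decide +kernel
  obtain ⟨k1, k2, k3, k4, k5⟩ := k a b c h1 h2 h3
  rw [k5, xO_wt h1, xO_wt h2, xO_wt k1, xb_mul h1 h2]
  have h4 := xb_conj (xb_mem_O8 (b + 4) c) a b
  have h5 : xb (b + 4) c (bv b) = bv b + bv c := by
    have := xb_bar k1
    rwa [k4] at this
  rw [xb_fix k1 k2 k3, h5] at h4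
  rw [← h4, inv_eq_of_mul_eq_one_left (xb_sq _ _)]

/-! ### Frames -/

/-- The frame of four basis vectors. -/
def fr (a b c d : Fin 8) : Fin 8 → Fin 8 := ![a, b, c, d, a + 4, b + 4, c + 4, d + 4]

theorem fr_inj : ∀ a b c d : Fin 8, ok a b → ok a c → ok a d → ok b c → ok b d → ok c d → Function.Injective (fr a b c d) := by
  decide +kernel

theorem fr_bar : ∀ a b c d : Fin 8, ∀ i, fr a b c d (i + 4) = fr a b c d i + 4 := by
  intro a b c d i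
  have h := add_four
  fin_cases i
  · rfl
  · rfl
  · rfl
  · rfl
  · exact (h a).symm
  · exact (h b).symm
  · exact (h c).symm
  · exact (h d).symm

theorem exists_frame {a b c d : Fin 8} (h1 : ok a b) (h2 : ok a c) (h3 : ok a d) (h4 : ok b c) (h5 : ok b d) (h6 : ok c d) :
    ∃ φ : Equiv.Perm (Fin 8), Dc.Frame φ ∧ φ 0 = a ∧ φ 1 = b ∧ φ 2 = c ∧ φ 3 = d :=
  ⟨Equiv.ofBijective _ (Finite.injective_iff_bijective.1 (fr_inj a b c d h1 h2 h3 h4 h5 h6)), ⟨fun i => fr_bar a b c d i⟩,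
    rfl, rfl, rfl, rfl⟩

theorem exists_fourth : ∀ a b c : Fin 8, ok a b → ok a c → ok b c → ∃ d, ok a d ∧ ok b d ∧ ok c d := by decide

theorem exists_third : ∀ a b : Fin 8, ok a b → ∃ c, ok a c ∧ ok b c := by decide

theorem frame_ok {φ : Equiv.Perm (Fin 8)} (hφ : Dc.Frame φ) {i j : Fin 8} (h : ok i j) : ok (φ i) (φ j) :=
  ⟨fun e => h.1 (φ.injective e), fun e => h.2 (φ.injective (by rw [hφ.bar]; exact e))⟩

theorem frame_ip {φ : Equiv.Perm (Fin 8)} (hφ : Dc.Frame φ) (i j : Fin 8) : ip (wt (φ i)) (wt (φ j)) = ip (wt i) (wt j) := by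
  rw [ip_wt, ip_wt, ← hφ.bar]
  simp only [EmbeddingLike.apply_eq_iff_eq]

theorem frame_ip' {φ : Equiv.Perm (Fin 8)} (hφ : Dc.Frame φ) (i j k l : Fin 8) :
    ip (wt (φ i) + wt (φ j)) (wt (φ k) + wt (φ l)) = ip (wt i + wt j) (wt k + wt l) := by
  rw [D4Root.ip_add_left, ip_add_right, ip_add_right, frame_ip hφ, frame_ip hφ, frame_ip hφ, frame_ip hφ,
    D4Root.ip_add_left, ip_add_right, ip_add_right]

/-- the hypothesis for the double centraliser -/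
def Cen (g : V ≃ₗ[ZMod 2] V) (r s : E) : Prop := ∀ a ∈ Φ, 0 ≤ ip a r → 0 ≤ ip a s → g * xO a = xO a * g

theorem comm_of_cen {g : V ≃ₗ[ZMod 2] V} {φ : Equiv.Perm (Fin 8)} (hφ : Dc.Frame φ) {i j k l : Fin 8} {S : List (Fin 8 × Fin 8)}
    (hS : ∀ p ∈ S, ok p.1 p.2 ∧ 0 ≤ ip (wt p.1 + wt p.2) (wt i + wt j) ∧ 0 ≤ ip (wt p.1 + wt p.2) (wt k + wt l))
    (h : Cen g (wt (φ i) + wt (φ j)) (wt (φ k) + wt (φ l))) :
    Dc.Comm (th g) (S.map fun p => (φ p.1, φ p.2)) := by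
  intro p hp w
  obtain ⟨p', hp', rfl⟩ := List.mem_map.1 hp
  obtain ⟨h1, h2, h3⟩ := hS p' hp'
  have h4 := frame_ok hφ h1
  have h5 := h (wt (φ p'.1) + wt (φ p'.2)) (wt_mem _ _ h4) (by rw [frame_ip' hφ]; exact h2) (by rw [frame_ip' hφ]; exact h3)
  rw [xO_wt h4] at h5
  show th g (Dc.Xf (Dc.b (φ p'.1)) (Dc.b (φ p'.2)) w) = Dc.Xf (Dc.b (φ p'.1)) (Dc.b (φ p'.2)) (th g w)
  rw [← th_xb h4, ← th_mul, h5, th_mul, th_xb h4]

/-- powers -/
theorem exists_pow {i j : Fin 8} (h : ok i j) (k : ZMod 2) :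
    ∃ α : V ≃ₗ[ZMod 2] V, (α = 1 ∨ α = xb i j) ∧ ∀ w, th α w = Dc.Xp k (Dc.b i) (Dc.b j) w := by
  rcases Dc.zmod_cases k with rfl | rfl
  · exact ⟨1, Or.inl rfl, fun w => by rw [th_one, Dc.Xp_zero]⟩
  · exact ⟨xb i j, Or.inr rfl, fun w => by rw [th_xb h, Dc.Xp_one]⟩

/-- **The double centraliser of a collinear or orthogonal pair of roots.** -/
theorem dc {g : V ≃ₗ[ZMod 2] V} (hg : g ∈ O8) {r s : E} (hr : r ∈ Φ) (hs : s ∈ Φ) (h : ip r s = 0 ∨ ip r s = 1)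
    (hc : Cen g r s) : ∃ α β : V ≃ₗ[ZMod 2] V, (α = 1 ∨ α = xO r) ∧ (β = 1 ∨ β = xO s) ∧ g = α * β := by
  rcases h with h | h
  · obtain ⟨a, b, h1, rfl, rfl | ⟨c, d, h2, h3, h4, h5, h6, rfl⟩⟩ := pair_zero hr hs h
    · obtain ⟨c, h2, h3⟩ := exists_third a b h1
      obtain ⟨d, h4, h5, h6⟩ := exists_fourth a b c h1 h2 h3
      obtain ⟨φ, hφ, rfl, rfl, rfl, rfl⟩ := exists_frame h1 h2 h4 h3 h5 h6
      rw [← hφ.bar] at hc
      obtain ⟨i, j, e⟩ := Dc.dc_orth hφ (th_iso hg) (comm_of_cen hφ (by decide +kernel) hc)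
      have h7 : ok (φ 0) (φ 5) := frame_ok hφ (by decide)
      obtain ⟨α, hα, eα⟩ := exists_pow h1 i
      obtain ⟨β, hβ, eβ⟩ := exists_pow h7 j
      refine ⟨α, β, ?_, ?_, th_inj fun v => ?_⟩
      · rw [xO_wt h1]; exact hα
      · rw [show φ 1 + 4 = φ 5 from (hφ.bar 1).symm, xO_wt h7]; exact hβ
      · rw [th_mul, eα, eβ, e]
    · obtain ⟨φ, hφ, rfl, rfl, rfl, rfl⟩ := exists_frame h1 h2 h3 h4 h5 h6
      obtain ⟨i, j, e⟩ := Dc.dc_orth' hφ (th_iso hg) (comm_of_cen hφ (by decide +kernel) hc)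
      obtain ⟨α, hα, eα⟩ := exists_pow h1 i
      obtain ⟨β, hβ, eβ⟩ := exists_pow h6 j
      refine ⟨α, β, ?_, ?_, th_inj fun v => ?_⟩
      · rw [xO_wt h1]; exact hα
      · rw [xO_wt h6]; exact hβ
      · rw [th_mul, eα, eβ, e]
  · obtain ⟨a, b, c, h1, h2, h3, rfl, rfl⟩ := pair_one hr hs h
    obtain ⟨d, h4, h5, h6⟩ := exists_fourth a b c h1 h2 h3
    obtain ⟨φ, hφ, rfl, rfl, rfl, rfl⟩ := exists_frame h1 h2 h4 h3 h5 h6
    obtain ⟨i, j, e⟩ := Dc.dc_one hφ (th_iso hg) (comm_of_cen hφ (by decide +kernel) hc)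
    obtain ⟨α, hα, eα⟩ := exists_pow h1 i
    obtain ⟨β, hβ, eβ⟩ := exists_pow h2 j
    refine ⟨α, β, ?_, ?_, th_inj fun v => ?_⟩
    · rw [xO_wt h1]; exact hα
    · rw [xO_wt h2]; exact hβ
    · rw [th_mul, eα, eβ, e]

/-- **The double centraliser of a special pair of roots.** -/
theorem dc' {g : V ≃ₗ[ZMod 2] V} (hg : g ∈ O8) {r s : E} (hr : r ∈ Φ) (hs : s ∈ Φ) (h : ip r s = -1)
    (hc : Cen g r s) : ∃ α β γ : V ≃ₗ[ZMod 2] V, (α = 1 ∨ α = xO r) ∧ (β = 1 ∨ β = xO s) ∧ (γ = 1 ∨ γ = xO (r + s)) ∧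
      g = α * β * γ := by
  obtain ⟨a, b, c, h1, h2, h3, rfl, rfl⟩ := pair_neg hr hs h
  obtain ⟨d, h4, h5, h6⟩ := exists_fourth a b c h1 h2 h3
  obtain ⟨φ, hφ, rfl, rfl, rfl, rfl⟩ := exists_frame h1 h2 h4 h3 h5 h6
  rw [← hφ.bar] at hc
  obtain ⟨i, j, k, e⟩ := Dc.dc_neg hφ (th_iso hg) (comm_of_cen hφ (by decide +kernel) hc)
  have h7 : ok (φ 5) (φ 2) := frame_ok hφ (by decide)
  obtain ⟨α, hα, eα⟩ := exists_pow h1 i
  obtain ⟨β, hβ, eβ⟩ := exists_pow h7 j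
  obtain ⟨γ, hγ, eγ⟩ := exists_pow h2 k
  have k5 : ∀ a b c : Fin 8, ok a b → ok a c → ok b c → wt a + wt b + (wt (b + 4) + wt c) = wt a + wt c := by decide +kernel
  refine ⟨α, β, γ, ?_, ?_, ?_, th_inj fun v => ?_⟩
  · rw [xO_wt h1]; exact hα
  · rw [show φ 1 + 4 = φ 5 from (hφ.bar 1).symm, xO_wt h7]; exact hβ
  · rw [k5 _ _ _ h1 h2 h3, xO_wt h2]; exact hγ
  · rw [th_mul, th_mul, eα, eβ, eγ, e]

/-- A pair of opposite lines in the common centraliser of two roots. -/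
theorem exists_ctwo {r s : E} (hr : r ∈ Φ) (hs : s ∈ Φ) (h : ip r s = 0 ∨ ip r s = 1 ∨ ip r s = -1) :
    ∃ a b, ok a b ∧ 0 ≤ ip (wt a + wt b) r ∧ 0 ≤ ip (wt a + wt b) s ∧ 0 ≤ ip (wt a + wt (b + 4)) r ∧
      0 ≤ ip (wt a + wt (b + 4)) s := by
  rcases h with h | h | h
  · obtain ⟨a, b, h1, rfl, rfl | ⟨c, d, h2, h3, h4, h5, h6, rfl⟩⟩ := pair_zero hr hs h
    · obtain ⟨c, h2, h3⟩ := exists_third a b h1
      obtain ⟨d, h4, h5, h6⟩ := exists_fourth a b c h1 h2 h3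
      obtain ⟨φ, hφ, rfl, rfl, rfl, rfl⟩ := exists_frame h1 h2 h4 h3 h5 h6
      refine ⟨φ 0, φ 1, h1, ?_, ?_, ?_, ?_⟩ <;> (try simp only [← hφ.bar]) <;> rw [frame_ip' hφ] <;> decide
    · obtain ⟨φ, hφ, rfl, rfl, rfl, rfl⟩ := exists_frame h1 h2 h3 h4 h5 h6
      refine ⟨φ 0, φ 1, h1, ?_, ?_, ?_, ?_⟩ <;> (try simp only [← hφ.bar]) <;> rw [frame_ip' hφ] <;> decide
  · obtain ⟨a, b, c, h1, h2, h3, rfl, rfl⟩ := pair_one hr hs h
    obtain ⟨d, h4, h5, h6⟩ := exists_fourth a b c h1 h2 h3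
    obtain ⟨φ, hφ, rfl, rfl, rfl, rfl⟩ := exists_frame h1 h2 h4 h3 h5 h6
    refine ⟨φ 0, φ 3, h4, ?_, ?_, ?_, ?_⟩ <;> (try simp only [← hφ.bar]) <;> rw [frame_ip' hφ] <;> decide
  · obtain ⟨a, b, c, h1, h2, h3, rfl, rfl⟩ := pair_neg hr hs h
    obtain ⟨d, h4, h5, h6⟩ := exists_fourth a b c h1 h2 h3
    obtain ⟨φ, hφ, rfl, rfl, rfl, rfl⟩ := exists_frame h1 h2 h4 h3 h5 h6
    refine ⟨φ 0, φ 3, h4, ?_, ?_, ?_, ?_⟩ <;> (try simp only [← hφ.bar]) <;> rw [frame_ip' hφ] <;> decide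

end Cfsg.Agent.StdO8.Bas
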