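import Cfsg.Agent.StdO8.Frame
import Cfsg.Agent.StdO8.Bas
import Cfsg.Agent.S0293

/-!
# The data of the doubling argument for `L ≅ Ω₈⁺(2)`

`x C r` is the root element of `L` of the root `r` of `D4`. Given involutions `y r` with `t ^ (y r) = t x_r` which centralise
`C_L(x_r)`, all hypotheses of `Doubling/Rel` hold (`data`). If in addition `|C(t) : ⟨t⟩ L|` is odd, there is a homomorphism
`G → {±1}` with `t ↦ -1` (`exists_hom`).
-/

set_option autoImplicit false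

namespace Cfsg.Agent.StdO8.DataOf

open Cfsg.Agent.StdO8.Model (V q B X O8 Om)
open Cfsg.Agent.StdO8.D4Root (E ip roots Φ)
open Cfsg.Agent.StdO8.Frame (Ctx)
open Cfsg.Agent.StdO8.Bas
open Cfsg.Agent.Doubling.Rel (Root Data)

variable {G : Type*} [Group G] (C : Ctx G)

/-- The root element as an element of `Om`. -/
noncomputable def xm (r : E) : Om := ⟨xO r, xO_mem r⟩

/-- The root element in `G`. -/
noncomputable def x (r : E) : G := C.r (xm r)

theorem x_mem (r : E) : x C r ∈ C.L := C.r_mem _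

theorem x_sq (r : E) : x C r * x C r = 1 := by
  have h : xm r * xm r = 1 := Subtype.ext (xO_sq r)
  unfold x
  rw [← map_mul, h, map_one]

theorem x_ne {r : E} (hr : r ∈ Φ) : x C r ≠ 1 := fun h => by
  have h1 : xm r = 1 := C.inj (by rw [map_one]; exact h)
  exact xO_ne hr (congrArg Subtype.val h1)

theorem x_comm {r s : E} (hr : r ∈ Φ) (hs : s ∈ Φ) (h : 0 ≤ ip r s) : x C r * x C s = x C s * x C r := by
  have h1 : xm r * xm s = xm s * xm r := Subtype.ext (xO_comm hr hs h)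
  unfold x
  rw [← map_mul, h1, map_mul]

theorem x_conj {r s : E} (hr : r ∈ Φ) (hs : s ∈ Φ) (h : ip r s = -1) :
    x C s * x C r * x C s = x C r * x C (r + s) := by
  have h0 := xO_conj hr hs h
  have h1 : xm s * xm r * xm s = xm r * xm (r + s) := by
    apply Subtype.ext
    show xO s * xO r * xO s = xO r * xO (r + s)
    exact h0
  unfold x
  rw [← map_mul, ← map_mul, h1, map_mul]

/-- An element of `C(t)` which centralises `C_L(x_r) ∩ C_L(x_s)` is linear. -/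
theorem exists_isLin {r s : E} (hr : r ∈ Φ) (hs : s ∈ Φ) (h : ip r s = 0 ∨ ip r s = 1 ∨ ip r s = -1) {g : G}
    (hg : g * C.t = C.t * g)
    (hc : ∀ h ∈ C.L, h * x C r = x C r * h → h * x C s = x C s * h → g * h = h * g) :
    ∃ M : O8, C.IsLin g M ∧ Cen (M : V ≃ₗ[ZMod 2] V) r s := by
  obtain ⟨a, b, hab, h1, h2, h3, h4⟩ := exists_ctwo hr hs h
  have hab' : ok a (b + 4) := by
    have : ∀ a b : Fin 8, ok a b → ok a (b + 4) := by decide
    exact this a b hab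
  have m1 := wt_mem a b hab
  have m2 := wt_mem a (b + 4) hab'
  have hcc : ∀ e ∈ Φ, 0 ≤ ip e r → 0 ≤ ip e s → g * x C e = x C e * g := fun e he e1 e2 =>
    hc _ (x_mem C e) (x_comm C he hr e1) (x_comm C he hs e2)
  have d1 := hcc _ m1 h1 h2
  have d2 := hcc _ m2 h3 h4
  have hc2 : Cfsg.Agent.StdO8.Aut.IsC2 ((xm (wt a + wt b) * xm (wt a + wt (b + 4)) : Om) : V ≃ₗ[ZMod 2] V) := by
    refine ⟨bv a, bv b + bv (b + 4), q_bv a, bv_ne a, ?_, ?_, ?_⟩
    · rw [Model.B_add_right, B_ok hab, B_ok hab', add_zero]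
    · rw [Model.q_add, q_bv, q_bv, B_bv, if_pos rfl, zero_add, zero_add]
    · show xO (wt a + wt b) * xO (wt a + wt (b + 4)) = _
      rw [xO_wt hab, xO_wt hab', xb_mul hab hab']
  have hcomm : Commute g (C.r (xm (wt a + wt b) * xm (wt a + wt (b + 4)))) := by
    rw [map_mul]
    exact Commute.mul_right d1 d2
  obtain ⟨M, hM⟩ := C.isLin_of_commute hg hc2 hcomm
  refine ⟨M, hM, fun e he e1 e2 => ?_⟩
  exact (hM.commute_iff (xm e)).1 (hcc e he e1 e2)

theorem eq_of_isLin {g : G} {M : O8} (hM : C.IsLin g M) {m : Om} (h : (M : V ≃ₗ[ZMod 2] V) = m) :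
    g = C.r m ∨ g = C.t * C.r m := by
  have h1 : M = Ctx.up m := Subtype.ext h
  rw [h1] at hM
  exact hM.eq_r

theorem dc {r s : E} (hr : r ∈ Φ) (hs : s ∈ Φ) (h : ip r s = 0 ∨ ip r s = 1) (g : G) (hg : g * C.t = C.t * g)
    (hc : ∀ h ∈ C.L, h * x C r = x C r * h → h * x C s = x C s * h → g * h = h * g) :
    ∃ τ α β, (τ = 1 ∨ τ = C.t) ∧ (α = 1 ∨ α = x C r) ∧ (β = 1 ∨ β = x C s) ∧ g = τ * α * β := by
  obtain ⟨M, hM, hcen⟩ := exists_isLin C hr hs (by rcases h with h | h; exacts [Or.inl h, Or.inr (Or.inl h)]) hg hc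
  obtain ⟨α, β, hα, hβ, e⟩ := Bas.dc M.2 hr hs h hcen
  obtain ⟨α', hα', eα⟩ : ∃ α' : Om, (α' = 1 ∨ α' = xm r) ∧ α = α' := by
    rcases hα with h | h
    · exact ⟨1, Or.inl rfl, h⟩
    · exact ⟨xm r, Or.inr rfl, h⟩
  obtain ⟨β', hβ', eβ⟩ : ∃ β' : Om, (β' = 1 ∨ β' = xm s) ∧ β = β' := by
    rcases hβ with h | h
    · exact ⟨1, Or.inl rfl, h⟩
    · exact ⟨xm s, Or.inr rfl, h⟩
  have h1 := eq_of_isLin C hM (m := α' * β') (by rw [e, eα, eβ]; rfl)
  rw [map_mul] at h1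
  have h2 : C.r α' = 1 ∨ C.r α' = x C r := by
    rcases hα' with h | h
    · left; rw [h, map_one]
    · right; rw [h]; rfl
  have h3 : C.r β' = 1 ∨ C.r β' = x C s := by
    rcases hβ' with h | h
    · left; rw [h, map_one]
    · right; rw [h]; rfl
  rcases h1 with h1 | h1
  · exact ⟨1, _, _, Or.inl rfl, h2, h3, by rw [h1, one_mul]⟩
  · exact ⟨C.t, _, _, Or.inr rfl, h2, h3, by rw [h1, mul_assoc]⟩

theorem dc' {r s : E} (hr : r ∈ Φ) (hs : s ∈ Φ) (h : ip r s = -1) (g : G) (hg : g * C.t = C.t * g)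
    (hc : ∀ h ∈ C.L, h * x C r = x C r * h → h * x C s = x C s * h → g * h = h * g) :
    ∃ τ α β γ, (τ = 1 ∨ τ = C.t) ∧ (α = 1 ∨ α = x C r) ∧ (β = 1 ∨ β = x C s) ∧ (γ = 1 ∨ γ = x C (r + s)) ∧
      g = τ * α * β * γ := by
  obtain ⟨M, hM, hcen⟩ := exists_isLin C hr hs (Or.inr (Or.inr h)) hg hc
  obtain ⟨α, β, γ, hα, hβ, hγ, e⟩ := Bas.dc' M.2 hr hs h hcen
  obtain ⟨α', hα', eα⟩ : ∃ α' : Om, (α' = 1 ∨ α' = xm r) ∧ α = α' := by
    rcases hα with h | h
    · exact ⟨1, Or.inl rfl, h⟩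
    · exact ⟨xm r, Or.inr rfl, h⟩
  obtain ⟨β', hβ', eβ⟩ : ∃ β' : Om, (β' = 1 ∨ β' = xm s) ∧ β = β' := by
    rcases hβ with h | h
    · exact ⟨1, Or.inl rfl, h⟩
    · exact ⟨xm s, Or.inr rfl, h⟩
  obtain ⟨γ', hγ', eγ⟩ : ∃ γ' : Om, (γ' = 1 ∨ γ' = xm (r + s)) ∧ γ = γ' := by
    rcases hγ with h | h
    · exact ⟨1, Or.inl rfl, h⟩
    · exact ⟨xm (r + s), Or.inr rfl, h⟩
  have h1 := eq_of_isLin C hM (m := α' * β' * γ') (by rw [e, eα, eβ, eγ]; rfl)
  rw [map_mul, map_mul] at h1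
  have h2 : C.r α' = 1 ∨ C.r α' = x C r := by
    rcases hα' with h | h
    · left; rw [h, map_one]
    · right; rw [h]; rfl
  have h3 : C.r β' = 1 ∨ C.r β' = x C s := by
    rcases hβ' with h | h
    · left; rw [h, map_one]
    · right; rw [h]; rfl
  have h4 : C.r γ' = 1 ∨ C.r γ' = x C (r + s) := by
    rcases hγ' with h | h
    · left; rw [h, map_one]
    · right; rw [h]; rfl
  rcases h1 with h1 | h1
  · exact ⟨1, _, _, _, Or.inl rfl, h2, h3, h4, by rw [h1, one_mul]⟩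
  · exact ⟨C.t, _, _, _, Or.inr rfl, h2, h3, h4, by rw [h1]; group⟩

/-- **All hypotheses of `Doubling/Rel`.** -/
theorem data {y : E → G} (y_sq : ∀ r ∈ Φ, y r * y r = 1) (ty : ∀ r ∈ Φ, y r * C.t * y r = C.t * x C r)
    (yC : ∀ r ∈ Φ, ∀ g ∈ C.L, g * x C r = x C r * g → g * y r = y r * g) : Data ip Φ C.t C.L (x C) y where
  tt := C.tt
  tL := by
    rintro _ ⟨m, rfl⟩
    exact (C.comm m).eq.symm
  t_notMem := C.t_notMem
  xL := fun r _ => x_mem C r
  x_ne := fun r hr => x_ne C hr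
  x_sq := fun r _ => x_sq C r
  x_comm := fun r hr s hs h => x_comm C hr hs h
  x_conj := fun r hr s hs h => x_conj C hr hs h
  y_sq := y_sq
  ty := ty
  yC := yC
  dc := fun r hr s hs h g hg hc => dc C hr hs h g hg hc
  dc' := fun r hr s hs h g hg hc => dc' C hr hs h g hg hc

end Cfsg.Agent.StdO8.DataOf
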