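import Mathlib

/-!
# Doubling of a root element of `Ω₈⁺(2)`: normalisation (S1734)

`t` is an involution, `L ≤ C(t)`, `z ∈ L` a root element, `D = ⟨d₀, d₁, d₂⟩` a Sylow 3-subgroup of `C_L(z)`,
`Q = O₂(C_L(z))`, `τ i` involutions inverting `d i`, `r ∈ Q` fixed by the `τ i`.
If some element of `G` fixes `z` and interchanges `t` and `tz`, then some involution does and centralises `r`,
permutes the `d i` and (modulo `⟨t, z⟩`) the `τ i`.
-/

set_option autoImplicit false
set_option linter.all false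

namespace Cfsg.Agent.StdO8.DoubCore

open Subgroup

variable {G : Type*} [Group G]

/-- `D = ⟨d₀, d₁, d₂⟩` -/
def DD (d : Fin 3 → G) : Subgroup G := closure (Set.range d)

/-- `Q = ⟨z, r^c : c ∈ D⟩` -/
def QQ (z r : G) (d : Fin 3 → G) : Subgroup G := closure ({z} ∪ {x | ∃ c ∈ DD d, x = c * r * c⁻¹})

/-- `s ∈ ⟨t, z⟩` -/
def TZ (t z s : G) : Prop := s = 1 ∨ s = t ∨ s = z ∨ s = t * z

/-- The facts about `C_G(t)`. -/
structure Core (t z r : G) (L : Subgroup G) (d τ : Fin 3 → G) : Prop where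
  tt : t * t = 1
  tL : ∀ g ∈ L, t * g = g * t
  t_notMem : t ∉ L
  zL : z ∈ L
  rL : r ∈ L
  dL : ∀ i, d i ∈ L
  τL : ∀ i, τ i ∈ L
  z1 : z ≠ 1
  zz : z * z = 1
  r1 : r ≠ 1
  rz : r ≠ z
  rr : r * r = 1
  ττ : ∀ i, τ i * τ i = 1
  d3 : ∀ i, d i * d i * d i = 1
  d1 : ∀ i, d i ≠ 1
  zr : z * r = r * z
  zd : ∀ i, z * d i = d i * z
  zτ : ∀ i, z * τ i = τ i * z
  dd : ∀ i j, d i * d j = d j * d i
  τc : ∀ i j, τ i * τ j = τ j * τ i
  τd : ∀ i j, i ≠ j → τ i * d j = d j * τ i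
  τdi : ∀ i, τ i * d i * τ i = (d i)⁻¹
  rτ : ∀ i, r * τ i = τ i * r
  rd : ∀ i, r * (d i * r * (d i)⁻¹) * ((d i)⁻¹ * r * d i) = 1
  /-- (f2) -/
  frat : ∀ g : G, g * z * g⁻¹ = z → g * t * g⁻¹ = t * z →
    ∃ c : G, c * t = t * c ∧ c * z = z * c ∧ ∀ e ∈ DD d, (c * g) * e * (c * g)⁻¹ ∈ DD d
  /-- (f3) -/
  cD : ∀ g : G, g * t = t * g → g * z = z * g → (∀ i, g * d i = d i * g) →
    ∃ s, TZ t z s ∧ ∃ c ∈ DD d, g = s * c
  /-- (f4) -/
  nQD : ∀ g : G, g * t = t * g → g * z = z * g → ∀ i, ∃ q ∈ QQ z r d, ∃ c ∈ DD d, g * d i * g⁻¹ = q * c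
  /-- (f5) -/
  QD2 : ∀ q ∈ QQ z r d, ∀ c ∈ DD d, q * c * (q * c) = 1 → c = 1
  /-- (f6) -/
  Qd : ∀ i, ∀ q ∈ QQ z r d, q * d i = d i * q → q = 1 ∨ q = z
  Qτ : ∀ q ∈ QQ z r d, (∀ i, q * τ i = τ i * q) → q = 1 ∨ q = z ∨ q = r ∨ q = r * z
  rc : ∀ c ∈ DD d, r * c = c * r → c = 1
  Qc : ∀ c ∈ DD d, c ≠ 1 → (∀ i, c ≠ d i ∧ c ≠ (d i)⁻¹) → ∃ q ∈ QQ z r d, q ≠ 1 ∧ q ≠ z ∧ q * c = c * q

namespace Core

variable {t z r : G} {L : Subgroup G} {d τ : Fin 3 → G}

section basic

variable (K : Core t z r L d τ)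

include K

theorem tz : t * z = z * t := K.tL z K.zL

theorem zinv : z⁻¹ = z := inv_eq_of_mul_eq_one_right K.zz

theorem tinv : t⁻¹ = t := inv_eq_of_mul_eq_one_right K.tt

theorem τinv (i : Fin 3) : (τ i)⁻¹ = τ i := inv_eq_of_mul_eq_one_right (K.ττ i)

theorem DL {c : G} (hc : c ∈ DD d) : c ∈ L := by
  have : DD d ≤ L := by
    rw [DD, closure_le]
    rintro _ ⟨i, rfl⟩
    exact K.dL i
  exact this hc

theorem D_z {c : G} (hc : c ∈ DD d) : z * c = c * z := by
  have : DD d ≤ centralizer {z} := by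
    rw [DD, closure_le]
    rintro _ ⟨i, rfl⟩
    exact mem_centralizer_singleton_iff.2 (K.zd i).symm
  exact (mem_centralizer_singleton_iff.1 (this hc)).symm

theorem D_d {c : G} (hc : c ∈ DD d) (i : Fin 3) : d i * c = c * d i := by
  have : DD d ≤ centralizer {d i} := by
    rw [DD, closure_le]
    rintro _ ⟨j, rfl⟩
    exact mem_centralizer_singleton_iff.2 (K.dd j i)
  exact (mem_centralizer_singleton_iff.1 (this hc)).symm

theorem D_comm {a b : G} (ha : a ∈ DD d) (hb : b ∈ DD d) : a * b = b * a := by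
  have : DD d ≤ centralizer {b} := by
    rw [DD, closure_le]
    rintro _ ⟨j, rfl⟩
    exact mem_centralizer_singleton_iff.2 (K.D_d hb j)
  exact mem_centralizer_singleton_iff.1 (this ha)

theorem d_mem (i : Fin 3) : d i ∈ DD d := subset_closure ⟨i, rfl⟩

theorem D3 {c : G} (hc : c ∈ DD d) : c * c * c = 1 := by
  induction hc using closure_induction with
  | mem x hx =>
    obtain ⟨i, rfl⟩ := hx
    exact K.d3 i
  | one => simp
  | mul a b ha hb h1 h2 =>
    have hab : a * b = b * a := K.D_comm ha hb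
    have : a * b * (a * b) * (a * b) = (a * a * a) * (b * b * b) := by
      have hc : Commute a b := hab
      have e1 : a * b * (a * b) * (a * b) = (a * b) ^ 3 := by rw [pow_succ, pow_two]
      have e2 : (a * a * a) * (b * b * b) = a ^ 3 * b ^ 3 := by
        rw [pow_succ, pow_two, pow_succ, pow_two]
      rw [e1, e2, hc.mul_pow]
    rw [this, h1, h2, one_mul]
  | inv a ha h1 =>
    have : a⁻¹ * a⁻¹ * a⁻¹ = (a * a * a)⁻¹ := by group
    rw [this, h1, inv_one]

theorem D_eq_one {c : G} (hc : c ∈ DD d) (h : c * c = 1) : c = 1 := by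
  have := K.D3 hc
  rwa [h, one_mul] at this

/-- normal form -/
theorem nf {c : G} (hc : c ∈ DD d) : ∃ a b e : ℤ, c = d 0 ^ a * d 1 ^ b * d 2 ^ e := by
  induction hc using closure_induction with
  | mem x hx =>
    obtain ⟨i, rfl⟩ := hx
    fin_cases i
    · exact ⟨1, 0, 0, by simp⟩
    · exact ⟨0, 1, 0, by simp⟩
    · exact ⟨0, 0, 1, by simp⟩
  | one => exact ⟨0, 0, 0, by simp⟩
  | mul x y hx hy h1 h2 =>
    obtain ⟨a, b, e, rfl⟩ := h1
    obtain ⟨a', b', e', rfl⟩ := h2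
    refine ⟨a + a', b + b', e + e', ?_⟩
    have c01 : Commute (d 0) (d 1) := K.dd 0 1
    have c02 : Commute (d 0) (d 2) := K.dd 0 2
    have c12 : Commute (d 1) (d 2) := K.dd 1 2
    rw [zpow_add, zpow_add, zpow_add]
    have e1 : d 2 ^ e * d 0 ^ a' = d 0 ^ a' * d 2 ^ e := (c02.symm.zpow_zpow e a').eq
    have e2 : d 2 ^ e * d 1 ^ b' = d 1 ^ b' * d 2 ^ e := (c12.symm.zpow_zpow e b').eq
    have e3 : d 1 ^ b * d 0 ^ a' = d 0 ^ a' * d 1 ^ b := (c01.symm.zpow_zpow b a').eq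
    calc d 0 ^ a * d 1 ^ b * d 2 ^ e * (d 0 ^ a' * d 1 ^ b' * d 2 ^ e')
        = d 0 ^ a * d 1 ^ b * (d 2 ^ e * d 0 ^ a') * d 1 ^ b' * d 2 ^ e' := by group
      _ = d 0 ^ a * (d 1 ^ b * d 0 ^ a') * (d 2 ^ e * d 1 ^ b') * d 2 ^ e' := by rw [e1]; group
      _ = d 0 ^ a * d 0 ^ a' * (d 1 ^ b * d 1 ^ b') * (d 2 ^ e * d 2 ^ e') := by rw [e2, e3]; group
  | inv x hx h1 =>
    obtain ⟨a, b, e, rfl⟩ := h1
    refine ⟨-a, -b, -e, ?_⟩
    have c01 : Commute (d 0) (d 1) := K.dd 0 1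
    have c02 : Commute (d 0) (d 2) := K.dd 0 2
    have c12 : Commute (d 1) (d 2) := K.dd 1 2
    rw [zpow_neg, zpow_neg, zpow_neg, mul_inv_rev, mul_inv_rev]
    have e1 : Commute (d 2 ^ e)⁻¹ (d 1 ^ b)⁻¹ := (c12.symm.zpow_zpow e b).inv_inv
    have e2 : Commute (d 2 ^ e)⁻¹ (d 0 ^ a)⁻¹ := (c02.symm.zpow_zpow e a).inv_inv
    have e3 : Commute (d 1 ^ b)⁻¹ (d 0 ^ a)⁻¹ := (c01.symm.zpow_zpow b a).inv_inv
    rw [e1.mul_right e2 |>.eq, e3.eq]

/-- an element of `D` inverted by `τ j` is a power of `d j` -/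
theorem inv_comp {c : G} (hc : c ∈ DD d) {j : Fin 3} (h : τ j * c * τ j = c⁻¹) : ∃ m : ℤ, c = d j ^ m := by
  have key : ∀ m : ℤ, τ j * d j ^ m * τ j = (d j ^ m)⁻¹ := by
    intro m
    have h1 : τ j * d j ^ m * τ j = (τ j * d j * (τ j)⁻¹) ^ m := by rw [conj_zpow, K.τinv]
    rw [h1, K.τinv, K.τdi, inv_zpow]
  have key2 : ∀ i, i ≠ j → ∀ m : ℤ, τ j * d i ^ m = d i ^ m * τ j := by
    intro i hi m
    have : Commute (τ j) (d i) := K.τd j i (Ne.symm hi)
    exact (this.zpow_right m).eq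
  -- `c = e * d j ^ m` with `e` commuting with `τ j`
  have hsplit : ∃ e ∈ DD d, ∃ m : ℤ, c = e * d j ^ m ∧ τ j * e = e * τ j := by
    obtain ⟨a, b, e, rfl⟩ := K.nf hc
    have c01 : Commute (d 0) (d 1) := K.dd 0 1
    have c02 : Commute (d 0) (d 2) := K.dd 0 2
    have c12 : Commute (d 1) (d 2) := K.dd 1 2
    fin_cases j
    · refine ⟨d 1 ^ b * d 2 ^ e, mul_mem (zpow_mem (K.d_mem 1) _) (zpow_mem (K.d_mem 2) _), a, ?_, ?_⟩
      · have e1 : Commute (d 0 ^ a) (d 1 ^ b * d 2 ^ e) :=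
          (c01.zpow_zpow a b).mul_right (c02.zpow_zpow a e)
        rw [mul_assoc]
        exact e1.eq
      · have h1 := key2 1 (by decide) b
        have h2 := key2 2 (by decide) e
        exact (show Commute (τ 0) _ from Commute.mul_right h1 h2).eq
    · refine ⟨d 0 ^ a * d 2 ^ e, mul_mem (zpow_mem (K.d_mem 0) _) (zpow_mem (K.d_mem 2) _), b, ?_, ?_⟩
      · have e1 : Commute (d 1 ^ b) (d 2 ^ e) := c12.zpow_zpow b e
        change d 0 ^ a * d 1 ^ b * d 2 ^ e = d 0 ^ a * d 2 ^ e * d 1 ^ b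
        rw [mul_assoc, e1.eq, mul_assoc]
      · have h1 := key2 0 (by decide) a
        have h2 := key2 2 (by decide) e
        exact (show Commute (τ 1) _ from Commute.mul_right h1 h2).eq
    · refine ⟨d 0 ^ a * d 1 ^ b, mul_mem (zpow_mem (K.d_mem 0) _) (zpow_mem (K.d_mem 1) _), e, rfl, ?_⟩
      have h1 := key2 0 (by decide) a
      have h2 := key2 1 (by decide) b
      exact (show Commute (τ 2) _ from Commute.mul_right h1 h2).eq
  obtain ⟨e, he, m, rfl, hτ⟩ := hsplit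
  have h3 : τ j * (e * d j ^ m) * τ j = e * (τ j * d j ^ m * τ j) := by
    calc τ j * (e * d j ^ m) * τ j = (τ j * e) * d j ^ m * τ j := by group
      _ = e * (τ j * d j ^ m * τ j) := by rw [hτ]; group
  rw [h3, key, mul_inv_rev] at h
  have h4 : e * e = 1 := by
    have h5 : Commute e (d j ^ m)⁻¹ := by
      have : Commute e (d j) := (K.D_d he j).symm
      exact (this.zpow_right m).inv_right
    rw [h5.eq, mul_left_cancel_iff] at h
    have : e * e = e * e⁻¹ := by rw [← h]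
    rw [this, mul_inv_cancel]
  refine ⟨m, ?_⟩
  rw [K.D_eq_one he h4, one_mul]

theorem Q_z {q : G} (hq : q ∈ QQ z r d) : z * q = q * z := by
  have : QQ z r d ≤ centralizer {z} := by
    rw [QQ, closure_le]
    rintro x (hx | ⟨c, hc, rfl⟩)
    · rw [Set.mem_singleton_iff.1 hx]
      exact mem_centralizer_singleton_iff.2 rfl
    · apply mem_centralizer_singleton_iff.2
      have h1 : Commute z c := K.D_z hc
      have h2 : Commute z r := K.zr
      exact ((h1.mul_right h2).mul_right h1.inv_right).eq.symm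
  exact (mem_centralizer_singleton_iff.1 (this hq)).symm

theorem QL {q : G} (hq : q ∈ QQ z r d) : q ∈ L := by
  have : QQ z r d ≤ L := by
    rw [QQ, closure_le]
    rintro x (hx | ⟨c, hc, rfl⟩)
    · rw [Set.mem_singleton_iff.1 hx]
      exact K.zL
    · exact mul_mem (mul_mem (K.DL hc) K.rL) (inv_mem (K.DL hc))
  exact this hq

theorem D_conj_Q {c q : G} (hc : c ∈ DD d) (hq : q ∈ QQ z r d) : c * q * c⁻¹ ∈ QQ z r d := by
  induction hq using closure_induction with
  | mem x hx =>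
    rcases hx with hx | ⟨c', hc', rfl⟩
    · rw [Set.mem_singleton_iff.1 hx, ← K.D_z hc, mul_inv_cancel_right]
      exact subset_closure (Or.inl rfl)
    · refine subset_closure (Or.inr ⟨c * c', mul_mem hc hc', ?_⟩)
      group
  | one => rw [mul_one, mul_inv_cancel]; exact one_mem _
  | mul x y _ _ h1 h2 =>
    have : c * (x * y) * c⁻¹ = (c * x * c⁻¹) * (c * y * c⁻¹) := by group
    rw [this]
    exact mul_mem h1 h2
  | inv x _ h1 =>
    have : c * x⁻¹ * c⁻¹ = (c * x * c⁻¹)⁻¹ := by group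
    rw [this]
    exact inv_mem h1

theorem r_mem : r ∈ QQ z r d := subset_closure (Or.inr ⟨1, one_mem _, by group⟩)

theorem z_mem : z ∈ QQ z r d := subset_closure (Or.inl rfl)

theorem t_comm {g : G} (hg : g ∈ L) : g * t = t * g := (K.tL g hg).symm

/-- `TZ` elements commute with `L` elements commuting with `z` -/
theorem TZ_comm {s g : G} (hs : TZ t z s) (hg : g ∈ L) (hz : z * g = g * z) : s * g = g * s := by
  rcases hs with rfl | rfl | rfl | rfl
  · rw [one_mul, mul_one]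
  · exact K.tL g hg
  · exact hz
  · rw [mul_assoc, hz, ← mul_assoc, K.tL g hg, mul_assoc]

theorem TZ_sq {s : G} (hs : TZ t z s) : s * s = 1 := by
  rcases hs with rfl | rfl | rfl | rfl
  · exact mul_one _
  · exact K.tt
  · exact K.zz
  · have : t * z * (t * z) = t * (z * t) * z := by group
    rw [this, ← K.tz]
    have : t * (t * z) * z = (t * t) * (z * z) := by group
    rw [this, K.tt, K.zz, one_mul]

theorem TZ_mul {s s' : G} (hs : TZ t z s) (hs' : TZ t z s') : TZ t z (s * s') := by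
  have h1 := K.tz
  have h2 := K.tt
  have h3 := K.zz
  have e1 : z * t = t * z := h1.symm
  have e2 : t * (t * z) = z := by rw [← mul_assoc, h2, one_mul]
  have e3 : z * (t * z) = t := by rw [← mul_assoc, e1, mul_assoc, h3, mul_one]
  have e4 : t * z * t = z := by rw [mul_assoc, e1, e2]
  have e5 : t * z * z = t := by rw [mul_assoc, h3, mul_one]
  have e6 : t * z * (t * z) = 1 := by rw [← mul_assoc, e4, h3]
  rcases hs with rfl | rfl | rfl | rfl <;> rcases hs' with rfl | rfl | rfl | rfl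
  · left; rw [mul_one]
  · right; left; rw [one_mul]
  · right; right; left; rw [one_mul]
  · right; right; right; rw [one_mul]
  · right; left; rw [mul_one]
  · left; exact h2
  · right; right; right; rfl
  · right; right; left; exact e2
  · right; right; left; rw [mul_one]
  · right; right; right; exact e1
  · left; exact h3
  · right; left; exact e3
  · right; right; right; rw [mul_one]
  · right; right; left; exact e4
  · right; left; exact e5
  · left; exact e6

theorem ne_d {i j : Fin 3} (h : i ≠ j) : d i ≠ d j ∧ d i ≠ (d j)⁻¹ := by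
  -- `τ i` inverts `d i` and centralises `d j`
  have h1 : ∀ c, (c = d j ∨ c = (d j)⁻¹) → d i = c → False := by
    intro c hc hi
    have h2 : τ i * c * τ i = c := by
      have hcomm : Commute (τ i) (d j) := K.τd i j h
      rcases hc with rfl | rfl
      · rw [hcomm.eq, mul_assoc, K.ττ, mul_one]
      · rw [hcomm.inv_right.eq, mul_assoc, K.ττ, mul_one]
    rw [← hi, K.τdi] at h2
    have h3 : d i * d i = 1 := by
      nth_rewrite 1 [← h2]
      rw [inv_mul_cancel]
    exact K.d1 i (K.D_eq_one (K.d_mem i) h3)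
  exact ⟨h1 _ (Or.inl rfl), h1 _ (Or.inr rfl)⟩

end basic

/-- `y` fixes `z`, interchanges `t`, `tz` and normalises `D` -/
structure Nrm (t z : G) (d : Fin 3 → G) (y : G) : Prop where
  cz : y * z * y⁻¹ = z
  ct : y * t * y⁻¹ = t * z
  D : ∀ c ∈ DD d, y * c * y⁻¹ ∈ DD d
  D' : ∀ c ∈ DD d, y⁻¹ * c * y ∈ DD d

theorem Nrm.tz' (K : Core t z r L d τ) {y : G} (N : Nrm t z d y) : y * (t * z) * y⁻¹ = t := by
  have : y * (t * z) * y⁻¹ = (y * t * y⁻¹) * (y * z * y⁻¹) := by group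
  rw [this, N.ct, N.cz, mul_assoc, K.zz, mul_one]

theorem exists_nrm [Finite G] (K : Core t z r L d τ) {g : G} (hz : g * z * g⁻¹ = z) (ht : g * t * g⁻¹ = t * z) :
    ∃ y, Nrm t z d y := by
  obtain ⟨c, hct, hcz, hc⟩ := K.frat g hz ht
  have hpow : ∀ n : ℕ, ∀ e ∈ DD d, (c * g) ^ n * e * ((c * g) ^ n)⁻¹ ∈ DD d := by
    intro n
    induction n with
    | zero => intro e he; simpa using he
    | succ n ih =>
      intro e he
      have : (c * g) ^ (n + 1) * e * ((c * g) ^ (n + 1))⁻¹ =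
          (c * g) ^ n * ((c * g) * e * (c * g)⁻¹) * ((c * g) ^ n)⁻¹ := by
        rw [pow_succ]; group
      rw [this]
      exact ih _ (hc e he)
  refine ⟨c * g, ?_, ?_, hc, ?_⟩
  · have : c * g * z * (c * g)⁻¹ = c * (g * z * g⁻¹) * c⁻¹ := by group
    rw [this, hz, hcz, mul_inv_cancel_right]
  · have : c * g * t * (c * g)⁻¹ = c * (g * t * g⁻¹) * c⁻¹ := by group
    rw [this, ht]
    have : c * (t * z) * c⁻¹ = (c * t) * z * c⁻¹ := by group
    rw [this, hct]
    have : t * c * z * c⁻¹ = t * (c * z) * c⁻¹ := by group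
    rw [this, hcz]
    group
  · intro e he
    have h1 : (c * g)⁻¹ = (c * g) ^ (orderOf (c * g) - 1) := by
      rw [inv_eq_iff_mul_eq_one, ← pow_succ']
      have : orderOf (c * g) - 1 + 1 = orderOf (c * g) := Nat.sub_add_cancel (orderOf_pos _)
      rw [this, pow_orderOf_eq_one]
    have h3 := hpow (orderOf (c * g) - 1) e he
    rw [← h1, inv_inv] at h3
    exact h3

section

variable (K : Core t z r L d τ)

include K

/-- elements of `C(t)` are conjugated by `y` into `C(tz)`; elements of `C(t) ∩ C(z)` into itself -/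
theorem conj_cz {y g : G} (N : Nrm t z d y) (hg : g * t = t * g) (hz : g * z = z * g) :
    (y * g * y⁻¹) * t = t * (y * g * y⁻¹) ∧ (y * g * y⁻¹) * z = z * (y * g * y⁻¹) := by
  have h1 : Commute g (t * z) := (show Commute g t from hg).mul_right hz
  constructor
  · have : Commute (y * g * y⁻¹) (y * (t * z) * y⁻¹) := by
      have := (Commute.conj_iff y).2 h1
      exact this
    rw [N.tz' K] at this
    exact this.eq
  · have : Commute (y * g * y⁻¹) (y * z * y⁻¹) := (Commute.conj_iff y).2 hz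
    rw [N.cz] at this
    exact this.eq

theorem r_conj {y : G} (N : Nrm t z d y) : y * r * y⁻¹ ∈ QQ z r d := by
  -- `r = g c g⁻¹ c⁻¹`, `g = d r d⁻¹`, `c = d`
  set g := d 0 * r * (d 0)⁻¹ with hg
  have h1 : g * d 0 * g⁻¹ * (d 0)⁻¹ = r := by
    have h3 := K.rd 0
    have hd := K.d3 0
    have e1 : d 0 * d 0 = (d 0)⁻¹ := by rw [eq_inv_iff_mul_eq_one]; exact hd
    have rinv : r⁻¹ = r := inv_eq_of_mul_eq_one_right K.rr
    have e2 : g * d 0 * g⁻¹ * (d 0)⁻¹ = (d 0 * r * (d 0)⁻¹) * ((d 0 * d 0) * r⁻¹ * (d 0 * d 0)⁻¹) := by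
      rw [hg]; group
    rw [e2, e1, inv_inv, rinv]
    have : r * ((d 0 * r * (d 0)⁻¹) * ((d 0)⁻¹ * r * d 0)) = 1 := by rw [← mul_assoc]; exact h3
    rw [eq_inv_of_mul_eq_one_right this, rinv]
  have hgL : g ∈ L := mul_mem (mul_mem (K.dL 0) K.rL) (inv_mem (K.dL 0))
  have hgQ : g ∈ QQ z r d := K.D_conj_Q (K.d_mem 0) (K.r_mem)
  obtain ⟨hgt, hgz⟩ := K.conj_cz N (K.t_comm hgL) (K.Q_z hgQ).symm
  have hnf := N.D _ (K.d_mem 0)
  -- `(g^y) (d^y) (g^y)⁻¹ ∈ Q D`
  have hQD : ∀ c ∈ DD d, ∃ q ∈ QQ z r d, ∃ c' ∈ DD d, (y * g * y⁻¹) * c * (y * g * y⁻¹)⁻¹ = q * c' := by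
    intro c hc
    induction hc using closure_induction with
    | mem x hx =>
      obtain ⟨i, rfl⟩ := hx
      exact K.nQD _ hgt hgz i
    | one => exact ⟨1, one_mem _, 1, one_mem _, by group⟩
    | mul a b _ _ h1 h2 =>
      obtain ⟨q, hq, c, hc, e⟩ := h1
      obtain ⟨q', hq', c', hc', e'⟩ := h2
      refine ⟨q * (c * q' * c⁻¹), mul_mem hq (K.D_conj_Q hc hq'), c * c', mul_mem hc hc', ?_⟩
      have : (y * g * y⁻¹) * (a * b) * (y * g * y⁻¹)⁻¹ =
          ((y * g * y⁻¹) * a * (y * g * y⁻¹)⁻¹) * ((y * g * y⁻¹) * b * (y * g * y⁻¹)⁻¹) := by group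
      rw [this, e, e']
      group
    | inv a _ h1 =>
      obtain ⟨q, hq, c, hc, e⟩ := h1
      refine ⟨c⁻¹ * q⁻¹ * c, ?_, c⁻¹, inv_mem hc, ?_⟩
      · have := K.D_conj_Q (inv_mem hc) (inv_mem hq)
        rwa [inv_inv] at this
      · have : (y * g * y⁻¹) * a⁻¹ * (y * g * y⁻¹)⁻¹ = ((y * g * y⁻¹) * a * (y * g * y⁻¹)⁻¹)⁻¹ := by group
        rw [this, e]
        group
  obtain ⟨q, hq, c, hc, e⟩ := hQD _ hnf
  have hr : y * r * y⁻¹ = q * (c * (y * d 0 * y⁻¹)⁻¹) := by
    have : y * r * y⁻¹ = (y * g * y⁻¹) * (y * d 0 * y⁻¹) * (y * g * y⁻¹)⁻¹ * (y * d 0 * y⁻¹)⁻¹ := by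
      nth_rewrite 1 [← h1]
      group
    rw [this, e]
    group
  have hc' : c * (y * d 0 * y⁻¹)⁻¹ ∈ DD d := mul_mem hc (inv_mem hnf)
  have h5 : c * (y * d 0 * y⁻¹)⁻¹ = 1 := by
    apply K.QD2 q hq _ hc'
    rw [← hr]
    have : y * r * y⁻¹ * (y * r * y⁻¹) = y * (r * r) * y⁻¹ := by group
    rw [this, K.rr]
    group
  rw [hr, h5, mul_one]
  exact hq

theorem Q_conj {y : G} (N : Nrm t z d y) {q : G} (hq : q ∈ QQ z r d) : y * q * y⁻¹ ∈ QQ z r d := by
  induction hq using closure_induction with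
  | mem x hx =>
    rcases hx with hx | ⟨c, hc, rfl⟩
    · rw [Set.mem_singleton_iff.1 hx, N.cz]
      exact K.z_mem
    · have : y * (c * r * c⁻¹) * y⁻¹ = (y * c * y⁻¹) * (y * r * y⁻¹) * (y * c * y⁻¹)⁻¹ := by group
      rw [this]
      exact K.D_conj_Q (N.D c hc) (K.r_conj N)
  | one =>
    rw [mul_one, mul_inv_cancel]
    exact one_mem _
  | mul x y' _ _ h1 h2 =>
    have : y * (x * y') * y⁻¹ = (y * x * y⁻¹) * (y * y' * y⁻¹) := by group
    rw [this]
    exact mul_mem h1 h2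
  | inv x _ h1 =>
    have : y * x⁻¹ * y⁻¹ = (y * x * y⁻¹)⁻¹ := by group
    rw [this]
    exact inv_mem h1

/-- `y` permutes the `⟨d i⟩` -/
theorem exists_perm [Finite G] {y : G} (N : Nrm t z d y) :
    ∃ π : Equiv.Perm (Fin 3), ∀ i, y * d i * y⁻¹ = d (π i) ∨ y * d i * y⁻¹ = (d (π i))⁻¹ := by
  classical
  -- the inverse of `y` also normalises `Q`
  have hN' : Nrm t z d y⁻¹ := by
    refine ⟨?_, ?_, ?_, ?_⟩
    · rw [inv_inv]
      nth_rewrite 1 [← N.cz]
      group
    · rw [inv_inv]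
      nth_rewrite 1 [← N.tz' K]
      group
    · intro c hc
      rw [inv_inv]
      exact N.D' c hc
    · intro c hc
      rw [inv_inv]
      exact N.D c hc
  have h1 : ∀ i, ∃ j, y * d i * y⁻¹ = d j ∨ y * d i * y⁻¹ = (d j)⁻¹ := by
    intro i
    by_contra hcon
    push Not at hcon
    have hne : y * d i * y⁻¹ ≠ 1 := by
      intro h
      apply K.d1 i
      have : d i = y⁻¹ * (y * d i * y⁻¹) * y := by group
      rw [this, h]
      group
    obtain ⟨q, hq, hq1, hqz, hqc⟩ := K.Qc _ (N.D _ (K.d_mem i)) hne hcon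
    have h3 : y⁻¹ * q * y ∈ QQ z r d := by
      have := K.Q_conj hN' hq
      rwa [inv_inv] at this
    have h4 : y⁻¹ * q * y * d i = d i * (y⁻¹ * q * y) := by
      have e1 : y⁻¹ * q * y * d i = y⁻¹ * (q * (y * d i * y⁻¹)) * y := by group
      rw [e1, hqc]
      group
    rcases K.Qd i _ h3 h4 with h5 | h5
    · apply hq1
      have : q = y * (y⁻¹ * q * y) * y⁻¹ := by group
      rw [this, h5]
      group
    · apply hqz
      have : q = y * (y⁻¹ * q * y) * y⁻¹ := by group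
      rw [this, h5, N.cz]
  choose f hf using h1
  have hinj : Function.Injective f := by
    intro i j hij
    by_contra hne
    have h3 := hf i
    have h4 := hf j
    rw [hij] at h3
    obtain ⟨n1, n2⟩ := K.ne_d hne
    have key : ∀ a b : G, y * a * y⁻¹ = y * b * y⁻¹ → a = b := by
      intro a b h
      exact mul_left_cancel (mul_right_cancel h)
    rcases h3 with h3 | h3 <;> rcases h4 with h4 | h4
    · exact n1 (key _ _ (h3.trans h4.symm))
    · apply n2
      apply key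
      rw [h3]
      have : y * (d j)⁻¹ * y⁻¹ = (y * d j * y⁻¹)⁻¹ := by group
      rw [this, h4, inv_inv]
    · apply n2
      apply key
      rw [h3]
      have : y * (d j)⁻¹ * y⁻¹ = (y * d j * y⁻¹)⁻¹ := by group
      rw [this, h4]
    · exact n1 (key _ _ (h3.trans h4.symm))
  exact ⟨Equiv.ofBijective f ((Finite.injective_iff_bijective).1 hinj), fun i => hf i⟩

/-- left multiplication by an element of `L` commuting with `z` and normalising `D` -/
theorem Nrm.mul_left {y c : G} (N : Nrm t z d y) (hcL : c ∈ L) (hcz : z * c = c * z)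
    (hD : ∀ e ∈ DD d, c * e * c⁻¹ ∈ DD d) (hD' : ∀ e ∈ DD d, c⁻¹ * e * c ∈ DD d) : Nrm t z d (c * y) := by
  have hct := K.tL c hcL
  refine ⟨?_, ?_, ?_, ?_⟩
  · have : c * y * z * (c * y)⁻¹ = c * (y * z * y⁻¹) * c⁻¹ := by group
    rw [this, N.cz, ← hcz, mul_inv_cancel_right]
  · have : c * y * t * (c * y)⁻¹ = c * (y * t * y⁻¹) * c⁻¹ := by group
    rw [this, N.ct]
    have h1 : Commute c (t * z) := (show Commute c t from hct.symm).mul_right hcz.symm
    rw [h1.eq, mul_inv_cancel_right]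
  · intro e he
    have : c * y * e * (c * y)⁻¹ = c * (y * e * y⁻¹) * c⁻¹ := by group
    rw [this]
    exact hD _ (N.D e he)
  · intro e he
    have : (c * y)⁻¹ * e * (c * y) = y⁻¹ * (c⁻¹ * e * c) * y := by group
    rw [this]
    exact N.D' _ (hD' e he)

theorem τ_D (i : Fin 3) : ∀ e ∈ DD d, τ i * e * (τ i)⁻¹ ∈ DD d := by
  intro e he
  induction he using closure_induction with
  | mem x hx =>
    obtain ⟨j, rfl⟩ := hx
    by_cases h : i = j
    · subst h
      rw [K.τinv, K.τdi]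
      exact inv_mem (K.d_mem _)
    · rw [K.τd i j h, mul_inv_cancel_right]
      exact K.d_mem _
  | one => rw [mul_one, mul_inv_cancel]; exact one_mem _
  | mul x y _ _ h1 h2 =>
    have : τ i * (x * y) * (τ i)⁻¹ = (τ i * x * (τ i)⁻¹) * (τ i * y * (τ i)⁻¹) := by group
    rw [this]
    exact mul_mem h1 h2
  | inv x _ h1 =>
    have : τ i * x⁻¹ * (τ i)⁻¹ = (τ i * x * (τ i)⁻¹)⁻¹ := by group
    rw [this]
    exact inv_mem h1

/-- adjust the signs -/
theorem exists_signs {y : G} (N : Nrm t z d y) {π : Equiv.Perm (Fin 3)}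
    (h : ∀ i, y * d i * y⁻¹ = d (π i) ∨ y * d i * y⁻¹ = (d (π i))⁻¹) :
    ∃ y', Nrm t z d y' ∧ ∀ i, y' * d i * y'⁻¹ = d (π i) := by
  classical
  have key : ∀ S : Finset (Fin 3), ∃ y', Nrm t z d y' ∧
      (∀ i, y' * d i * y'⁻¹ = d (π i) ∨ y' * d i * y'⁻¹ = (d (π i))⁻¹) ∧ ∀ i ∈ S, y' * d i * y'⁻¹ = d (π i) := by
    intro S
    induction S using Finset.induction_on with
    | empty => exact ⟨y, N, h, by simp⟩
    | insert a S ha ih =>
      obtain ⟨y', N', h', hS⟩ := ih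
      rcases h' a with h1 | h1
      · refine ⟨y', N', h', ?_⟩
        intro i hi
        rcases Finset.mem_insert.1 hi with rfl | hi
        · exact h1
        · exact hS i hi
      · have hτD' : ∀ e ∈ DD d, (τ (π a))⁻¹ * e * τ (π a) ∈ DD d := by
          intro e he
          have := K.τ_D (π a) e he
          rwa [K.τinv] at this ⊢
        have conj : ∀ x, τ (π a) * y' * x * (τ (π a) * y')⁻¹ = τ (π a) * (y' * x * y'⁻¹) * τ (π a) := by
          intro x
          have : τ (π a) * y' * x * (τ (π a) * y')⁻¹ = τ (π a) * (y' * x * y'⁻¹) * (τ (π a))⁻¹ := by group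
          rw [this, K.τinv]
        have hfix : ∀ i, i ≠ a → ∀ c, (c = d (π i) ∨ c = (d (π i))⁻¹) → τ (π a) * c * τ (π a) = c := by
          intro i hi c hc
          have hne : π a ≠ π i := fun h => hi (π.injective h).symm
          have hcm : Commute (τ (π a)) (d (π i)) := K.τd _ _ hne
          rcases hc with rfl | rfl
          · rw [hcm.eq, mul_assoc, K.ττ, mul_one]
          · rw [hcm.inv_right.eq, mul_assoc, K.ττ, mul_one]
        have hinv : τ (π a) * (d (π a))⁻¹ * τ (π a) = d (π a) := by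
          have h3 := K.τdi (π a)
          have : τ (π a) * (d (π a))⁻¹ * τ (π a) = τ (π a) * (τ (π a) * d (π a) * τ (π a)) * τ (π a) := by rw [h3]
          rw [this]
          have : τ (π a) * (τ (π a) * d (π a) * τ (π a)) * τ (π a) =
            (τ (π a) * τ (π a)) * d (π a) * (τ (π a) * τ (π a)) := by group
          rw [this, K.ττ, one_mul, mul_one]
        refine ⟨τ (π a) * y', N'.mul_left K (K.τL _) (K.zτ _) (K.τ_D _) hτD', ?_, ?_⟩
        · intro i
          rw [conj]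
          by_cases hi : i = a
          · subst hi
            rw [h1, hinv]
            exact Or.inl rfl
          · rw [hfix i hi _ (h' i)]
            exact h' i
        · intro i hi
          rw [conj]
          by_cases hia : i = a
          · subst hia
            rw [h1, hinv]
          · rcases Finset.mem_insert.1 hi with hi | hi
            · exact absurd hi hia
            · rw [hfix i hia _ (h' i)]
              exact hS i hi
  obtain ⟨y', N', -, h'⟩ := key Finset.univ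
  exact ⟨y', N', fun i => h' i (Finset.mem_univ i)⟩

/-- the image of `τ i` -/
theorem τ_conj {y : G} (N : Nrm t z d y) {π : Equiv.Perm (Fin 3)} (h : ∀ i, y * d i * y⁻¹ = d (π i)) (i : Fin 3) :
    ∃ s, TZ t z s ∧ ∃ m : ℤ, y * τ i * y⁻¹ = τ (π i) * s * d (π i) ^ m := by
  obtain ⟨hyt, hyz⟩ := K.conj_cz N (K.t_comm (K.τL i)) (K.zτ i).symm
  set g := τ (π i) * (y * τ i * y⁻¹) with hg
  have hinv : ∀ k, (y * τ i * y⁻¹) * d (π k) * (y * τ i * y⁻¹)⁻¹ = if k = i then (d (π k))⁻¹ else d (π k) := by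
    intro k
    have e : (y * τ i * y⁻¹) * d (π k) * (y * τ i * y⁻¹)⁻¹ = y * (τ i * d k * (τ i)⁻¹) * y⁻¹ := by
      rw [← h k]; group
    rw [e, K.τinv]
    by_cases hk : k = i
    · subst hk
      rw [if_pos rfl, K.τdi, ← h k]
      group
    · rw [if_neg hk, K.τd i k (Ne.symm hk), mul_assoc (d k), K.ττ, mul_one, h k]
  have hτk : ∀ k, τ (π i) * d (π k) * τ (π i) = if k = i then (d (π k))⁻¹ else d (π k) := by
    intro k
    by_cases hk : k = i
    · subst hk
      rw [if_pos rfl, K.τdi]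
    · rw [if_neg hk, K.τd _ _ (fun h => hk (π.injective h).symm), mul_assoc, K.ττ, mul_one]
  have hgd : ∀ j, g * d j = d j * g := by
    intro j
    obtain ⟨k, rfl⟩ := π.surjective j
    have e1 : g * d (π k) * g⁻¹ = τ (π i) * ((y * τ i * y⁻¹) * d (π k) * (y * τ i * y⁻¹)⁻¹) * (τ (π i))⁻¹ := by
      rw [hg]; group
    have e2 : g * d (π k) * g⁻¹ = d (π k) := by
      rw [e1, hinv k, K.τinv]
      by_cases hk : k = i
      · rw [if_pos hk]
        have h3 := hτk k
        rw [if_pos hk] at h3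
        rw [← h3]
        have : τ (π i) * (τ (π i) * d (π k) * τ (π i)) * τ (π i) =
          (τ (π i) * τ (π i)) * d (π k) * (τ (π i) * τ (π i)) := by group
        rw [this, K.ττ, one_mul, mul_one]
      · rw [if_neg hk]
        have h3 := hτk k
        rwa [if_neg hk] at h3
    exact mul_inv_eq_iff_eq_mul.1 e2
  have hgt : g * t = t * g := by
    rw [hg, mul_assoc, hyt, ← mul_assoc, K.t_comm (K.τL _), mul_assoc]
  have hgz : g * z = z * g := by
    rw [hg, mul_assoc, hyz, ← mul_assoc, ← K.zτ, mul_assoc]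
  obtain ⟨s, hs, c, hc, hgc⟩ := K.cD g hgt hgz hgd
  have hyτ : y * τ i * y⁻¹ = τ (π i) * s * c := by
    have : y * τ i * y⁻¹ = τ (π i) * g := by rw [hg, ← mul_assoc, K.ττ, one_mul]
    rw [this, hgc, mul_assoc]
  have hsq : y * τ i * y⁻¹ * (y * τ i * y⁻¹) = 1 := by
    have : y * τ i * y⁻¹ * (y * τ i * y⁻¹) = y * (τ i * τ i) * y⁻¹ := by group
    rw [this, K.ττ]
    group
  rw [hyτ] at hsq
  have hsτ : s * τ (π i) = τ (π i) * s := K.TZ_comm hs (K.τL _) (K.zτ _)
  have hsc : s * c = c * s := K.TZ_comm hs (K.DL hc) (K.D_z hc)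
  have h5 : τ (π i) * c * τ (π i) = c⁻¹ := by
    have e : τ (π i) * s * c * (τ (π i) * s * c) = (τ (π i) * c * τ (π i) * c) := by
      calc τ (π i) * s * c * (τ (π i) * s * c) = τ (π i) * (s * c) * τ (π i) * s * c := by group
        _ = τ (π i) * c * (s * τ (π i)) * s * c := by rw [hsc]; group
        _ = τ (π i) * c * τ (π i) * (s * s) * c := by rw [hsτ]; group
        _ = τ (π i) * c * τ (π i) * c := by rw [K.TZ_sq hs, mul_one]
    rw [e] at hsq
    exact eq_inv_of_mul_eq_one_left hsq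
  obtain ⟨m, hm⟩ := K.inv_comp hc h5
  exact ⟨s, hs, m, by rw [hyτ, hm]⟩

/-- adjust by `D` so that the `τ i` are permuted modulo `⟨t, z⟩` -/
theorem exists_taus {y : G} (N : Nrm t z d y) {π : Equiv.Perm (Fin 3)} (h : ∀ i, y * d i * y⁻¹ = d (π i)) :
    ∃ y', Nrm t z d y' ∧ (∀ i, y' * d i * y'⁻¹ = d (π i)) ∧ ∀ i, ∃ s, TZ t z s ∧ y' * τ i * y'⁻¹ = τ (π i) * s := by
  classical
  have key : ∀ S : Finset (Fin 3), ∃ y', Nrm t z d y' ∧ (∀ i, y' * d i * y'⁻¹ = d (π i)) ∧
      ∀ i ∈ S, ∃ s, TZ t z s ∧ y' * τ i * y'⁻¹ = τ (π i) * s := by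
    intro S
    induction S using Finset.induction_on with
    | empty => exact ⟨y, N, h, by simp⟩
    | insert a S ha ih =>
      obtain ⟨y', N', h', hS⟩ := ih
      obtain ⟨s, hs, m, hm⟩ := K.τ_conj N' h' a
      set c := d (π a) ^ m with hc
      have hcD : c ∈ DD d := zpow_mem (K.d_mem _) _
      have hc3 := K.D3 hcD
      have hDD : ∀ e ∈ DD d, c⁻¹ * e * c⁻¹⁻¹ ∈ DD d := fun e he =>
        mul_mem (mul_mem (inv_mem hcD) he) (inv_mem (inv_mem hcD))
      have hDD' : ∀ e ∈ DD d, c⁻¹⁻¹ * e * c⁻¹ ∈ DD d := fun e he =>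
        mul_mem (mul_mem (inv_mem (inv_mem hcD)) he) (inv_mem hcD)
      have hcz : z * c⁻¹ = c⁻¹ * z := K.D_z (inv_mem hcD)
      have conj : ∀ x, c⁻¹ * y' * x * (c⁻¹ * y')⁻¹ = c⁻¹ * (y' * x * y'⁻¹) * c := by
        intro x; group
      refine ⟨c⁻¹ * y', N'.mul_left K (inv_mem (K.DL hcD)) hcz hDD hDD', ?_, ?_⟩
      · intro i
        rw [conj, h']
        have : Commute (d (π i)) c := K.D_d hcD (π i)
        rw [mul_assoc, this.eq, inv_mul_cancel_left]
      · intro i hi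
        by_cases hia : i = a
        · subst hia
          refine ⟨s, hs, ?_⟩
          rw [conj, hm]
          have hτc : τ (π i) * c * τ (π i) = c⁻¹ := by
            have h1 : τ (π i) * d (π i) ^ m * τ (π i) = (τ (π i) * d (π i) * (τ (π i))⁻¹) ^ m := by
              rw [conj_zpow, K.τinv]
            rw [hc, h1, K.τinv, K.τdi, inv_zpow]
          have hτc' : c⁻¹ * τ (π i) = τ (π i) * c := by
            rw [← hτc, mul_assoc, mul_assoc, K.ττ, mul_one]
          have hsc : s * c = c * s := K.TZ_comm hs (K.DL hcD) (K.D_z hcD)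
          calc c⁻¹ * (τ (π i) * s * c) * c = (c⁻¹ * τ (π i)) * (s * c) * c := by group
            _ = τ (π i) * (c * c * s) * c := by rw [hτc', hsc]; group
            _ = τ (π i) * (c * c * (s * c)) := by group
            _ = τ (π i) * (c * c * c) * s := by rw [hsc]; group
            _ = τ (π i) * s := by rw [hc3, mul_one]
        · rcases Finset.mem_insert.1 hi with hi | hi
          · exact absurd hi hia
          · obtain ⟨s', hs', hi'⟩ := hS i hi
            refine ⟨s', hs', ?_⟩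
            rw [conj, hi']
            have h1 : Commute (τ (π i)) (d (π a)) := K.τd _ _ (fun h => hia (π.injective h))
            have h2 : Commute (τ (π i)) c := h1.zpow_right m
            have h3 : s' * c = c * s' := K.TZ_comm hs' (K.DL hcD) (K.D_z hcD)
            have h4 : Commute (τ (π i) * s') c := h2.mul_left h3
            rw [mul_assoc, h4.eq, inv_mul_cancel_left]
  obtain ⟨y', N', h', hS⟩ := key Finset.univ
  exact ⟨y', N', h', fun i => hS i (Finset.mem_univ i)⟩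

/-- `y` fixes `r` -/
theorem fix_r {y : G} (N : Nrm t z d y) {π : Equiv.Perm (Fin 3)} (h : ∀ i, y * d i * y⁻¹ = d (π i))
    (hτ : ∀ i, ∃ s, TZ t z s ∧ y * τ i * y⁻¹ = τ (π i) * s) : y * r * y⁻¹ = r := by
  have hQ := K.r_conj N
  have hcomm : ∀ j, (y * r * y⁻¹) * τ j = τ j * (y * r * y⁻¹) := by
    intro j
    obtain ⟨i, rfl⟩ := π.surjective j
    obtain ⟨s, hs, e⟩ := hτ i
    have h1 : (y * r * y⁻¹) * (y * τ i * y⁻¹) = (y * τ i * y⁻¹) * (y * r * y⁻¹) := by
      have e1 : (y * r * y⁻¹) * (y * τ i * y⁻¹) = y * (r * τ i) * y⁻¹ := by group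
      rw [e1, K.rτ]
      group
    rw [e] at h1
    have h3 : Commute s (y * r * y⁻¹) := K.TZ_comm hs (K.QL hQ) (K.Q_z hQ)
    have h4 : Commute (y * r * y⁻¹) (τ (π i) * s) := h1
    have h5 : Commute (y * r * y⁻¹) (τ (π i) * s * s) := h4.mul_right h3.symm
    rw [mul_assoc (τ (π i)) s s, K.TZ_sq hs, mul_one] at h5
    exact h5.eq
  have key : ∀ a b : G, y * a * y⁻¹ = b → a = y⁻¹ * b * y := by
    intro a b h
    rw [← h]
    group
  have hrd := K.rd 0
  have hzc : ∀ c ∈ DD d, c * z * c⁻¹ = z := fun c hc => by rw [← K.D_z hc, mul_inv_cancel_right]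
  rcases K.Qτ _ hQ hcomm with h1 | h1 | h1 | h1
  · exfalso
    apply K.r1
    rw [key _ _ h1]
    group
  · exfalso
    apply K.rz
    rw [key _ _ h1]
    nth_rewrite 1 [← N.cz]
    group
  · exact h1
  · -- apply `y` to `r r^d r^(d²) = 1`
    exfalso
    have h3 := congrArg (fun g => y * g * y⁻¹) hrd
    have e : y * (r * (d 0 * r * (d 0)⁻¹) * ((d 0)⁻¹ * r * d 0)) * y⁻¹ =
        (y * r * y⁻¹) * ((y * d 0 * y⁻¹) * (y * r * y⁻¹) * (y * d 0 * y⁻¹)⁻¹) *
          ((y * d 0 * y⁻¹)⁻¹ * (y * r * y⁻¹) * (y * d 0 * y⁻¹)) := by group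
    rw [e, h1, h] at h3
    have hz1 : Commute z (d (π 0)) := K.zd _
    have hz2 : Commute z r := K.zr
    have e2 : r * z * (d (π 0) * (r * z) * (d (π 0))⁻¹) * ((d (π 0))⁻¹ * (r * z) * d (π 0)) =
        (r * (d (π 0) * r * (d (π 0))⁻¹) * ((d (π 0))⁻¹ * r * d (π 0))) * (z * z * z) := by
      have a1 : d (π 0) * (r * z) * (d (π 0))⁻¹ = (d (π 0) * r * (d (π 0))⁻¹) * z := by
        calc d (π 0) * (r * z) * (d (π 0))⁻¹ = d (π 0) * r * (z * (d (π 0))⁻¹) := by group
          _ = (d (π 0) * r * (d (π 0))⁻¹) * z := by rw [hz1.inv_right.eq]; group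
      have a2 : (d (π 0))⁻¹ * (r * z) * d (π 0) = ((d (π 0))⁻¹ * r * d (π 0)) * z := by
        calc (d (π 0))⁻¹ * (r * z) * d (π 0) = (d (π 0))⁻¹ * r * (z * d (π 0)) := by group
          _ = ((d (π 0))⁻¹ * r * d (π 0)) * z := by rw [hz1.eq]; group
      rw [a1, a2]
      have b1 : Commute z (d (π 0) * r * (d (π 0))⁻¹) := (hz1.mul_right hz2).mul_right hz1.inv_right
      have b2 : Commute z ((d (π 0))⁻¹ * r * d (π 0)) := (hz1.inv_right.mul_right hz2).mul_right hz1
      set A := d (π 0) * r * (d (π 0))⁻¹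
      set B := (d (π 0))⁻¹ * r * d (π 0)
      calc r * z * (A * z) * (B * z) = r * (z * A) * (z * B) * z := by group
        _ = r * (A * z) * (B * z) * z := by rw [b1.eq, b2.eq]
        _ = r * A * (z * B) * z * z := by group
        _ = r * A * (B * z) * z * z := by rw [b2.eq]
        _ = r * A * B * (z * z * z) := by group
    rw [e2, K.rd, K.zz, one_mul, one_mul] at h3
    apply K.z1
    rw [h3]
    group

end

/-- The normalised action of `y`. -/
structure Act (t z r : G) (d τ : Fin 3 → G) (π : Equiv.Perm (Fin 3)) (y : G) : Prop where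
  cz : y * z * y⁻¹ = z
  ct : y * t * y⁻¹ = t * z
  cr : y * r * y⁻¹ = r
  cd : ∀ i, y * d i * y⁻¹ = d (π i)
  cτ : ∀ i, ∃ s, TZ t z s ∧ y * τ i * y⁻¹ = τ (π i) * s

theorem exists_act [Finite G] (K : Core t z r L d τ) {g : G} (hz : g * z * g⁻¹ = z) (ht : g * t * g⁻¹ = t * z) :
    ∃ π y, Act t z r d τ π y := by
  obtain ⟨y, N⟩ := exists_nrm K hz ht
  obtain ⟨π, hπ⟩ := K.exists_perm N
  obtain ⟨y', N', h'⟩ := K.exists_signs N hπ
  obtain ⟨y'', N'', h'', hτ⟩ := K.exists_taus N' h'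
  exact ⟨π, y'', N''.cz, N''.ct, K.fix_r N'' h'' hτ, h'', hτ⟩

section

variable (K : Core t z r L d τ)

include K

theorem Act.ctz {π : Equiv.Perm (Fin 3)} {y : G} (A : Act t z r d τ π y) : y * (t * z) * y⁻¹ = t := by
  have : y * (t * z) * y⁻¹ = (y * t * y⁻¹) * (y * z * y⁻¹) := by group
  rw [this, A.ct, A.cz, mul_assoc, K.zz, mul_one]

theorem Act.TZ {π : Equiv.Perm (Fin 3)} {y : G} (A : Act t z r d τ π y) {s : G} (hs : TZ t z s) :
    DoubCore.TZ t z (y * s * y⁻¹) := by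
  rcases hs with rfl | rfl | rfl | rfl
  · left; rw [mul_one, mul_inv_cancel]
  · right; right; right; exact A.ct
  · right; right; left; exact A.cz
  · right; left; exact A.ctz K

/-- the cube of `y` -/
theorem Act.cube {π : Equiv.Perm (Fin 3)} {y : G} (A : Act t z r d τ π y) :
    Act t z r d τ (π * π * π) (y * y * y) := by
  have e : ∀ x, y * y * y * x * (y * y * y)⁻¹ = y * (y * (y * x * y⁻¹) * y⁻¹) * y⁻¹ := by
    intro x; group
  refine ⟨?_, ?_, ?_, ?_, ?_⟩
  · rw [e, A.cz, A.cz, A.cz]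
  · rw [e, A.ct, A.ctz K, A.ct]
  · rw [e, A.cr, A.cr, A.cr]
  · intro i
    rw [e, A.cd, A.cd, A.cd]
    rfl
  · intro i
    obtain ⟨s, hs, h1⟩ := A.cτ i
    obtain ⟨s', hs', h2⟩ := A.cτ (π i)
    obtain ⟨s'', hs'', h3⟩ := A.cτ (π (π i))
    refine ⟨s'' * (y * s' * y⁻¹) * (y * (y * s * y⁻¹) * y⁻¹), ?_, ?_⟩
    · exact K.TZ_mul (K.TZ_mul hs'' (A.TZ K hs')) (A.TZ K (A.TZ K hs))
    · rw [e, h1]
      have e1 : y * (τ (π i) * s) * y⁻¹ = (y * τ (π i) * y⁻¹) * (y * s * y⁻¹) := by group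
      rw [e1, h2]
      have e2 : y * (τ (π (π i)) * s' * (y * s * y⁻¹)) * y⁻¹ =
        (y * τ (π (π i)) * y⁻¹) * (y * s' * y⁻¹) * (y * (y * s * y⁻¹) * y⁻¹) := by group
      rw [e2, h3]
      change τ (π (π (π i))) * s'' * (y * s' * y⁻¹) * (y * (y * s * y⁻¹) * y⁻¹) = τ (π (π (π i))) * _
      simp only [mul_assoc]

/-- `y²` lies in `⟨z⟩` if `π² = 1` -/
theorem Act.sq {π : Equiv.Perm (Fin 3)} {y : G} (A : Act t z r d τ π y) (hπ : π * π = 1) :
    y * y = 1 ∨ y * y = z := by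
  have e : ∀ x, y * y * x * (y * y)⁻¹ = y * (y * x * y⁻¹) * y⁻¹ := by intro x; group
  have h1 : y * y * t = t * (y * y) := by
    apply mul_inv_eq_iff_eq_mul.1
    rw [e, A.ct, A.ctz K]
  have h2 : y * y * z = z * (y * y) := by
    apply mul_inv_eq_iff_eq_mul.1
    rw [e, A.cz, A.cz]
  have h3 : ∀ i, y * y * d i = d i * (y * y) := by
    intro i
    apply mul_inv_eq_iff_eq_mul.1
    rw [e, A.cd, A.cd]
    have : π (π i) = i := by
      have := congrArg (fun p : Equiv.Perm (Fin 3) => p i) hπ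
      simpa using this
    rw [this]
  have h4 : y * y * r = r * (y * y) := by
    apply mul_inv_eq_iff_eq_mul.1
    rw [e, A.cr, A.cr]
  obtain ⟨s, hs, c, hc, hsc⟩ := K.cD _ h1 h2 h3
  have hsr : s * r = r * s := K.TZ_comm hs K.rL K.zr
  have hc1 : c = 1 := by
    apply K.rc c hc
    have h5 : s * (c * r) = s * (r * c) := by
      rw [← mul_assoc, ← hsc, h4, hsc, ← mul_assoc, ← mul_assoc, hsr]
    exact (mul_left_cancel h5).symm
  rw [hc1, mul_one] at hsc
  have hys : y * s * y⁻¹ = s := by rw [← hsc]; group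
  rcases hs with h | h | h | h
  · left; rw [hsc, h]
  · exfalso
    rw [h, A.ct] at hys
    exact K.z1 (mul_eq_left.1 hys)
  · right; rw [hsc, h]
  · exfalso
    rw [h, A.ctz K] at hys
    exact K.z1 (mul_eq_left.1 hys.symm)

/-- multiplication by `t` -/
theorem Act.mul_t {π : Equiv.Perm (Fin 3)} {y : G} (A : Act t z r d τ π y) : Act t z r d τ π (y * t) := by
  have e : ∀ x ∈ L, y * t * x * (y * t)⁻¹ = y * x * y⁻¹ := by
    intro x hx
    have : y * t * x * (y * t)⁻¹ = y * (t * x * t⁻¹) * y⁻¹ := by group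
    rw [this, K.tL x hx, mul_inv_cancel_right]
  refine ⟨?_, ?_, ?_, ?_, ?_⟩
  · rw [e _ K.zL, A.cz]
  · have : y * t * t * (y * t)⁻¹ = y * t * y⁻¹ := by group
    rw [this, A.ct]
  · rw [e _ K.rL, A.cr]
  · intro i
    rw [e _ (K.dL i), A.cd]
  · intro i
    rw [e _ (K.τL i)]
    exact A.cτ i

end

/-- **Normalisation.** -/
theorem exists_inv [Finite G] (K : Core t z r L d τ) {g : G} (hz : g * z * g⁻¹ = z) (ht : g * t * g⁻¹ = t * z) :
    ∃ π y, Act t z r d τ π y ∧ y * y = 1 ∧ π * π = 1 := by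
  obtain ⟨π, y, A⟩ := exists_act K hz ht
  have hπ : (π * π * π) * (π * π * π) = 1 := by
    have h1 : π ^ 6 = 1 := by
      have : Fintype.card (Equiv.Perm (Fin 3)) = 6 := by decide
      rw [← this]
      exact pow_card_eq_one
    have h2 : (π * π * π) * (π * π * π) = π ^ 6 := by
      simp only [pow_succ, pow_zero, one_mul, mul_assoc]
    rw [h2, h1]
  have A' := A.cube K
  rcases A'.sq K hπ with h | h
  · exact ⟨_, _, A', h, hπ⟩
  · refine ⟨_, _, A'.mul_t K, ?_, hπ⟩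
    set y' := y * y * y
    have h3 : y' * t * (y' * t) = (y' * y') * (y'⁻¹ * t * y') * t := by group
    have h4 : y'⁻¹ * t * y' = t * z := by
      have := A'.ctz K
      have h5 : y' * (t * z) = t * y' := mul_inv_eq_iff_eq_mul.1 this
      rw [mul_assoc, ← h5, inv_mul_cancel_left]
    rw [h3, h, h4, K.tz]
    have : z * (z * t) * t = (z * z) * (t * t) := by group
    rw [this, K.zz, K.tt, one_mul]

/-- the `τ i` with `π i = i` -/
theorem fix_τ (K : Core t z r L d τ) {π : Equiv.Perm (Fin 3)} {y : G} (A : Act t z r d τ π y) (hy : y * y = 1)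
    {i : Fin 3} (hi : π i = i) : y * τ i * y⁻¹ = τ i ∨ y * τ i * y⁻¹ = τ i * z := by
  obtain ⟨s, hs, h⟩ := A.cτ i
  rw [hi] at h
  have yinv : y⁻¹ = y := inv_eq_of_mul_eq_one_right hy
  have h1 : τ i * s * (y * s * y⁻¹) = τ i := by
    have : τ i * s * (y * s * y⁻¹) = y * (y * τ i * y⁻¹) * y⁻¹ := by
      nth_rewrite 1 [← h]
      have : y * (y * τ i * y⁻¹) * y⁻¹ = (y * (τ i * s) * y⁻¹) := by rw [h]
      rw [this]
      group
    rw [this]
    have : y * (y * τ i * y⁻¹) * y⁻¹ = (y * y) * τ i * (y * y)⁻¹ := by group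
    rw [this, hy]
    group
  have h2 : s * (y * s * y⁻¹) = 1 := by
    rw [mul_assoc] at h1
    exact mul_eq_left.1 h1
  rcases hs with h3 | h3 | h3 | h3
  · left; rw [h, h3, mul_one]
  · exfalso
    rw [h3, A.ct, ← mul_assoc, K.tt, one_mul] at h2
    exact K.z1 h2
  · right; rw [h, h3]
  · exfalso
    rw [h3, A.ctz K] at h2
    apply K.z1
    have : t * z * t = z := by rw [mul_assoc, ← K.tz, ← mul_assoc, K.tt, one_mul]
    rw [this] at h2
    exact h2

end Core

end Cfsg.Agent.StdO8.DoubCore
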