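import Mathlib
import Cfsg.Agent.StdO8.Aut

/-!
# Automorphisms of `Ω₈⁺(2)` preserve the root elements

`IsRoot c`: `c = X u w` for a totally singular line `⟨u, w⟩`. `isRoot_map`: `α c` is a root element for every
automorphism `α` of `Om`.
-/

set_option autoImplicit false

namespace Cfsg.Agent.StdO8.Root

open QuadraticMap Cfsg.Agent.LieClassical.OrthCore Cfsg.Agent.LieClassical.OrthTrans
  Cfsg.Agent.LieClassical.OrthSimple Cfsg.Agent.LieClassical.OrthFinite Cfsg.Agent.AutOrth.Main
  Cfsg.Agent.LieClassical.QuadForms Cfsg.Agent.ClassicalGeometry.OrthAut1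
  Cfsg.Agent.ClassicalGeometry.OrthAut2
open Cfsg.Agent.StdO8.Model Cfsg.Agent.StdO8.Aut

/-- Root elements. -/
def IsRoot (c : V ≃ₗ[ZMod 2] V) : Prop :=
  ∃ u w, q u = 0 ∧ q w = 0 ∧ B u w = 0 ∧ u ≠ 0 ∧ w ≠ 0 ∧ u ≠ w ∧ c = X u w

theorem IsRoot.conj {c : V ≃ₗ[ZMod 2] V} (hc : IsRoot c) {M : V ≃ₗ[ZMod 2] V} (hM : M ∈ O8) :
    IsRoot (M * c * M⁻¹) := by
  obtain ⟨u, w, h1, h2, h3, h4, h5, h6, rfl⟩ := hc
  refine ⟨M u, M w, by rw [O8_q hM, h1], by rw [O8_q hM, h2], by rw [O8_B hM, h3],
    fun h => h4 (M.map_eq_zero_iff.1 h), fun h => h5 (M.map_eq_zero_iff.1 h), fun h => h6 (M.injective h),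
    X_conj hM u w⟩

/-- In the second case of the dichotomy the whole unipotent radical is mapped into `UP W`. -/
theorem map_sg_mem {α : MulAut Om} {u : V} (hu : q u = 0) (hu0 : u ≠ 0) {W : Submodule (ZMod 2) V}
    (hTS : TS q W) (hk : Module.finrank (ZMod 2) W = 4)
    (h : (stab good (Submodule.span (ZMod 2) {u})).map (tra α).toMonoidHom = stab good W)
    {w : V} (huw : B u w = 0) : α (sg u w hu huw) ∈ U q W := by
  have hUP := Cfsg.Agent.ClassicalGeometry.OrthAut3.map_symm_UP_le good (by rw [finrank_V]; norm_num)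
    (tra α) hu hu0 h
  have hstab : ∀ g : P q, g ∈ stab good (Submodule.span (ZMod 2) {u}) → ∀ s : P q, tra α s ∈ UP q W →
      tra α (g * s * g⁻¹) ∈ UP q W := by
    intro g hg s hs
    rw [map_mul, map_mul, map_inv]
    apply conj_mem_UP_of_stab (hG := good) _ hs
    rw [← h]
    exact ⟨g, hg, rfl⟩
  let A : Submodule (ZMod 2) V :=
    { carrier := {a | B u a = 0 ∧ ∀ (ha : B u a = 0), tra α ((sg u a hu ha : Om) : P q) ∈ UP q W}
      zero_mem' := by
        refine ⟨B_zero_right u, fun ha => ?_⟩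
        have : (sg u 0 hu ha : Om) = 1 := Subtype.ext (by rw [sg_eq_X, X_zero_right]; rfl)
        rw [this]
        simp
      add_mem' := by
        rintro a b ⟨ha, ha'⟩ ⟨hb, hb'⟩
        have hab : B u (a + b) = 0 := by rw [B_add_right, ha, hb, add_zero]
        refine ⟨hab, fun _ => ?_⟩
        have : (sg u (a + b) hu hab : Om) = sg u a hu ha * sg u b hu hb :=
          (Cfsg.Agent.ClassicalGeometry.OrthAut2.sg_mul hu ha hb hab).symm
        rw [this]
        have e : (((sg u a hu ha * sg u b hu hb : Om)) : P q) =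
          ((sg u a hu ha : Om) : P q) * ((sg u b hu hb : Om) : P q) := rfl
        rw [e, map_mul]
        exact mul_mem (ha' ha) (hb' hb)
      smul_mem' := by
        rintro r a ⟨ha, ha'⟩
        rcases z2 r with rfl | rfl
        · rw [zero_smul]
          refine ⟨B_zero_right u, fun ha => ?_⟩
          have : (sg u 0 hu ha : Om) = 1 := Subtype.ext (by rw [sg_eq_X, X_zero_right]; rfl)
          rw [this]
          simp
        · rw [one_smul]
          exact ⟨ha, ha'⟩ }
  have hAu : u ∈ A := by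
    refine ⟨B_self u, fun ha => ?_⟩
    have : (sg u u hu ha : Om) = 1 := Subtype.ext (by rw [sg_eq_X, X_self hu]; rfl)
    rw [this]
    simp
  have hAinv : ∀ g : Om, (g : V ≃ₗ[ZMod 2] V) u = u → ∀ a ∈ A, (g : V ≃ₗ[ZMod 2] V) a ∈ A := by
    rintro g hg a ⟨ha, ha'⟩
    have hga : B u ((g : V ≃ₗ[ZMod 2] V) a) = 0 := by
      have := O8_B (Om_le g.2) u a
      rw [hg] at this
      rw [this, ha]
    refine ⟨hga, fun _ => ?_⟩
    have e : g * sg u a hu ha * g⁻¹ = sg u ((g : V ≃ₗ[ZMod 2] V) a) hu hga := by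
      apply Subtype.ext
      rw [sg_eq_X]
      show (g : V ≃ₗ[ZMod 2] V) * ((sg u a hu ha : Om) : V ≃ₗ[ZMod 2] V) * (g : V ≃ₗ[ZMod 2] V)⁻¹ = _
      rw [sg_eq_X, X_conj (Om_le g.2), hg]
    rw [← e]
    refine hstab (g : P q) ?_ ((sg u a hu ha : Om) : P q) (ha' ha)
    rw [mem_stab, pact_mk, mapHom_span, hg]
  -- a nonzero element of `UP W`
  obtain ⟨a, haA, hau⟩ : ∃ a ∈ A, ∀ r : ZMod 2, a ≠ r • u := by
    have hWne : W ≠ ⊥ := by
      rintro rfl
      rw [finrank_bot] at hk
      omega
    obtain ⟨x, hxW, hx0⟩ := Submodule.exists_mem_ne_zero_of_ne_bot hWne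
    obtain ⟨y, hyW, hy⟩ : ∃ y ∈ W, y ∉ Submodule.span (ZMod 2) {x} := by
      by_contra hcon
      push Not at hcon
      have h1 : W ≤ Submodule.span (ZMod 2) {x} := hcon
      have h2 := Submodule.finrank_mono h1
      have h3 := finrank_span_singleton (K := ZMod 2) hx0
      omega
    have hxy : B x y = 0 := hTS.polar hxW hyW
    have hmem : (sg x y (hTS x hxW) hxy : Om) ∈ U q W :=
      sg_mem_U hTS hxW (fun v hv => hTS.polar hyW hv) _ _
    have hne : (sg x y (hTS x hxW) hxy : Om) ≠ 1 := by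
      intro h1
      obtain ⟨c, hc⟩ := (sg_eq_one_iff good.nondeg (hTS x hxW) hx0 hxy).1 h1
      exact hy (by rw [hc]; exact Submodule.smul_mem _ _ (Submodule.mem_span_singleton_self x))
    have h2 := hUP ⟨_, ⟨_, hmem, rfl⟩, rfl⟩
    obtain ⟨a, ha, e⟩ := (mem_UP_span_iff good.nondeg hu hu0).1 h2
    have e' : tra α ((sg u a hu ha : Om) : P q) = ((sg x y (hTS x hxW) hxy : Om) : P q) := by
      rw [← e]
      exact (tra α).apply_symm_apply _
    refine ⟨a, ⟨ha, fun _ => ?_⟩, fun r hr => ?_⟩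
    · rw [e']
      exact ⟨_, hmem, rfl⟩
    · apply hne
      have : (sg u a hu ha : Om) = 1 := (sg_eq_one_iff good.nondeg hu hu0 ha).2 ⟨r, hr⟩
      rw [this] at e'
      apply coe_P_inj
      rw [← e']
      simp
  have hall := Cfsg.Agent.ClassicalGeometry.OrthAut2b.irred good (by rw [finrank_V]; norm_num) hu hu0 A hAu
    (fun a ha => ha.1) hAinv haA hau w huw
  have h1 := hall.2 huw
  rw [tra_apply] at h1
  obtain ⟨g, hg, hg'⟩ := h1
  have : g = α (sg u w hu huw) := coe_P_inj hg'
  rwa [this] at hg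

theorem perp_of_finrank {W : Submodule (ZMod 2) V} (hTS : TS q W) (hk : Module.finrank (ZMod 2) W = 4) :
    ∀ w, (∀ v ∈ W, B w v = 0) → w ∈ W := by
  have hnd : (polarBilin q).Nondegenerate := by
    refine ⟨fun a ha => good.nondeg a ha, fun a ha => good.nondeg a fun b => ?_⟩
    rw [polar_comm]
    exact ha b
  have h1 := LinearMap.BilinForm.finrank_orthogonal hnd W
  rw [finrank_V, hk] at h1
  have h2 : W ≤ LinearMap.BilinForm.orthogonal (polarBilin q) W := by
    intro w hw
    rw [LinearMap.BilinForm.mem_orthogonal_iff]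
    intro v hv
    exact hTS.polar hv hw
  have h3 : W = LinearMap.BilinForm.orthogonal (polarBilin q) W :=
    Submodule.eq_of_le_of_finrank_eq h2 (by omega)
  intro w hw
  rw [h3, LinearMap.BilinForm.mem_orthogonal_iff]
  intro v hv
  show B v w = 0
  rw [B_comm]
  exact hw v hv

/-- For `g` in the radical of a totally singular 4-space, `(g - 1) V ≤ W`. -/
theorem sub_mem_of_mem_U {W : Submodule (ZMod 2) V} (hTS : TS q W) (hk : Module.finrank (ZMod 2) W = 4)
    {g : Om} (hg : g ∈ U q W) (v : V) : (g : V ≃ₗ[ZMod 2] V) v + v ∈ W := by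
  rw [← sub_eq]
  apply perp_of_finrank hTS hk
  intro x hx
  rw [B_comm]
  exact polar_sub_of_mem_U hg v hx

theorem add_cancel (v w : V) : v + w + v = w := by
  calc v + w + v = (v + v) + w := by abel
    _ = w := by rw [add_self, zero_add]

theorem z2_add_self (a : ZMod 2) : a + a = 0 := by revert a; decide

/-- An isometry `g ≠ 1` with `(g - 1) V` in a totally singular subspace of dimension at most three is a root
element. -/
theorem isRoot_of_sub {K : Submodule (ZMod 2) V} (hTS : TS q K) (hk : Module.finrank (ZMod 2) K ≤ 3)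
    {g : V ≃ₗ[ZMod 2] V} (hg : g ∈ O8) (h1 : g ≠ 1) (h : ∀ v, g v + v ∈ K) : IsRoot g := by
  obtain ⟨N, hN⟩ : ∃ N : V → V, ∀ v, N v = g v + v := ⟨_, fun _ => rfl⟩
  have hNK : ∀ v, N v ∈ K := fun v => by rw [hN]; exact h v
  have hgN : ∀ v, g v = v + N v := fun v => by rw [hN, add_comm (g v) v, ← add_assoc, add_self, zero_add]
  have hNadd : ∀ v w, N (v + w) = N v + N w := fun v w => by
    rw [hN, hN, hN, map_add]; abel
  have hNsmul : ∀ (a : ZMod 2) v, N (a • v) = a • N v := fun a v => by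
    rw [hN, hN, map_smul, smul_add]
  have hKK : ∀ v w, B (N v) (N w) = 0 := fun v w => hTS.polar (hNK v) (hNK w)
  have hsymm : ∀ v w, B v (N w) = B (N v) w := by
    intro v w
    have e := O8_B hg v w
    rw [hgN, hgN, B_add_left, B_add_right, B_add_right, hKK, add_zero, add_assoc] at e
    have e2 : B v (N w) + B (N v) w = 0 := by
      have := congrArg (fun x => B v w + x) e
      simp only [← add_assoc, z2_add_self, zero_add] at this
      exact this
    have e3 := congrArg (fun x => x + B (N v) w) e2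
    simp only [add_assoc, z2_add_self, add_zero, zero_add] at e3
    exact e3
  have halt : ∀ v, B v (N v) = 0 := by
    intro v
    have e := O8_q hg v
    rw [hgN, q_add, hTS _ (hNK v), add_zero] at e
    have := congrArg (fun x => q v + x) e
    simp only [← add_assoc, z2_add_self, zero_add] at this
    exact this
  obtain ⟨v0, hv0⟩ : ∃ v0, N v0 ≠ 0 := by
    by_contra hcon
    push Not at hcon
    apply h1
    ext v : 1
    rw [hgN, hcon, add_zero]
    rfl
  obtain ⟨a, ha⟩ : ∃ a, a = N v0 := ⟨_, rfl⟩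
  obtain ⟨w0, hw0⟩ : ∃ w0, B a w0 = 1 := by
    by_contra hcon
    push Not at hcon
    exact hv0 (by rw [← ha]; exact Model.nondeg fun v => (z2 _).resolve_right (hcon v))
  obtain ⟨b, hb⟩ : ∃ b, b = N w0 := ⟨_, rfl⟩
  have hav : B a v0 = 0 := by rw [ha, B_comm]; exact halt v0
  have hbw : B b w0 = 0 := by rw [hb, B_comm]; exact halt w0
  have hbv : B b v0 = 1 := by rw [hb, B_comm, hsymm, ← ha, hw0]
  have haK : a ∈ K := by rw [ha]; exact hNK _
  have hbK : b ∈ K := by rw [hb]; exact hNK _
  -- the remainder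
  have hrem : ∀ v, B a v = 0 → B b v = 0 → N v = 0 := by
    intro v hav' hbv'
    by_contra hne
    obtain ⟨c, hc⟩ : ∃ c, c = N v := ⟨_, rfl⟩
    have hcv0 : B c v0 = 0 := by rw [hc, B_comm, hsymm, ← ha, hav']
    have hcw0 : B c w0 = 0 := by rw [hc, B_comm, hsymm, ← hb, hbv']
    obtain ⟨w1, hw1⟩ : ∃ w1, B c w1 = 1 := by
      by_contra hcon
      push Not at hcon
      exact hne (by rw [← hc]; exact Model.nondeg fun v => (z2 _).resolve_right (hcon v))
    obtain ⟨w', hw'⟩ : ∃ w', w' = w1 + B b w1 • v0 + B a w1 • w0 := ⟨_, rfl⟩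
    have hcw' : B c w' = 1 := by
      rw [hw', B_add_right, B_add_right, B_smul_right, B_smul_right, hcv0, hcw0, hw1]; ring
    have haw' : B a w' = 0 := by
      rw [hw', B_add_right, B_add_right, B_smul_right, B_smul_right, hav, hw0, mul_zero, add_zero, mul_one,
        z2_add_self]
    have hbw' : B b w' = 0 := by
      rw [hw', B_add_right, B_add_right, B_smul_right, B_smul_right, hbv, hbw, mul_zero, add_zero, mul_one,
        z2_add_self]
    obtain ⟨d, hd⟩ : ∃ d, d = N w' := ⟨_, rfl⟩
    have hdv0 : B d v0 = 0 := by rw [hd, B_comm, hsymm, ← ha, haw']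
    have hdw0 : B d w0 = 0 := by rw [hd, B_comm, hsymm, ← hb, hbw']
    have hdv : B d v = 1 := by rw [hd, B_comm, hsymm, ← hc, hcw']
    have hcv : B c v = 0 := by rw [hc, B_comm]; exact halt v
    have hcK : c ∈ K := by rw [hc]; exact hNK _
    have hdK : d ∈ K := by rw [hd]; exact hNK _
    have hli : LinearIndependent (ZMod 2) ![(⟨a, haK⟩ : K), ⟨b, hbK⟩, ⟨c, hcK⟩, ⟨d, hdK⟩] := by
      rw [Fintype.linearIndependent_iff]
      intro x hx
      have hx' : x 0 • a + x 1 • b + x 2 • c + x 3 • d = 0 := by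
        have := congrArg Subtype.val hx
        simpa [Fin.sum_univ_four] using this
      have key : ∀ y, x 0 * B a y + x 1 * B b y + x 2 * B c y + x 3 * B d y = 0 := by
        intro y
        have := congrArg (fun z => B z y) hx'
        simp only [B_add_left, B_smul_left, B_zero_left] at this
        exact this
      have k1 := key w0
      rw [hw0, hbw, hcw0, hdw0] at k1
      have k2 := key v0
      rw [hav, hbv, hcv0, hdv0] at k2
      have k3 := key v
      rw [hav', hbv', hcv, hdv] at k3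
      have k4 := key w'
      rw [haw', hbw', hcw'] at k4
      have e0 : x 0 = 0 := by simpa using k1
      have e1 : x 1 = 0 := by simpa using k2
      have e3 : x 3 = 0 := by simpa using k3
      rw [e3] at k4
      have e2 : x 2 = 0 := by simpa using k4
      intro i
      fin_cases i
      · exact e0
      · exact e1
      · exact e2
      · exact e3
    have := hli.fintype_card_le_finrank
    rw [Fintype.card_fin] at this
    omega
  have hform : ∀ v, N v = B a v • b + B b v • a := by
    intro v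
    have h2 := hrem (v + B b v • v0 + B a v • w0) (by
      rw [B_add_right, B_add_right, B_smul_right, B_smul_right, hav, hw0, mul_zero, add_zero, mul_one,
        z2_add_self]) (by
      rw [B_add_right, B_add_right, B_smul_right, B_smul_right, hbv, hbw, mul_zero, add_zero, mul_one,
        z2_add_self])
    rw [hNadd, hNadd, hNsmul, hNsmul, ← ha, ← hb, add_assoc] at h2
    have := eq_of_add_eq_zero h2
    rw [this, add_comm]
  have hqa : q a = 0 := hTS a haK
  have hqb : q b = 0 := hTS b hbK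
  have hab : B a b = 0 := hTS.polar haK hbK
  refine ⟨a, b, hqa, hqb, hab, by rw [ha]; exact hv0, ?_, ?_, ?_⟩
  · rintro rfl
    rw [B_zero_left] at hbv
    exact absurd hbv (by decide)
  · rintro rfl
    rw [hbv] at hav
    exact absurd hav (by decide)
  · ext v : 1
    rw [X_apply hqa hqb hab, hgN, hform, add_assoc]

theorem isRoot_map (α : MulAut Om) {c : Om} (hc : IsRoot (c : V ≃ₗ[ZMod 2] V)) :
    IsRoot ((α c : Om) : V ≃ₗ[ZMod 2] V) := by
  obtain ⟨u, w, hu, hw, huw, hu0, hw0, hne, hX⟩ := hc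
  have hwu : B w u = 0 := by rw [B_comm]; exact huw
  have hlin : α ∈ cj.range → IsRoot ((α c : Om) : V ≃ₗ[ZMod 2] V) := by
    rintro ⟨M, rfl⟩
    rw [cj_coe]
    exact IsRoot.conj ⟨u, w, hu, hw, huw, hu0, hw0, hne, hX⟩ M.2
  rcases Cfsg.Agent.ClassicalGeometry.OrthAut3.dichotomy good (by rw [finrank_V]; norm_num) (tra α) hu hu0
    with ⟨y, hy, hy0, h⟩ | ⟨-, W, hTS, hk, h⟩
  · exact hlin (mem_range_of_one hu hu0 hy hy0 h)
  rcases Cfsg.Agent.ClassicalGeometry.OrthAut3.dichotomy good (by rw [finrank_V]; norm_num) (tra α) hw hw0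
    with ⟨y, hy, hy0, h'⟩ | ⟨-, W', hTS', hk', h'⟩
  · exact hlin (mem_range_of_one hw hw0 hy hy0 h')
  have hWW : W ≠ W' := by
    intro he
    rw [← he, ← h] at h'
    have h2 : stab good (Submodule.span (ZMod 2) {w}) = stab good (Submodule.span (ZMod 2) {u}) :=
      Subgroup.map_injective (tra α).injective h'
    -- an element fixing `u` but not `w`
    obtain ⟨v, hv1, hv2⟩ := exists_B hu0 hw0 hne 0 1
    have hfu : X u v u = u := by
      have hv3 : B v u = 0 := by rw [B_comm]; exact hv1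
      rw [X_apply' hu hv1, B_self, hv3]
      simp
    have hfw : X u v w = w + u := by
      have hv3 : B v w = 1 := by rw [B_comm]; exact hv2
      rw [X_apply' hu hv1, huw, hv3]
      simp
    have h3 : ((⟨X u v, X_mem u v⟩ : Om) : P q) ∈ stab good (Submodule.span (ZMod 2) {u}) := by
      rw [mem_stab, pact_mk, mapHom_span]
      show Submodule.span (ZMod 2) {X u v u} = _
      rw [hfu]
    rw [← h2] at h3
    have h4 : X u v w ∈ Submodule.span (ZMod 2) {w} :=
      apply_mem_of_mem_stab h3 (Submodule.mem_span_singleton_self w)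
    rw [hfw] at h4
    obtain ⟨c', hc'⟩ := Submodule.mem_span_singleton.1 h4
    rcases z2 c' with rfl | rfl
    · rw [zero_smul] at hc'
      exact hne (eq_of_add_eq_zero hc'.symm).symm
    · rw [one_smul] at hc'
      exact hu0 (left_eq_add.1 hc')
  have e1 : c = sg u w hu huw := Subtype.ext (by rw [sg_eq_X, hX])
  have e2 : c = sg w u hw hwu := Subtype.ext (by rw [sg_eq_X, hX, X_comm hu hw])
  have m1 : α c ∈ U q W := by rw [e1]; exact map_sg_mem hu hu0 hTS hk h huw
  have m2 : α c ∈ U q W' := by rw [e2]; exact map_sg_mem hw hw0 hTS' hk' h' hwu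
  refine isRoot_of_sub (K := W ⊓ W') (fun x hx => hTS x hx.1) ?_ (Om_le (α c).2) ?_ fun v =>
    ⟨sub_mem_of_mem_U hTS hk m1 v, sub_mem_of_mem_U hTS' hk' m2 v⟩
  · by_contra hcon
    have h3 : Module.finrank (ZMod 2) (W ⊓ W' : Submodule (ZMod 2) V) = Module.finrank (ZMod 2) W := by
      have := Submodule.finrank_mono (inf_le_left : W ⊓ W' ≤ W)
      omega
    have h4 : Module.finrank (ZMod 2) (W ⊓ W' : Submodule (ZMod 2) V) = Module.finrank (ZMod 2) W' := by
      rw [h3, hk, hk']
    exact hWW ((Submodule.eq_of_le_of_finrank_eq inf_le_left h3).symm.trans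
      (Submodule.eq_of_le_of_finrank_eq inf_le_right h4))
  · intro h1
    have h2 : α c = 1 := Subtype.ext h1
    have h3 : c = 1 := α.injective (by rw [h2, map_one])
    have h4 : X u w = 1 := by rw [← hX, h3]; rfl
    obtain ⟨v, hv1, hv2⟩ := exists_B hu0 hw0 hne 1 0
    have h5 := X_apply hu hw huw v
    rw [h4, hv1, hv2, one_smul, zero_smul, add_zero] at h5
    exact hw0 (left_eq_add.1 h5)

end Cfsg.Agent.StdO8.Root
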