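import Mathlib
import Cfsg.Agent.StdO8.Gen
import Cfsg.Agent.StdO8.DoubCore
import Cfsg.Agent.StdO8.Root

/-!
# The groups `D` and `Q` in `Om` (facts (f4), (f5), (f6) and the linear part of (f3))
-/

set_option autoImplicit false

namespace Cfsg.Agent.StdO8.FactD

open Cfsg.Agent.StdO8.Model Cfsg.Agent.StdO8.Code Cfsg.Agent.StdO8.Gen
open Cfsg.Agent.ClassicalGeometry.OrthAut1 Cfsg.Agent.ClassicalGeometry.OrthAut2
open Cfsg.Agent.StdO8.DoubCore (DD QQ TZ)

/-! ### Codes stay below 256 and the comparison of words is exact -/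

/-- all entries of a word are below 256 -/
def lt (l : List (ℕ × ℕ)) : Bool := l.all fun p => decide (p.1 < 256) && decide (p.2 < 256)

theorem xn_lt {u w v : ℕ} (hu : u < 256) (hw : w < 256) (hv : v < 256) : xn u w v < 256 := by
  have key : ∀ {b : Bool} {x : ℕ}, x < 256 → (if b then x else 0) < 256 := by
    intro b x hx
    cases b
    · norm_num
    · exact hx
  exact Nat.xor_lt_two_pow (n := 8) (Nat.xor_lt_two_pow (n := 8) hv (Nat.xor_lt_two_pow (n := 8) (key hw) (key hu)))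
    (key hu)

theorem ev_lt {l : List (ℕ × ℕ)} (h : lt l = true) {v : ℕ} (hv : v < 256) : ev l v < 256 := by
  induction l with
  | nil => exact hv
  | cons p l ih =>
    rw [lt, List.all_cons, Bool.and_eq_true, Bool.and_eq_true, decide_eq_true_eq, decide_eq_true_eq] at h
    exact xn_lt h.1.1 h.1.2 (ih h.2)

/-- exact comparison -/
def exa (l l' : List (ℕ × ℕ)) : Bool := l.all ok && l'.all ok && lt l && lt l'

theorem word_eq_iff {l l' : List (ℕ × ℕ)} (h : exa l l' = true) : word l = word l' ↔ same l l' = true := by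
  rw [exa, Bool.and_eq_true, Bool.and_eq_true, Bool.and_eq_true] at h
  obtain ⟨⟨⟨h1, h2⟩, h3⟩, h4⟩ := h
  refine ⟨fun e => ?_, word_eq⟩
  rw [same, h1, h2, Bool.true_and, Bool.true_and, List.all_eq_true]
  intro b hb
  have hb' : b < 256 := by
    simp only [basis, List.mem_cons, List.not_mem_nil, or_false] at hb
    rcases hb with rfl | rfl | rfl | rfl | rfl | rfl | rfl | rfl <;> norm_num
  rw [beq_iff_eq]
  apply dec_inj (ev_lt h3 hb') (ev_lt h4 hb')
  rw [← word_dec h1, ← word_dec h2, e]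

/-! ### The elements -/

/-- `z` -/
noncomputable def zO : Om := word (Gw 0)
/-- `r` -/
noncomputable def rO : Om := word (Gw 1)
/-- `dᵢ` -/
noncomputable def dO (i : Fin 3) : Om := word (Gw (2 + i.1))
/-- `τᵢ` -/
noncomputable def τO (i : Fin 3) : Om := word (Gw (5 + i.1))

theorem zO_eq : zO = gen (1, 2) := by rw [zO]; exact word_single _

/-- power of a word -/
def pw (l : List (ℕ × ℕ)) : ℕ → List (ℕ × ℕ)
  | 0 => []
  | n + 1 => l ++ pw l n

/-- the word `d₀^i d₁^j d₂^k` -/
def cW (i j k : ℕ) : List (ℕ × ℕ) := pw (Gw 2) i ++ (pw (Gw 3) j ++ pw (Gw 4) k)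

theorem cW_mul : ∀ i < 3, ∀ j < 3, ∀ k < 3, ∀ l : Fin 3,
    same (Gw (2 + l.1) ++ cW i j k) (cW (if l = 0 then (i + 1) % 3 else i) (if l = 1 then (j + 1) % 3 else j)
      (if l = 2 then (k + 1) % 3 else k)) = true := by decide +kernel

theorem d_cube : ∀ l : Fin 3, same (Gw (2 + l.1) ++ (Gw (2 + l.1) ++ Gw (2 + l.1))) [] = true := by decide +kernel

theorem dO_cube (l : Fin 3) : dO l * (dO l * dO l) = 1 := by
  have := word_eq (d_cube l)
  rwa [word_append, word_append] at this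

theorem dO_inv (l : Fin 3) : (dO l)⁻¹ = dO l * dO l := inv_eq_of_mul_eq_one_right (dO_cube l)

/-- normal form of the elements of `D` -/
theorem DD_nf {c : Om} (hc : c ∈ DD dO) : ∃ i < 3, ∃ j < 3, ∃ k < 3, c = word (cW i j k) := by
  have hm : ∀ (l : Fin 3) (x : Om), (∃ i < 3, ∃ j < 3, ∃ k < 3, x = word (cW i j k)) →
      ∃ i < 3, ∃ j < 3, ∃ k < 3, dO l * x = word (cW i j k) := by
    rintro l x ⟨i, hi, j, hj, k, hk, rfl⟩
    have key : ∀ {n : ℕ} {b : Prop} [Decidable b], n < 3 → (if b then (n + 1) % 3 else n) < 3 := by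
      intro n b _ hn
      split_ifs
      · exact Nat.mod_lt _ (by norm_num)
      · exact hn
    refine ⟨if l = 0 then (i + 1) % 3 else i, key hi, if l = 1 then (j + 1) % 3 else j, key hj,
      if l = 2 then (k + 1) % 3 else k, key hk, ?_⟩
    rw [dO, ← word_append]
    exact word_eq (cW_mul i hi j hj k hk l)
  induction hc using Subgroup.closure_induction_left with
  | one => exact ⟨0, by norm_num, 0, by norm_num, 0, by norm_num, rfl⟩
  | mul_left x hx y hy ih =>
    obtain ⟨l, rfl⟩ := hx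
    exact hm l y ih
  | inv_mul_cancel x hx y hy ih =>
    obtain ⟨l, rfl⟩ := hx
    rw [dO_inv, mul_assoc]
    exact hm l _ (hm l y ih)

theorem word_pw_mem {l : List (ℕ × ℕ)} (S : Subgroup Om) (h : word l ∈ S) (n : ℕ) : word (pw l n) ∈ S := by
  induction n with
  | zero => exact one_mem _
  | succ n ih => rw [pw, word_append]; exact mul_mem h ih

theorem cW_mem (i j k : ℕ) : word (cW i j k) ∈ DD dO := by
  rw [cW, word_append, word_append]
  have h : ∀ i : Fin 3, word (Gw (2 + i.1)) ∈ DD dO := fun i => Subgroup.subset_closure ⟨i, rfl⟩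
  exact mul_mem (word_pw_mem _ (h 0) i) (mul_mem (word_pw_mem _ (h 1) j) (word_pw_mem _ (h 2) k))

/-! ### The unipotent radical of the stabiliser of the line -/

/-- the line `⟨e₀, e₁⟩` -/
def W12 : Submodule (ZMod 2) V := Submodule.span (ZMod 2) {dec 1, dec 2}

theorem mem_W12 {v : V} : v ∈ W12 ↔ ∃ a < 4, v = dec a := by
  rw [W12, Submodule.mem_span_pair]
  constructor
  · rintro ⟨a, b, rfl⟩
    rcases z2 a with rfl | rfl <;> rcases z2 b with rfl | rfl
    · exact ⟨0, by norm_num, by rw [zero_smul, zero_smul, add_zero, dec_zero]⟩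
    · exact ⟨2, by norm_num, by rw [zero_smul, one_smul, zero_add]⟩
    · exact ⟨1, by norm_num, by rw [zero_smul, one_smul, add_zero]⟩
    · exact ⟨3, by norm_num, by rw [one_smul, one_smul, ← dec_xor]; rfl⟩
  · rintro ⟨a, ha, rfl⟩
    interval_cases a
    · exact ⟨0, 0, by rw [zero_smul, zero_smul, add_zero, dec_zero]⟩
    · exact ⟨1, 0, by rw [zero_smul, one_smul, add_zero]⟩
    · exact ⟨0, 1, by rw [zero_smul, one_smul, zero_add]⟩
    · exact ⟨1, 1, by rw [one_smul, one_smul, ← dec_xor]; rfl⟩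

theorem TS_W12 : TS q W12 := by
  intro v hv
  obtain ⟨a, ha, rfl⟩ := mem_W12.1 hv
  rw [q_dec]
  interval_cases a <;> decide

theorem B_W12 {v w : V} (hv : v ∈ W12) (h1 : B (dec 1) w = 0) (h2 : B (dec 2) w = 0) : B v w = 0 := by
  obtain ⟨a, ha, rfl⟩ := mem_W12.1 hv
  interval_cases a
  · rw [dec_zero, B_zero_left]
  · exact h1
  · exact h2
  · have : dec 3 = dec 1 + dec 2 := by rw [← dec_xor]; rfl
    rw [this, B_add_left, h1, h2, add_zero]

/-- membership of a word in the radical -/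
def inU (l : List (ℕ × ℕ)) : Bool :=
  l.all ok && (ev l 1 == 1) && (ev l 2 == 2) &&
    (List.range 256).all fun v => Bn 1 v || Bn 2 v || decide ((ev l v ^^^ v) < 4)

theorem mem_U_of_inU {l : List (ℕ × ℕ)} (h : inU l = true) : word l ∈ U q W12 := by
  rw [inU, Bool.and_eq_true, Bool.and_eq_true, Bool.and_eq_true, beq_iff_eq, beq_iff_eq,
    List.all_eq_true (l := List.range 256)] at h
  obtain ⟨⟨⟨h0, h1⟩, h2⟩, h3⟩ := h
  have e1 : ((word l : Om) : V ≃ₗ[ZMod 2] V) (dec 1) = dec 1 := by rw [word_dec h0, h1]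
  have e2 : ((word l : Om) : V ≃ₗ[ZMod 2] V) (dec 2) = dec 2 := by rw [word_dec h0, h2]
  refine ⟨fun w hw => ?_, fun v hv => ?_⟩
  · obtain ⟨a, ha, rfl⟩ := mem_W12.1 hw
    interval_cases a
    · rw [dec_zero, map_zero]
    · exact e1
    · exact e2
    · have : dec 3 = dec 1 + dec 2 := by rw [← dec_xor]; rfl
      rw [this, map_add, e1, e2]
  · obtain ⟨b, hb, rfl⟩ := dec_surj v
    have b1 : Bn 1 b = false := by
      apply cc_eq_zero
      rw [← B_dec]
      exact hv _ (mem_W12.2 ⟨1, by norm_num, rfl⟩)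
    have b2 : Bn 2 b = false := by
      apply cc_eq_zero
      rw [← B_dec]
      exact hv _ (mem_W12.2 ⟨2, by norm_num, rfl⟩)
    have := h3 b (List.mem_range.2 hb)
    rw [b1, b2, Bool.false_or, Bool.false_or, decide_eq_true_eq] at this
    rw [word_dec h0, sub_eq, ← dec_xor]
    exact mem_W12.2 ⟨_, this, rfl⟩

theorem zO_mem_U : zO ∈ U q W12 := mem_U_of_inU (by decide +kernel)
theorem rO_mem_U : rO ∈ U q W12 := mem_U_of_inU (by decide +kernel)

/-- `D` stabilises the line -/
theorem DD_stab {c : Om} (hc : c ∈ DD dO) : mapHom (c : V ≃ₗ[ZMod 2] V) W12 = W12 := by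
  have h : DD dO ≤ (stab good W12).comap (QuotientGroup.mk' (Subgroup.center Om)) := by
    rw [DD, Subgroup.closure_le]
    rintro _ ⟨i, rfl⟩
    show ((dO i : Om) : P q) ∈ stab good W12
    refine mem_stab_of_map_le good fun w hw => ?_
    obtain ⟨a, ha, rfl⟩ := mem_W12.1 hw
    have key : ∀ i : Fin 3, (Gw (2 + i.1)).all ok = true ∧ ∀ a < 4, ev (Gw (2 + i.1)) a < 4 := by decide +kernel
    rw [dO, word_dec (key i).1]
    exact mem_W12.2 ⟨_, (key i).2 a ha, rfl⟩
  have h1 := h hc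
  have h2 : ((c : Om) : P q) ∈ stab good W12 := h1
  rw [mem_stab, pact_mk] at h2
  exact h2

theorem QQ_le_U : QQ zO rO dO ≤ U q W12 := by
  rw [QQ, Subgroup.closure_le]
  rintro x (hx | ⟨c, hc, rfl⟩)
  · rw [Set.mem_singleton_iff.1 hx]
    exact zO_mem_U
  · have := conj_mem_U (g := c) rO_mem_U
    rwa [DD_stab hc] at this

end Cfsg.Agent.StdO8.FactD
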