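import Mathlib
import Cfsg.Agent.StdO8.FactD

/-!
# Facts about `D` and `Q` in `Om`
-/

set_option autoImplicit false

namespace Cfsg.Agent.StdO8.FactE

open Cfsg.Agent.StdO8.Model Cfsg.Agent.StdO8.Code Cfsg.Agent.StdO8.Gen Cfsg.Agent.StdO8.FactD
open Cfsg.Agent.ClassicalGeometry.OrthAut1 Cfsg.Agent.ClassicalGeometry.OrthAut2
open Cfsg.Agent.StdO8.DoubCore (DD QQ TZ)

/-- commutation of an isometry with a word, on codes -/
theorem ev_of_comm {M : Om} {l : List (ℕ × ℕ)} (hl : l.all ok = true) (h : M * word l = word l * M) {v m : ℕ}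
    (hv : (M : V ≃ₗ[ZMod 2] V) (dec v) = dec m) : (M : V ≃ₗ[ZMod 2] V) (dec (ev l v)) = dec (ev l m) := by
  rw [← word_dec hl, ← word_dec hl, ← hv]
  exact LinearEquiv.congr_fun (congrArg Subtype.val h) (dec v)

/-- An isometry fixing `e₀, e₁, e₂, e₃, f₂, f₃` is `1` or `z`. -/
theorem kerz {M : Om} (hM : ∀ a ∈ [1, 2, 4, 8, 64, 128], (M : V ≃ₗ[ZMod 2] V) (dec a) = dec a) :
    M = 1 ∨ M = zO := by
  have hMO := Om_le M.2
  obtain ⟨b, hb, hbM, hq, -, -⟩ := exists_code hMO 16
  obtain ⟨b', hb', hbM', hq', -, -⟩ := exists_code hMO 32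
  have hc1 : cnd [(1, true), (2, false), (4, false), (8, false), (64, false), (128, false)] b = true :=
    cnd_of_fix hMO hbM (fun p hp => hM p.1 (by
      simp only [List.mem_cons, List.not_mem_nil, or_false] at hp
      rcases hp with rfl | rfl | rfl | rfl | rfl | rfl <;> decide)) (by decide)
  have hc2 : cnd [(1, false), (2, true), (4, false), (8, false), (64, false), (128, false)] b' = true :=
    cnd_of_fix hMO hbM' (fun p hp => hM p.1 (by
      simp only [List.mem_cons, List.not_mem_nil, or_false] at hp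
      rcases hp with rfl | rfl | rfl | rfl | rfl | rfl <;> decide)) (by decide)
  have k1 : ∀ b < 256, (!qn b && cnd [(1, true), (2, false), (4, false), (8, false), (64, false), (128, false)] b)
      = true → b = 16 ∨ b = 18 := by decide +kernel
  have k2 : ∀ b < 256, (!qn b && cnd [(1, false), (2, true), (4, false), (8, false), (64, false), (128, false)] b)
      = true → b = 32 ∨ b = 33 := by decide +kernel
  have hbb : Bn b b' = false := by
    have e := O8_B hMO (dec 16) (dec 32)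
    rw [hbM, hbM', B_dec, B_dec] at e
    rw [cc_inj e]; decide
  have fin : ∀ l : List (ℕ × ℕ), l.all ok = true → ev l 16 = b → ev l 32 = b' →
      (∀ a ∈ [1, 2, 4, 8, 64, 128], ev l a = a) → M = word l := by
    intro l hl h1 h2 h3
    apply Subtype.ext
    apply eval_eq hl
    intro a ha
    simp only [basis, List.mem_cons, List.not_mem_nil, or_false] at ha
    rcases ha with rfl | rfl | rfl | rfl | rfl | rfl | rfl | rfl
    · rw [hM _ (by decide), h3 _ (by decide)]
    · rw [hM _ (by decide), h3 _ (by decide)]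
    · rw [hM _ (by decide), h3 _ (by decide)]
    · rw [hM _ (by decide), h3 _ (by decide)]
    · rw [hbM, h1]
    · rw [hbM', h2]
    · rw [hM _ (by decide), h3 _ (by decide)]
    · rw [hM _ (by decide), h3 _ (by decide)]
  rcases k1 b hb (by rw [hq, hc1]; decide) with rfl | rfl <;>
    rcases k2 b' hb' (by rw [hq', hc2]; decide) with rfl | rfl
  · left; exact fin [] (by decide) (by decide) (by decide) (by decide)
  · exact absurd hbb (by decide)
  · exact absurd hbb (by decide)
  · right; exact fin (Gw 0) (by decide) (by decide) (by decide) (by decide)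

/-- codes of the images under an element of the radical -/
theorem code_of_U {M : Om} (hM : M ∈ U q W12) {v : ℕ} (h1 : Bn 1 v = false) (h2 : Bn 2 v = false) :
    ∃ a < 4, (M : V ≃ₗ[ZMod 2] V) (dec v) = dec (v ^^^ a) := by
  have h := hM.2 (dec v) (fun w hw => B_W12 hw (by rw [B_dec, h1]; rfl) (by rw [B_dec, h2]; rfl))
  obtain ⟨a, ha, e⟩ := mem_W12.1 h
  refine ⟨a, ha, ?_⟩
  rw [dec_xor, ← e, sub_eq]
  rw [← add_assoc, add_comm (dec v), add_assoc, add_self, add_zero]

theorem fix_of_U {M : Om} (hM : M ∈ U q W12) : (M : V ≃ₗ[ZMod 2] V) (dec 1) = dec 1 ∧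
    (M : V ≃ₗ[ZMod 2] V) (dec 2) = dec 2 :=
  ⟨hM.1 _ (mem_W12.2 ⟨1, by norm_num, rfl⟩), hM.1 _ (mem_W12.2 ⟨2, by norm_num, rfl⟩)⟩

theorem xor_lt_256 {v a : ℕ} (hv : v < 256) (ha : a < 4) : v ^^^ a < 256 :=
  Nat.xor_lt_two_pow (n := 8) hv (by omega)

theorem xor_right_eq_self {v a : ℕ} (h : v ^^^ a = v) : a = 0 := by
  have := congrArg (fun x => v ^^^ x) h
  simp only [← Nat.xor_assoc, Nat.xor_self, Nat.zero_xor] at this
  exact this

/-- **(f6)**, first part -/
theorem Qd {M : Om} (hM : M ∈ U q W12) (i : Fin 3) (h : M * dO i = dO i * M) : M = 1 ∨ M = zO := by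
  have hMO := Om_le M.2
  obtain ⟨f1, f2⟩ := fix_of_U hM
  have okd : ∀ i : Fin 3, (Gw (2 + i.1)).all ok = true := by decide
  have ltd : ∀ i : Fin 3, lt (Gw (2 + i.1)) = true := by decide
  apply kerz
  -- the middle vectors are fixed
  have mid : ∀ v ∈ [4, 8, 64, 128], (M : V ≃ₗ[ZMod 2] V) (dec v) = dec v := by
    intro v hv
    have hv1 : Bn 1 v = false ∧ Bn 2 v = false ∧ v < 256 := by
      have key : ∀ v ∈ [4, 8, 64, 128], Bn 1 v = false ∧ Bn 2 v = false ∧ v < 256 := by decide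
      exact key v hv
    obtain ⟨a, ha, hMa⟩ := code_of_U hM hv1.1 hv1.2.1
    by_cases hi : i = 0
    · subst hi
      have key : ∀ v ∈ [4, 8, 64, 128], ∀ a < 4, ev (Gw 2) v = v ∧ (ev (Gw 2) (v ^^^ a) = v ^^^ a → a = 0) := by
        decide +kernel
      have h1 := ev_of_comm (okd 0) h hMa
      change (M : V ≃ₗ[ZMod 2] V) (dec (ev (Gw 2) v)) = dec (ev (Gw 2) (v ^^^ a)) at h1
      rw [(key v hv a ha).1, hMa] at h1
      have h2 := dec_inj (xor_lt_256 hv1.2.2 ha) (ev_lt (ltd 0) (xor_lt_256 hv1.2.2 ha)) h1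
      have h3 := (key v hv a ha).2 h2.symm
      rw [hMa, h3, Nat.xor_zero]
    · obtain ⟨b, hb, hbM, hq, -, hB⟩ := exists_code hMO 16
      obtain ⟨b', hb', hbM', hq', -, hB'⟩ := exists_code hMO 32
      have e16 : ∀ i : Fin 3, i ≠ 0 → ev (Gw (2 + i.1)) 16 = 16 ∧ ev (Gw (2 + i.1)) 32 = 32 := by decide
      have h1 := ev_of_comm (okd i) h hbM
      rw [(e16 i hi).1, hbM] at h1
      have h1 := dec_inj hb (ev_lt (ltd i) hb) h1
      have h2 := ev_of_comm (okd i) h hbM'
      rw [(e16 i hi).2, hbM'] at h2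
      have h2 := dec_inj hb' (ev_lt (ltd i) hb') h2
      have k1 : ∀ i : Fin 3, i ≠ 0 → ∀ b < 256, (!qn b && cnd [(1, true), (2, false)] b &&
          (ev (Gw (2 + i.1)) b == b)) = true → b = 16 ∨ b = 18 := by decide +kernel
      have k2 : ∀ i : Fin 3, i ≠ 0 → ∀ b < 256, (!qn b && cnd [(1, false), (2, true)] b &&
          (ev (Gw (2 + i.1)) b == b)) = true → b = 32 ∨ b = 33 := by decide +kernel
      have hc1 : cnd [(1, true), (2, false)] b = true := cnd_of_fix hMO hbM (by
        intro p hp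
        simp only [List.mem_cons, List.not_mem_nil, or_false] at hp
        rcases hp with rfl | rfl
        · exact f1
        · exact f2) (by decide)
      have hc2 : cnd [(1, false), (2, true)] b' = true := cnd_of_fix hMO hbM' (by
        intro p hp
        simp only [List.mem_cons, List.not_mem_nil, or_false] at hp
        rcases hp with rfl | rfl
        · exact f1
        · exact f2) (by decide)
      have r1 := k1 i hi b hb (by rw [hq, hc1, ← h1]; simp; decide)
      have r2 := k2 i hi b' hb' (by rw [hq', hc2, ← h2]; simp; decide)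
      have e1 : Bn (v ^^^ a) b = Bn v 16 := by
        have e := O8_B hMO (dec v) (dec 16)
        rw [hMa, hbM, B_dec, B_dec] at e
        exact cc_inj e
      have e2 : Bn (v ^^^ a) b' = Bn v 32 := by
        have e := O8_B hMO (dec v) (dec 32)
        rw [hMa, hbM', B_dec, B_dec] at e
        exact cc_inj e
      have key : ∀ v ∈ [4, 8, 64, 128], ∀ a < 4, ∀ b ∈ [16, 18], ∀ b' ∈ [32, 33],
          Bn (v ^^^ a) b = Bn v 16 → Bn (v ^^^ a) b' = Bn v 32 → a = 0 := by decide +kernel
      have h3 := key v hv a ha b (by rcases r1 with rfl | rfl <;> decide) b'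
        (by rcases r2 with rfl | rfl <;> decide) e1 e2
      rw [hMa, h3, Nat.xor_zero]
  intro a ha
  simp only [List.mem_cons, List.not_mem_nil, or_false] at ha
  rcases ha with rfl | rfl | rfl | rfl | rfl | rfl
  · exact f1
  · exact f2
  · exact mid _ (by decide)
  · exact mid _ (by decide)
  · exact mid _ (by decide)
  · exact mid _ (by decide)

/-- **(f6)**, second part -/
theorem Qτ {M : Om} (hM : M ∈ U q W12) (h : ∀ i, M * τO i = τO i * M) :
    M = 1 ∨ M = zO ∨ M = rO ∨ M = rO * zO := by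
  have hMO := Om_le M.2
  obtain ⟨f1, f2⟩ := fix_of_U hM
  have okd : ∀ i : Fin 3, (Gw (5 + i.1)).all ok = true := by decide
  have ltd : ∀ i : Fin 3, lt (Gw (5 + i.1)) = true := by decide
  obtain ⟨a4, ha4, m4⟩ := code_of_U hM (v := 4) (by decide) (by decide)
  obtain ⟨a8, ha8, m8⟩ := code_of_U hM (v := 8) (by decide) (by decide)
  obtain ⟨a64, ha64, m64⟩ := code_of_U hM (v := 64) (by decide) (by decide)
  obtain ⟨a128, ha128, m128⟩ := code_of_U hM (v := 128) (by decide) (by decide)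
  obtain ⟨b, hb, hbM, hq, -, hB⟩ := exists_code hMO 16
  -- commutation with `τ₀` on the middle
  have t0 : ∀ {v a : ℕ}, v < 256 → a < 4 → (M : V ≃ₗ[ZMod 2] V) (dec v) = dec (v ^^^ a) → ev (Gw 5) v = v →
      ev (Gw 5) (v ^^^ a) = v ^^^ a := by
    intro v a hv ha hMa hfix
    have h1 := ev_of_comm (okd 0) (h 0) hMa
    change (M : V ≃ₗ[ZMod 2] V) (dec (ev (Gw 5) v)) = dec (ev (Gw 5) (v ^^^ a)) at h1
    rw [hfix, hMa] at h1
    exact (dec_inj (xor_lt_256 hv ha) (ev_lt (ltd 0) (xor_lt_256 hv ha)) h1).symm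
  have c4 := t0 (by norm_num) ha4 m4 (by decide)
  have c8 := t0 (by norm_num) ha8 m8 (by decide)
  have c64 := t0 (by norm_num) ha64 m64 (by decide)
  have c128 := t0 (by norm_num) ha128 m128 (by decide)
  have small : ∀ v ∈ [4, 8, 64, 128], ∀ a < 4, ev (Gw 5) (v ^^^ a) = v ^^^ a → a = 0 ∨ a = 1 := by decide +kernel
  have s4 := small 4 (by decide) a4 ha4 c4
  have s8 := small 8 (by decide) a8 ha8 c8
  have s64 := small 64 (by decide) a64 ha64 c64
  have s128 := small 128 (by decide) a128 ha128 c128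
  -- `M (v + w)`
  have madd : ∀ {v w m n : ℕ}, (M : V ≃ₗ[ZMod 2] V) (dec v) = dec m → (M : V ≃ₗ[ZMod 2] V) (dec w) = dec n →
      (M : V ≃ₗ[ZMod 2] V) (dec (v ^^^ w)) = dec (m ^^^ n) := by
    intro v w m n h1 h2
    rw [dec_xor, map_add, h1, h2, ← dec_xor]
  have l4 : 4 ^^^ a4 < 256 := xor_lt_256 (by norm_num) ha4
  have l8 : 8 ^^^ a8 < 256 := xor_lt_256 (by norm_num) ha8
  have l64 : 64 ^^^ a64 < 256 := xor_lt_256 (by norm_num) ha64
  have l128 : 128 ^^^ a128 < 256 := xor_lt_256 (by norm_num) ha128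
  -- `τ₁ e₃ = e₃ + e₂`
  have x1 : (4 ^^^ a4) ^^^ (8 ^^^ a8) = ev (Gw 6) (8 ^^^ a8) := by
    have e1 := ev_of_comm (okd 1) (h 1) m8
    have e2 := madd m4 m8
    have e3 : ev (Gw (5 + (1 : Fin 3).1)) 8 = 4 ^^^ 8 := by decide
    rw [e3, e2] at e1
    exact dec_inj (Nat.xor_lt_two_pow (n := 8) l4 l8) (ev_lt (ltd 1) l8) e1
  -- `τ₁ f₂ = f₂ + f₃`
  have x2 : (64 ^^^ a64) ^^^ (128 ^^^ a128) = ev (Gw 6) (64 ^^^ a64) := by
    have e1 := ev_of_comm (okd 1) (h 1) m64
    have e2 := madd m64 m128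
    have e3 : ev (Gw (5 + (1 : Fin 3).1)) 64 = 64 ^^^ 128 := by decide
    rw [e3, e2] at e1
    exact dec_inj (Nat.xor_lt_two_pow (n := 8) l64 l128) (ev_lt (ltd 1) l64) e1
  -- `τ₂ f₂ = f₂ + e₃`
  have x3 : (64 ^^^ a64) ^^^ (8 ^^^ a8) = ev (Gw 7) (64 ^^^ a64) := by
    have e1 := ev_of_comm (okd 2) (h 2) m64
    have e2 := madd m64 m8
    have e3 : ev (Gw (5 + (2 : Fin 3).1)) 64 = 64 ^^^ 8 := by decide
    rw [e3, e2] at e1
    exact dec_inj (Nat.xor_lt_two_pow (n := 8) l64 l8) (ev_lt (ltd 2) l64) e1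
  have z4 : a4 = 0 := by
    have key : ∀ a4 < 4, ∀ a8 < 2, (4 ^^^ a4) ^^^ (8 ^^^ a8) = ev (Gw 6) (8 ^^^ a8) → a4 = 0 := by decide +kernel
    exact key a4 ha4 a8 (by omega) x1
  have z128 : a128 = 0 := by
    have key : ∀ a128 < 4, ∀ a64 < 2, (64 ^^^ a64) ^^^ (128 ^^^ a128) = ev (Gw 6) (64 ^^^ a64) → a128 = 0 := by
      decide +kernel
    exact key a128 ha128 a64 (by omega) x2
  have z8 : a8 = 0 := by
    have key : ∀ a8 < 4, ∀ a64 < 2, (64 ^^^ a64) ^^^ (8 ^^^ a8) = ev (Gw 7) (64 ^^^ a64) → a8 = 0 := by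
      decide +kernel
    exact key a8 ha8 a64 (by omega) x3
  subst z4 z8 z128
  rw [Nat.xor_zero] at m4 m8 m128
  -- the image of `f₁`
  have m48 : (M : V ≃ₗ[ZMod 2] V) (dec 32) = dec (b ^^^ ev (Gw 5) b) := by
    have e1 := ev_of_comm (okd 0) (h 0) hbM
    have e3 : ev (Gw (5 + (0 : Fin 3).1)) 16 = 16 ^^^ 32 := by decide
    rw [e3] at e1
    have e2 := madd hbM e1
    have e4 : 16 ^^^ (16 ^^^ 32) = 32 := by decide
    rw [e4] at e2
    exact e2
  have hc : cnd [(1, true), (2, false), (4, false), (8, false), (128, false)] b = true := cnd_of_fix hMO hbM (by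
    intro p hp
    simp only [List.mem_cons, List.not_mem_nil, or_false] at hp
    rcases hp with rfl | rfl | rfl | rfl | rfl
    · exact f1
    · exact f2
    · exact m4
    · exact m8
    · exact m128) (by decide)
  have hB64 : Bn (64 ^^^ a64) b = false := by
    have e := O8_B hMO (dec 64) (dec 16)
    rw [m64, hbM, B_dec, B_dec] at e
    rw [cc_inj e]; decide
  have k0 : ∀ b < 256, (!qn b && cnd [(1, true), (2, false), (4, false), (8, false), (128, false)] b &&
      !Bn (64 ^^^ 0) b) = true → b = 16 ∨ b = 18 := by decide +kernel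
  have k1 : ∀ b < 256, (!qn b && cnd [(1, true), (2, false), (4, false), (8, false), (128, false)] b &&
      !Bn (64 ^^^ 1) b) = true → b = 20 ∨ b = 22 := by decide +kernel
  have fin : ∀ l : List (ℕ × ℕ), l.all ok = true → ev l 64 = 64 ^^^ a64 → ev l 16 = b →
      ev l 32 = b ^^^ ev (Gw 5) b → (∀ a ∈ [1, 2, 4, 8, 128], ev l a = a) → M = word l := by
    intro l hl h1 h2 h3 h4
    apply Subtype.ext
    apply eval_eq hl
    intro a ha
    simp only [basis, List.mem_cons, List.not_mem_nil, or_false] at ha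
    rcases ha with rfl | rfl | rfl | rfl | rfl | rfl | rfl | rfl
    · rw [f1, h4 _ (by decide)]
    · rw [f2, h4 _ (by decide)]
    · rw [m4, h4 _ (by decide)]
    · rw [m8, h4 _ (by decide)]
    · rw [hbM, h2]
    · rw [m48, h3]
    · rw [m64, h1]
    · rw [m128, h4 _ (by decide)]
  rcases s64 with rfl | rfl
  · rcases k0 b hb (by rw [hq, hc, hB64]; decide) with rfl | rfl
    · left; exact fin [] (by decide) (by decide) (by decide) (by decide) (by decide)
    · right; left; exact fin (Gw 0) (by decide) (by decide) (by decide) (by decide) (by decide)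
  · rcases k1 b hb (by rw [hq, hc, hB64]; decide) with rfl | rfl
    · right; right; left; exact fin (Gw 1) (by decide) (by decide) (by decide) (by decide) (by decide)
    · right; right; right
      have := fin (Gw 1 ++ Gw 0) (by decide) (by decide) (by decide) (by decide) (by decide)
      rw [this, word_append]; rfl

end Cfsg.Agent.StdO8.FactE
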