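import Mathlib
import Cfsg.Agent.StdO8.FactE

/-!
# Facts about `D` and `Q` in `Om`, second part
-/

set_option autoImplicit false

namespace Cfsg.Agent.StdO8.FactF

open Cfsg.Agent.StdO8.Model Cfsg.Agent.StdO8.Code Cfsg.Agent.StdO8.Gen Cfsg.Agent.StdO8.FactD
open Cfsg.Agent.ClassicalGeometry.OrthAut1 Cfsg.Agent.ClassicalGeometry.OrthAut2
open Cfsg.Agent.StdO8.DoubCore (DD QQ TZ)

/-! ### Elementary consequences -/

theorem rz_mem : rO ∈ QQ zO rO dO :=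
  Subgroup.subset_closure (Or.inr ⟨1, one_mem _, by group⟩)

theorem z_mem : zO ∈ QQ zO rO dO := Subgroup.subset_closure (Or.inl rfl)

/-- `r` and an element of `D` -/
theorem rc {c : Om} (hc : c ∈ DD dO) (h : rO * c = c * rO) : c = 1 := by
  obtain ⟨i, hi, j, hj, k, hk, rfl⟩ := DD_nf hc
  have e1 : ∀ i < 3, ∀ j < 3, ∀ k < 3, (exa (Gw 1 ++ cW i j k) (cW i j k ++ Gw 1) &&
      (!same (Gw 1 ++ cW i j k) (cW i j k ++ Gw 1) || (i == 0 && j == 0 && k == 0))) = true := by decide +kernel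
  have e2 := e1 i hi j hj k hk
  rw [Bool.and_eq_true] at e2
  have h3 : word (Gw 1 ++ cW i j k) = word (cW i j k ++ Gw 1) := by
    rw [word_append, word_append]; exact h
  have e3 := e2.2
  rw [(word_eq_iff e2.1).1 h3] at e3
  simp only [Bool.not_true, Bool.false_or, Bool.and_eq_true, beq_iff_eq] at e3
  obtain ⟨⟨rfl, rfl⟩, rfl⟩ := e3
  rfl

/-- the conjugate of `r` by `d₀^a d₁^b d₂^c` as a word -/
def rw1 (p : ℕ × ℕ × ℕ) : List (ℕ × ℕ) := cW p.1 p.2.1 p.2.2 ++ (Gw 1 ++ (cW p.1 p.2.1 p.2.2).reverse)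

/-- products -/
def qw : List (ℕ × ℕ × ℕ) → List (ℕ × ℕ)
  | [] => []
  | p :: l => rw1 p ++ qw l

theorem rw1_mem (p : ℕ × ℕ × ℕ) : word (rw1 p) ∈ Subgroup.closure {x | ∃ c ∈ DD dO, x = c * rO * c⁻¹} := by
  apply Subgroup.subset_closure
  refine ⟨word (cW p.1 p.2.1 p.2.2), cW_mem _ _ _, ?_⟩
  rw [rw1, word_append, word_append, word_reverse, mul_assoc]
  rfl

theorem qw_mem' (l : List (ℕ × ℕ × ℕ)) :
    word (qw l) ∈ Subgroup.closure {x | ∃ c ∈ DD dO, x = c * rO * c⁻¹} := by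
  induction l with
  | nil => exact one_mem _
  | cons p l ih => rw [qw, word_append]; exact mul_mem (rw1_mem p) ih

theorem qw_mem (l : List (ℕ × ℕ × ℕ)) : word (qw l) ∈ QQ zO rO dO :=
  Subgroup.closure_mono Set.subset_union_right (qw_mem' l)

/-- the table for `Qc` -/
def tb : ℕ → ℕ → ℕ → List (ℕ × ℕ × ℕ)
  | 0, 1, 1 => [(0, 0, 0), (0, 1, 2)]
  | 0, 1, 2 => [(0, 0, 0), (0, 1, 1)]
  | 0, 2, 1 => [(0, 0, 0), (0, 1, 1)]
  | 0, 2, 2 => [(0, 0, 0), (0, 1, 2)]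
  | 1, 0, 1 => [(0, 0, 0), (1, 0, 2)]
  | 1, 0, 2 => [(0, 0, 0), (1, 0, 1)]
  | 1, 1, 0 => [(0, 0, 0), (1, 2, 0)]
  | 1, 2, 0 => [(0, 0, 0), (1, 1, 0)]
  | 2, 0, 1 => [(0, 0, 0), (1, 0, 1)]
  | 2, 0, 2 => [(0, 0, 0), (1, 0, 2)]
  | 2, 1, 0 => [(0, 0, 0), (1, 1, 0)]
  | 2, 2, 0 => [(0, 0, 0), (1, 2, 0)]
  | 1, 1, 1 => [(0, 0, 0), (1, 1, 1), (2, 2, 2)]
  | 2, 2, 2 => [(0, 0, 0), (1, 1, 1), (2, 2, 2)]
  | 1, 1, 2 => [(0, 0, 0), (1, 1, 2), (2, 2, 1)]
  | 2, 2, 1 => [(0, 0, 0), (1, 1, 2), (2, 2, 1)]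
  | 1, 2, 1 => [(0, 0, 0), (1, 2, 1), (2, 1, 2)]
  | 2, 1, 2 => [(0, 0, 0), (1, 2, 1), (2, 1, 2)]
  | 1, 2, 2 => [(0, 0, 0), (1, 2, 2), (2, 1, 1)]
  | 2, 1, 1 => [(0, 0, 0), (1, 2, 2), (2, 1, 1)]
  | _, _, _ => []

/-- the check for one element -/
def chkQc (i j k : ℕ) : Bool :=
  exa (qw (tb i j k)) [] && exa (qw (tb i j k)) (Gw 0) && !same (qw (tb i j k)) [] &&
    !same (qw (tb i j k)) (Gw 0) && same (qw (tb i j k) ++ cW i j k) (cW i j k ++ qw (tb i j k))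

/-- the trivial cases -/
def triv (i j k : ℕ) : Bool :=
  same (cW i j k) [] || same (cW i j k) (Gw 2) || same (cW i j k) (Gw 3) || same (cW i j k) (Gw 4) ||
    same (cW i j k) (Gw 2 ++ Gw 2) || same (cW i j k) (Gw 3 ++ Gw 3) || same (cW i j k) (Gw 4 ++ Gw 4)

theorem chkQ : ∀ i < 3, ∀ j < 3, ∀ k < 3, triv i j k = true ∨ chkQc i j k = true := by decide +kernel

/-- **(f6)**, third part -/
theorem Qc {c : Om} (hc : c ∈ DD dO) (h1 : c ≠ 1) (h2 : ∀ i, c ≠ dO i ∧ c ≠ (dO i)⁻¹) :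
    ∃ q ∈ QQ zO rO dO, q ≠ 1 ∧ q ≠ zO ∧ q * c = c * q := by
  obtain ⟨i, hi, j, hj, k, hk, rfl⟩ := DD_nf hc
  rcases chkQ i hi j hj k hk with h | h
  · exfalso
    have e1 : ∀ {l : List (ℕ × ℕ)}, same (cW i j k) l = true → word (cW i j k) = word l := fun h => word_eq h
    have e2 : ∀ i : Fin 3, (dO i)⁻¹ = word (Gw (2 + i.1) ++ Gw (2 + i.1)) := by
      intro i
      rw [dO_inv, word_append]; rfl
    simp only [triv, Bool.or_eq_true] at h
    rcases h with (((((h | h) | h) | h) | h) | h) | h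
    · exact h1 (e1 h)
    · exact (h2 0).1 (e1 h)
    · exact (h2 1).1 (e1 h)
    · exact (h2 2).1 (e1 h)
    · exact (h2 0).2 (by rw [e2]; exact e1 h)
    · exact (h2 1).2 (by rw [e2]; exact e1 h)
    · exact (h2 2).2 (by rw [e2]; exact e1 h)
  · rw [chkQc, Bool.and_eq_true, Bool.and_eq_true, Bool.and_eq_true, Bool.and_eq_true, Bool.not_eq_true',
      Bool.not_eq_true'] at h
    obtain ⟨⟨⟨⟨a1, a2⟩, a3⟩, a4⟩, a5⟩ := h
    refine ⟨word (qw (tb i j k)), qw_mem _, fun e => ?_, fun e => ?_, ?_⟩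
    · have := (word_eq_iff a1).1 e
      rw [a3] at this
      exact absurd this (by decide)
    · have := (word_eq_iff a2).1 e
      rw [a4] at this
      exact absurd this (by decide)
    · rw [← word_append, ← word_append]
      exact word_eq a5

/-- `z` is a product of conjugates of `r` -/
theorem zQ : zO ∈ Subgroup.closure {x | ∃ c ∈ DD dO, x = c * rO * c⁻¹} := by
  have h := qw_mem' [(0, 0, 0), (1, 1, 1), (0, 0, 0), (1, 1, 1)]
  have e : word (qw [(0, 0, 0), (1, 1, 1), (0, 0, 0), (1, 1, 1)]) = zO := word_eq (by decide +kernel)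
  rwa [e] at h

/-- cubes in `D` -/
theorem D_cube {c : Om} (hc : c ∈ DD dO) : c * c * c = 1 := by
  obtain ⟨i, hi, j, hj, k, hk, rfl⟩ := DD_nf hc
  have e1 : ∀ i < 3, ∀ j < 3, ∀ k < 3, same (cW i j k ++ cW i j k ++ cW i j k) [] = true := by decide +kernel
  have := word_eq (e1 i hi j hj k hk)
  rwa [word_append, word_append] at this

/-- `D ∩ U = 1` -/
theorem D_U {c : Om} (hc : c ∈ DD dO) (hU : c ∈ U q W12) : c = 1 := by
  obtain ⟨i, hi, j, hj, k, hk, rfl⟩ := DD_nf hc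
  obtain ⟨f1, -⟩ := FactE.fix_of_U hU
  obtain ⟨a, ha, f4⟩ := FactE.code_of_U hU (v := 4) (by decide) (by decide)
  have e1 : ∀ i < 3, ∀ j < 3, ∀ k < 3, ∀ a < 4, ((cW i j k).all ok && lt (cW i j k) &&
      (!((ev (cW i j k) 1 == 1) && (ev (cW i j k) 4 == 4 ^^^ a)) || (i == 0 && j == 0 && k == 0))) = true := by
    decide +kernel
  have e2 := e1 i hi j hj k hk a ha
  rw [Bool.and_eq_true, Bool.and_eq_true] at e2
  obtain ⟨⟨h1, h2⟩, h3⟩ := e2
  rw [word_dec h1] at f1 f4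
  have g1 := dec_inj (ev_lt h2 (by norm_num)) (by norm_num) f1
  have g4 := dec_inj (ev_lt h2 (by norm_num)) (FactE.xor_lt_256 (by norm_num) ha) f4
  rw [g1, g4] at h3
  simp only [beq_self_eq_true, Bool.and_self, Bool.not_true, Bool.false_or, Bool.and_eq_true, beq_iff_eq] at h3
  obtain ⟨⟨rfl, rfl⟩, rfl⟩ := h3
  rfl

theorem conj_QQ {c : Om} (hc : c ∈ DD dO) {x : Om} (hx : x ∈ QQ zO rO dO) : c * x * c⁻¹ ∈ QQ zO rO dO := by
  have hz : zO * c = c * zO := by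
    have : DD dO ≤ Subgroup.centralizer {zO} := by
      rw [DD, Subgroup.closure_le]
      rintro _ ⟨i, rfl⟩
      rw [SetLike.mem_coe, Subgroup.mem_centralizer_singleton_iff]
      have key : ∀ i : Fin 3, same (Gw (2 + i.1) ++ Gw 0) (Gw 0 ++ Gw (2 + i.1)) = true := by decide +kernel
      have := word_eq (key i)
      rwa [word_append, word_append] at this
    exact (Subgroup.mem_centralizer_singleton_iff.1 (this hc)).symm
  induction hx using Subgroup.closure_induction with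
  | mem x hx =>
    rcases hx with hx | ⟨e, he, rfl⟩
    · rw [Set.mem_singleton_iff.1 hx, ← hz, mul_inv_cancel_right]
      exact z_mem
    · exact Subgroup.subset_closure (Or.inr ⟨c * e, mul_mem hc he, by group⟩)
  | one => rw [mul_one, mul_inv_cancel]; exact one_mem _
  | mul a b _ _ ha hb =>
    have : c * (a * b) * c⁻¹ = c * a * c⁻¹ * (c * b * c⁻¹) := by group
    rw [this]; exact mul_mem ha hb
  | inv a _ ha =>
    have : c * a⁻¹ * c⁻¹ = (c * a * c⁻¹)⁻¹ := by group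
    rw [this]; exact inv_mem ha

/-- **(f5)** -/
theorem QD2 {x c : Om} (hx : x ∈ QQ zO rO dO) (hc : c ∈ DD dO) (h : x * c * (x * c) = 1) : c = 1 := by
  have h1 : c * c = (x * (c * x * c⁻¹))⁻¹ := by
    have e1 : x * c * (x * c) = x * (c * x * c⁻¹) * (c * c) := by group
    rw [e1] at h
    exact (inv_eq_of_mul_eq_one_right h).symm
  have h2 : c * c ∈ U q W12 := by
    rw [h1]
    exact inv_mem (QQ_le_U (mul_mem hx (conj_QQ hc hx)))
  have h3 := D_U (mul_mem hc hc) h2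
  have h4 := D_cube hc
  rwa [h3, one_mul] at h4

/-- elements of the radical have order dividing four -/
theorem U4 {M : Om} (hM : M ∈ U q W12) : M * M * (M * M) = 1 := by
  have hMO := Om_le M.2
  -- `M v + v ∈ W⊥`
  have h1 : ∀ v : V, ∀ w ∈ W12, B w ((M : V ≃ₗ[ZMod 2] V) v + v) = 0 := by
    intro v w hw
    have e := O8_B hMO w v
    rw [hM.1 w hw] at e
    rw [B_add_right, e]
    exact Cfsg.Agent.StdO8.Root.z2_add_self _
  have h2 : ∀ v : V, (∀ w ∈ W12, B w v = 0) → (M : V ≃ₗ[ZMod 2] V) v + v ∈ W12 := by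
    intro v hv
    rw [← sub_eq]
    exact hM.2 v hv
  have h3 : ∀ w ∈ W12, (M : V ≃ₗ[ZMod 2] V) w + w = 0 := by
    intro w hw
    rw [hM.1 w hw, add_self]
  -- `(M + 1)³ = 0`
  obtain ⟨N, hN⟩ : ∃ N : V → V, ∀ v, N v = (M : V ≃ₗ[ZMod 2] V) v + v := ⟨_, fun _ => rfl⟩
  have hNadd : ∀ v w, N (v + w) = N v + N w := by
    intro v w
    rw [hN, hN, hN, map_add]; abel
  have h4 : ∀ v, N (N (N v)) = 0 := by
    intro v
    rw [hN (N (N v))]
    apply h3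
    rw [hN (N v)]
    apply h2
    intro w hw
    rw [hN]
    exact h1 v w hw
  have hMM : ∀ v, (M : V ≃ₗ[ZMod 2] V) v = N v + v := by
    intro v
    rw [hN, add_assoc, add_self, add_zero]
  have h5 : ∀ v, (M : V ≃ₗ[ZMod 2] V) ((M : V ≃ₗ[ZMod 2] V) v) = N (N v) + v := by
    intro v
    rw [hMM, hMM v, hNadd]
    have : N (N v) + N v + (N v + v) = N (N v) + (N v + N v) + v := by abel
    rw [this, add_self, add_zero]
  apply Subtype.ext
  ext v : 1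
  show (M : V ≃ₗ[ZMod 2] V) ((M : V ≃ₗ[ZMod 2] V) ((M : V ≃ₗ[ZMod 2] V) ((M : V ≃ₗ[ZMod 2] V) v))) = v
  rw [h5 v, map_add, map_add, h5, h5 v, h4, zero_add, ← add_assoc, add_self, zero_add]

theorem Q4 {x : Om} (hx : x ∈ QQ zO rO dO) : x * x * (x * x) = 1 := U4 (QQ_le_U hx)

/-! ### Independence -/

theorem pw_word (l : List (ℕ × ℕ)) (n : ℕ) : word (pw l n) = word l ^ n := by
  induction n with
  | zero => rw [pow_zero]; rfl
  | succ n ih => rw [pw, word_append, ih, pow_succ']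

theorem zpow_mod (i : Fin 3) (a : ℤ) : ∃ n < 3, dO i ^ a = dO i ^ n ∧ (n = 0 → (3 : ℤ) ∣ a) := by
  have h3 : dO i ^ 3 = 1 := by
    rw [pow_succ, pow_two, mul_assoc]
    exact dO_cube i
  refine ⟨(a % 3).toNat, by omega, ?_, fun h => by omega⟩
  have e1 : dO i ^ (a % 3).toNat = dO i ^ (a % 3) := by
    rw [← zpow_natCast, Int.toNat_of_nonneg (by omega)]
  rw [e1]
  conv_lhs => rw [← Int.emod_add_mul_ediv a 3, zpow_add, zpow_mul]
  have : dO i ^ (3 : ℤ) = 1 := by exact_mod_cast h3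
  rw [this, one_zpow, mul_one]

theorem ind (a b c : ℤ) (h : dO 0 ^ a * dO 1 ^ b * dO 2 ^ c = 1) : (3 : ℤ) ∣ a ∧ (3 : ℤ) ∣ b ∧ (3 : ℤ) ∣ c := by
  obtain ⟨i, hi, e1, d1⟩ := zpow_mod 0 a
  obtain ⟨j, hj, e2, d2⟩ := zpow_mod 1 b
  obtain ⟨k, hk, e3, d3⟩ := zpow_mod 2 c
  rw [e1, e2, e3] at h
  have h1 : word (cW i j k) = word [] := by
    rw [cW, word_append, word_append, pw_word, pw_word, pw_word, ← mul_assoc, word_nil]
    exact h
  have e : ∀ i < 3, ∀ j < 3, ∀ k < 3, (exa (cW i j k) [] &&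
      (!same (cW i j k) [] || (i == 0 && j == 0 && k == 0))) = true := by decide +kernel
  have f := e i hi j hj k hk
  rw [Bool.and_eq_true] at f
  have f2 := f.2
  rw [(word_eq_iff f.1).1 h1] at f2
  simp only [Bool.not_true, Bool.false_or, Bool.and_eq_true, beq_iff_eq] at f2
  exact ⟨d1 f2.1.1, d2 f2.1.2, d3 f2.2⟩

end Cfsg.Agent.StdO8.FactF
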