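import Mathlib
import Cfsg.Agent.StdO8.FactF

/-!
# Facts about `D` and `Q` in `Om`, third part: squares in `C(z)`, the centraliser of `D` and `z`
-/

set_option autoImplicit false

namespace Cfsg.Agent.StdO8.FactG

open Cfsg.Agent.StdO8.Model Cfsg.Agent.StdO8.Code Cfsg.Agent.StdO8.Gen Cfsg.Agent.StdO8.FactD
open Cfsg.Agent.StdO8.FactF
open Cfsg.Agent.ClassicalGeometry.OrthAut1 Cfsg.Agent.ClassicalGeometry.OrthAut2
open Cfsg.Agent.StdO8.DoubCore (DD QQ TZ)

/-! ### Relations -/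

theorem rel {l l' : List (ℕ × ℕ)} {a b : Om} (ha : word l = a) (hb : word l' = b) (h : same l l' = true) : a = b := by
  rw [← ha, ← hb]
  exact word_eq h

theorem wz : word (Gw 0) = zO := rfl
theorem wr : word (Gw 1) = rO := rfl
theorem wd (i : Fin 3) : word (Gw (2 + i.1)) = dO i := rfl
theorem wτ (i : Fin 3) : word (Gw (5 + i.1)) = τO i := rfl
theorem wdi (i : Fin 3) : word (Gw (2 + i.1)).reverse = (dO i)⁻¹ := word_reverse _

theorem zz : zO * zO = 1 := by
  have := word_eq (l := Gw 0 ++ Gw 0) (l' := []) (by decide +kernel)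
  rwa [word_append] at this

theorem rr : rO * rO = 1 := by
  have := word_eq (l := Gw 1 ++ Gw 1) (l' := []) (by decide +kernel)
  rwa [word_append] at this

theorem ττ (i : Fin 3) : τO i * τO i = 1 := by
  have key : ∀ i : Fin 3, same (Gw (5 + i.1) ++ Gw (5 + i.1)) [] = true := by decide +kernel
  have := word_eq (key i)
  rwa [word_append] at this

theorem d3 (i : Fin 3) : dO i * dO i * dO i = 1 := by rw [mul_assoc]; exact dO_cube i

theorem zr : zO * rO = rO * zO := by
  have := word_eq (l := Gw 0 ++ Gw 1) (l' := Gw 1 ++ Gw 0) (by decide +kernel)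
  rwa [word_append, word_append] at this

theorem zd (i : Fin 3) : zO * dO i = dO i * zO := by
  have key : ∀ i : Fin 3, same (Gw 0 ++ Gw (2 + i.1)) (Gw (2 + i.1) ++ Gw 0) = true := by decide +kernel
  have := word_eq (key i)
  rwa [word_append, word_append] at this

theorem zτ (i : Fin 3) : zO * τO i = τO i * zO := by
  have key : ∀ i : Fin 3, same (Gw 0 ++ Gw (5 + i.1)) (Gw (5 + i.1) ++ Gw 0) = true := by decide +kernel
  have := word_eq (key i)
  rwa [word_append, word_append] at this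

theorem dd (i j : Fin 3) : dO i * dO j = dO j * dO i := by
  have key : ∀ i j : Fin 3, same (Gw (2 + i.1) ++ Gw (2 + j.1)) (Gw (2 + j.1) ++ Gw (2 + i.1)) = true := by
    decide +kernel
  have := word_eq (key i j)
  rwa [word_append, word_append] at this

theorem τc (i j : Fin 3) : τO i * τO j = τO j * τO i := by
  have key : ∀ i j : Fin 3, same (Gw (5 + i.1) ++ Gw (5 + j.1)) (Gw (5 + j.1) ++ Gw (5 + i.1)) = true := by
    decide +kernel
  have := word_eq (key i j)
  rwa [word_append, word_append] at this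

theorem τd (i j : Fin 3) (h : i ≠ j) : τO i * dO j = dO j * τO i := by
  have key : ∀ i j : Fin 3, i ≠ j → same (Gw (5 + i.1) ++ Gw (2 + j.1)) (Gw (2 + j.1) ++ Gw (5 + i.1)) = true := by
    decide +kernel
  have := word_eq (key i j h)
  rwa [word_append, word_append] at this

theorem τdi (i : Fin 3) : τO i * dO i * τO i = (dO i)⁻¹ := by
  have key : ∀ i : Fin 3, same (Gw (5 + i.1) ++ Gw (2 + i.1) ++ Gw (5 + i.1)) (Gw (2 + i.1)).reverse = true := by
    decide +kernel
  have := word_eq (key i)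
  rw [word_append, word_append, wdi] at this
  exact this

theorem rτ (i : Fin 3) : rO * τO i = τO i * rO := by
  have key : ∀ i : Fin 3, same (Gw 1 ++ Gw (5 + i.1)) (Gw (5 + i.1) ++ Gw 1) = true := by decide +kernel
  have := word_eq (key i)
  rwa [word_append, word_append] at this

theorem rd (i : Fin 3) : rO * (dO i * rO * (dO i)⁻¹) * ((dO i)⁻¹ * rO * dO i) = 1 := by
  have key : ∀ i : Fin 3, same (Gw 1 ++ (Gw (2 + i.1) ++ Gw 1 ++ (Gw (2 + i.1)).reverse) ++
      ((Gw (2 + i.1)).reverse ++ Gw 1 ++ Gw (2 + i.1))) [] = true := by decide +kernel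
  have := word_eq (key i)
  rw [word_append, word_append, word_append, word_append, word_append, word_append, wdi] at this
  exact this

theorem ne_of {l l' : List (ℕ × ℕ)} (h : exa l l' = true) (h' : same l l' = false) : word l ≠ word l' := by
  intro e
  have := (word_eq_iff h).1 e
  rw [h'] at this
  exact absurd this (by decide)

theorem z1 : zO ≠ 1 := ne_of (l := Gw 0) (l' := []) (by decide +kernel) (by decide +kernel)
theorem r1 : rO ≠ 1 := ne_of (l := Gw 1) (l' := []) (by decide +kernel) (by decide +kernel)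
theorem rz : rO ≠ zO := ne_of (l := Gw 1) (l' := Gw 0) (by decide +kernel) (by decide +kernel)
theorem d1 (i : Fin 3) : dO i ≠ 1 := by
  have key : ∀ i : Fin 3, exa (Gw (2 + i.1)) [] = true ∧ same (Gw (2 + i.1)) [] = false := by decide +kernel
  exact ne_of (key i).1 (key i).2

theorem τinv (i : Fin 3) : (τO i)⁻¹ = τO i := inv_eq_of_mul_eq_one_left (ττ i)

/-! ### `τᵢ` normalises `D` and `Q` -/

theorem τ_D (i : Fin 3) {c : Om} (hc : c ∈ DD dO) : τO i * c * (τO i)⁻¹ ∈ DD dO := by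
  have hd : ∀ j, dO j ∈ DD dO := fun j => Subgroup.subset_closure ⟨j, rfl⟩
  have h : DD dO ≤ (DD dO).comap (MulAut.conj (τO i)).toMonoidHom := by
    conv_lhs => rw [DD]
    rw [Subgroup.closure_le]
    rintro _ ⟨j, rfl⟩
    show τO i * dO j * (τO i)⁻¹ ∈ DD dO
    by_cases hij : i = j
    · subst hij
      rw [τinv, τdi]
      exact inv_mem (hd _)
    · rw [τd i j hij, mul_inv_cancel_right]
      exact hd j
  exact h hc

theorem τ_Q (i : Fin 3) {x : Om} (hx : x ∈ QQ zO rO dO) : τO i * x * (τO i)⁻¹ ∈ QQ zO rO dO := by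
  have h : QQ zO rO dO ≤ (QQ zO rO dO).comap (MulAut.conj (τO i)).toMonoidHom := by
    conv_lhs => rw [QQ]
    rw [Subgroup.closure_le]
    rintro x (hx | ⟨c, hc, rfl⟩)
    · rw [Set.mem_singleton_iff.1 hx]
      show τO i * zO * (τO i)⁻¹ ∈ QQ zO rO dO
      rw [← zτ, mul_inv_cancel_right]
      exact z_mem
    · show τO i * (c * rO * c⁻¹) * (τO i)⁻¹ ∈ QQ zO rO dO
      refine Subgroup.subset_closure (Or.inr ⟨_, τ_D i hc, ?_⟩)
      have e : τO i * rO * (τO i)⁻¹ = rO := by rw [← rτ, mul_inv_cancel_right]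
      calc τO i * (c * rO * c⁻¹) * (τO i)⁻¹
          = τO i * c * (τO i)⁻¹ * (τO i * rO * (τO i)⁻¹) * (τO i * c * (τO i)⁻¹)⁻¹ := by group
        _ = _ := by rw [e]
  exact h hx

/-- the group of the `τᵢ` -/
def TT : Subgroup Om := Subgroup.closure (Set.range τO)

theorem TT_ind {P : Om → Prop} (h1 : P 1) (h : ∀ i s, P s → P (τO i * s)) {s : Om} (hs : s ∈ TT) : P s := by
  rw [TT] at hs
  induction hs using Subgroup.closure_induction_left with
  | one => exact h1
  | mul_left x hx y hy ih =>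
    obtain ⟨i, rfl⟩ := hx
    exact h i y ih
  | inv_mul_cancel x hx y hy ih =>
    obtain ⟨i, rfl⟩ := hx
    rw [τinv]
    exact h i y ih

theorem TT_comm {s : Om} (hs : s ∈ TT) (j : Fin 3) : τO j * s = s * τO j := by
  refine TT_ind (P := fun s => τO j * s = s * τO j) (by rw [mul_one, one_mul]) (fun i s h => ?_) hs
  rw [← mul_assoc, τc j i, mul_assoc, h, mul_assoc]

theorem TT_sq {s : Om} (hs : s ∈ TT) : s * s = 1 := by
  have : s * s = 1 ∧ s ∈ TT := by
    refine TT_ind (P := fun s => s * s = 1 ∧ s ∈ TT) ⟨one_mul _, one_mem _⟩ (fun i s h => ?_) hs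
    refine ⟨?_, mul_mem (Subgroup.subset_closure ⟨i, rfl⟩) h.2⟩
    calc τO i * s * (τO i * s) = τO i * (s * τO i) * s := by group
      _ = τO i * (τO i * s) * s := by rw [TT_comm h.2]
      _ = (τO i * τO i) * (s * s) := by group
      _ = 1 := by rw [ττ, h.1, one_mul]
  exact this.1

theorem TT_D {s c : Om} (hs : s ∈ TT) (hc : c ∈ DD dO) : s * c * s⁻¹ ∈ DD dO := by
  refine TT_ind (P := fun s => ∀ c ∈ DD dO, s * c * s⁻¹ ∈ DD dO) (fun c hc => by
    rw [one_mul, inv_one, mul_one]; exact hc) (fun i s h c hc => ?_) hs c hc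
  have : τO i * s * c * (τO i * s)⁻¹ = τO i * (s * c * s⁻¹) * (τO i)⁻¹ := by group
  rw [this]
  exact τ_D i (h c hc)

theorem TT_Q {s c : Om} (hs : s ∈ TT) (hc : c ∈ QQ zO rO dO) : s * c * s⁻¹ ∈ QQ zO rO dO := by
  refine TT_ind (P := fun s => ∀ c ∈ QQ zO rO dO, s * c * s⁻¹ ∈ QQ zO rO dO) (fun c hc => by
    rw [one_mul, inv_one, mul_one]; exact hc) (fun i s h c hc => ?_) hs c hc
  have : τO i * s * c * (τO i * s)⁻¹ = τO i * (s * c * s⁻¹) * (τO i)⁻¹ := by group
  rw [this]
  exact τ_Q i (h c hc)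

/-- normal form of the elements of `C(z)` -/
theorem H8_nf {x : Om} (hx : x ∈ H8) : ∃ a ∈ QQ zO rO dO, ∃ c ∈ DD dO, ∃ s ∈ TT, x = a * c * s := by
  have hgen : ∀ (i : Fin 8) (y : Om), (∃ a ∈ QQ zO rO dO, ∃ c ∈ DD dO, ∃ s ∈ TT, y = a * c * s) →
      ∃ a ∈ QQ zO rO dO, ∃ c ∈ DD dO, ∃ s ∈ TT, word (Gw i.1) * y = a * c * s := by
    rintro i y ⟨a, ha, c, hc, s, hs, rfl⟩
    have hD : ∀ i : Fin 3, ∃ a' ∈ QQ zO rO dO, ∃ c' ∈ DD dO, ∃ s' ∈ TT, dO i * (a * c * s) = a' * c' * s' := by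
      intro i
      have hd : dO i ∈ DD dO := Subgroup.subset_closure ⟨i, rfl⟩
      exact ⟨_, conj_QQ hd ha, dO i * c, mul_mem hd hc, s, hs, by group⟩
    have hT : ∀ i : Fin 3, ∃ a' ∈ QQ zO rO dO, ∃ c' ∈ DD dO, ∃ s' ∈ TT, τO i * (a * c * s) = a' * c' * s' := by
      intro i
      exact ⟨_, τ_Q i ha, _, τ_D i hc, τO i * s, mul_mem (Subgroup.subset_closure ⟨i, rfl⟩) hs, by group⟩
    match i with
    | 0 => exact ⟨zO * a, mul_mem z_mem ha, c, hc, s, hs, by rw [mul_assoc, mul_assoc, mul_assoc]; rfl⟩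
    | 1 => exact ⟨rO * a, mul_mem rz_mem ha, c, hc, s, hs, by rw [mul_assoc, mul_assoc, mul_assoc]; rfl⟩
    | 2 => exact hD 0
    | 3 => exact hD 1
    | 4 => exact hD 2
    | 5 => exact hT 0
    | 6 => exact hT 1
    | 7 => exact hT 2
  have hrev : ∀ i : Fin 8, ∃ j : ℕ, (word (Gw i.1))⁻¹ = word (Gw i.1) ^ j := by
    intro i
    have h2 : ∀ {y : Om}, y * y = 1 → ∃ j : ℕ, y⁻¹ = y ^ j := fun h => ⟨1, by
      rw [pow_one]; exact inv_eq_of_mul_eq_one_left h⟩
    have h3 : ∀ i : Fin 3, ∃ j : ℕ, (dO i)⁻¹ = dO i ^ j := fun i => ⟨2, by rw [pow_two]; exact dO_inv i⟩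
    match i with
    | 0 => exact h2 zz
    | 1 => exact h2 rr
    | 2 => exact h3 0
    | 3 => exact h3 1
    | 4 => exact h3 2
    | 5 => exact h2 (ττ 0)
    | 6 => exact h2 (ττ 1)
    | 7 => exact h2 (ττ 2)
  rw [H8] at hx
  induction hx using Subgroup.closure_induction_left with
  | one => exact ⟨1, one_mem _, 1, one_mem _, 1, one_mem _, by group⟩
  | mul_left x hx y hy ih =>
    obtain ⟨i, rfl⟩ := hx
    exact hgen i y ih
  | inv_mul_cancel x hx y hy ih =>
    obtain ⟨i, rfl⟩ := hx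
    obtain ⟨j, hj⟩ := hrev i
    show ∃ a ∈ QQ zO rO dO, ∃ c ∈ DD dO, ∃ s ∈ TT, (word (Gw i.1))⁻¹ * y = a * c * s
    rw [hj]
    clear hj
    induction j with
    | zero => rw [pow_zero, one_mul]; exact ih
    | succ j ihj =>
      rw [pow_succ', mul_assoc]
      exact hgen i _ ihj

theorem mul_nf {a c a' c' : Om} (ha : a ∈ QQ zO rO dO) (hc : c ∈ DD dO) (ha' : a' ∈ QQ zO rO dO)
    (hc' : c' ∈ DD dO) : ∃ b ∈ QQ zO rO dO, ∃ e ∈ DD dO, a * c * (a' * c') = b * e :=
  ⟨a * (c * a' * c⁻¹), mul_mem ha (conj_QQ hc ha'), c * c', mul_mem hc hc', by group⟩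

/-- squares in `C(z)` are in `Q D` -/
theorem sq {h : Om} (hz : h * zO = zO * h) : ∃ a ∈ QQ zO rO dO, ∃ c ∈ DD dO, h * h = a * c := by
  rw [zO_eq] at hz
  obtain ⟨a, ha, c, hc, s, hs, rfl⟩ := H8_nf (mem_H8 hz)
  obtain ⟨b, hb, e, he, h1⟩ := mul_nf ha hc (TT_Q hs ha) (TT_D hs hc)
  refine ⟨b, hb, e, he, ?_⟩
  rw [← h1]
  calc a * c * s * (a * c * s) = a * c * (s * a * s⁻¹ * (s * c * s⁻¹)) * (s * s) := by group
    _ = _ := by rw [TT_sq hs, mul_one]

/-- elements of order three in `C(z)` are in `Q D` -/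
theorem ord3 {h : Om} (hz : h * zO = zO * h) (h3 : h * h * h = 1) : ∃ a ∈ QQ zO rO dO, ∃ c ∈ DD dO, h = a * c := by
  obtain ⟨a, ha, c, hc, e⟩ := sq hz
  obtain ⟨b, hb, f, hf, e'⟩ := mul_nf ha hc ha hc
  refine ⟨b, hb, f, hf, ?_⟩
  rw [← e', ← e]
  calc h = (h * h * h) * h := by rw [h3, one_mul]
    _ = _ := by group

/-! ### Squares in `O8` -/

/-- a reflection -/
noncomputable def rh : V ≃ₗ[ZMod 2] V := Cfsg.Agent.LieClassical.OrthCore.refl q (dec 136) q136

theorem rh_inv : rh⁻¹ = rh := Cfsg.Agent.LieClassical.OrthCore.refl_inv q136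

theorem rh_mul : rh * rh = 1 := Cfsg.Agent.LieClassical.OrthCore.refl_mul_self q136

theorem rh_mem : rh ∈ O8 := Cfsg.Agent.LieClassical.OrthCore.refl_mem_O q136

theorem mem_or {M : V ≃ₗ[ZMod 2] V} (hM : M ∈ O8) : M ∈ Om ∨ M * rh ∈ Om := by
  have e : O8 = Subgroup.closure (Cfsg.Agent.LieClassical.OrthCore.reflSet q ∪
    Cfsg.Agent.LieClassical.OrthCore.siegelSet q) := Cfsg.Agent.LieClassical.OrthCore.O_eq_closure good.nondeg
  have step : ∀ g y : V ≃ₗ[ZMod 2] V, g ∈ Cfsg.Agent.LieClassical.OrthCore.reflSet q ∪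
      Cfsg.Agent.LieClassical.OrthCore.siegelSet q → (y ∈ Om ∨ y * rh ∈ Om) → (g * y ∈ Om ∨ g * y * rh ∈ Om) := by
    rintro g y (⟨v, hv, rfl⟩ | ⟨u, w, hu, hw, rfl⟩) hy
    · set g := Cfsg.Agent.LieClassical.OrthCore.refl q v hv with hg
      have hgO : g ∈ O8 := Cfsg.Agent.LieClassical.OrthCore.refl_mem_O hv
      have h1 : q v = q (dec 136) := by
        rw [(z2 (q v)).resolve_left hv, (z2 (q (dec 136))).resolve_left q136]
      have h2 : g * rh ∈ Om := by
        have := good.refl_mul_refl_mem q136 hv h1.symm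
        exact this
      rcases hy with hy | hy
      · right
        have e1 : g * y * rh = g * y * g⁻¹ * (g * rh) := by group
        rw [e1]
        exact mul_mem (Cfsg.Agent.LieClassical.OrthCore.conj_mem_E hgO hy) h2
      · left
        have e1 : g * y = g * (y * rh) * g⁻¹ * (g * rh⁻¹) := by group
        rw [e1, rh_inv]
        exact mul_mem (Cfsg.Agent.LieClassical.OrthCore.conj_mem_E hgO hy) h2
    · have hg : Cfsg.Agent.LieClassical.OrthCore.siegel q u w hu hw ∈ Om :=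
        Cfsg.Agent.LieClassical.OrthCore.siegel_mem_E hu hw
      rcases hy with hy | hy
      · left; exact mul_mem hg hy
      · right; rw [mul_assoc]; exact mul_mem hg hy
  have hinv : ∀ g : V ≃ₗ[ZMod 2] V, g ∈ Cfsg.Agent.LieClassical.OrthCore.reflSet q ∪
      Cfsg.Agent.LieClassical.OrthCore.siegelSet q → g⁻¹ ∈ Cfsg.Agent.LieClassical.OrthCore.reflSet q ∪
      Cfsg.Agent.LieClassical.OrthCore.siegelSet q := by
    rintro g (⟨v, hv, rfl⟩ | ⟨u, w, hu, hw, rfl⟩)
    · left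
      rw [Cfsg.Agent.LieClassical.OrthCore.refl_inv]
      exact ⟨v, hv, rfl⟩
    · right
      have h1 := X_inv u w
      rw [X_eq hu hw] at h1
      rw [h1]
      exact ⟨u, w, hu, hw, rfl⟩
  rw [e] at hM
  induction hM using Subgroup.closure_induction_left with
  | one => left; exact one_mem _
  | mul_left x hx y hy ih => exact step x y hx ih
  | inv_mul_cancel x hx y hy ih => exact step _ y (hinv x hx) ih

/-- **squares of isometries are in `Om`** -/
theorem sq_mem_Om {M : V ≃ₗ[ZMod 2] V} (hM : M ∈ O8) : M * M ∈ Om := by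
  rcases mem_or hM with h | h
  · exact mul_mem h h
  · have e : M * M = M * rh * (rh * (M * rh) * rh⁻¹) * (rh * rh) := by
      have : M * rh * (rh * (M * rh) * rh⁻¹) * (rh * rh) = M * (rh * rh) * M * (rh * rh) := by group
      rw [this, rh_mul]; group
    rw [e, rh_mul, mul_one]
    exact mul_mem h (Cfsg.Agent.LieClassical.OrthCore.conj_mem_E rh_mem h)

/-! ### The centraliser of `z` and `D` in `O8` -/

/-- An isometry fixing `e₀, e₁, e₂, e₃, f₂, f₃` is `1` or `z`. -/
theorem kerz {M : V ≃ₗ[ZMod 2] V} (hMO : M ∈ O8) (hM : ∀ a ∈ [1, 2, 4, 8, 64, 128], M (dec a) = dec a) :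
    M = 1 ∨ M = (zO : V ≃ₗ[ZMod 2] V) := by
  obtain ⟨b, hb, hbM, hq, -, -⟩ := exists_code hMO 16
  obtain ⟨b', hb', hbM', hq', -, -⟩ := exists_code hMO 32
  have hc1 : cnd [(1, true), (2, false), (4, false), (8, false), (64, false), (128, false)] b = true :=
    cnd_of_fix hMO hbM (fun p hp => hM p.1 (by
      simp only [List.mem_cons, List.not_mem_nil, or_false] at hp
      rcases hp with rfl | rfl | rfl | rfl | rfl | rfl <;> decide)) (by decide)
  have hc2 : cnd [(1, false), (2, true), (4, false), (8, false), (64, false), (128, false)] b' = true :=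
    cnd_of_fix hMO hbM' (fun p hp => hM p.1 (by
      simp only [List.mem_cons, List.not_mem_nil, or_false] at hp
      rcases hp with rfl | rfl | rfl | rfl | rfl | rfl <;> decide)) (by decide)
  have k1 : ∀ b < 256, (!qn b && cnd [(1, true), (2, false), (4, false), (8, false), (64, false), (128, false)] b)
      = true → b = 16 ∨ b = 18 := by decide +kernel
  have k2 : ∀ b < 256, (!qn b && cnd [(1, false), (2, true), (4, false), (8, false), (64, false), (128, false)] b)
      = true → b = 32 ∨ b = 33 := by decide +kernel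
  have hbb : Bn b b' = false := by
    have e := O8_B hMO (dec 16) (dec 32)
    rw [hbM, hbM', B_dec, B_dec] at e
    rw [cc_inj e]; decide
  have fin : ∀ l : List (ℕ × ℕ), l.all ok = true → ev l 16 = b → ev l 32 = b' →
      (∀ a ∈ [1, 2, 4, 8, 64, 128], ev l a = a) → M = word l := by
    intro l hl h1 h2 h3
    apply eval_eq hl
    intro a ha
    simp only [basis, List.mem_cons, List.not_mem_nil, or_false] at ha
    rcases ha with rfl | rfl | rfl | rfl | rfl | rfl | rfl | rfl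
    · rw [hM _ (by decide), h3 _ (by decide)]
    · rw [hM _ (by decide), h3 _ (by decide)]
    · rw [hM _ (by decide), h3 _ (by decide)]
    · rw [hM _ (by decide), h3 _ (by decide)]
    · rw [hbM, h1]
    · rw [hbM', h2]
    · rw [hM _ (by decide), h3 _ (by decide)]
    · rw [hM _ (by decide), h3 _ (by decide)]
  rcases k1 b hb (by rw [hq, hc1]; decide) with rfl | rfl <;>
    rcases k2 b' hb' (by rw [hq', hc2]; decide) with rfl | rfl
  · left; exact fin [] (by decide) (by decide) (by decide) (by decide)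
  · exact absurd hbb (by decide)
  · exact absurd hbb (by decide)
  · right; exact fin (Gw 0) (by decide) (by decide) (by decide) (by decide)

theorem ev_comm {M : V ≃ₗ[ZMod 2] V} {l : List (ℕ × ℕ)} (hl : l.all ok = true)
    (h : M * (word l : V ≃ₗ[ZMod 2] V) = word l * M) {v m : ℕ}
    (hv : M (dec v) = dec m) : M (dec (ev l v)) = dec (ev l m) := by
  rw [← word_dec hl, ← word_dec hl, ← hv]
  exact LinearEquiv.congr_fun h (dec v)

theorem comm_pw {M : V ≃ₗ[ZMod 2] V} {l : List (ℕ × ℕ)}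
    (h : M * (word l : V ≃ₗ[ZMod 2] V) = word l * M) (n : ℕ) :
    M * (word (pw l n) : V ≃ₗ[ZMod 2] V) = word (pw l n) * M := by
  rw [pw_word]
  have : Commute M (word l : V ≃ₗ[ZMod 2] V) := h
  exact (this.pow_right n).eq

/-- **(f3), linear part** -/
theorem c3 {M : V ≃ₗ[ZMod 2] V} (hM : M ∈ O8) (hz : M * (zO : V ≃ₗ[ZMod 2] V) = zO * M)
    (hd : ∀ i, M * (dO i : V ≃ₗ[ZMod 2] V) = dO i * M) :
    ∃ c ∈ DD dO, M = (c : V ≃ₗ[ZMod 2] V) ∨ M = ((zO * c : Om) : V ≃ₗ[ZMod 2] V) := by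
  have h12 : dec 1 ≠ dec 2 := fun h => absurd (dec_inj (by norm_num) (by norm_num) h) (by norm_num)
  have hz' : M * X (dec 1) (dec 2) = X (dec 1) (dec 2) * M := by
    rw [zO_eq] at hz; exact hz
  have h := mem_of_commute hM (u := dec 1) (w := dec 2) (by rw [q_dec]; decide) (by rw [q_dec]; decide)
    (by rw [B_dec]; decide) (dec_ne_zero (by norm_num) (by norm_num)) (dec_ne_zero (by norm_num) (by norm_num))
    h12 hz'
  obtain ⟨a, ha, hMa⟩ := line_code h.1
  have k1 : ∀ a ∈ [1, 2, 3], ∃ i < 3, ev (pw (Gw 2) i) 1 = a := by decide +kernel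
  obtain ⟨i, hi, hia⟩ := k1 a ha
  have okc : ∀ i < 3, ∀ j < 3, ∀ k < 3, ((cW i j k).all ok && (pw (Gw 2) i).all ok &&
      (pw (Gw 3) j ++ pw (Gw 4) k).all ok) = true := by decide +kernel
  have oki : (pw (Gw 2) i).all ok = true := by
    have := okc i hi 0 (by norm_num) 0 (by norm_num)
    rw [Bool.and_eq_true, Bool.and_eq_true] at this
    exact this.1.2
  -- commuting with `D`
  have hcD : ∀ N : V ≃ₗ[ZMod 2] V, (∀ i, N * (dO i : V ≃ₗ[ZMod 2] V) = dO i * N) → ∀ j k : ℕ,
      N * (word (pw (Gw 3) j ++ pw (Gw 4) k) : V ≃ₗ[ZMod 2] V) = word (pw (Gw 3) j ++ pw (Gw 4) k) * N := by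
    intro N hN j k
    rw [word_append]
    have e1 : Commute N (word (pw (Gw 3) j) : V ≃ₗ[ZMod 2] V) := comm_pw (hN 1) j
    have e2 : Commute N (word (pw (Gw 4) k) : V ≃ₗ[ZMod 2] V) := comm_pw (hN 2) k
    exact (e1.mul_right e2).eq
  set A : Om := word (pw (Gw 2) i) with hA
  have hAd : ∀ j, A * dO j = dO j * A := by
    intro j
    have : Commute (word (Gw 2)) (dO j) := dd 0 j
    rw [hA, pw_word]
    exact (this.pow_left i).eq
  set M1 : V ≃ₗ[ZMod 2] V := (A : V ≃ₗ[ZMod 2] V)⁻¹ * M with hM1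
  have hM1O : M1 ∈ O8 := mul_mem (inv_mem (Om_le A.2)) hM
  have hM1d : ∀ j, M1 * (dO j : V ≃ₗ[ZMod 2] V) = dO j * M1 := by
    intro j
    have e1 : Commute (A : V ≃ₗ[ZMod 2] V) (dO j : V ≃ₗ[ZMod 2] V) := congrArg Subtype.val (hAd j)
    have e2 : Commute M (dO j : V ≃ₗ[ZMod 2] V) := hd j
    exact (e1.inv_left.mul_left e2).eq
  have f1 : M1 (dec 1) = dec 1 := by
    show (A : V ≃ₗ[ZMod 2] V).symm (M (dec 1)) = dec 1
    rw [LinearEquiv.symm_apply_eq, hA, word_dec oki, hia, hMa]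
  have f2 : M1 (dec 2) = dec 2 := by
    have k2 : ∃ j < 3, ev (pw (Gw 2) j) 1 = 2 := k1 2 (by decide)
    obtain ⟨j, hj, e⟩ := k2
    have okj : (pw (Gw 2) j).all ok = true := by
      have := okc j hj 0 (by norm_num) 0 (by norm_num)
      rw [Bool.and_eq_true, Bool.and_eq_true] at this
      exact this.1.2
    have := ev_comm okj (comm_pw (hM1d 0) j) f1
    rwa [e] at this
  obtain ⟨b, hb, hbM, hqb, hb0, -⟩ := exists_code hM1O 4
  have hfix : ev (Gw 2) b = b := by
    have h1 := ev_comm (l := Gw 2) (by decide) (hM1d 0) hbM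
    have e : ev (Gw 2) 4 = 4 := by decide
    rw [e, hbM] at h1
    exact (dec_inj hb (ev_lt (by decide) hb) h1).symm
  have k3 : ∀ b < 256, ((b == 0) || qn b || !(ev (Gw 2) b == b) ||
      (List.range 3).any fun j => (List.range 3).any fun k => ev (pw (Gw 3) j ++ pw (Gw 4) k) 4 == b) = true := by
    decide +kernel
  have h3 := k3 b hb
  have hb0' : (b == 0) = false := by simpa using hb0 (dec_ne_zero (by norm_num) (by norm_num))
  have hqb' : qn b = false := by rw [hqb]; decide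
  have hfix' : (ev (Gw 2) b == b) = true := by rw [hfix]; simp
  rw [hb0', hqb', hfix', Bool.not_true, Bool.false_or, Bool.false_or, Bool.false_or, List.any_eq_true] at h3
  obtain ⟨j, hj, h3⟩ := h3
  rw [List.any_eq_true] at h3
  obtain ⟨k, hk, h3⟩ := h3
  rw [List.mem_range] at hj hk
  rw [beq_iff_eq] at h3
  have okjk : (pw (Gw 3) j ++ pw (Gw 4) k).all ok = true := by
    have := okc 0 (by norm_num) j hj k hk
    rw [Bool.and_eq_true] at this
    exact this.2
  set A' : Om := word (pw (Gw 3) j ++ pw (Gw 4) k) with hA'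
  have hAd' : ∀ l, A' * dO l = dO l * A' := by
    intro l
    have e1 : Commute (word (Gw 3)) (dO l) := dd 1 l
    have e2 : Commute (word (Gw 4)) (dO l) := dd 2 l
    rw [hA', word_append, pw_word, pw_word]
    exact ((e1.pow_left j).mul_left (e2.pow_left k)).eq
  set M2 : V ≃ₗ[ZMod 2] V := (A' : V ≃ₗ[ZMod 2] V)⁻¹ * M1 with hM2
  have hM2O : M2 ∈ O8 := mul_mem (inv_mem (Om_le A'.2)) hM1O
  have hM2d : ∀ j, M2 * (dO j : V ≃ₗ[ZMod 2] V) = dO j * M2 := by
    intro j
    have e1 : Commute (A' : V ≃ₗ[ZMod 2] V) (dO j : V ≃ₗ[ZMod 2] V) := congrArg Subtype.val (hAd' j)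
    have e2 : Commute M1 (dO j : V ≃ₗ[ZMod 2] V) := hM1d j
    exact (e1.inv_left.mul_left e2).eq
  have k4 : ∀ j < 3, ∀ k < 3, (ev (pw (Gw 3) j ++ pw (Gw 4) k) 1 == 1 &&
      (ev (pw (Gw 3) j ++ pw (Gw 4) k) 2 == 2)) = true := by decide +kernel
  have h4 := k4 j hj k hk
  rw [Bool.and_eq_true, beq_iff_eq, beq_iff_eq] at h4
  have g1 : M2 (dec 1) = dec 1 := by
    show (A' : V ≃ₗ[ZMod 2] V).symm (M1 (dec 1)) = dec 1
    rw [LinearEquiv.symm_apply_eq, hA', word_dec okjk, h4.1, f1]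
  have g2 : M2 (dec 2) = dec 2 := by
    show (A' : V ≃ₗ[ZMod 2] V).symm (M1 (dec 2)) = dec 2
    rw [LinearEquiv.symm_apply_eq, hA', word_dec okjk, h4.2, f2]
  have g4 : M2 (dec 4) = dec 4 := by
    show (A' : V ≃ₗ[ZMod 2] V).symm (M1 (dec 4)) = dec 4
    rw [LinearEquiv.symm_apply_eq, hA', word_dec okjk, h3, hbM]
  have k5 : ∀ v ∈ [8, 64, 128], ∃ j < 3, ∃ k < 3, ev (pw (Gw 3) j ++ pw (Gw 4) k) 4 = v := by decide +kernel
  have g5 : ∀ v ∈ [8, 64, 128], M2 (dec v) = dec v := by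
    intro v hv
    obtain ⟨j', hj', k', hk', e⟩ := k5 v hv
    have okjk' : (pw (Gw 3) j' ++ pw (Gw 4) k').all ok = true := by
      have := okc 0 (by norm_num) j' hj' k' hk'
      rw [Bool.and_eq_true] at this
      exact this.2
    have := ev_comm okjk' (hcD M2 hM2d j' k') g4
    rwa [e] at this
  have hfin := kerz hM2O (by
    intro a ha
    simp only [List.mem_cons, List.not_mem_nil, or_false] at ha
    rcases ha with rfl | rfl | rfl | rfl | rfl | rfl
    · exact g1
    · exact g2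
    · exact g4
    · exact g5 _ (by decide)
    · exact g5 _ (by decide)
    · exact g5 _ (by decide))
  have hAA : A * A' ∈ DD dO := by
    have : A * A' = word (cW i j k) := by
      rw [cW, word_append]
    rw [this]
    exact cW_mem _ _ _
  have hMe : M = (A : V ≃ₗ[ZMod 2] V) * A' * M2 := by
    rw [hM2, hM1]; group
  refine ⟨A * A', hAA, ?_⟩
  rcases hfin with h5 | h5
  · left
    rw [hMe, h5, mul_one]; rfl
  · right
    rw [hMe, h5]
    have hzA : A * A' * zO = zO * (A * A') := by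
      have : DD dO ≤ Subgroup.centralizer {zO} := by
        rw [DD, Subgroup.closure_le]
        rintro _ ⟨i, rfl⟩
        rw [SetLike.mem_coe, Subgroup.mem_centralizer_singleton_iff]
        exact (zd i).symm
      exact Subgroup.mem_centralizer_singleton_iff.1 (this hAA)
    exact congrArg Subtype.val hzA

end Cfsg.Agent.StdO8.FactG
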