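import Mathlib
import Cfsg.Agent.StdO8.FactG
import Cfsg.Agent.StdO8.DataOf
import Cfsg.Agent.StdO8.DoubRoot
import Cfsg.Agent.StdO8.Root

/-!
# The facts about `C_G(t)` for the doubling of a root element
-/

set_option autoImplicit false

namespace Cfsg.Agent.StdO8.FactH

open Cfsg.Agent.StdO8.Model Cfsg.Agent.StdO8.Code Cfsg.Agent.StdO8.Gen Cfsg.Agent.StdO8.FactD
open Cfsg.Agent.StdO8.Aut Cfsg.Agent.StdO8.Frame Cfsg.Agent.StdO8.Root
open Cfsg.Agent.StdO8.FactG hiding zr rr dd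
open Cfsg.Agent.StdO8.DoubCore (DD QQ TZ)
open Cfsg.Agent.StdO8.DoubRoot (zr rr al dd ta)
open Cfsg.Agent.StdO8.DataOf (x xm)
open Cfsg.Agent.StdO8.Bas (bv wt)

/-! ### Coordinates -/

theorem bv_dec : ∀ i : Fin 8, bv i = dec (2 ^ i.1) := by decide +kernel

theorem xm_wt {i j : Fin 8} (h : Bas.ok i j) : xm (wt i + wt j) = gen (2 ^ i.1, 2 ^ j.1) := by
  apply Subtype.ext
  show Bas.xO (wt i + wt j) = X (dec _) (dec _)
  rw [Bas.xO_wt h, Bas.xb, bv_dec, bv_dec]

theorem zr_eq : zr = wt 0 + wt 1 := by decide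
theorem rr_eq : rr = wt 0 + wt 2 := by decide

theorem xm_z : xm zr = zO := by
  rw [zr_eq, xm_wt (by decide), zO_eq]; rfl

theorem gen_eq (p : ℕ × ℕ) {l : List (ℕ × ℕ)} (h : l = [p]) : word l = gen p := by rw [h, word_single]

theorem xm_r : xm rr = rO := by
  rw [rr_eq, xm_wt (by decide), rO]
  exact (gen_eq _ rfl).symm

theorem xm_τ (i : Fin 3) : xm (al i) = τO i := by
  match i with
  | 0 =>
    have e : al 0 = wt 0 + wt 5 := by decide
    rw [e, xm_wt (by decide), τO]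
    exact (gen_eq _ rfl).symm
  | 1 =>
    have e : al 1 = wt 2 + wt 7 := by decide
    rw [e, xm_wt (by decide), τO]
    exact (gen_eq _ rfl).symm
  | 2 =>
    have e : al 2 = wt 2 + wt 3 := by decide
    rw [e, xm_wt (by decide), τO]
    exact (gen_eq _ rfl).symm

theorem xm_d (i : Fin 3) : xm (al i) * xm (-al i) = dO i := by
  match i with
  | 0 =>
    have e : al 0 = wt 0 + wt 5 := by decide
    have e' : -al 0 = wt 1 + wt 4 := by decide
    rw [e', e, xm_wt (by decide), xm_wt (by decide), dO]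
    show _ = word [(1, 32), (2, 16)]
    rw [word_cons, word_single]; rfl
  | 1 =>
    have e : al 1 = wt 2 + wt 7 := by decide
    have e' : -al 1 = wt 3 + wt 6 := by decide
    rw [e', e, xm_wt (by decide), xm_wt (by decide), dO]
    show _ = word [(4, 128), (8, 64)]
    rw [word_cons, word_single]; rfl
  | 2 =>
    have e : al 2 = wt 2 + wt 3 := by decide
    have e' : -al 2 = wt 6 + wt 7 := by decide
    rw [e', e, xm_wt (by decide), xm_wt (by decide), dO]
    show _ = word [(4, 8), (64, 128)]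
    rw [word_cons, word_single]; rfl

/-! ### Transport -/

theorem DD_map {H K : Type*} [Group H] [Group K] (f : H →* K) (d : Fin 3 → H) :
    (DD d).map f = DD (fun i => f (d i)) := by
  rw [DD, DD, MonoidHom.map_closure, ← Set.range_comp]
  rfl

theorem QQ_map {H K : Type*} [Group H] [Group K] (f : H →* K) (z r : H) (d : Fin 3 → H) :
    (QQ z r d).map f = QQ (f z) (f r) (fun i => f (d i)) := by
  rw [QQ, QQ, MonoidHom.map_closure, Set.image_union, Set.image_singleton]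
  congr 2
  ext y
  constructor
  · rintro ⟨_, ⟨c, hc, rfl⟩, rfl⟩
    refine ⟨f c, ?_, by rw [map_mul, map_mul, map_inv]⟩
    rw [← DD_map]
    exact ⟨c, hc, rfl⟩
  · rintro ⟨c', hc', rfl⟩
    rw [← DD_map] at hc'
    obtain ⟨c, hc, rfl⟩ := hc'
    exact ⟨_, ⟨c, hc, rfl⟩, by rw [map_mul, map_mul, map_inv]⟩

variable {G : Type*} [Group G] (C : Ctx G)

theorem x_z : x C zr = C.r zO := by rw [x, xm_z]
theorem x_r : x C rr = C.r rO := by rw [x, xm_r]
theorem x_τ : ta (x C) = fun i => C.r (τO i) := by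
  funext i
  show C.r (xm (al i)) = _
  rw [xm_τ]
theorem x_d : dd (x C) = fun i => C.r (dO i) := by
  funext i
  show C.r (xm (al i)) * C.r (xm (-al i)) = _
  rw [← map_mul, xm_d]

theorem mem_DD {g : G} : g ∈ DD (fun i => C.r (dO i)) ↔ ∃ c ∈ DD dO, C.r c = g := by
  rw [← DD_map]; rfl

theorem mem_QQ {g : G} : g ∈ QQ (C.r zO) (C.r rO) (fun i => C.r (dO i)) ↔ ∃ c ∈ QQ zO rO dO, C.r c = g := by
  rw [← QQ_map]; rfl

theorem req {a b : Om} (h : a = b) : C.r a = C.r b := by rw [h]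

/-! ### (f3) -/

theorem not_root_c2 {c : V ≃ₗ[ZMod 2] V} (h1 : IsRoot c) (h2 : IsC2 c) : False := by
  obtain ⟨u, w, hu, hw, huw, hu0, hw0, hne, rfl⟩ := h1
  obtain ⟨u', w', hu', hu0', huw', hw', e⟩ := h2
  obtain ⟨v, hv⟩ : ∃ v, B u' v ≠ 0 := by
    by_contra hcon
    push Not at hcon
    exact hu0' (nondeg hcon)
  have hv1 : B u' v = 1 := (z2 _).resolve_left hv
  have h3 : B v (X u w v) = 0 := by
    rw [X_apply hu hw huw, B_add_right, B_add_right, B_self, B_smul_right, B_smul_right, zero_add,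
      B_comm v u, B_comm v w, mul_comm]
    exact z2_add_self _
  have h4 : B v (X u' w' v) = 1 := by
    rw [X_apply' hu' huw', B_add_right, B_add_right, B_add_right, B_self, B_smul_right, B_smul_right,
      B_smul_right, B_comm v u', B_comm v w', hw', hv1, zero_add, one_mul, mul_one, mul_one, z2_add_self, zero_add,
      mul_one]
  rw [e, h4] at h3
  exact absurd h3 (by decide)

theorem τ0_eq : (τO 0 : V ≃ₗ[ZMod 2] V) = X (dec 1) (dec 32) := by
  have : τO 0 = gen (1, 32) := gen_eq _ rfl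
  rw [this]; rfl

theorem τ0_root : IsRoot (τO 0 : V ≃ₗ[ZMod 2] V) := by
  refine ⟨dec 1, dec 32, by rw [q_dec]; decide, by rw [q_dec]; decide, by rw [B_dec]; decide,
    dec_ne_zero (by norm_num) (by norm_num), dec_ne_zero (by norm_num) (by norm_num),
    fun h => absurd (dec_inj (by norm_num) (by norm_num) h) (by norm_num), τ0_eq⟩

theorem zτ0_c2 : IsC2 ((zO * τO 0 : Om) : V ≃ₗ[ZMod 2] V) := by
  refine ⟨dec 1, dec 2 + dec 32, by rw [q_dec]; decide, dec_ne_zero (by norm_num) (by norm_num), ?_, ?_, ?_⟩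
  · rw [B_add_right, B_dec, B_dec]; decide
  · rw [← dec_xor, q_dec]; decide
  · show (zO : V ≃ₗ[ZMod 2] V) * (τO 0 : V ≃ₗ[ZMod 2] V) = _
    rw [τ0_eq, zO_eq]
    exact X_mul (by rw [q_dec]; decide) (by rw [B_dec]; decide) (by rw [B_dec]; decide)

theorem z_D {c : Om} (hc : c ∈ DD dO) : zO * c = c * zO := by
  have : DD dO ≤ Subgroup.centralizer {zO} := by
    rw [DD, Subgroup.closure_le]
    rintro _ ⟨i, rfl⟩
    rw [SetLike.mem_coe, Subgroup.mem_centralizer_singleton_iff]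
    exact (zd i).symm
  exact (Subgroup.mem_centralizer_singleton_iff.1 (this hc)).symm

/-- The image of `τ₀` under an automorphism fixing `z` and `D`. -/
theorem c2_map (α : MulAut Om) (hz : α zO = zO) (hd : ∀ i, α (dO i) = dO i) :
    IsC2 ((α (zO * τO 0) : Om) : V ≃ₗ[ZMod 2] V) := by
  set y := α (τO 0) with hy
  have hyy : y * y = 1 := by rw [hy, ← map_mul, ττ, map_one]
  have hyz : y * zO = zO * y := by
    have := congrArg α (zτ 0)
    rw [map_mul, map_mul, hz] at this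
    exact this.symm
  have hyd : ∀ i, i ≠ 0 → y * dO i = dO i * y := by
    intro i hi
    have := congrArg α (τd 0 i (Ne.symm hi))
    rw [map_mul, map_mul, hd] at this
    exact this
  have hyd0 : y * dO 0 * y = (dO 0)⁻¹ := by
    have := congrArg α (τdi 0)
    rw [map_mul, map_mul, map_inv, hd] at this
    exact this
  have hyi : y⁻¹ = y := inv_eq_of_mul_eq_one_left hyy
  have hτd0 := τdi 0
  -- `y τ₀` centralises `z` and `D`
  have h1 : (y * τO 0) * zO = zO * (y * τO 0) := by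
    rw [mul_assoc, ← zτ, ← mul_assoc, hyz, mul_assoc]
  have h2 : ∀ i, (y * τO 0) * dO i = dO i * (y * τO 0) := by
    intro i
    by_cases hi : i = 0
    · subst hi
      have e1 : τO 0 * dO 0 = (dO 0)⁻¹ * τO 0 := by
        rw [← hτd0]
        calc τO 0 * dO 0 = τO 0 * dO 0 * (τO 0 * τO 0) := by rw [ττ, mul_one]
          _ = _ := by group
      have e2 : y * (dO 0)⁻¹ = dO 0 * y := by
        rw [← hyd0]
        calc y * (y * dO 0 * y) = (y * y) * dO 0 * y := by group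
          _ = _ := by rw [hyy, one_mul]
      rw [mul_assoc, e1, ← mul_assoc, e2, mul_assoc]
    · rw [mul_assoc, τd 0 i (Ne.symm hi), ← mul_assoc, hyd i hi, mul_assoc]
  obtain ⟨c, hc, h3⟩ := c3 (M := ((y * τO 0 : Om) : V ≃ₗ[ZMod 2] V)) (Om_le (y * τO 0).2)
    (congrArg Subtype.val h1) (fun i => congrArg Subtype.val (h2 i))
  -- the conjugate of `τ₀`
  have key : ∀ c ∈ DD dO, c * τO 0 * (c * τO 0) = 1 → c * τO 0 = c⁻¹ * τO 0 * c⁻¹⁻¹ := by
    intro c hc h
    have e1 : c * c * c = 1 := Cfsg.Agent.StdO8.FactF.D_cube hc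
    have e2 : τO 0 * c * τO 0 = c⁻¹ := by
      rw [eq_inv_iff_mul_eq_one]
      have : c⁻¹ * (c * τO 0 * (c * τO 0)) * c = c⁻¹ * 1 * c := by rw [h]
      rw [mul_one, inv_mul_cancel] at this
      rw [← this]; group
    have e3 : τO 0 * c = c⁻¹ * τO 0 := by
      rw [← e2]
      calc τO 0 * c = τO 0 * c * (τO 0 * τO 0) := by rw [ττ, mul_one]
        _ = _ := by group
    calc c * τO 0 = c⁻¹ * c⁻¹ * (c * c * c) * τO 0 := by group
      _ = c⁻¹ * (c⁻¹ * τO 0) := by rw [e1]; group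
      _ = c⁻¹ * (τO 0 * c) := by rw [e3]
      _ = _ := by group
  have hconj : ∀ c ∈ DD dO, IsC2 ((zO * (c⁻¹ * τO 0 * c⁻¹⁻¹) : Om) : V ≃ₗ[ZMod 2] V) := by
    intro c hc
    have e : zO * (c⁻¹ * τO 0 * c⁻¹⁻¹) = c⁻¹ * (zO * τO 0) * c⁻¹⁻¹ := by
      have := z_D (inv_mem hc)
      calc zO * (c⁻¹ * τO 0 * c⁻¹⁻¹) = (zO * c⁻¹) * τO 0 * c⁻¹⁻¹ := by group
        _ = _ := by rw [this]; group
    rw [e]
    exact zτ0_c2.conj (M := ((c⁻¹ : Om) : V ≃ₗ[ZMod 2] V)) (Om_le (c⁻¹).2)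
  rw [map_mul, hz, ← hy]
  rcases h3 with h3 | h3
  · have h4 : y * τO 0 = c := Subtype.ext h3
    have h5 : y = c * τO 0 := by rw [← h4, mul_assoc, ττ, mul_one]
    rw [h5, key c hc (by rw [← h5]; exact hyy)]
    exact hconj c hc
  · exfalso
    have h4 : y * τO 0 = zO * c := Subtype.ext h3
    have h5 : y = zO * (c * τO 0) := by rw [← mul_assoc, ← h4, mul_assoc, ττ, mul_one]
    have h6 : c * τO 0 * (c * τO 0) = 1 := by
      have e1 : (c * τO 0) * zO = zO * (c * τO 0) := by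
        rw [mul_assoc, ← zτ, ← mul_assoc, ← z_D hc, mul_assoc]
      calc c * τO 0 * (c * τO 0) = (zO * zO) * (c * τO 0) * (c * τO 0) := by rw [zz, one_mul]
        _ = zO * (zO * (c * τO 0)) * (c * τO 0) := by group
        _ = zO * ((c * τO 0) * zO) * (c * τO 0) := by rw [e1]
        _ = y * y := by rw [h5]; group
        _ = 1 := hyy
    refine not_root_c2 (c := ((y : Om) : V ≃ₗ[ZMod 2] V)) (isRoot_map α τ0_root) ?_
    rw [h5, key c hc h6]
    exact hconj c hc

theorem isLin_of_D {g : G} (ht : g * C.t = C.t * g) (hz : g * C.r zO = C.r zO * g)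
    (hd : ∀ i, g * C.r (dO i) = C.r (dO i) * g) : ∃ M, C.IsLin g M := by
  obtain ⟨α, hα⟩ := C.norm g ht
  have hfix : ∀ m, g * C.r m = C.r m * g → α m = m := by
    intro m hm
    apply C.inj
    rw [← hα, hm, mul_inv_cancel_right]
  exact C.isLin_of_c2 ht zτ0_c2 (c2_map α (hfix _ hz) fun i => hfix _ (hd i)) (hα _)

theorem cD {g : G} (ht : g * C.t = C.t * g) (hz : g * C.r zO = C.r zO * g)
    (hd : ∀ i, g * C.r (dO i) = C.r (dO i) * g) :
    ∃ s, TZ C.t (C.r zO) s ∧ ∃ c ∈ DD (fun i => C.r (dO i)), g = s * c := by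
  obtain ⟨M, hM⟩ := isLin_of_D C ht hz hd
  obtain ⟨c, hc, h⟩ := c3 M.2 ((hM.commute_iff zO).1 hz) (fun i => (hM.commute_iff (dO i)).1 (hd i))
  have hcD : C.r c ∈ DD (fun i => C.r (dO i)) := (mem_DD C).2 ⟨c, hc, rfl⟩
  rcases h with h | h
  · rcases DataOf.eq_of_isLin C hM h with h1 | h1
    · exact ⟨1, Or.inl rfl, C.r c, hcD, by rw [h1, one_mul]⟩
    · exact ⟨C.t, Or.inr (Or.inl rfl), C.r c, hcD, h1⟩
  · rcases DataOf.eq_of_isLin C hM h with h1 | h1
    · exact ⟨C.r zO, Or.inr (Or.inr (Or.inl rfl)), C.r c, hcD, by rw [h1, map_mul]⟩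
    · exact ⟨C.t * C.r zO, Or.inr (Or.inr (Or.inr rfl)), C.r c, hcD, by rw [h1, map_mul, mul_assoc]⟩

/-! ### (f4) -/

theorem nQD {g : G} (ht : g * C.t = C.t * g) (hz : g * C.r zO = C.r zO * g) (i : Fin 3) :
    ∃ q ∈ QQ (C.r zO) (C.r rO) (fun i => C.r (dO i)), ∃ c ∈ DD (fun i => C.r (dO i)),
      g * C.r (dO i) * g⁻¹ = q * c := by
  obtain ⟨α, hα⟩ := C.norm g ht
  have h1 : α zO = zO := by
    apply C.inj
    rw [← hα, hz, mul_inv_cancel_right]
  have h2 : α (dO i) * zO = zO * α (dO i) := by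
    have := congrArg α (zd i)
    rw [map_mul, map_mul, h1] at this
    exact this.symm
  have h3 : α (dO i) * α (dO i) * α (dO i) = 1 := by
    rw [← map_mul, ← map_mul, d3, map_one]
  obtain ⟨a, ha, c, hc, e⟩ := ord3 h2 h3
  exact ⟨C.r a, (mem_QQ C).2 ⟨a, ha, rfl⟩, C.r c, (mem_DD C).2 ⟨c, hc, rfl⟩, by rw [hα, e, map_mul]⟩

/-- The form of (f2). -/
def Frat : Prop := ∀ g : G, g * C.r zO * g⁻¹ = C.r zO → g * C.t * g⁻¹ = C.t * C.r zO →
    ∃ c : G, c * C.t = C.t * c ∧ c * C.r zO = C.r zO * c ∧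
      ∀ e ∈ DD (fun i => C.r (dO i)), (c * g) * e * (c * g)⁻¹ ∈ DD (fun i => C.r (dO i))

theorem rne {a b : Om} (h : a ≠ b) : C.r a ≠ C.r b := fun e => h (C.inj e)

theorem core_of_frat (hF : Frat C) :
    DoubCore.Core C.t (C.r zO) (C.r rO) C.L (fun i => C.r (dO i)) (fun i => C.r (τO i)) where
  tt := C.tt
  tL := by
    rintro _ ⟨m, rfl⟩
    exact (C.comm m).eq.symm
  t_notMem := C.t_notMem
  zL := C.r_mem _
  rL := C.r_mem _
  dL := fun i => C.r_mem _
  τL := fun i => C.r_mem _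
  z1 := by rw [← map_one C.r]; exact rne C z1
  zz := by rw [← map_mul, zz, map_one]
  r1 := by rw [← map_one C.r]; exact rne C r1
  rz := rne C rz
  rr := by rw [← map_mul, FactG.rr, map_one]
  ττ := fun i => by rw [← map_mul, ττ, map_one]
  d3 := fun i => by rw [← map_mul, ← map_mul, d3, map_one]
  d1 := fun i => by rw [← map_one C.r]; exact rne C (d1 i)
  zr := by rw [← map_mul, FactG.zr, map_mul]
  zd := fun i => by rw [← map_mul, zd, map_mul]
  zτ := fun i => by rw [← map_mul, zτ, map_mul]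
  dd := fun i j => by rw [← map_mul, FactG.dd, map_mul]
  τc := fun i j => by rw [← map_mul, τc, map_mul]
  τd := fun i j h => by rw [← map_mul, τd i j h, map_mul]
  τdi := fun i => by rw [← map_mul, ← map_mul, τdi, map_inv]
  rτ := fun i => by rw [← map_mul, rτ, map_mul]
  rd := fun i => by
    have := congrArg C.r (rd i)
    rw [map_mul, map_mul, map_mul, map_mul, map_mul, map_mul, map_inv, map_one] at this
    exact this
  frat := hF
  cD := fun g h1 h2 h3 => cD C h1 h2 h3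
  nQD := fun g h1 h2 i => nQD C h1 h2 i
  QD2 := by
    intro q hq c hc h
    obtain ⟨a, ha, rfl⟩ := (mem_QQ C).1 hq
    obtain ⟨b, hb, rfl⟩ := (mem_DD C).1 hc
    rw [← map_mul, ← map_mul, ← map_one C.r] at h
    rw [Cfsg.Agent.StdO8.FactF.QD2 ha hb (C.inj h), map_one]
  Qd := by
    intro i q hq h
    obtain ⟨a, ha, rfl⟩ := (mem_QQ C).1 hq
    rw [← map_mul, ← map_mul] at h
    rcases Cfsg.Agent.StdO8.FactE.Qd (QQ_le_U ha) i (C.inj h) with h | h
    · left; rw [h, map_one]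
    · right; rw [h]
  Qτ := by
    intro q hq h
    obtain ⟨a, ha, rfl⟩ := (mem_QQ C).1 hq
    have h' : ∀ i, a * τO i = τO i * a := fun i => by
      apply C.inj
      rw [map_mul, map_mul]
      exact h i
    rcases Cfsg.Agent.StdO8.FactE.Qτ (QQ_le_U ha) h' with h | h | h | h
    · left; rw [h, map_one]
    · right; left; rw [h]
    · right; right; left; rw [h]
    · right; right; right; rw [h, map_mul]
  rc := by
    intro c hc h
    obtain ⟨b, hb, rfl⟩ := (mem_DD C).1 hc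
    rw [← map_mul, ← map_mul] at h
    rw [Cfsg.Agent.StdO8.FactF.rc hb (C.inj h), map_one]
  Qc := by
    intro c hc h1 h2
    obtain ⟨b, hb, rfl⟩ := (mem_DD C).1 hc
    obtain ⟨a, ha, e1, e2, e3⟩ := Cfsg.Agent.StdO8.FactF.Qc hb (fun h => h1 (by rw [h, map_one]))
      (fun i => ⟨fun h => (h2 i).1 (by rw [h]), fun h => (h2 i).2 (by rw [h, map_inv])⟩)
    refine ⟨C.r a, (mem_QQ C).2 ⟨a, ha, rfl⟩, ?_, rne C e2, by rw [← map_mul, e3, map_mul]⟩
    rw [← map_one C.r]; exact rne C e1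

/-- In the coordinates of the root elements. -/
theorem core_of_frat' (hF : Frat C) : DoubCore.Core C.t (x C zr) (x C rr) C.L (dd (x C)) (ta (x C)) := by
  rw [x_z, x_r, x_d, x_τ]
  exact core_of_frat C hF

/-! ### (f7) -/

theorem f7' {g : G} (hg : g ∈ C.L) (h : g * C.r zO = C.r zO * g) : g ∈ Subgroup.closure
    ({C.r zO, C.r rO} ∪ Set.range (fun i => C.r (dO i)) ∪ Set.range (fun i => C.r (τO i))) := by
  obtain ⟨m, rfl⟩ := hg
  rw [← map_mul, ← map_mul] at h
  have h1 : m ∈ H8 := mem_H8 (by rw [← zO_eq]; exact C.inj h)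
  have h2 : C.r m ∈ H8.map C.r := ⟨m, h1, rfl⟩
  rw [H8, MonoidHom.map_closure] at h2
  refine Subgroup.closure_mono ?_ h2
  rintro _ ⟨_, ⟨i, rfl⟩, rfl⟩
  match i with
  | 0 => exact Or.inl (Or.inl (Or.inl rfl))
  | 1 => exact Or.inl (Or.inl (Or.inr rfl))
  | 2 => exact Or.inl (Or.inr ⟨0, rfl⟩)
  | 3 => exact Or.inl (Or.inr ⟨1, rfl⟩)
  | 4 => exact Or.inl (Or.inr ⟨2, rfl⟩)
  | 5 => exact Or.inr ⟨0, rfl⟩
  | 6 => exact Or.inr ⟨1, rfl⟩
  | 7 => exact Or.inr ⟨2, rfl⟩

theorem f7 : ∀ g ∈ C.L, g * x C zr = x C zr * g → g ∈ Subgroup.closure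
    ({x C zr, x C rr} ∪ Set.range (dd (x C)) ∪ Set.range (ta (x C))) := by
  intro g hg h
  rw [x_z] at h
  rw [x_z, x_r, x_d, x_τ]
  exact f7' C hg h

end Cfsg.Agent.StdO8.FactH
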