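import Mathlib
import Cfsg.Agent.StdO8.DoubCore

/-!
# The Frattini fact (f2) for `DoubCore.Core` (S1734, `L = Ω₈⁺(2)`)

If `g` fixes `z` and interchanges `t` and `t z`, then some `c` in `C(t) ∩ C(z)` is such that `c g` normalises
`D = ⟨d₀, d₁, d₂⟩`.
-/

set_option autoImplicit false
set_option linter.all false

namespace Cfsg.Agent.StdO8.Frat

open Subgroup Cfsg.Agent.StdO8.DoubCore

variable {G : Type*} [Group G]

structure Pre (t z r : G) (L Λ : Subgroup G) (d : Fin 3 → G) : Prop where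
  tt : t * t = 1
  tL : ∀ g ∈ L, t * g = g * t
  t_notMem : t ∉ L
  zL : z ∈ L
  rL : r ∈ L
  dL : ∀ i, d i ∈ L
  z1 : z ≠ 1
  zz : z * z = 1
  rr : r * r = 1
  zr : z * r = r * z
  d3 : ∀ i, d i * d i * d i = 1
  zd : ∀ i, z * d i = d i * z
  dd : ∀ i j, d i * d j = d j * d i
  rd : ∀ i, r * (d i * r * (d i)⁻¹) * ((d i)⁻¹ * r * d i) = 1
  LN : ∀ g, g * t = t * g → ∀ l ∈ L, g * l * g⁻¹ ∈ L
  sq : ∀ h ∈ L, h * z = z * h → ∃ q ∈ QQ z r d, ∃ c ∈ DD d, h * h = q * c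
  Q4 : ∀ q ∈ QQ z r d, q * q * (q * q) = 1
  zQ : z ∈ closure {x | ∃ c ∈ DD d, x = c * r * c⁻¹}
  ind : ∀ a b c : ℤ, d 0 ^ a * d 1 ^ b * d 2 ^ c = 1 → (3 : ℤ) ∣ a ∧ (3 : ℤ) ∣ b ∧ (3 : ℤ) ∣ c
  cD : ∀ g : G, g * t = t * g → g * z = z * g → (∀ i, g * d i = d i * g) → ∃ s, TZ t z s ∧ ∃ c ∈ DD d, g = s * c
  Qd : ∀ i, ∀ q ∈ QQ z r d, q * d i = d i * q → q = 1 ∨ q = z
  Qc : ∀ c ∈ DD d, c ≠ 1 → (∀ i, c ≠ d i ∧ c ≠ (d i)⁻¹) → ∃ q ∈ QQ z r d, q ≠ 1 ∧ q ≠ z ∧ q * c = c * q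
  Λt : Λ ≤ centralizer {t}
  Λi : Λ.relIndex (centralizer {t}) ≤ 3
  Λ2 : ∀ g ∈ Λ, g * g ∈ L ∨ t * (g * g) ∈ L

namespace Pre

variable {t z r : G} {L Λ : Subgroup G} {d : Fin 3 → G}

section basic

variable (P : Pre t z r L Λ d)

include P

theorem DL {c : G} (hc : c ∈ DD d) : c ∈ L := by
  have : DD d ≤ L := by
    rw [DD, closure_le]
    rintro _ ⟨i, rfl⟩
    exact P.dL i
  exact this hc

theorem D_z {c : G} (hc : c ∈ DD d) : z * c = c * z := by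
  have : DD d ≤ centralizer {z} := by
    rw [DD, closure_le]
    rintro _ ⟨i, rfl⟩
    exact mem_centralizer_singleton_iff.2 (P.zd i).symm
  exact (mem_centralizer_singleton_iff.1 (this hc)).symm

theorem D_d {c : G} (hc : c ∈ DD d) (i : Fin 3) : d i * c = c * d i := by
  have : DD d ≤ centralizer {d i} := by
    rw [DD, closure_le]
    rintro _ ⟨j, rfl⟩
    exact mem_centralizer_singleton_iff.2 (P.dd j i)
  exact (mem_centralizer_singleton_iff.1 (this hc)).symm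

theorem D_comm {a b : G} (ha : a ∈ DD d) (hb : b ∈ DD d) : a * b = b * a := by
  have : DD d ≤ centralizer {b} := by
    rw [DD, closure_le]
    rintro _ ⟨i, rfl⟩
    exact mem_centralizer_singleton_iff.2 (P.D_d hb i)
  exact mem_centralizer_singleton_iff.1 (this ha)

theorem d_mem (i : Fin 3) : d i ∈ DD d := subset_closure ⟨i, rfl⟩

theorem D3 {c : G} (hc : c ∈ DD d) : c ^ 3 = 1 := by
  induction hc using closure_induction with
  | mem x hx =>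
    obtain ⟨i, rfl⟩ := hx
    rw [pow_succ, pow_two]
    exact P.d3 i
  | one => exact one_pow 3
  | mul a b ha hb h1 h2 =>
    have hab : Commute a b := P.D_comm ha hb
    rw [hab.mul_pow, h1, h2, one_mul]
  | inv a ha h1 => rw [inv_pow, h1, inv_one]

theorem nf {c : G} (hc : c ∈ DD d) : ∃ a b e : ℤ, c = d 0 ^ a * d 1 ^ b * d 2 ^ e := by
  have c01 : Commute (d 0) (d 1) := P.dd 0 1
  have c02 : Commute (d 0) (d 2) := P.dd 0 2
  have c12 : Commute (d 1) (d 2) := P.dd 1 2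
  induction hc using closure_induction with
  | mem x hx =>
    obtain ⟨i, rfl⟩ := hx
    fin_cases i
    · exact ⟨1, 0, 0, by simp⟩
    · exact ⟨0, 1, 0, by simp⟩
    · exact ⟨0, 0, 1, by simp⟩
  | one => exact ⟨0, 0, 0, by simp⟩
  | mul x y hx hy h1 h2 =>
    obtain ⟨a, b, e, rfl⟩ := h1
    obtain ⟨a', b', e', rfl⟩ := h2
    refine ⟨a + a', b + b', e + e', ?_⟩
    rw [zpow_add, zpow_add, zpow_add]
    have e1 : d 2 ^ e * d 0 ^ a' = d 0 ^ a' * d 2 ^ e := (c02.symm.zpow_zpow e a').eq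
    have e2 : d 2 ^ e * d 1 ^ b' = d 1 ^ b' * d 2 ^ e := (c12.symm.zpow_zpow e b').eq
    have e3 : d 1 ^ b * d 0 ^ a' = d 0 ^ a' * d 1 ^ b := (c01.symm.zpow_zpow b a').eq
    calc d 0 ^ a * d 1 ^ b * d 2 ^ e * (d 0 ^ a' * d 1 ^ b' * d 2 ^ e')
        = d 0 ^ a * d 1 ^ b * (d 2 ^ e * d 0 ^ a') * d 1 ^ b' * d 2 ^ e' := by group
      _ = d 0 ^ a * (d 1 ^ b * d 0 ^ a') * (d 2 ^ e * d 1 ^ b') * d 2 ^ e' := by rw [e1]; group
      _ = d 0 ^ a * d 0 ^ a' * (d 1 ^ b * d 1 ^ b') * (d 2 ^ e * d 2 ^ e') := by rw [e2, e3]; group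
  | inv x hx h1 =>
    obtain ⟨a, b, e, rfl⟩ := h1
    refine ⟨-a, -b, -e, ?_⟩
    rw [zpow_neg, zpow_neg, zpow_neg, mul_inv_rev, mul_inv_rev]
    have e1 : Commute (d 2 ^ e)⁻¹ (d 1 ^ b)⁻¹ := (c12.symm.zpow_zpow e b).inv_inv
    have e2 : Commute (d 2 ^ e)⁻¹ (d 0 ^ a)⁻¹ := (c02.symm.zpow_zpow e a).inv_inv
    have e3 : Commute (d 1 ^ b)⁻¹ (d 0 ^ a)⁻¹ := (c01.symm.zpow_zpow b a).inv_inv
    rw [e1.mul_right e2 |>.eq, e3.eq]

/-- equality of normal forms -/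
theorem nf_inj {a b c a' b' c' : ℤ} (h : d 0 ^ a * d 1 ^ b * d 2 ^ c = d 0 ^ a' * d 1 ^ b' * d 2 ^ c') :
    (3 : ℤ) ∣ a - a' ∧ (3 : ℤ) ∣ b - b' ∧ (3 : ℤ) ∣ c - c' := by
  have c01 : Commute (d 0) (d 1) := P.dd 0 1
  have c02 : Commute (d 0) (d 2) := P.dd 0 2
  have c12 : Commute (d 1) (d 2) := P.dd 1 2
  apply P.ind
  rw [zpow_sub, zpow_sub, zpow_sub]
  have e1 : (d 0 ^ a')⁻¹ * (d 1 ^ b * (d 1 ^ b')⁻¹) = (d 1 ^ b * (d 1 ^ b')⁻¹) * (d 0 ^ a')⁻¹ :=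
    (((c01.zpow_zpow a' b).mul_right (c01.zpow_zpow a' b').inv_right).inv_left).eq
  have e2 : (d 0 ^ a')⁻¹ * (d 2 ^ c * (d 2 ^ c')⁻¹) = (d 2 ^ c * (d 2 ^ c')⁻¹) * (d 0 ^ a')⁻¹ :=
    (((c02.zpow_zpow a' c).mul_right (c02.zpow_zpow a' c').inv_right).inv_left).eq
  have e3 : (d 1 ^ b')⁻¹ * (d 2 ^ c * (d 2 ^ c')⁻¹) = (d 2 ^ c * (d 2 ^ c')⁻¹) * (d 1 ^ b')⁻¹ :=
    (((c12.zpow_zpow b' c).mul_right (c12.zpow_zpow b' c').inv_right).inv_left).eq
  calc d 0 ^ a * (d 0 ^ a')⁻¹ * (d 1 ^ b * (d 1 ^ b')⁻¹) * (d 2 ^ c * (d 2 ^ c')⁻¹)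
      = d 0 ^ a * ((d 0 ^ a')⁻¹ * (d 1 ^ b * (d 1 ^ b')⁻¹)) * (d 2 ^ c * (d 2 ^ c')⁻¹) := by group
    _ = d 0 ^ a * (d 1 ^ b * (d 1 ^ b')⁻¹) * ((d 0 ^ a')⁻¹ * (d 2 ^ c * (d 2 ^ c')⁻¹)) := by rw [e1]; group
    _ = d 0 ^ a * d 1 ^ b * ((d 1 ^ b')⁻¹ * (d 2 ^ c * (d 2 ^ c')⁻¹)) * (d 0 ^ a')⁻¹ := by rw [e2]; group
    _ = d 0 ^ a * d 1 ^ b * d 2 ^ c * (d 0 ^ a' * d 1 ^ b' * d 2 ^ c')⁻¹ := by rw [e3]; group
    _ = 1 := by rw [h, mul_inv_cancel]

theorem d_ne (i : Fin 3) : d i ≠ 1 := by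
  intro h
  fin_cases i
  · have := (P.ind 1 0 0 (by simpa using h)).1
    omega
  · have := (P.ind 0 1 0 (by simpa using h)).2.1
    omega
  · have := (P.ind 0 0 1 (by simpa using h)).2.2
    omega

/-- powers of different generators -/
theorem pw_ne {i j : Fin 3} {m n : ℤ} (h : d i ^ m = d j ^ n) (hm : ¬ (3 : ℤ) ∣ m) : i = j := by
  by_contra hij
  have key : ∀ i j : Fin 3, i ≠ j → d i ^ m = d j ^ n → (3 : ℤ) ∣ m := by
    intro i j hij h
    fin_cases i <;> fin_cases j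
    · exact absurd rfl hij
    · have := (P.nf_inj (a := m) (b := 0) (c := 0) (a' := 0) (b' := n) (c' := 0) (by simpa using h)).1
      omega
    · have := (P.nf_inj (a := m) (b := 0) (c := 0) (a' := 0) (b' := 0) (c' := n) (by simpa using h)).1
      omega
    · have := (P.nf_inj (a := 0) (b := m) (c := 0) (a' := n) (b' := 0) (c' := 0) (by simpa using h)).2.1
      omega
    · exact absurd rfl hij
    · have := (P.nf_inj (a := 0) (b := m) (c := 0) (a' := 0) (b' := 0) (c' := n) (by simpa using h)).2.1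
      omega
    · have := (P.nf_inj (a := 0) (b := 0) (c := m) (a' := n) (b' := 0) (c' := 0) (by simpa using h)).2.2
      omega
    · have := (P.nf_inj (a := 0) (b := 0) (c := m) (a' := 0) (b' := n) (c' := 0) (by simpa using h)).2.2
      omega
    · exact absurd rfl hij
  exact hm (key i j hij h)

theorem QL {q : G} (hq : q ∈ QQ z r d) : q ∈ L := by
  have : QQ z r d ≤ L := by
    rw [QQ, closure_le]
    rintro x (hx | ⟨c, hc, rfl⟩)
    · rw [Set.mem_singleton_iff.1 hx]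
      exact P.zL
    · exact mul_mem (mul_mem (P.DL hc) P.rL) (inv_mem (P.DL hc))
  exact this hq

theorem D_conj_Q {c q : G} (hc : c ∈ DD d) (hq : q ∈ QQ z r d) : c * q * c⁻¹ ∈ QQ z r d := by
  induction hq using closure_induction with
  | mem x hx =>
    rcases hx with hx | ⟨c', hc', rfl⟩
    · rw [Set.mem_singleton_iff.1 hx, ← P.D_z hc, mul_inv_cancel_right]
      exact subset_closure (Or.inl rfl)
    · refine subset_closure (Or.inr ⟨c * c', mul_mem hc hc', ?_⟩)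
      group
  | one => rw [mul_one, mul_inv_cancel]; exact one_mem _
  | mul x y _ _ h1 h2 =>
    have : c * (x * y) * c⁻¹ = (c * x * c⁻¹) * (c * y * c⁻¹) := by group
    rw [this]
    exact mul_mem h1 h2
  | inv x _ h1 =>
    have : c * x⁻¹ * c⁻¹ = (c * x * c⁻¹)⁻¹ := by group
    rw [this]
    exact inv_mem h1

/-- `Q D` -/
def QDs : Subgroup G where
  carrier := {x | ∃ q ∈ QQ z r d, ∃ c ∈ DD d, x = q * c}
  one_mem' := ⟨1, one_mem _, 1, one_mem _, (one_mul 1).symm⟩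
  mul_mem' := by
    rintro _ _ ⟨q, hq, c, hc, rfl⟩ ⟨q', hq', c', hc', rfl⟩
    refine ⟨q * (c * q' * c⁻¹), mul_mem hq (P.D_conj_Q hc hq'), c * c', mul_mem hc hc', ?_⟩
    group
  inv_mem' := by
    rintro _ ⟨q, hq, c, hc, rfl⟩
    refine ⟨c⁻¹ * q⁻¹ * c⁻¹⁻¹, P.D_conj_Q (inv_mem hc) (inv_mem hq), c⁻¹, inv_mem hc, ?_⟩
    group

theorem mem_QDs {x : G} : x ∈ P.QDs ↔ ∃ q ∈ QQ z r d, ∃ c ∈ DD d, x = q * c := Iff.rfl

/-- an element of `QD` of exponent 4 lies in `Q` -/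
theorem mem_Q_of_QDs {x : G} (hx : x ∈ P.QDs) (h4 : x ^ 4 = 1) : x ∈ QQ z r d := by
  obtain ⟨q, hq, c, hc, rfl⟩ := hx
  have h1 : ∀ n : ℕ, ∃ q' ∈ QQ z r d, (q * c) ^ n = q' * c ^ n := by
    intro n
    induction n with
    | zero => exact ⟨1, one_mem _, by simp⟩
    | succ n ih =>
      obtain ⟨q', hq', h⟩ := ih
      refine ⟨q' * (c ^ n * q * (c ^ n)⁻¹), mul_mem hq' (P.D_conj_Q (pow_mem hc n) hq), ?_⟩
      rw [pow_succ, h, pow_succ]
      group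
  obtain ⟨q', hq', h⟩ := h1 4
  have hc4 : c ^ 4 = c := by rw [pow_succ, P.D3 hc, one_mul]
  rw [h4, hc4] at h
  have hcQ : c ∈ QQ z r d := by
    have : c = q'⁻¹ := (inv_eq_of_mul_eq_one_right h.symm).symm
    rw [this]
    exact inv_mem hq'
  have hc1 : c = 1 := by
    have h2 := P.Q4 c hcQ
    have h3 : c ^ 4 = 1 := by
      rw [← h2]
      simp only [pow_succ, pow_zero, one_mul]
      group
    rwa [hc4] at h3
  rw [hc1, mul_one]
  exact hq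

/-- every element of `C(t) ∩ C(z)` normalises `Q` -/
theorem norm_Q {y : G} (hyt : y * t = t * y) (hyz : y * z = z * y) {q : G} (hq : q ∈ QQ z r d) :
    y * q * y⁻¹ ∈ QQ z r d := by
  set N : Subgroup G := closure {h | h ∈ L ∧ h * z = z * h ∧ h ^ 3 = 1} with hN
  have hinv : ∀ y : G, y * t = t * y → y * z = z * y → ∀ x ∈ N, y * x * y⁻¹ ∈ N := by
    intro y hyt hyz x hx
    rw [hN] at hx
    induction hx using closure_induction with
    | mem x hx =>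
      obtain ⟨h1, h2, h3⟩ := hx
      refine subset_closure ⟨P.LN y hyt x h1, ?_, ?_⟩
      · have hc1 : Commute y z := hyz
        have hc2 : Commute x z := h2
        exact ((hc1.mul_left hc2).mul_left hc1.inv_left).eq
      · rw [conj_pow, h3, mul_one, mul_inv_cancel]
    | one => rw [mul_one, mul_inv_cancel]; exact one_mem _
    | mul a b _ _ h1 h2 =>
      have : y * (a * b) * y⁻¹ = (y * a * y⁻¹) * (y * b * y⁻¹) := by group
      rw [this]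
      exact mul_mem h1 h2
    | inv a _ h1 =>
      have : y * a⁻¹ * y⁻¹ = (y * a * y⁻¹)⁻¹ := by group
      rw [this]
      exact inv_mem h1
  have hNQD : N ≤ P.QDs := by
    rw [hN, closure_le]
    rintro h ⟨h1, h2, h3⟩
    obtain ⟨q, hq, c, hc, h4⟩ := P.sq h h1 h2
    have h5 : h = h * h * (h * h) := by
      calc h = h ^ 3 * h := by rw [h3, one_mul]
        _ = h * h * (h * h) := by
          simp only [pow_succ, pow_zero, one_mul]
          group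
    rw [h5, h4]
    exact mul_mem (P.mem_QDs.2 ⟨q, hq, c, hc, rfl⟩) (P.mem_QDs.2 ⟨q, hq, c, hc, rfl⟩)
  have hDN : ∀ c ∈ DD d, c ∈ N := fun c hc => subset_closure ⟨P.DL hc, (P.D_z hc).symm, P.D3 hc⟩
  have hrt : r * t = t * r := (P.tL r P.rL).symm
  have hcr : ∀ c ∈ DD d, c * r * c⁻¹ * r⁻¹ ∈ N := by
    intro c hc
    have h1 := hinv r hrt P.zr.symm c⁻¹ (hDN _ (inv_mem hc))
    have h2 : c * r * c⁻¹ * r⁻¹ = c * (r * c⁻¹ * r⁻¹) := by group
    rw [h2]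
    exact mul_mem (hDN c hc) h1
  have hr : r ∈ N := by
    have h1 := hcr _ (P.d_mem 0)
    have h2 := hcr _ (inv_mem (P.d_mem 0))
    rw [inv_inv] at h2
    have h3 := P.rd 0
    have h4 := hinv r hrt P.zr.symm _ h1
    have h5 : r = ((r * (d 0 * r * (d 0)⁻¹ * r⁻¹) * r⁻¹) * ((d 0)⁻¹ * r * d 0 * r⁻¹))⁻¹ := by
      have hri : r⁻¹ = r := inv_eq_of_mul_eq_one_right P.rr
      rw [hri]
      have h6 : r * (d 0 * r * (d 0)⁻¹ * r) * r * ((d 0)⁻¹ * r * d 0 * r) = r := by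
        calc r * (d 0 * r * (d 0)⁻¹ * r) * r * ((d 0)⁻¹ * r * d 0 * r)
            = r * (d 0 * r * (d 0)⁻¹) * (r * r) * ((d 0)⁻¹ * r * d 0) * r := by group
          _ = r * (d 0 * r * (d 0)⁻¹) * ((d 0)⁻¹ * r * d 0) * r := by rw [P.rr, mul_one]
          _ = r := by rw [h3, one_mul]
      rw [h6, hri]
    rw [h5]
    exact inv_mem (mul_mem h4 h2)
  have hcrc : ∀ c ∈ DD d, c * r * c⁻¹ ∈ N := by
    intro c hc
    have := mul_mem (hcr c hc) hr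
    rwa [inv_mul_cancel_right] at this
  have hQN : QQ z r d ≤ N := by
    have h1 : closure {x | ∃ c ∈ DD d, x = c * r * c⁻¹} ≤ N := by
      rw [closure_le]
      rintro _ ⟨c, hc, rfl⟩
      exact hcrc c hc
    rw [QQ, closure_le]
    rintro x (hx | ⟨c, hc, rfl⟩)
    · rw [Set.mem_singleton_iff.1 hx]
      exact h1 P.zQ
    · exact hcrc c hc
  refine P.mem_Q_of_QDs (hNQD (hinv y hyt hyz q (hQN hq))) ?_
  rw [conj_pow]
  have h1 := P.Q4 q hq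
  have h2 : q ^ 4 = 1 := by
    rw [← h1]
    simp only [pow_succ, pow_zero, one_mul]
    group
  rw [h2, mul_one, mul_inv_cancel]

end basic

/-! ### a 3-subgroup containing `D` -/

theorem eq_sq_pow {y : G} {k : ℕ} (h : y ^ 3 ^ k = 1) : ∃ m : ℕ, y = (y * y) ^ m := by
  have h1 : Odd (3 ^ k) := Odd.pow (by decide)
  obtain ⟨n, hn⟩ := h1
  refine ⟨n + 1, ?_⟩
  rw [← pow_two, ← pow_mul]
  have h2 : 2 * (n + 1) = 3 ^ k + 1 := by omega
  rw [h2, pow_succ, h, one_mul]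

section three

variable (P : Pre t z r L Λ d) {P1 : Subgroup G} (h3 : ∀ x ∈ P1, ∃ k : ℕ, x ^ 3 ^ k = 1) (hD : DD d ≤ P1)
  (ht : ∀ x ∈ P1, x * t = t * x) (hz : ∀ x ∈ P1, x * z = z * x)

include P h3 hD ht hz

theorem step1 {y : G} (hy : y ∈ P1) (hyL : y ∈ L) : y ∈ DD d := by
  obtain ⟨q, hq, c, hc, h1⟩ := P.sq y hyL (hz y hy)
  obtain ⟨k, hk⟩ := h3 y hy
  obtain ⟨m, hm⟩ := eq_sq_pow hk
  have h2 : y ∈ P.QDs := by
    rw [hm, h1]
    exact pow_mem (P.mem_QDs.2 ⟨q, hq, c, hc, rfl⟩) m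
  obtain ⟨q', hq', c', hc', h4⟩ := P.mem_QDs.1 h2
  have h5 : q' ∈ P1 := by
    have : q' = y * c'⁻¹ := by rw [h4]; group
    rw [this]
    exact mul_mem hy (inv_mem (hD hc'))
  obtain ⟨j, hj⟩ := h3 q' h5
  have h6 : q' ^ 4 = 1 := by
    rw [← P.Q4 q' hq']
    simp only [pow_succ, pow_zero, one_mul]
    group
  have h7 : orderOf q' ∣ 1 := by
    have h8 := orderOf_dvd_of_pow_eq_one hj
    have h9 := orderOf_dvd_of_pow_eq_one h6
    have h10 : Nat.Coprime (3 ^ j) 4 := Nat.Coprime.pow_left j (by decide)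
    have := Nat.dvd_gcd h8 h9
    rwa [h10.gcd_eq_one] at this
  have h8 : q' = 1 := orderOf_eq_one_iff.1 (Nat.dvd_one.1 h7)
  rw [h4, h8, one_mul]
  exact hc'

theorem step2 {y : G} (hy : y ∈ P1) (hyΛ : y ∈ Λ) : y ∈ DD d := by
  obtain ⟨k, hk⟩ := h3 y hy
  rcases P.Λ2 y hyΛ with h1 | h1
  · obtain ⟨m, hm⟩ := eq_sq_pow hk
    have h2 := step1 P h3 hD ht hz (mul_mem hy hy) h1
    rw [hm]
    exact pow_mem h2 m
  · exfalso
    apply P.t_notMem
    have hc : Commute t (y * y) := by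
      have : Commute t y := (ht y hy).symm
      exact this.mul_right this
    have h2 : (t * (y * y)) ^ 3 ^ k = t := by
      rw [hc.mul_pow, ← pow_two y, ← pow_mul, mul_comm 2, pow_mul, hk, one_pow, mul_one]
      have h4 : Odd (3 ^ k) := Odd.pow (by decide)
      obtain ⟨n, hn⟩ := h4
      rw [hn, pow_succ, pow_mul, pow_two, P.tt, one_pow, one_mul]
    rw [← h2]
    exact pow_mem h1 _

theorem step3 {y e : G} (hy : y ∈ P1) (he : e ∈ DD d) : y * e * y⁻¹ ∈ DD d :=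
  step1 P h3 hD ht hz (mul_mem (mul_mem hy (hD he)) (inv_mem hy)) (P.LN y (ht y hy) e (P.DL he))

theorem step5 {y : G} (hy : y ∈ P1) (i : Fin 3) :
    ∃ j : Fin 3, ∃ s : ℤ, (s = 1 ∨ s = -1) ∧ y * d i * y⁻¹ = d j ^ s := by
  by_contra hcon'
  have hcon : ∀ (j : Fin 3) (s : ℤ), (s = 1 ∨ s = -1) → y * d i * y⁻¹ ≠ d j ^ s :=
    fun j s hs h => hcon' ⟨j, s, hs, h⟩
  have h1 := step3 P h3 hD ht hz hy (P.d_mem i)
  have h2 : y * d i * y⁻¹ ≠ 1 := by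
    intro h
    apply P.d_ne i
    have : d i = y⁻¹ * (y * d i * y⁻¹) * y := by group
    rw [this, h]
    group
  obtain ⟨q, hq, hq1, hqz, hqc⟩ := P.Qc _ h1 h2 (fun j => by
    refine ⟨fun h => hcon j 1 (Or.inl rfl) ?_, fun h => hcon j (-1) (Or.inr rfl) ?_⟩
    · rw [zpow_one]; exact h
    · rw [zpow_neg_one]; exact h)
  have hyi := inv_mem hy
  have h4 := P.norm_Q (ht _ hyi) (hz _ hyi) hq
  rw [inv_inv] at h4
  have h5 : y⁻¹ * q * y * d i = d i * (y⁻¹ * q * y) := by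
    calc y⁻¹ * q * y * d i = y⁻¹ * (q * (y * d i * y⁻¹)) * y := by group
      _ = y⁻¹ * (y * d i * y⁻¹ * q) * y := by rw [hqc]
      _ = d i * (y⁻¹ * q * y) := by group
  have h6 : q = y * (y⁻¹ * q * y) * y⁻¹ := by group
  rcases P.Qd i _ h4 h5 with h | h
  · apply hq1
    rw [h6, h]
    group
  · apply hqz
    rw [h6, h, hz y hy, mul_inv_cancel_right]

end three

section count

variable (P : Pre t z r L Λ d)

include P

theorem zpow_eq {a b : ℤ} (i : Fin 3) (h : (3 : ℤ) ∣ a - b) : d i ^ a = d i ^ b := by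
  obtain ⟨k, hk⟩ := h
  have h1 : a = b + 3 * k := by omega
  have h2 : d i ^ (3 : ℤ) = 1 := by
    have := P.D3 (P.d_mem i)
    exact_mod_cast this
  rw [h1, zpow_add, zpow_mul, h2, one_zpow, mul_one]

theorem card_D [Finite G] : 27 ≤ Nat.card (DD d) := by
  have h : Nat.card (Fin 3 × Fin 3 × Fin 3) ≤ Nat.card (DD d) := by
    refine Nat.card_le_card_of_injective (fun p : Fin 3 × Fin 3 × Fin 3 =>
      (⟨d 0 ^ (p.1.val : ℤ) * d 1 ^ (p.2.1.val : ℤ) * d 2 ^ (p.2.2.val : ℤ),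
        mul_mem (mul_mem (zpow_mem (P.d_mem 0) _) (zpow_mem (P.d_mem 1) _)) (zpow_mem (P.d_mem 2) _)⟩ : DD d)) ?_
    rintro ⟨a, b, c⟩ ⟨a', b', c'⟩ hab
    have h1 := P.nf_inj (congrArg Subtype.val hab)
    dsimp only at h1
    obtain ⟨h2, h3, h4⟩ := h1
    have ha := a.2
    have ha' := a'.2
    have hb := b.2
    have hb' := b'.2
    have hc := c.2
    have hc' := c'.2
    have e1 : a = a' := Fin.ext (by omega)
    have e2 : b = b' := Fin.ext (by omega)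
    have e3 : c = c' := Fin.ext (by omega)
    rw [e1, e2, e3]
  rw [Nat.card_eq_fintype_card, Fintype.card_prod, Fintype.card_prod, Fintype.card_fin] at h
  omega

theorem TZ_sq {s : G} (hs : TZ t z s) : s * s = 1 := by
  have htz : t * z = z * t := P.tL z P.zL
  rcases hs with rfl | rfl | rfl | rfl
  · exact mul_one _
  · exact P.tt
  · exact P.zz
  · calc t * z * (t * z) = t * (z * t) * z := by group
      _ = (t * t) * (z * z) := by rw [← htz]; group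
      _ = 1 := by rw [P.tt, P.zz, one_mul]

theorem TZ_comm {s c : G} (hs : TZ t z s) (hc : c ∈ DD d) : Commute s c := by
  have h1 : Commute t c := P.tL c (P.DL hc)
  have h2 : Commute z c := P.D_z hc
  rcases hs with rfl | rfl | rfl | rfl
  · exact Commute.one_left c
  · exact h1
  · exact h2
  · exact h1.mul_left h2

/-- an element of order 3 centralising `D` lies in `D` -/
theorem mem_of_comm {b : G} (ht : b * t = t * b) (hz : b * z = z * b) (h3 : b ^ 3 = 1)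
    (hb : ∀ i, b * d i = d i * b) : b ∈ DD d := by
  obtain ⟨s, hs, c, hc, h1⟩ := P.cD b ht hz hb
  have h2 : b ^ 3 = s := by
    rw [h1, (P.TZ_comm hs hc).mul_pow, P.D3 hc, mul_one, pow_succ, pow_two, P.TZ_sq hs, one_mul]
  rw [h3] at h2
  rw [h1, ← h2, one_mul]
  exact hc

/-- the centraliser in `D` of an element permuting the `⟨d i⟩` as a 3-cycle -/
theorem card_cent [Finite G] {b : G} {π : Fin 3 → Fin 3} {s : Fin 3 → ℤ}
    (h : ∀ i, b * d i * b⁻¹ = d (π i) ^ s i)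
    (hπ : (π 0 = 1 ∧ π 1 = 2 ∧ π 2 = 0) ∨ (π 0 = 2 ∧ π 2 = 1 ∧ π 1 = 0)) :
    Nat.card (DD d ⊓ centralizer {b} : Subgroup G) ≤ 3 := by
  have c01 : Commute (d 0) (d 1) := P.dd 0 1
  have c02 : Commute (d 0) (d 2) := P.dd 0 2
  have c12 : Commute (d 1) (d 2) := P.dd 1 2
  have hconj : ∀ (i : Fin 3) (a : ℤ), b * d i ^ a * b⁻¹ = d (π i) ^ (s i * a) := by
    intro i a
    rw [← conj_zpow, h, ← zpow_mul]
  have hconj3 : ∀ a0 a1 a2 : ℤ, b * (d 0 ^ a0 * d 1 ^ a1 * d 2 ^ a2) * b⁻¹ =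
      d (π 0) ^ (s 0 * a0) * d (π 1) ^ (s 1 * a1) * d (π 2) ^ (s 2 * a2) := by
    intro a0 a1 a2
    rw [← hconj, ← hconj, ← hconj]
    group
  -- relations between the exponents of an element centralised by `b`
  have hrel1 : (π 0 = 1 ∧ π 1 = 2 ∧ π 2 = 0) → ∀ a0 a1 a2 : ℤ,
      b * (d 0 ^ a0 * d 1 ^ a1 * d 2 ^ a2) * b⁻¹ = d 0 ^ a0 * d 1 ^ a1 * d 2 ^ a2 →
      (3 : ℤ) ∣ s 0 * a0 - a1 ∧ (3 : ℤ) ∣ s 1 * a1 - a2 := by
    rintro ⟨p0, p1, p2⟩ a0 a1 a2 h1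
    rw [hconj3, p0, p1, p2] at h1
    have e : d 1 ^ (s 0 * a0) * d 2 ^ (s 1 * a1) * d 0 ^ (s 2 * a2) =
        d 0 ^ (s 2 * a2) * d 1 ^ (s 0 * a0) * d 2 ^ (s 1 * a1) := by
      have e1 : Commute (d 1 ^ (s 0 * a0) * d 2 ^ (s 1 * a1)) (d 0 ^ (s 2 * a2)) :=
        (c01.symm.zpow_zpow _ _).mul_left (c02.symm.zpow_zpow _ _)
      rw [e1.eq, mul_assoc]
    rw [e] at h1
    have h2 := P.nf_inj h1
    exact ⟨h2.2.1, h2.2.2⟩
  have hrel2 : (π 0 = 2 ∧ π 2 = 1 ∧ π 1 = 0) → ∀ a0 a1 a2 : ℤ,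
      b * (d 0 ^ a0 * d 1 ^ a1 * d 2 ^ a2) * b⁻¹ = d 0 ^ a0 * d 1 ^ a1 * d 2 ^ a2 →
      (3 : ℤ) ∣ s 0 * a0 - a2 ∧ (3 : ℤ) ∣ s 2 * a2 - a1 := by
    rintro ⟨p0, p2, p1⟩ a0 a1 a2 h1
    rw [hconj3, p0, p1, p2] at h1
    have e : d 2 ^ (s 0 * a0) * d 0 ^ (s 1 * a1) * d 1 ^ (s 2 * a2) =
        d 0 ^ (s 1 * a1) * d 1 ^ (s 2 * a2) * d 2 ^ (s 0 * a0) := by
      have e1 : Commute (d 2 ^ (s 0 * a0)) (d 0 ^ (s 1 * a1) * d 1 ^ (s 2 * a2)) :=
        (c02.symm.zpow_zpow _ _).mul_right (c12.symm.zpow_zpow _ _)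
      rw [mul_assoc, e1.eq]
    rw [e] at h1
    have h2 := P.nf_inj h1
    exact ⟨h2.2.2, h2.2.1⟩
  have hms : ∀ u a c : ℤ, (3 : ℤ) ∣ a - c → (3 : ℤ) ∣ u * a - u * c := by
    intro u a c h1
    rw [← mul_sub]
    exact Dvd.dvd.mul_left h1 _
  have hex : ∀ x : (DD d ⊓ centralizer {b} : Subgroup G), ∃ a : ℤ × ℤ × ℤ,
      (x : G) = d 0 ^ a.1 * d 1 ^ a.2.1 * d 2 ^ a.2.2 := by
    intro x
    obtain ⟨a, b, c, h1⟩ := P.nf (mem_inf.1 x.2).1
    exact ⟨(a, b, c), h1⟩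
  choose f hf using hex
  have hfb : ∀ x : (DD d ⊓ centralizer {b} : Subgroup G), b * (x : G) * b⁻¹ = x := by
    intro x
    have h1 := mem_centralizer_singleton_iff.1 (mem_inf.1 x.2).2
    rw [← h1, mul_inv_cancel_right]
  have hle : Nat.card (DD d ⊓ centralizer {b} : Subgroup G) ≤ Nat.card (ZMod 3) := by
    refine Nat.card_le_card_of_injective (fun x => (((f x).1 : ℤ) : ZMod 3)) ?_
    intro x y hxy
    have h0 : (3 : ℤ) ∣ (f y).1 - (f x).1 := (ZMod.intCast_eq_intCast_iff_dvd_sub _ _ 3).1 hxy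
    have hx := hfb x
    have hy := hfb y
    rw [hf x] at hx
    rw [hf y] at hy
    apply Subtype.ext
    rw [hf x, hf y]
    have h0' : (3 : ℤ) ∣ (f x).1 - (f y).1 := by omega
    have e0 := hms (s 0) _ _ h0'
    have hfin : (3 : ℤ) ∣ (f x).2.1 - (f y).2.1 → (3 : ℤ) ∣ (f x).2.2 - (f y).2.2 →
        d 0 ^ (f x).1 * d 1 ^ (f x).2.1 * d 2 ^ (f x).2.2 = d 0 ^ (f y).1 * d 1 ^ (f y).2.1 * d 2 ^ (f y).2.2 := by
      intro h1 h2
      rw [P.zpow_eq 0 h0', P.zpow_eq 1 h1, P.zpow_eq 2 h2]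
    rcases hπ with hp | hp
    · obtain ⟨x1, x2⟩ := hrel1 hp _ _ _ hx
      obtain ⟨y1, y2⟩ := hrel1 hp _ _ _ hy
      have e1 : (3 : ℤ) ∣ (f x).2.1 - (f y).2.1 := by
        have e2 := dvd_sub (dvd_add e0 y1) x1
        have e3 : s 0 * (f x).1 - s 0 * (f y).1 + (s 0 * (f y).1 - (f y).2.1) - (s 0 * (f x).1 - (f x).2.1) =
            (f x).2.1 - (f y).2.1 := by ring
        rwa [e3] at e2
      have e4 := hms (s 1) _ _ e1
      refine hfin e1 ?_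
      have e2 := dvd_sub (dvd_add e4 y2) x2
      have e3 : s 1 * (f x).2.1 - s 1 * (f y).2.1 + (s 1 * (f y).2.1 - (f y).2.2) - (s 1 * (f x).2.1 - (f x).2.2) =
          (f x).2.2 - (f y).2.2 := by ring
      rwa [e3] at e2
    · obtain ⟨x1, x2⟩ := hrel2 hp _ _ _ hx
      obtain ⟨y1, y2⟩ := hrel2 hp _ _ _ hy
      have e1 : (3 : ℤ) ∣ (f x).2.2 - (f y).2.2 := by
        have e2 := dvd_sub (dvd_add e0 y1) x1
        have e3 : s 0 * (f x).1 - s 0 * (f y).1 + (s 0 * (f y).1 - (f y).2.2) - (s 0 * (f x).1 - (f x).2.2) =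
            (f x).2.2 - (f y).2.2 := by ring
        rwa [e3] at e2
      have e4 := hms (s 2) _ _ e1
      refine hfin ?_ e1
      have e2 := dvd_sub (dvd_add e4 y2) x2
      have e3 : s 2 * (f x).2.2 - s 2 * (f y).2.2 + (s 2 * (f y).2.2 - (f y).2.1) - (s 2 * (f x).2.2 - (f x).2.1) =
          (f x).2.1 - (f y).2.1 := by ring
      rwa [e3] at e2
  rw [Nat.card_eq_fintype_card (α := ZMod 3), ZMod.card] at hle
  exact hle

end count

/-! ### the end -/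

theorem perm_three : ∀ π : Fin 3 → Fin 3, (∀ i, π (π (π i)) = i) →
    (∀ i, π i = i) ∨ (π 0 = 1 ∧ π 1 = 2 ∧ π 2 = 0) ∨ (π 0 = 2 ∧ π 2 = 1 ∧ π 1 = 0) := by
  decide

/-- an abelian subgroup of exponent 3 and order `|D|` of the Sylow 3-subgroup lies in `D` -/
theorem le_D [Finite G] (P : Pre t z r L Λ d) {P1 : Subgroup G} (h3 : ∀ x ∈ P1, ∃ k : ℕ, x ^ 3 ^ k = 1)
    (hD : DD d ≤ P1) (ht : ∀ x ∈ P1, x * t = t * x) (hz : ∀ x ∈ P1, x * z = z * x) {E : Subgroup G} (hE : E ≤ P1)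
    (hEc : ∀ x ∈ E, ∀ y ∈ E, x * y = y * x) (hE3 : ∀ x ∈ E, x ^ 3 = 1) (hEcard : Nat.card E = Nat.card (DD d)) :
    E ≤ DD d := by
  intro b hb
  by_contra hbD
  have hbP := hE hb
  -- the action on the `d i`
  have h5 := fun i => step5 P h3 hD ht hz hbP i
  choose π s hs hπ using h5
  have hconj : ∀ (i : Fin 3) (a : ℤ), b * d i ^ a * b⁻¹ = d (π i) ^ (s i * a) := by
    intro i a
    rw [← conj_zpow, hπ, ← zpow_mul]
  have hb3 := hE3 b hb
  have hccc : ∀ i, d i = d (π (π (π i))) ^ (s (π (π i)) * (s (π i) * s i)) := by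
    intro i
    have h1 : b * (b * (b * d i * b⁻¹) * b⁻¹) * b⁻¹ = d i := by
      have h2 : b * (b * (b * d i * b⁻¹) * b⁻¹) * b⁻¹ = b ^ 3 * d i * (b ^ 3)⁻¹ := by
        simp only [pow_succ, pow_zero, one_mul]
        group
      rw [h2, hb3, one_mul, inv_one, mul_one]
    rw [hπ, hconj, hconj] at h1
    exact h1.symm
  have hsi : ∀ i, s i * s i = 1 := by
    intro i
    rcases hs i with h | h <;> rw [h] <;> norm_num
  have hπ3 : ∀ i, π (π (π i)) = i := by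
    intro i
    have h1 : d i ^ (1 : ℤ) = d (π (π (π i))) ^ (s (π (π i)) * (s (π i) * s i)) := by
      rw [zpow_one]
      exact hccc i
    exact (P.pw_ne h1 (by norm_num)).symm
  have hcyc := (perm_three π hπ3).resolve_left (by
    intro hid
    apply hbD
    refine P.mem_of_comm (ht b hbP) (hz b hbP) hb3 fun i => ?_
    have h1 := hccc i
    rw [hid i, hid i, hid i, hsi i, mul_one] at h1
    have h2 : s i = 1 := by
      rcases hs i with h | h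
      · exact h
      · exfalso
        rw [h, zpow_neg_one] at h1
        have h4 : d i * d i = 1 := by
          calc d i * d i = (d i)⁻¹ * d i := by rw [← h1]
            _ = 1 := inv_mul_cancel _
        have h6 := P.d3 i
        rw [h4, one_mul] at h6
        exact P.d_ne i h6
    have h4 := hπ i
    rw [hid i, h2, zpow_one] at h4
    exact mul_inv_eq_iff_eq_mul.1 h4)
  have hC := P.card_cent hπ hcyc
  -- `E ⊓ Λ ≤ C_D(b)`
  have hle : E ⊓ Λ ≤ DD d ⊓ centralizer {b} := by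
    intro x hx
    refine mem_inf.2 ⟨step2 P h3 hD ht hz (hE (mem_inf.1 hx).1) (mem_inf.1 hx).2, ?_⟩
    exact mem_centralizer_singleton_iff.2 (hEc x (mem_inf.1 hx).1 b hb)
  have hc1 : Nat.card (E ⊓ Λ : Subgroup G) ≤ 3 := (Subgroup.card_le_of_le hle).trans hC
  have hEt : E ≤ centralizer {t} := fun x hx => mem_centralizer_singleton_iff.2 (ht x (hE hx))
  have hidx : Λ.relIndex E ≤ 3 := by
    refine le_trans (relIndex_le_of_le_right hEt ?_) P.Λi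
    exact index_ne_zero_of_finite
  have hcard : Nat.card E = Nat.card (E ⊓ Λ : Subgroup G) * Λ.relIndex E := by
    rw [relIndex, ← card_mul_index (Λ.subgroupOf E)]
    congr 1
    rw [← inf_subgroupOf_left]
    exact Nat.card_congr (subgroupOfEquivOfLe inf_le_left).toEquiv
  have h27 := P.card_D
  rw [← hEcard, hcard] at h27
  have := Nat.mul_le_mul hc1 hidx
  omega

theorem frat [Finite G] (P : Pre t z r L Λ d) : ∀ g : G, g * z * g⁻¹ = z → g * t * g⁻¹ = t * z →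
    ∃ c : G, c * t = t * c ∧ c * z = z * c ∧ ∀ e ∈ DD d, (c * g) * e * (c * g)⁻¹ ∈ DD d := by
  intro g hgz hgt
  haveI : Fact (Nat.Prime 3) := ⟨by norm_num⟩
  set Γ : Subgroup G := centralizer {t} ⊓ centralizer {z} with hΓ
  have hmΓ : ∀ x, x ∈ Γ ↔ x * t = t * x ∧ x * z = z * x := by
    intro x
    rw [hΓ, mem_inf, mem_centralizer_singleton_iff, mem_centralizer_singleton_iff]
  have hDΓ : DD d ≤ Γ := fun x hx => (hmΓ x).2 ⟨(P.tL x (P.DL hx)).symm, (P.D_z hx).symm⟩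
  set E : Subgroup G := (DD d).map (MulAut.conj g).toMonoidHom with hEdef
  have hmE : ∀ x ∈ DD d, g * x * g⁻¹ ∈ E := fun x hx => ⟨x, hx, rfl⟩
  have hEΓ : E ≤ Γ := by
    rintro _ ⟨x, hx, rfl⟩
    change g * x * g⁻¹ ∈ Γ
    obtain ⟨h1, h2⟩ := (hmΓ x).1 (hDΓ hx)
    have hz' : g * x * g⁻¹ * z = z * (g * x * g⁻¹) := by
      calc g * x * g⁻¹ * z = g * x * g⁻¹ * (g * z * g⁻¹) := by rw [hgz]
        _ = g * (x * z) * g⁻¹ := by group
        _ = g * (z * x) * g⁻¹ := by rw [h2]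
        _ = g * z * g⁻¹ * (g * x * g⁻¹) := by group
        _ = z * (g * x * g⁻¹) := by rw [hgz]
    have htz' : g * x * g⁻¹ * (t * z) = t * z * (g * x * g⁻¹) := by
      calc g * x * g⁻¹ * (t * z) = g * x * g⁻¹ * (g * t * g⁻¹) := by rw [hgt]
        _ = g * (x * t) * g⁻¹ := by group
        _ = g * (t * x) * g⁻¹ := by rw [h1]
        _ = g * t * g⁻¹ * (g * x * g⁻¹) := by group
        _ = t * z * (g * x * g⁻¹) := by rw [hgt]
    refine (hmΓ _).2 ⟨?_, hz'⟩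
    have ht0 : t = t * z * z := by rw [mul_assoc, P.zz, mul_one]
    have hA : Commute (g * x * g⁻¹) (t * z) := htz'
    have hB : Commute (g * x * g⁻¹) z := hz'
    have hC := hA.mul_right hB
    rw [← ht0] at hC
    exact hC.eq
  have hE3 : ∀ x ∈ E, x ^ 3 = 1 := by
    rintro _ ⟨x, hx, rfl⟩
    rw [← map_pow, P.D3 hx, map_one]
  have hpD : IsPGroup 3 ((DD d).subgroupOf Γ) := by
    intro x
    refine ⟨1, ?_⟩
    rw [pow_one]
    apply Subtype.ext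
    apply Subtype.ext
    have := P.D3 x.2
    exact this
  have hpE : IsPGroup 3 (E.subgroupOf Γ) := by
    intro x
    refine ⟨1, ?_⟩
    rw [pow_one]
    apply Subtype.ext
    apply Subtype.ext
    have := hE3 _ x.2
    exact this
  obtain ⟨Q1, hQ1⟩ := hpD.exists_le_sylow
  obtain ⟨Q2, hQ2⟩ := hpE.exists_le_sylow
  obtain ⟨c, hc⟩ := MulAction.exists_smul_eq Γ Q2 Q1
  set P1 : Subgroup G := (Q1 : Subgroup Γ).map Γ.subtype with hP1
  have hP1Γ : P1 ≤ Γ := by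
    rintro _ ⟨x, -, rfl⟩
    exact x.2
  have h3 : ∀ x ∈ P1, ∃ k : ℕ, x ^ 3 ^ k = 1 := by
    rintro _ ⟨x, hx, rfl⟩
    obtain ⟨k, hk⟩ := Q1.isPGroup' ⟨x, hx⟩
    refine ⟨k, ?_⟩
    have h1 : x ^ 3 ^ k = 1 := congrArg Subtype.val hk
    have h2 := congrArg (Subtype.val : Γ → G) h1
    exact h2
  have hDP : DD d ≤ P1 := fun x hx => ⟨⟨x, hDΓ hx⟩, hQ1 hx, rfl⟩
  have ht : ∀ x ∈ P1, x * t = t * x := fun x hx => ((hmΓ x).1 (hP1Γ hx)).1
  have hz : ∀ x ∈ P1, x * z = z * x := fun x hx => ((hmΓ x).1 (hP1Γ hx)).2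
  have hcE : ∀ x ∈ E, (c : G) * x * (c : G)⁻¹ ∈ P1 := by
    intro x hx
    have h1 : (⟨x, hEΓ hx⟩ : Γ) ∈ (Q2 : Subgroup Γ) := hQ2 hx
    have h2 : c * ⟨x, hEΓ hx⟩ * c⁻¹ ∈ (Q1 : Subgroup Γ) := by
      rw [← hc, Sylow.coe_subgroup_smul]
      exact ⟨_, h1, rfl⟩
    exact ⟨_, h2, rfl⟩
  set E1 : Subgroup G := (DD d).map (MulAut.conj ((c : G) * g)).toMonoidHom with hE1
  have hmE1 : ∀ x ∈ DD d, (c : G) * g * x * ((c : G) * g)⁻¹ ∈ E1 := fun x hx => ⟨x, hx, rfl⟩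
  have hE1P : E1 ≤ P1 := by
    rintro _ ⟨x, hx, rfl⟩
    have h1 := hcE _ (hmE x hx)
    have h2 : (c : G) * (g * x * g⁻¹) * (c : G)⁻¹ = (MulAut.conj ((c : G) * g)).toMonoidHom x := by
      change _ = (c : G) * g * x * ((c : G) * g)⁻¹
      group
    rw [← h2]
    exact h1
  have hle := le_D P h3 hDP ht hz (E := E1) hE1P (by
      rintro _ ⟨x, hx, rfl⟩ _ ⟨y, hy, rfl⟩
      rw [← map_mul, ← map_mul, P.D_comm hx hy]) (by
      rintro _ ⟨x, hx, rfl⟩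
      rw [← map_pow, P.D3 hx, map_one])
    (card_map_of_injective (MulAut.conj ((c : G) * g)).injective)
  obtain ⟨h1, h2⟩ := (hmΓ c).1 c.2
  exact ⟨c, h1, h2, fun e he => hle (hmE1 e he)⟩

end Pre

end Cfsg.Agent.StdO8.Frat
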