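import Mathlib
import Cfsg.Agent.StdO8.FactH
import Cfsg.Agent.StdO8.Frat

/-!
# `DoubCore.Core` for the context of `Ω₈⁺(2)`
-/

set_option autoImplicit false

namespace Cfsg.Agent.StdO8.FactI

open Cfsg.Agent.StdO8.Model Cfsg.Agent.StdO8.Code Cfsg.Agent.StdO8.Gen Cfsg.Agent.StdO8.FactD
open Cfsg.Agent.StdO8.Aut Cfsg.Agent.StdO8.Frame Cfsg.Agent.StdO8.FactH
open Cfsg.Agent.StdO8.DoubCore (DD QQ TZ)
open Cfsg.Agent.StdO8.DoubRoot (zr rr al dd ta)
open Cfsg.Agent.StdO8.DataOf (x xm)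

variable {G : Type*} [Group G] (C : Ctx G)

/-- The action of `C(t)` on `Om`. -/
noncomputable def act : Subgroup.centralizer {C.t} →* MulAut Om :=
  MonoidHom.mk' (fun g => (C.norm g.1 (Subgroup.mem_centralizer_singleton_iff.1 g.2)).choose) (by
    intro g h
    ext m : 1
    apply C.inj
    have e1 := (C.norm g.1 (Subgroup.mem_centralizer_singleton_iff.1 g.2)).choose_spec
    have e2 := (C.norm h.1 (Subgroup.mem_centralizer_singleton_iff.1 h.2)).choose_spec
    have e3 := (C.norm (g * h).1 (Subgroup.mem_centralizer_singleton_iff.1 (g * h).2)).choose_spec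
    rw [← e3, MulAut.mul_apply, ← e1, ← e2]
    show (g : G) * h * C.r m * ((g : G) * h)⁻¹ = _
    group)

theorem act_spec (g : Subgroup.centralizer {C.t}) (m : Om) : (g : G) * C.r m * (g : G)⁻¹ = C.r (act C g m) :=
  (C.norm g.1 (Subgroup.mem_centralizer_singleton_iff.1 g.2)).choose_spec m

theorem lin_relIndex : (Lin C.t C.r).relIndex (Subgroup.centralizer {C.t}) ≤ 3 := by
  have e : (Lin C.t C.r).subgroupOf (Subgroup.centralizer {C.t}) = (cj.range).comap (act C) := by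
    ext g
    constructor
    · rintro ⟨-, M, hM⟩
      refine ⟨M, ?_⟩
      ext m : 1
      apply C.inj
      rw [← act_spec]
      exact (hM m).symm
    · rintro ⟨M, hM⟩
      refine ⟨Subgroup.mem_centralizer_singleton_iff.1 g.2, M, fun m => ?_⟩
      rw [hM]
      exact act_spec C g m
  rw [Subgroup.relIndex, e, Subgroup.index_comap]
  have h1 : cj.range.relIndex ⊤ = 3 := by rw [Subgroup.relIndex_top_right, index_range]
  have h2 := Subgroup.relIndex_le_of_le_right (H := cj.range) (le_top : (act C).range ≤ ⊤)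
    (by rw [h1]; norm_num)
  rw [h1] at h2
  exact h2

theorem lin_sq {g : G} (hg : g ∈ Lin C.t C.r) : g * g ∈ C.L ∨ C.t * (g * g) ∈ C.L := by
  obtain ⟨M, hM⟩ := C.mem_Lin.1 hg
  have h1 := hM.mul hM
  have h2 : ((M * M : O8) : V ≃ₗ[ZMod 2] V) = ((⟨(M : V ≃ₗ[ZMod 2] V) * M, FactG.sq_mem_Om M.2⟩ : Om) :
      V ≃ₗ[ZMod 2] V) := rfl
  rcases DataOf.eq_of_isLin C h1 h2 with h | h
  · left; rw [h]; exact C.r_mem _
  · right; rw [h, ← mul_assoc, C.tt, one_mul]; exact C.r_mem _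

theorem pre : Frat.Pre C.t (C.r zO) (C.r rO) C.L (Lin C.t C.r) (fun i => C.r (dO i)) where
  tt := C.tt
  tL := by
    rintro _ ⟨m, rfl⟩
    exact (C.comm m).eq.symm
  t_notMem := C.t_notMem
  zL := C.r_mem _
  rL := C.r_mem _
  dL := fun i => C.r_mem _
  z1 := by rw [← map_one C.r]; exact rne C FactG.z1
  zz := by rw [← map_mul, FactG.zz, map_one]
  rr := by rw [← map_mul, FactG.rr, map_one]
  zr := by rw [← map_mul, FactG.zr, map_mul]
  d3 := fun i => by rw [← map_mul, ← map_mul, FactG.d3, map_one]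
  zd := fun i => by rw [← map_mul, FactG.zd, map_mul]
  dd := fun i j => by rw [← map_mul, FactG.dd, map_mul]
  rd := fun i => by
    have := congrArg C.r (FactG.rd i)
    rw [map_mul, map_mul, map_mul, map_mul, map_mul, map_mul, map_inv, map_one] at this
    exact this
  LN := by
    rintro g hg _ ⟨m, rfl⟩
    obtain ⟨α, hα⟩ := C.norm g hg
    rw [hα]
    exact C.r_mem _
  sq := by
    rintro _ ⟨m, rfl⟩ h
    rw [← map_mul, ← map_mul] at h
    obtain ⟨a, ha, c, hc, e⟩ := FactG.sq (C.inj h)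
    exact ⟨C.r a, (mem_QQ C).2 ⟨a, ha, rfl⟩, C.r c, (mem_DD C).2 ⟨c, hc, rfl⟩, by rw [← map_mul, e, map_mul]⟩
  Q4 := by
    intro q hq
    obtain ⟨a, ha, rfl⟩ := (mem_QQ C).1 hq
    rw [← map_mul, ← map_mul, FactF.Q4 ha, map_one]
  zQ := by
    have h : C.r zO ∈ (Subgroup.closure {x | ∃ c ∈ DD dO, x = c * rO * c⁻¹}).map C.r := ⟨zO, FactF.zQ, rfl⟩
    rw [MonoidHom.map_closure] at h
    refine Subgroup.closure_mono ?_ h
    rintro _ ⟨_, ⟨c, hc, rfl⟩, rfl⟩
    exact ⟨C.r c, (mem_DD C).2 ⟨c, hc, rfl⟩, by rw [map_mul, map_mul, map_inv]⟩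
  ind := by
    intro a b c h
    apply FactF.ind
    apply C.inj
    rw [map_mul, map_mul, map_zpow, map_zpow, map_zpow, map_one]
    exact h
  cD := fun g h1 h2 h3 => cD C h1 h2 h3
  Qd := by
    intro i q hq h
    obtain ⟨a, ha, rfl⟩ := (mem_QQ C).1 hq
    rw [← map_mul, ← map_mul] at h
    rcases Cfsg.Agent.StdO8.FactE.Qd (QQ_le_U ha) i (C.inj h) with h | h
    · left; rw [h, map_one]
    · right; rw [h]
  Qc := by
    intro c hc h1 h2
    obtain ⟨b, hb, rfl⟩ := (mem_DD C).1 hc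
    obtain ⟨a, ha, e1, e2, e3⟩ := Cfsg.Agent.StdO8.FactF.Qc hb (fun h => h1 (by rw [h, map_one]))
      (fun i => ⟨fun h => (h2 i).1 (by rw [h]), fun h => (h2 i).2 (by rw [h, map_inv])⟩)
    refine ⟨C.r a, (mem_QQ C).2 ⟨a, ha, rfl⟩, ?_, rne C e2, by rw [← map_mul, e3, map_mul]⟩
    rw [← map_one C.r]; exact rne C e1
  Λt := fun g hg => Subgroup.mem_centralizer_singleton_iff.2 hg.1
  Λi := lin_relIndex C
  Λ2 := fun g hg => lin_sq C hg

/-- **The facts of `DoubCore.Core`.** -/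
theorem core [Finite G] : DoubCore.Core C.t (x C zr) (x C rr) C.L (dd (x C)) (ta (x C)) :=
  core_of_frat' C (Frat.Pre.frat (pre C))

end Cfsg.Agent.StdO8.FactI
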