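import Mathlib
import Cfsg.Agent.StdO8.FactI
import Cfsg.Agent.StdO8.Uni

/-!
# `2^15` does not divide `|C_G(t)|`
-/

set_option autoImplicit false

namespace Cfsg.Agent.StdO8.CardC

open Cfsg.Agent.StdO8.Model Cfsg.Agent.StdO8.Code Cfsg.Agent.StdO8.Gen
open Cfsg.Agent.StdO8.Aut Cfsg.Agent.StdO8.Frame

theorem rh_notMem : FactG.rh ∉ Om := refl_notMem _ q136

theorem relIndex_Om : Om.relIndex O8 = 2 := by
  rw [Subgroup.relIndex, Subgroup.index_eq_two_iff]
  refine ⟨⟨FactG.rh, FactG.rh_mem⟩, fun b => ?_⟩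
  have h1 : (b * ⟨FactG.rh, FactG.rh_mem⟩ : O8) ∈ Om.subgroupOf O8 ↔ (b : V ≃ₗ[ZMod 2] V) * FactG.rh ∈ Om :=
    Subgroup.mem_subgroupOf
  have h2 : b ∈ Om.subgroupOf O8 ↔ (b : V ≃ₗ[ZMod 2] V) ∈ Om := Subgroup.mem_subgroupOf
  rw [h1, h2]
  rcases FactG.mem_or b.2 with h | h
  · right
    refine ⟨h, fun h' => rh_notMem ?_⟩
    exact (Subgroup.mul_mem_cancel_left Om h).1 h'
  · left
    refine ⟨h, fun h' => rh_notMem ?_⟩
    exact (Subgroup.mul_mem_cancel_left Om h').1 h

theorem card_O8 : Nat.card O8 = 2 ^ 13 * 42525 := by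
  have h1 := Subgroup.card_mul_index (Om.subgroupOf O8)
  have h2 : (Om.subgroupOf O8).index = 2 := relIndex_Om
  rw [h2, Nat.card_congr (Subgroup.subgroupOfEquivOfLe Om_le).toEquiv, Uni.card_Om] at h1
  rw [← h1]; norm_num

variable {G : Type*} [Group G] (C : Ctx G)

/-- The action of the linear elements. -/
noncomputable def lin : Lin C.t C.r →* O8 :=
  MonoidHom.mk' (fun g => (C.mem_Lin.1 g.2).choose) (by
    intro g h
    have e1 := (C.mem_Lin.1 g.2).choose_spec
    have e2 := (C.mem_Lin.1 h.2).choose_spec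
    have e3 := (C.mem_Lin.1 (g * h).2).choose_spec
    exact Ctx.IsLin.unique e3 (e1.mul e2))

theorem lin_spec (g : Lin C.t C.r) : C.IsLin g (lin C g) := (C.mem_Lin.1 g.2).choose_spec

theorem card_ker [Finite G] : Nat.card (lin C).ker ∣ 2 := by
  have h1 : (lin C).ker.map (Lin C.t C.r).subtype ≤ Subgroup.zpowers C.t := by
    rintro _ ⟨g, hg, rfl⟩
    have h2 := lin_spec C g
    have h3 : lin C g = 1 := hg
    rw [h3] at h2
    rcases h2.eq_of_one with h | h
    · show (g : G) ∈ _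
      rw [h]; exact one_mem _
    · show (g : G) ∈ _
      rw [h]; exact Subgroup.mem_zpowers _
  have h2 : Nat.card (Subgroup.zpowers C.t) = 2 := by
    rw [Nat.card_zpowers]
    exact orderOf_eq_prime (by rw [pow_two]; exact C.tt) C.t_ne
  have h3 := Subgroup.card_dvd_of_le h1
  rw [h2] at h3
  rwa [← Nat.card_congr ((lin C).ker.equivMapOfInjective (Lin C.t C.r).subtype
    (Lin C.t C.r).subtype_injective).toEquiv] at h3

theorem card_Lin [Finite G] : Nat.card (Lin C.t C.r) ∣ 2 ^ 14 * 42525 := by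
  have h1 := Subgroup.card_mul_index (lin C).ker
  rw [Subgroup.index_ker] at h1
  have h2 : Nat.card (lin C).range ∣ 2 ^ 13 * 42525 := by
    rw [← card_O8]
    exact Subgroup.card_subgroup_dvd_card _
  rw [← h1]
  have := Nat.mul_dvd_mul (card_ker C) h2
  have e : 2 * (2 ^ 13 * 42525) = 2 ^ 14 * 42525 := by norm_num
  rwa [e] at this

theorem lin_le : Lin C.t C.r ≤ Subgroup.centralizer {C.t} := fun _ hg =>
  Subgroup.mem_centralizer_singleton_iff.2 hg.1

theorem cardC [Finite G] : ¬ 2 ^ 15 ∣ Nat.card (Subgroup.centralizer {C.t}) := by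
  intro h
  have h1 := Subgroup.card_mul_index ((Lin C.t C.r).subgroupOf (Subgroup.centralizer {C.t}))
  rw [Nat.card_congr (Subgroup.subgroupOfEquivOfLe (lin_le C)).toEquiv] at h1
  have hodd : Odd ((Lin C.t C.r).subgroupOf (Subgroup.centralizer {C.t})).index := C.odd
  have hc : Nat.Coprime (2 ^ 15) ((Lin C.t C.r).subgroupOf (Subgroup.centralizer {C.t})).index :=
    Nat.Coprime.pow_left _ (Nat.coprime_two_left.2 hodd)
  rw [← h1] at h
  have h2 := (hc.dvd_of_dvd_mul_right h).trans (card_Lin C)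
  have h3 : Nat.Coprime (2 ^ 15) 42525 := Nat.Coprime.pow_left _ (by decide)
  have h4 := h3.dvd_of_dvd_mul_right h2
  exact absurd (Nat.le_of_dvd (by norm_num) h4) (by norm_num)

end Cfsg.Agent.StdO8.CardC
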