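import Cfsg.Agent.StdO8.NotRoot

/-!
# The centraliser of the eight root elements `x (er S)` in `C(t)` (S1734, `L = Ω₈⁺(2)`)
-/

set_option autoImplicit false
set_option linter.all false

namespace Cfsg.Agent.StdO8.Dc

theorem aux_q4 : ∀ v : V, (B v (b 0) = 1 ∧ B v (b 1) = 0 ∧ B v (b 2) = 0 ∧ B v (b 3) = 0 ∧
    B v (b 6) = 0 ∧ B v (b 7) = 0 ∧ q v = 0) → v = b 4 + v 1 • b 1 := by
  decide +kernel

theorem aux_q5 : ∀ i : ZMod 2, ∀ v : V, (B v (b 0) = 0 ∧ B v (b 1) = 1 ∧ B v (b 2) = 0 ∧ B v (b 3) = 0 ∧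
    B v (b 6) = 0 ∧ B v (b 7) = 0 ∧ B v (b 4 + i • b 1) = 0 ∧ q v = 0) → v = b 5 + i • b 0 := by
  decide +kernel

theorem std_q {g : V → V} (h : Iso g)
    (hc : Comm g [(0, 6), (1, 6), (0, 7), (1, 7), (0, 3), (1, 3), (0, 2), (1, 2)]) :
    ∃ i : ZMod 2, ∀ w, g w = Xp i (b 0) (b 1) w := by
  have w0 := hc.fix h 0 6 7 (by decide)
  have w1 := hc.fix h 1 6 7 (by decide)
  have w2 := hc.fix h 2 0 1 (by decide)
  have w3 := hc.fix h 3 0 1 (by decide)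
  have w6 := hc.fix h 6 0 1 (by decide)
  have w7 := hc.fix h 7 0 1 (by decide)
  have w4 := aux_q4 (g (b 4)) ⟨(h.Bv 4 0 w0).trans (by decide), (h.Bv 4 1 w1).trans (by decide),
    (h.Bv 4 2 w2).trans (by decide), (h.Bv 4 3 w3).trans (by decide), (h.Bv 4 6 w6).trans (by decide),
    (h.Bv 4 7 w7).trans (by decide), by rw [h.isom, q_b]⟩
  have w5 := aux_q5 (g (b 4) 1) (g (b 5)) ⟨(h.Bv 5 0 w0).trans (by decide), (h.Bv 5 1 w1).trans (by decide),
    (h.Bv 5 2 w2).trans (by decide), (h.Bv 5 3 w3).trans (by decide), (h.Bv 5 6 w6).trans (by decide),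
    (h.Bv 5 7 w7).trans (by decide), (h.Bv 5 4 w4).trans (by decide), by rw [h.isom, q_b]⟩
  refine ⟨g (b 4) 1, h.ext (iso_Xp_b _ 0 1 (by decide)) fun k => ?_⟩
  generalize g (b 4) 1 = i at w4 w5 ⊢
  have e0 : ∀ i : ZMod 2, b 0 = Xp i (b 0) (b 1) (b 0) := by decide
  have e1 : ∀ i : ZMod 2, b 1 = Xp i (b 0) (b 1) (b 1) := by decide
  have e2 : ∀ i : ZMod 2, b 2 = Xp i (b 0) (b 1) (b 2) := by decide
  have e3 : ∀ i : ZMod 2, b 3 = Xp i (b 0) (b 1) (b 3) := by decide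
  have e4 : ∀ i : ZMod 2, b 4 + i • b 1 = Xp i (b 0) (b 1) (b 4) := by decide
  have e5 : ∀ i : ZMod 2, b 5 + i • b 0 = Xp i (b 0) (b 1) (b 5) := by decide
  have e6 : ∀ i : ZMod 2, b 6 = Xp i (b 0) (b 1) (b 6) := by decide
  have e7 : ∀ i : ZMod 2, b 7 = Xp i (b 0) (b 1) (b 7) := by decide
  fin_cases k
  · exact w0.trans (e0 i)
  · exact w1.trans (e1 i)
  · exact w2.trans (e2 i)
  · exact w3.trans (e3 i)
  · exact w4.trans (e4 i)
  · exact w5.trans (e5 i)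
  · exact w6.trans (e6 i)
  · exact w7.trans (e7 i)

end Cfsg.Agent.StdO8.Dc

namespace Cfsg.Agent.StdO8.CentQ

open Cfsg.Agent.StdO8.Model (V q B X O8 Om)
open Cfsg.Agent.StdO8.D4Root (E ip roots Φ)
open Cfsg.Agent.StdO8.Frame (Ctx)
open Cfsg.Agent.StdO8.Bas Cfsg.Agent.StdO8.DataOf Cfsg.Agent.StdO8.DoubRoot Cfsg.Agent.StdO8.InstRel
open Cfsg.Agent.StdO8.NotRoot

/-- the basis vectors of the root `er S` -/
def ij (S : ℕ) : Fin 8 × Fin 8 := [(1, 6), (0, 6), (1, 7), (0, 7), (1, 3), (0, 3), (1, 2), (0, 2)].getD S (0, 1)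

theorem er_wt : ∀ S < 8, er S = wt (ij S).1 + wt (ij S).2 ∧ ok (ij S).1 (ij S).2 := by decide +kernel

theorem ij_surj : ∀ p ∈ [(0, 6), (1, 6), (0, 7), (1, 7), (0, 3), (1, 3), (0, 2), (1, 2)], ∃ S < 8, ij S = p := by
  decide +kernel

theorem cQ {G : Type*} [Group G] (C : Ctx G) : ∀ g, g * C.t = C.t * g →
    (∀ S < 8, g * x C (er S) = x C (er S) * g) → g = 1 ∨ g = C.t ∨ g = x C zr ∨ g = C.t * x C zr := by
  intro g hg hS
  -- `g` is linear
  have hc2 : Cfsg.Agent.StdO8.Aut.IsC2 ((xm (er 3) * xm (er 5) : Om) : V ≃ₗ[ZMod 2] V) := by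
    have hab : ok 0 7 := by decide
    have hab' : ok 0 (7 + 4) := by decide
    refine ⟨bv 0, bv 7 + bv (7 + 4), q_bv 0, bv_ne 0, ?_, ?_, ?_⟩
    · rw [Model.B_add_right, B_ok hab, B_ok hab', add_zero]
    · rw [Model.q_add, q_bv, q_bv, B_bv, if_pos rfl, zero_add, zero_add]
    · show xO (er 3) * xO (er 5) = _
      rw [xO_er3, xO_er5]
      exact xb_mul hab hab'
  have hcomm : Commute g (C.r (xm (er 3) * xm (er 5))) := by
    rw [map_mul]
    exact Commute.mul_right (hS 3 (by norm_num)) (hS 5 (by norm_num))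
  obtain ⟨M, hM⟩ := C.isLin_of_commute hg hc2 hcomm
  have hMS : ∀ S < 8, (M : V ≃ₗ[ZMod 2] V) * xb (ij S).1 (ij S).2 = xb (ij S).1 (ij S).2 * (M : V ≃ₗ[ZMod 2] V) := by
    intro S h8
    have h1 := (hM.commute_iff (xm (er S))).1 (hS S h8)
    have h2 : ((xm (er S) : Om) : V ≃ₗ[ZMod 2] V) = xb (ij S).1 (ij S).2 := by
      obtain ⟨h3, h4⟩ := er_wt S h8
      rw [← xO_wt h4, ← h3]
      rfl
    rw [h2] at h1
    exact h1
  have hC : Dc.Comm (th (M : V ≃ₗ[ZMod 2] V)) [(0, 6), (1, 6), (0, 7), (1, 7), (0, 3), (1, 3), (0, 2), (1, 2)] := by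
    intro p hp w
    obtain ⟨S, h8, rfl⟩ := ij_surj p hp
    have h4 := (er_wt S h8).2
    rw [← th_xb h4, ← th_xb h4, ← th_mul, ← th_mul, hMS S h8]
  obtain ⟨i, hi⟩ := Dc.std_q (th_iso M.2) hC
  rcases Dc.zmod_cases i with rfl | rfl
  · have h1 : M = 1 := by
      apply Subtype.ext
      apply th_inj
      intro v
      rw [hi, Dc.Xp_zero]
      exact (th_one v).symm
    rw [h1] at hM
    rcases hM.eq_of_one with h | h
    · exact Or.inl h
    · exact Or.inr (Or.inl h)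
  · have h1 : (M : V ≃ₗ[ZMod 2] V) = (xm zr : Om) := by
      apply th_inj
      intro v
      rw [hi, Dc.Xp_one]
      change _ = th (xO zr) v
      rw [xO_zr, th_xb (by decide)]
    rcases eq_of_isLin C hM h1 with h | h
    · exact Or.inr (Or.inr (Or.inl h))
    · exact Or.inr (Or.inr (Or.inr h))

end Cfsg.Agent.StdO8.CentQ
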