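import Cfsg.Agent.StdO8.DoubRoot

/-!
# The pattern `ε = (1,1,1)`: the relations between `y`, `x' = y^w` and the root elements

`w = nn x ac` interchanges `z = x zr` and `z' = x rr`. We compute `x' (x ac) x'` and `[y, x']`.
-/

set_option autoImplicit false
set_option linter.all false

namespace Cfsg.Agent.StdO8.InstRel

open Subgroup Cfsg.Agent.StdO8.D4Root Cfsg.Agent.StdO8.DoubCore Cfsg.Agent.StdO8.DoubRefl
  Cfsg.Agent.StdO8.DoubRoot

variable {G : Type*} [Group G]

/-- the root `ac + ∑_{i ∈ S} al i` -/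
def er (S : ℕ) : E := ac + (if S.testBit 0 then al 0 else 0) + (if S.testBit 1 then al 1 else 0) +
  (if S.testBit 2 then al 2 else 0)

/-- the root element -/
def ee (x : E → G) (S : ℕ) : G := x (er S)

theorem er_mem : ∀ S < 8, er S ∈ roots := by decide +kernel

/-- the eleven roots -/
def Eleven : List E := [zr, rr, er 1, er 2, er 4, er 3, er 5, er 6, al 0, al 1, al 2]

theorem eleven : ∀ a ∈ roots, 0 ≤ ip a zr → 0 ≤ ip a rr → a ∈ Eleven := by decide +kernel

/-- the double centraliser -/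
def DCR (t : G) (x : E → G) : Prop :=
  ∀ g : G, g * t = t * g → (∀ a ∈ Φ, 0 ≤ ip a zr → 0 ≤ ip a rr → g * x a = x a * g) →
    ∃ τ α β, (τ = 1 ∨ τ = t) ∧ (α = 1 ∨ α = x zr) ∧ (β = 1 ∨ β = x rr) ∧ g = τ * α * β

variable {t : G} {L : Subgroup G} {x : E → G} (X : XD t L x) {y : G} (Y : YZ t x y)

theorem cj_eq_self {g a : G} : cj g a = a ↔ g * a = a * g := by
  unfold cj; exact mul_inv_eq_iff_eq_mul

theorem Yinv (Y : YZ t x y) : y⁻¹ = y := inv_eq_of_mul_eq_one_right Y.yy

include X Y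

/-- `y` centralises `Q` -/
theorem ye : ∀ S < 8, cj y (ee x S) = ee x S := by
  have hd : ∀ i, cj y (dd x i) = dd x i := fun i => cj_eq_self.2 (Y.yd i)
  have step : ∀ i r s, EPos r (al i) s → cj y (x r) = x r → cj y (x s) = x s := by
    intro i r s h hr
    rw [← X.e_pos h, cj_cj]
    rw [show x (al i) * x (-al i) = dd x i from rfl, hd, hr]
  have h7 : cj y (x (er 7)) = x (er 7) := by
    have : er 7 = rr := by decide
    rw [this]; exact cj_eq_self.2 Y.yr
  have h6 := step 0 (er 7) (er 6) (by decide) h7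
  have h5 := step 1 (er 7) (er 5) (by decide) h7
  have h3 := step 2 (er 7) (er 3) (by decide) h7
  have h4 := step 1 (er 6) (er 4) (by decide) h6
  have h2 := step 2 (er 6) (er 2) (by decide) h6
  have h1 := step 2 (er 5) (er 1) (by decide) h5
  have h0 := step 0 (er 1) (er 0) (by decide) h1
  intro S hS
  unfold ee
  interval_cases S <;> assumption

omit Y in
theorem winv : (nn x ac)⁻¹ = nn x ac := by
  have h1 : x ac * x ac = 1 := X.x_sq ac (by decide)
  have h2 : x (-ac) * x (-ac) = 1 := X.x_sq (-ac) (by decide)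
  apply inv_eq_of_mul_eq_one_right
  unfold nn
  rw [show x ac * x (-ac) * x ac * (x ac * x (-ac) * x ac) = x ac * (x (-ac) * ((x ac * x ac) * x (-ac))) * x ac by group,
    h1, one_mul, h2, mul_one, h1]

/-- the hypothesis of the pattern -/
def One (x : E → G) (y : G) : Prop := ∀ i, y * ta x i * y⁻¹ = ta x i * x zr

omit X Y in
/-- the conjugate `x'` of `y` -/
def x1 (x : E → G) (y : G) : G := nn x ac * y * nn x ac

/-- the singletons and pairs -/
def si : Fin 3 → ℕ := ![1, 2, 4]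
def pr : Fin 3 → ℕ := ![6, 5, 3]

omit X Y in
theorem cj_x1 (X : XD t L x) (a : G) : cj (x1 x y) a = cj (nn x ac) (cj y (cj (nn x ac) a)) := by
  unfold x1; rw [cj_comp, cj_comp]

omit Y in
theorem w_t : cj (nn x ac) t = t := X.t_fix (X.nnL (by decide) (by decide))
omit Y in
theorem w_z : cj (nn x ac) (x zr) = x rr := X.n_pos (by decide)
omit Y in
theorem w_r : cj (nn x ac) (x rr) = x zr := X.n_neg (by decide)

omit X Y in
theorem nOK : ∀ i : Fin 3, NPos (er (si i)) ac (al i) ∧ NNeg (al i) ac (er (si i)) ∧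
    NZero (er (pr i)) ac := by decide +kernel

omit Y in
theorem w_e (i : Fin 3) : cj (nn x ac) (ee x (si i)) = x (al i) := X.n_pos (nOK i).1
omit Y in
theorem w_al (i : Fin 3) : cj (nn x ac) (x (al i)) = ee x (si i) := X.n_neg (nOK i).2.1
omit Y in
theorem w_pr (i : Fin 3) : cj (nn x ac) (ee x (pr i)) = ee x (pr i) := X.n_zero (nOK i).2.2

theorem y_t : cj y t = t * x zr := Y.yt
theorem y_z : cj y (x zr) = x zr := cj_eq_self.2 Y.yz
theorem y_r : cj y (x rr) = x rr := cj_eq_self.2 Y.yr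
omit X Y in
theorem si_lt : ∀ i : Fin 3, si i < 8 ∧ pr i < 8 := by decide
theorem y_si (i : Fin 3) : cj y (ee x (si i)) = ee x (si i) := ye X Y _ (si_lt i).1
theorem y_pr (i : Fin 3) : cj y (ee x (pr i)) = ee x (pr i) := ye X Y _ (si_lt i).2

omit Y in
theorem cz {s : E} (hs : s ∈ roots) (h : 0 ≤ ip zr s) : x zr * x s = x s * x zr :=
  X.x_comm zr (by decide) s hs h

theorem x1_t : cj (x1 x y) t = t * x rr := by
  rw [cj_x1 X, w_t X, y_t X Y, cj_mul, w_t X, w_z X]

theorem x1_z : cj (x1 x y) (x zr) = x zr := by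
  rw [cj_x1 X, w_z X, y_r X Y, w_r X]

theorem x1_r : cj (x1 x y) (x rr) = x rr := by
  rw [cj_x1 X, w_r X, y_z X Y, w_z X]

theorem x1_pr (i : Fin 3) : cj (x1 x y) (ee x (pr i)) = ee x (pr i) := by
  rw [cj_x1 X, w_pr X, y_pr X Y, w_pr X]

theorem x1_al (i : Fin 3) : cj (x1 x y) (x (al i)) = x (al i) := by
  rw [cj_x1 X, w_al X, y_si X Y, w_e X]

theorem x1_si (h : One x y) (i : Fin 3) : cj (x1 x y) (ee x (si i)) = ee x (si i) * x rr := by
  rw [cj_x1 X, w_e X, show cj y (x (al i)) = x (al i) * x zr from h i, cj_mul, w_al X, w_z X]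

theorem x1_sq : x1 x y * x1 x y = 1 := by
  have h1 : nn x ac * nn x ac = 1 := by
    have := winv X
    rw [inv_eq_iff_mul_eq_one] at this; exact this
  unfold x1
  rw [show nn x ac * y * nn x ac * (nn x ac * y * nn x ac) =
    nn x ac * (y * (nn x ac * nn x ac) * y) * nn x ac by group, h1, mul_one, Y.yy, mul_one, h1]

theorem x1_inv : (x1 x y)⁻¹ = x1 x y := inv_eq_of_mul_eq_one_right (x1_sq X Y)

/-! ### conjugation by `e₀ = x ac` and by `p = e₃ e₅ e₆` -/

omit X Y in
theorem e0OK : CFix zr ac ∧ CNeg rr ac zr ∧ (∀ i : Fin 3, CFix (er (si i)) ac ∧ CFix (er (pr i)) ac ∧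
    CNeg (al i) ac (er (si i))) := by decide +kernel

omit Y in
theorem e0_t : cj (x ac) t = t := X.t_fix (X.xL ac (by decide))
omit Y in
theorem e0_z : cj (x ac) (x zr) = x zr := X.fix e0OK.1
omit Y in
theorem e0_r : cj (x ac) (x rr) = x rr * x zr := X.con e0OK.2.1
omit Y in
theorem e0_si (i : Fin 3) : cj (x ac) (ee x (si i)) = ee x (si i) := X.fix (e0OK.2.2 i).1
omit Y in
theorem e0_pr (i : Fin 3) : cj (x ac) (ee x (pr i)) = ee x (pr i) := X.fix (e0OK.2.2 i).2.1
omit Y in
theorem e0_al (i : Fin 3) : cj (x ac) (x (al i)) = x (al i) * ee x (si i) := X.con (e0OK.2.2 i).2.2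

/-- the element `p` -/
def pp (x : E → G) : G := ee x 3 * ee x 5 * ee x 6

omit X Y in
theorem pOK : (∀ S ∈ [3, 5, 6], CFix zr (er S) ∧ CFix rr (er S) ∧ ∀ i : Fin 3, CFix (er (pr i)) (er S)) ∧
    (CNeg (al 0) (er 6) rr ∧ CFix (al 0) (er 5) ∧ CFix (al 0) (er 3)) ∧
    (CNeg (al 1) (er 5) rr ∧ CFix (al 1) (er 6) ∧ CFix (al 1) (er 3)) ∧
    (CNeg (al 2) (er 3) rr ∧ CFix (al 2) (er 6) ∧ CFix (al 2) (er 5)) ∧
    (CNeg (er 1) (er 6) zr ∧ CFix (er 1) (er 5) ∧ CFix (er 1) (er 3)) ∧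
    (CNeg (er 2) (er 5) zr ∧ CFix (er 2) (er 6) ∧ CFix (er 2) (er 3)) ∧
    (CNeg (er 4) (er 3) zr ∧ CFix (er 4) (er 6) ∧ CFix (er 4) (er 5)) := by decide +kernel

omit X Y in
theorem cj_pp (a : G) : cj (pp x) a = cj (ee x 3) (cj (ee x 5) (cj (ee x 6) a)) := by
  unfold pp; rw [cj_comp, cj_comp]

omit Y in
theorem p_t : cj (pp x) t = t := by
  have h : ∀ S < 8, cj (ee x S) t = t := fun S hS => X.t_fix (X.xL _ (er_mem S hS))
  rw [cj_pp, h 6 (by norm_num), h 5 (by norm_num), h 3 (by norm_num)]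

omit Y in
theorem p_z : cj (pp x) (x zr) = x zr := by
  have h := fun S hS => X.fix (pOK.1 S hS).1
  rw [cj_pp]; unfold ee
  rw [h 6 (by decide), h 5 (by decide), h 3 (by decide)]

omit Y in
theorem p_r : cj (pp x) (x rr) = x rr := by
  have h := fun S hS => X.fix (pOK.1 S hS).2.1
  rw [cj_pp]; unfold ee
  rw [h 6 (by decide), h 5 (by decide), h 3 (by decide)]

omit Y in
theorem p_pr (i : Fin 3) : cj (pp x) (ee x (pr i)) = ee x (pr i) := by
  have h := fun S hS => X.fix ((pOK.1 S hS).2.2 i)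
  rw [cj_pp]; unfold ee
  rw [h 6 (by decide), h 5 (by decide), h 3 (by decide)]

omit Y in
theorem p_al (i : Fin 3) : cj (pp x) (x (al i)) = x (al i) * x rr := by
  have hr := fun S hS => X.fix (pOK.1 S hS).2.1
  rw [cj_pp]; unfold ee
  obtain ⟨-, ⟨a1, a2, a3⟩, ⟨b1, b2, b3⟩, ⟨c1, c2, c3⟩, -⟩ := pOK
  fin_cases i
  · show cj (x (er 3)) (cj (x (er 5)) (cj (x (er 6)) (x (al 0)))) = x (al 0) * x rr
    rw [X.con a1, cj_mul, X.fix a2, hr 5 (by decide), cj_mul, X.fix a3, hr 3 (by decide)]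
  · show cj (x (er 3)) (cj (x (er 5)) (cj (x (er 6)) (x (al 1)))) = x (al 1) * x rr
    rw [X.fix b2, X.con b1, cj_mul, X.fix b3, hr 3 (by decide)]
  · show cj (x (er 3)) (cj (x (er 5)) (cj (x (er 6)) (x (al 2)))) = x (al 2) * x rr
    rw [X.fix c2, X.fix c3, X.con c1]

omit Y in
theorem p_si (i : Fin 3) : cj (pp x) (ee x (si i)) = ee x (si i) * x zr := by
  have hz := fun S hS => X.fix (pOK.1 S hS).1
  rw [cj_pp]; unfold ee
  obtain ⟨-, -, -, -, ⟨a1, a2, a3⟩, ⟨b1, b2, b3⟩, ⟨c1, c2, c3⟩⟩ := pOK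
  fin_cases i
  · show cj (x (er 3)) (cj (x (er 5)) (cj (x (er 6)) (x (er 1)))) = x (er 1) * x zr
    rw [X.con a1, cj_mul, X.fix a2, hz 5 (by decide), cj_mul, X.fix a3, hz 3 (by decide)]
  · show cj (x (er 3)) (cj (x (er 5)) (cj (x (er 6)) (x (er 2)))) = x (er 2) * x zr
    rw [X.fix b2, X.con b1, cj_mul, X.fix b3, hz 3 (by decide)]
  · show cj (x (er 3)) (cj (x (er 5)) (cj (x (er 6)) (x (er 4)))) = x (er 4) * x zr
    rw [X.fix c2, X.fix c3, X.con c1]

/-- the element `g = y x' (e₀ x' e₀) p` -/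
def gg (x : E → G) (y : G) : G := y * x1 x y * (x ac * x1 x y * x ac) * pp x

omit X Y in
theorem cj_gg (a : G) : cj (gg x y) a =
    cj y (cj (x1 x y) (cj (x ac) (cj (x1 x y) (cj (x ac) (cj (pp x) a))))) := by
  unfold gg; rw [cj_comp, cj_comp, cj_comp, cj_comp, cj_comp]

omit Y in
theorem zz2 : x zr * x zr = 1 := X.x_sq zr (by decide)
omit Y in
theorem rr2 : x rr * x rr = 1 := X.x_sq rr (by decide)
omit Y in
theorem zr_comm : x zr * x rr = x rr * x zr := X.x_comm zr (by decide) rr (by decide) (by decide)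

theorem gg_t : cj (gg x y) t = t := by
  have hz := zz2 X; have hr := rr2 X; have hc := zr_comm X
  simp only [cj_gg, cj_mul, p_t X, e0_t X, x1_t X Y, e0_r X, x1_r X Y, x1_z X Y, y_t X Y, y_r X Y, y_z X Y]
  rw [show t * x zr * x rr * (x rr * x zr) = t * (x zr * (x rr * x rr) * x zr) by group, hr, mul_one, hz, mul_one]

theorem gg_z : cj (gg x y) (x zr) = x zr := by
  rw [cj_gg, p_z X, e0_z X, x1_z X Y, e0_z X, x1_z X Y, y_z X Y]

theorem gg_r : cj (gg x y) (x rr) = x rr := by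
  have hz := zz2 X
  simp only [cj_gg, cj_mul, p_r X, e0_r X, e0_z X, x1_r X Y, x1_z X Y, y_r X Y, y_z X Y]
  rw [mul_assoc, hz, mul_one]

theorem gg_pr (i : Fin 3) : cj (gg x y) (ee x (pr i)) = ee x (pr i) := by
  rw [cj_gg, p_pr X, e0_pr X, x1_pr X Y, e0_pr X, x1_pr X Y, y_pr X Y]

theorem gg_si (h : One x y) (i : Fin 3) : cj (gg x y) (ee x (si i)) = ee x (si i) := by
  have hz := zz2 X; have hr := rr2 X; have hc := zr_comm X
  simp only [cj_gg, cj_mul, p_si X, e0_si X, e0_r X, e0_z X, x1_si X Y h, x1_r X Y, x1_z X Y, y_r X Y, y_z X Y,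
    y_si X Y]
  rw [show ee x (si i) * x rr * (x rr * x zr) * x zr = ee x (si i) * ((x rr * x rr) * (x zr * x zr)) by group,
    hz, hr, mul_one, mul_one]

omit X Y in
theorem siOK : ∀ i : Fin 3, 0 ≤ ip rr (er (si i)) ∧ 0 ≤ ip zr (er (si i)) := by decide +kernel

theorem gg_al (h : One x y) (i : Fin 3) : cj (gg x y) (x (al i)) = x (al i) := by
  have hz := zz2 X; have hr := rr2 X; have hc := zr_comm X
  have he : ee x (si i) * ee x (si i) = 1 := X.x_sq _ (er_mem _ (si_lt i).1)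
  have he2 : x rr * ee x (si i) = ee x (si i) * x rr :=
    X.x_comm rr (by decide) _ (er_mem _ (si_lt i).1) (siOK i).1
  have hze : x zr * ee x (si i) = ee x (si i) * x zr :=
    X.x_comm zr (by decide) _ (er_mem _ (si_lt i).1) (siOK i).2
  simp only [cj_gg, cj_mul, p_al X, e0_al X, e0_si X, e0_r X, e0_z X, x1_al X Y, x1_si X Y h, x1_r X Y,
    x1_z X Y, y_r X Y, y_z X Y, y_si X Y, show cj y (x (al i)) = x (al i) * x zr from h i]
  simp only [mul_assoc, lc he2, lc hze, he2, hze, sq' he, sq' hr, sq' hz, lc hc, he, hr, hz, mul_one, hc]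

theorem gg_eleven (h : One x y) : ∀ a ∈ Eleven, gg x y * x a = x a * gg x y := by
  intro a ha
  apply cj_eq_self.1
  simp only [Eleven, List.mem_cons, List.not_mem_nil, or_false] at ha
  rcases ha with rfl | rfl | rfl | rfl | rfl | rfl | rfl | rfl | rfl | rfl | rfl
  · exact gg_z X Y
  · exact gg_r X Y
  · exact gg_si X Y h 0
  · exact gg_si X Y h 1
  · exact gg_si X Y h 2
  · exact gg_pr X Y 2
  · exact gg_pr X Y 1
  · exact gg_pr X Y 0
  · exact gg_al X Y h 0
  · exact gg_al X Y h 1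
  · exact gg_al X Y h 2

theorem gg_form (hD : DCR t x) (h : One x y) : ∃ τ α β, (τ = 1 ∨ τ = t) ∧ (α = 1 ∨ α = x zr) ∧
    (β = 1 ∨ β = x rr) ∧ gg x y = τ * α * β :=
  hD _ (cj_eq_self.1 (gg_t X Y)) fun a ha h1 h2 => gg_eleven X Y h a (eleven a ha h1 h2)

/-! ### the commutator of `y` and `x'` -/

/-- the commutator -/
def cc (x : E → G) (y : G) : G := y * x1 x y * (y * x1 x y)

omit X Y in
theorem cj_cc (a : G) : cj (cc x y) a = cj y (cj (x1 x y) (cj y (cj (x1 x y) a))) := by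
  unfold cc; rw [cj_comp, cj_comp, cj_comp]

theorem cc_t : cj (cc x y) t = t := by
  have hz := zz2 X; have hr := rr2 X; have hc := zr_comm X
  simp only [cj_cc, cj_mul, x1_t X Y, x1_r X Y, x1_z X Y, y_t X Y, y_r X Y, y_z X Y]
  simp only [mul_assoc, lc hc, sq' hz, sq' hr, hr, hz, mul_one, hc]

theorem cc_eleven (h : One x y) : ∀ a ∈ Eleven, cc x y * x a = x a * cc x y := by
  have hz := zz2 X; have hr := rr2 X; have hc := zr_comm X
  have hpr : ∀ i, cj (cc x y) (ee x (pr i)) = ee x (pr i) := by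
    intro i
    rw [cj_cc, x1_pr X Y, y_pr X Y, x1_pr X Y, y_pr X Y]
  have hsi : ∀ i, cj (cc x y) (ee x (si i)) = ee x (si i) := by
    intro i
    simp only [cj_cc, cj_mul, x1_si X Y h, x1_r X Y, y_si X Y, y_r X Y, mul_assoc, hr, mul_one]
  have hal : ∀ i, cj (cc x y) (x (al i)) = x (al i) := by
    intro i
    simp only [cj_cc, cj_mul, x1_al X Y, x1_z X Y, y_z X Y,
      show cj y (x (al i)) = x (al i) * x zr from h i, mul_assoc, hz, mul_one]
  intro a ha
  apply cj_eq_self.1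
  simp only [Eleven, List.mem_cons, List.not_mem_nil, or_false] at ha
  rcases ha with rfl | rfl | rfl | rfl | rfl | rfl | rfl | rfl | rfl | rfl | rfl
  · rw [cj_cc, x1_z X Y, y_z X Y, x1_z X Y, y_z X Y]
  · rw [cj_cc, x1_r X Y, y_r X Y, x1_r X Y, y_r X Y]
  · exact hsi 0
  · exact hsi 1
  · exact hsi 2
  · exact hpr 2
  · exact hpr 1
  · exact hpr 0
  · exact hal 0
  · exact hal 1
  · exact hal 2

theorem cc_form (hD : DCR t x) (h : One x y) : ∃ τ α β, (τ = 1 ∨ τ = t) ∧ (α = 1 ∨ α = x zr) ∧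
    (β = 1 ∨ β = x rr) ∧ cc x y = τ * α * β :=
  hD _ (cj_eq_self.1 (cc_t X Y)) fun a ha h1 h2 => cc_eleven X Y h a (eleven a ha h1 h2)

omit Y in
theorem tz : t * x zr = x zr * t := X.tL _ (X.xL _ (by decide))
omit Y in
theorem tr : t * x rr = x rr * t := X.tL _ (X.xL _ (by decide))

theorem cc_inv : (cc x y)⁻¹ = x1 x y * y * (x1 x y * y) := by
  unfold cc
  rw [mul_inv_rev, mul_inv_rev, x1_inv X Y, Yinv Y]

omit Y in
theorem zr_ne : x zr ≠ x rr := by
  intro h
  have h1 := e0_r X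
  have h2 := e0_z X
  rw [← h, h2] at h1
  exact X.x_ne zr (by decide) (left_eq_mul.1 h1)

theorem cc_eq (hD : DCR t x) (h : One x y) : cc x y = 1 ∨ cc x y = x zr * x rr := by
  have hz := zz2 X; have hr := rr2 X; have hc := zr_comm X
  have htz := tz X; have htr := tr X
  have hz1 : x zr ≠ 1 := X.x_ne zr (by decide)
  have hr1 : x rr ≠ 1 := X.x_ne rr (by decide)
  have hy := Y.yy
  have hxx := x1_sq X Y
  have hww : nn x ac * nn x ac = 1 := by
    have := winv X
    rw [inv_eq_iff_mul_eq_one] at this; exact this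
  obtain ⟨τ, α, β, hτ, hα, hβ, e⟩ := cc_form X Y hD h
  have hsq : cc x y * cc x y = 1 := by
    rw [e]
    rcases hτ with rfl | rfl <;> rcases hα with rfl | rfl <;> rcases hβ with rfl | rfl <;>
      simp only [one_mul, mul_one, mul_assoc, lc hc, lc htz, lc htr, sq' hz, sq' hr, sq' X.tt, hz, hr, X.tt, htz,
        htr, hc]
  have hci : (cc x y)⁻¹ = cc x y := inv_eq_of_mul_eq_one_right hsq
  have hyc : cj y (cc x y) = cc x y := by
    have e1 : cj y (cc x y) = x1 x y * y * (x1 x y * y⁻¹) := by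
      unfold cj cc
      simp only [mul_assoc, sq' hy]
    rw [e1, Yinv Y, ← cc_inv X Y, hci]
  have hwc : cj (nn x ac) (cc x y) = cc x y := by
    have e0 : cj (nn x ac) y = x1 x y := by unfold cj x1; rw [winv X]
    have e1 : cj (nn x ac) (x1 x y) = y := by
      unfold cj x1
      rw [winv X]
      simp only [mul_assoc, sq' hww, hww, mul_one]
    have e2 : cj (nn x ac) (cc x y) = x1 x y * y * (x1 x y * y) := by
      unfold cc
      rw [cj_mul, cj_mul, e0, e1]
    rw [e2, ← cc_inv X Y, hci]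
  -- `τ = 1`
  have hτ1 : τ = 1 := by
    rcases hτ with h1 | h1
    · exact h1
    · exfalso
      have h2 : cj y (cc x y) = t * x zr * (α * β) := by
        rw [e, h1, mul_assoc, cj_mul, y_t X Y]
        congr 1
        rcases hα with rfl | rfl <;> rcases hβ with rfl | rfl <;>
          simp only [one_mul, mul_one, cj_mul, y_z X Y, y_r X Y]
        unfold cj; group
      rw [hyc, e, h1, mul_assoc t α β] at h2
      have h3 := mul_right_cancel h2
      exact hz1 (left_eq_mul.1 h3)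
  subst hτ1
  rw [one_mul] at e
  rcases hα with rfl | rfl <;> rcases hβ with rfl | rfl
  · left; rw [e, one_mul]
  · exfalso
    rw [e, one_mul, w_r X] at hwc
    have h1 := X.x_comm
    exact zr_ne X hwc
  · exfalso
    rw [e, mul_one, w_z X] at hwc
    exact zr_ne X hwc.symm
  · right; exact e

/-! ### the relation -/

omit X Y in
theorem pcOK : CFix (er 3) (er 5) ∧ CFix (er 3) (er 6) ∧ CFix (er 5) (er 6) ∧ CFix (er 3) ac ∧ CFix (er 5) ac ∧
    CFix (er 6) ac := by decide +kernel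

omit Y in
theorem cfix {r s : E} (h : CFix r s) : x r * x s = x s * x r := X.x_comm r h.1 s h.2.1 h.2.2

omit Y in
theorem pp_sq : pp x * pp x = 1 := by
  obtain ⟨h1, h2, h3, -⟩ := pcOK
  have a1 : x (er 3) * x (er 5) = x (er 5) * x (er 3) := cfix X h1
  have a2 : x (er 3) * x (er 6) = x (er 6) * x (er 3) := cfix X h2
  have a3 : x (er 5) * x (er 6) = x (er 6) * x (er 5) := cfix X h3
  have s3 : x (er 3) * x (er 3) = 1 := X.x_sq _ (er_mem 3 (by norm_num))
  have s5 : x (er 5) * x (er 5) = 1 := X.x_sq _ (er_mem 5 (by norm_num))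
  have s6 : x (er 6) * x (er 6) = 1 := X.x_sq _ (er_mem 6 (by norm_num))
  unfold pp ee
  simp only [mul_assoc, lc a1, lc a2, lc a3, a1, a2, a3, sq' s3, sq' s5, sq' s6, s3, s5, s6, mul_one]

omit Y in
theorem pp_comm {a : G} (ha : ∀ S ∈ [3, 5, 6], x (er S) * a = a * x (er S)) : pp x * a = a * pp x := by
  unfold pp ee
  rw [mul_assoc, ha 6 (by decide), ← mul_assoc, mul_assoc (x (er 3)), ha 5 (by decide), ← mul_assoc (x (er 3)),
    ha 3 (by decide)]
  group

omit Y in
theorem pp_e0 : pp x * x ac = x ac * pp x := by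
  obtain ⟨-, -, -, h1, h2, h3⟩ := pcOK
  apply pp_comm X
  intro S hS
  simp only [List.mem_cons, List.not_mem_nil, or_false] at hS
  rcases hS with rfl | rfl | rfl
  · exact cfix X h1
  · exact cfix X h2
  · exact cfix X h3

omit Y in
theorem pp_z : pp x * x zr = x zr * pp x := cj_eq_self.1 (p_z X)
omit Y in
theorem pp_r : pp x * x rr = x rr * pp x := cj_eq_self.1 (p_r X)
omit Y in
theorem pp_t : pp x * t = t * pp x := cj_eq_self.1 (p_t X)

theorem y_pp : y * pp x = pp x * y := by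
  have h := ye X Y
  apply cj_eq_self.1
  unfold pp
  rw [cj_mul, cj_mul, h 3 (by norm_num), h 5 (by norm_num), h 6 (by norm_num)]

theorem y_e0 : y * x ac = x ac * y := by
  have h := ye X Y 0 (by norm_num)
  apply cj_eq_self.1
  have e : er 0 = ac := by decide
  unfold ee at h
  rwa [e] at h

/-- `x' e₀ x' = y g p e₀` -/
theorem rel : x1 x y * x ac * x1 x y = y * gg x y * pp x * x ac := by
  have h1 := pp_sq X
  have h2 : x ac * x ac = 1 := X.x_sq ac (by decide)
  unfold gg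
  simp only [mul_assoc, sq' Y.yy, sq' h1, h2, mul_one]

omit Y in
theorem e0r : x ac * x rr = x rr * x zr * x ac := by
  have h := e0_r X
  unfold cj at h
  rw [mul_inv_eq_iff_eq_mul] at h
  exact h

omit Y in
theorem re0r : x rr * x ac * x rr = x ac * x zr := by
  have h := e0r X
  have hz := zz2 X; have hr := rr2 X
  have hzc : x zr * x ac = x ac * x zr := (cj_eq_self.1 (e0_z X)).symm
  rw [mul_assoc, h]
  simp only [mul_assoc, sq' hr, hzc]

theorem main (hD : DCR t x) (h : One x y) :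
    (cc x y = 1 ∧ ∃ α, (α = 1 ∨ α = x zr) ∧ x1 x y * x ac * x1 x y = y * α * pp x * x ac) ∨
    (cc x y = x zr * x rr ∧ ∃ α, (α = 1 ∨ α = x zr) ∧
      x1 x y * x ac * x1 x y = y * t * α * x rr * pp x * x ac) := by
  have hz := zz2 X; have hr := rr2 X; have hc := zr_comm X
  have htz := tz X; have htr := tr X
  have hz1 : x zr ≠ 1 := X.x_ne zr (by decide)
  have hy := Y.yy
  have hxx := x1_sq X Y
  have hE : x ac * x ac = 1 := X.x_sq ac (by decide)
  have hP := pp_sq X
  have hPE := pp_e0 X; have hPz := pp_z X; have hPr := pp_r X; have hPt := pp_t X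
  have hyP := y_pp X Y; have hyE := y_e0 X Y
  have hzE : x zr * x ac = x ac * x zr := (cj_eq_self.1 (e0_z X)).symm
  have htE : t * x ac = x ac * t := X.tL _ (X.xL _ (by decide))
  have hrEr := re0r X
  have hyz := Y.yz
  have hyr := Y.yr
  have hyt : y * t = t * x zr * y := by
    have := Y.yt
    rwa [mul_inv_eq_iff_eq_mul] at this
  obtain ⟨τ, α, β, hτ, hα, hβ, e⟩ := gg_form X Y hD h
  have hrel := rel X Y
  -- the square
  have hsq : (y * gg x y * pp x * x ac) * (y * gg x y * pp x * x ac) = 1 := by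
    rw [← hrel]
    simp only [mul_assoc, sq' hxx, sq' hE, hxx]
  -- conjugation by `y`
  have hyx : y * x1 x y = cc x y * (x1 x y * y) := by
    unfold cc
    simp only [mul_assoc, sq' hxx, hy, mul_one]
  have hconj : y * (y * gg x y * pp x * x ac) * y = cc x y * (y * gg x y * pp x * x ac) * (cc x y)⁻¹ := by
    rw [← hrel]
    have h1 : y * (x1 x y * x ac * x1 x y) * y = (y * x1 x y) * x ac * (y * x1 x y)⁻¹ := by
      rw [mul_inv_rev, x1_inv X Y, Yinv Y]; group
    rw [h1, hyx, mul_inv_rev, mul_inv_rev, x1_inv X Y, Yinv Y]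
    have h2 : cc x y * (x1 x y * y) * x ac * (y * x1 x y * (cc x y)⁻¹) =
      cc x y * (x1 x y * (y * x ac * y) * x1 x y) * (cc x y)⁻¹ := by group
    rw [h2, hyE, mul_assoc (x ac), hy, mul_one]
  have hcc := cc_eq X Y hD h
  have hci : (cc x y)⁻¹ = cc x y := by
    rcases hcc with h1 | h1 <;> rw [h1]
    · exact inv_one
    · apply inv_eq_of_mul_eq_one_right
      simp only [mul_assoc, lc hc, sq' hz, sq' hr, hz, hr]
  rw [hci] at hconj
  -- normal form: order `t, Z, y, R, E, P`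
  have hZt : x zr * t = t * x zr := htz.symm
  have hyZ : y * x zr = x zr * y := hyz
  have hRt : x rr * t = t * x rr := htr.symm
  have hRZ : x rr * x zr = x zr * x rr := hc.symm
  have hRy : x rr * y = y * x rr := hyr.symm
  have hEt : x ac * t = t * x ac := htE.symm
  have hEZ : x ac * x zr = x zr * x ac := hzE.symm
  have hEy : x ac * y = y * x ac := hyE.symm
  have hER : x ac * x rr = x zr * (x rr * x ac) := by rw [e0r X, ← hc, mul_assoc]
  have hPy : pp x * y = y * pp x := hyP.symm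
  have hyt' : y * t = t * (x zr * y) := by rw [hyt, mul_assoc]
  have lyt : ∀ u, y * (t * u) = t * (x zr * (y * u)) := fun u => by
    rw [← mul_assoc, hyt]; simp only [mul_assoc]
  have lER : ∀ u, x ac * (x rr * u) = x zr * (x rr * (x ac * u)) := fun u => by
    rw [← mul_assoc, hER]; simp only [mul_assoc]
  have htt := X.tt
  have nf : ∀ {u v : G}, u = v → u = v := fun h => h
  rcases hcc with h1 | h1
  · left
    refine ⟨h1, α, hα, ?_⟩
    rw [h1, one_mul, mul_one] at hconj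
    rcases hτ with rfl | rfl
    · rcases hβ with rfl | rfl
      · rw [hrel, e, one_mul, mul_one]
      · exfalso
        rw [e] at hsq
        rcases hα with rfl | rfl <;>
        · simp only [mul_assoc, one_mul, mul_one, lc hZt, lc hyZ, lc hRt, lc hRZ, lc hRy, lc hEt, lc hEZ, lc hEy,
            lER, lyt, lc hPy, lc hPt, lc hPz, lc hPr, lc hPE, hZt, hyZ, hRt, hRZ, hRy, hEt, hEZ, hEy, hER, hyt',
            hPy, hPt, hPz, hPr, hPE, sq' hz, sq' hr, sq' hy, sq' hE, sq' hP, sq' htt, hz, hr, hy, hE, hP, htt] at hsq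
          exact hz1 hsq
    · exfalso
      rw [e] at hconj
      rcases hα with rfl | rfl <;> rcases hβ with rfl | rfl <;>
      · simp only [mul_assoc, one_mul, mul_one, lc hZt, lc hyZ, lc hRt, lc hRZ, lc hRy, lc hEt, lc hEZ, lc hEy,
          lER, lyt, lc hPy, lc hPt, lc hPz, lc hPr, lc hPE, hZt, hyZ, hRt, hRZ, hRy, hEt, hEZ, hEy, hER, hyt',
          hPy, hPt, hPz, hPr, hPE, sq' hz, sq' hr, sq' hy, sq' hE, sq' hP, sq' htt, hz, hr, hy, hE, hP, htt] at hconj
        have := mul_left_cancel hconj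
        first
        | exact hz1 (left_eq_mul.1 this)
        | exact hz1 (right_eq_mul.1 this)
        | exact hz1 (mul_eq_right.1 this)
        | exact hz1 (mul_eq_left.1 this)
        | exact hz1 (mul_eq_right.1 this.symm)
  · right
    refine ⟨h1, α, hα, ?_⟩
    rw [h1] at hconj
    rcases hτ with rfl | rfl
    · exfalso
      rw [e] at hconj
      rcases hα with rfl | rfl <;> rcases hβ with rfl | rfl <;>
      · simp only [mul_assoc, one_mul, mul_one, lc hZt, lc hyZ, lc hRt, lc hRZ, lc hRy, lc hEt, lc hEZ, lc hEy,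
          lER, lyt, lc hPy, lc hPt, lc hPz, lc hPr, lc hPE, hZt, hyZ, hRt, hRZ, hRy, hEt, hEZ, hEy, hER, hyt',
          hPy, hPt, hPz, hPr, hPE, sq' hz, sq' hr, sq' hy, sq' hE, sq' hP, sq' htt, hz, hr, hy, hE, hP, htt] at hconj
        first
        | exact hz1 (mul_eq_right.1 hconj)
        | exact hz1 (mul_eq_right.1 hconj.symm)
    · rcases hβ with rfl | rfl
      · exfalso
        rw [e] at hsq
        rcases hα with rfl | rfl <;>
        · simp only [mul_assoc, one_mul, mul_one, lc hZt, lc hyZ, lc hRt, lc hRZ, lc hRy, lc hEt, lc hEZ, lc hEy,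
            lER, lyt, lc hPy, lc hPt, lc hPz, lc hPr, lc hPE, hZt, hyZ, hRt, hRZ, hRy, hEt, hEZ, hEy, hER, hyt',
            hPy, hPt, hPz, hPr, hPE, sq' hz, sq' hr, sq' hy, sq' hE, sq' hP, sq' htt, hz, hr, hy, hE, hP, htt] at hsq
          exact hz1 hsq
      · rw [hrel, e]
        simp only [mul_assoc]

end Cfsg.Agent.StdO8.InstRel
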