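import Cfsg.Agent.StdO8.DoubWord
import Cfsg.Agent.StdO8.InstRel

/-!
# The signs are all `0` or all `1` (S1734, `L = Ω₈⁺(2)`)
-/

set_option autoImplicit false
set_option linter.all false

namespace Cfsg.Agent.StdO8.DoubMixed

open Cfsg.Agent.StdO8.D4Root Cfsg.Agent.StdO8.DoubRoot Cfsg.Agent.StdO8.DoubVi
open Cfsg.Agent.StdO8.Frame (Ctx)
open Cfsg.Agent.StdO8.DataOf (x)

theorem mixed {G : Type*} [Group G] [Finite G] (C : Ctx G) {y : G} (hy : YZ C.t (x C) y) :
    (∀ i, y * ta (x C) i * y⁻¹ = ta (x C) i) ∨ InstRel.One (x C) y := by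
  obtain ⟨ε, hε, h1⟩ := exists_ye hy
  have h2 : ∀ i, ε i = true → ε (oj i) = ε (DoubRoot.ok i) := by
    intro i hi
    obtain ⟨v, hv⟩ := h1 i hi
    exact DoubMain.eps_graph C hε i hv
  have key : ∀ a b c : Bool, (a = true → b = c) → (b = true → a = c) → (c = true → a = b) →
      (a = false ∧ b = false ∧ c = false) ∨ (a = true ∧ b = true ∧ c = true) ∨
      (a = true ∧ b = false ∧ c = false) ∨ (b = true ∧ a = false ∧ c = false) ∨
      (c = true ∧ a = false ∧ b = false) := by decide
  rcases key (ε 0) (ε 1) (ε 2) (h2 0) (h2 1) (h2 2) with h | h | h | h | h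
  · left
    intro i
    have h3 : ε i = false := by
      fin_cases i
      exacts [h.1, h.2.1, h.2.2]
    have := hε.yτ i
    rwa [h3, pw_false, mul_one] at this
  · right
    intro i
    have h3 : ε i = true := by
      fin_cases i
      exacts [h.1, h.2.1, h.2.2]
    have := hε.yτ i
    rwa [h3, pw_true] at this
  · exact (DoubWord.one_false C hε (i := 0) h.1 h.2.1 h.2.2).elim
  · exact (DoubWord.one_false C hε (i := 1) h.1 h.2.1 h.2.2).elim
  · exact (DoubWord.one_false C hε (i := 2) h.1 h.2.1 h.2.2).elim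

end Cfsg.Agent.StdO8.DoubMixed
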