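import Cfsg.Agent.OddHalf.TR
import Cfsg.Agent.OddHalf.D9.TransferGen

/-!
# Fusion of `t` and `tz` in a simple group (S1734, `Ω₈⁺(2)`)

`T` a Sylow 2-subgroup of `C(t)`, `L ⊴ C(t)`, `[T, T] ≤ L`, `t ∉ L`, the involutions of `Z(T)` are
`t, z, tz`, `z ∈ L` a commutator of `C(z)`. If `G` has no nontrivial abelian quotient, then some `g` centralises
`z` and maps `t` to `tz`.
-/

set_option autoImplicit false
set_option linter.all false

namespace Cfsg.Agent.StdO8.DoubSwap

open Subgroup Cfsg.Agent.OddHalf.TR Cfsg.Agent.OddHalf.D9.TransferGen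

universe u

variable {G : Type u} [Group G]

/-- the hypotheses -/
structure Sw (t z : G) (L T : Subgroup G) : Prop where
  tt : t * t = 1
  zz : z * z = 1
  z1 : z ≠ 1
  t_notMem : t ∉ L
  zL : z ∈ L
  nL : ∀ g, g * t = t * g → ∀ l ∈ L, g * l * g⁻¹ ∈ L
  /-- `z` is a commutator in `C(z)` -/
  zcomm : ∃ a b, a * z = z * a ∧ b * z = z * b ∧ z = a * b * a⁻¹ * b⁻¹
  pT : IsPGroup 2 T
  tT : t ∈ T
  tc : ∀ x ∈ T, x * t = t * x
  zT : z ∈ T
  zc : ∀ x ∈ T, x * z = z * x
  max : ∀ P : Subgroup G, IsPGroup 2 P → T ≤ P → (∀ x ∈ P, x * t = t * x) → P ≤ T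
  om : ∀ y ∈ T, (∀ x ∈ T, x * y = y * x) → y * y = 1 → y = 1 ∨ y = t ∨ y = z ∨ y = t * z
  hTL : ∀ a ∈ T, ∀ b ∈ T, a * b * a⁻¹ * b⁻¹ ∈ L

namespace Sw

variable {t z : G} {L T : Subgroup G}

theorem normal (h : Sw t z L T) : (L.subgroupOf T).Normal := by
  refine ⟨fun l hl g => ?_⟩
  rw [mem_subgroupOf] at hl ⊢
  exact h.nL g (h.tc g g.2) l hl

/-- the abelian group `T / (T ∩ L)` -/
theorem exists_hom (h : Sw t z L T) : ∃ (A : Type u) (_ : CommGroup A) (φ : T →* A),
    (∀ g, φ g = 1 ↔ (g : G) ∈ L) := by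
  have := h.normal
  refine ⟨T ⧸ L.subgroupOf T, { (inferInstance : Group (T ⧸ L.subgroupOf T)) with
    mul_comm := ?_ }, QuotientGroup.mk' _, ?_⟩
  · intro a b
    obtain ⟨a, rfl⟩ := QuotientGroup.mk_surjective a
    obtain ⟨b, rfl⟩ := QuotientGroup.mk_surjective b
    change ((a * b : T) : T ⧸ L.subgroupOf T) = ((b * a : T) : T ⧸ L.subgroupOf T)
    rw [QuotientGroup.eq, mem_subgroupOf]
    have := h.hTL (b⁻¹ : T) (b⁻¹ : T).2 (a⁻¹ : T) (a⁻¹ : T).2
    have e : (((a * b)⁻¹ * (b * a) : T) : G) = (b⁻¹ : G) * (a⁻¹ : G) * (b⁻¹ : G)⁻¹ * (a⁻¹ : G)⁻¹ := by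
      push_cast
      group
    rw [e]
    exact this
  · intro g
    have := h.normal
    change (QuotientGroup.mk' (L.subgroupOf T)) g = 1 ↔ _
    rw [QuotientGroup.mk'_apply, QuotientGroup.eq_one_iff, mem_subgroupOf]

theorem comm_tz (h : Sw t z L T) : t * z = z * t := h.zc t h.tT

variable [Finite G]

/-- `T` as a Sylow subgroup of the centralizer -/
theorem odd_index (h : Sw t z L T) :
    ¬ 2 ∣ (T.subgroupOf (centralizer ({t} : Set G))).index := by
  set C : Subgroup G := centralizer ({t} : Set G) with hC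
  have hTC : T ≤ C := fun x hx => mem_centralizer_singleton_iff.2 (h.tc x hx)
  let TS : Sylow 2 C :=
    { toSubgroup := T.subgroupOf C
      isPGroup' := h.pT.comap_of_injective C.subtype C.subtype_injective
      is_maximal' := by
        intro R hR hle
        apply le_antisymm _ hle
        have h1 : R.map C.subtype ≤ T := by
          apply h.max
          · exact hR.map C.subtype
          · intro y hy
            exact ⟨⟨y, hTC hy⟩, hle (by exact hy), rfl⟩
          · rintro _ ⟨y, -, rfl⟩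
            exact mem_centralizer_singleton_iff.1 y.2
        intro y hy
        exact h1 ⟨y, hy, rfl⟩ }
  exact TS.not_dvd_index

/-- `z` is not conjugate to `t`. -/
theorem not_conj (h : Sw t z L T) (g : G) : g * t * g⁻¹ ≠ z := by
  intro hg
  obtain ⟨A, hA, φ, hφ⟩ := h.exists_hom
  set C : Subgroup G := centralizer ({t} : Set G) with hC
  have hTC : T ≤ C := fun x hx => mem_centralizer_singleton_iff.2 (h.tc x hx)
  let ψ : T.subgroupOf C →* A := φ.comp (subgroupOfEquivOfLe hTC).toMonoidHom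
  let tC : C := ⟨t, hTC h.tT⟩
  have hcen : ∀ (k : ℕ) (g₀ : C), g₀⁻¹ * tC ^ k * g₀ = tC ^ k := by
    intro k g₀
    have h1 : Commute g₀ tC := by
      apply Subtype.ext
      exact mem_centralizer_singleton_iff.1 g₀.2
    have h2 : Commute g₀ (tC ^ k) := h1.pow_right k
    rw [mul_assoc, ← h2.eq, inv_mul_cancel_left]
  have hfi : (T.subgroupOf C).FiniteIndex := inferInstance
  have h1 := MonoidHom.transfer_eq_pow ψ tC (fun k g₀ _ => hcen k g₀)
  -- the value
  have hodd : Odd (T.subgroupOf C).index := by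
    rw [← Nat.not_even_iff_odd, even_iff_two_dvd]; exact h.odd_index
  have htC : tC * tC = 1 := Subtype.ext h.tt
  have hpow : tC ^ (T.subgroupOf C).index = tC := by
    obtain ⟨k, hk⟩ := hodd
    rw [hk, pow_succ, pow_mul, pow_two, htC, one_pow, one_mul]
  have hne : MonoidHom.transfer ψ tC ≠ 1 := by
    rw [h1]
    intro h2
    have h3 : φ ⟨t, h.tT⟩ = 1 := by
      rw [← h2]
      change _ = φ (subgroupOfEquivOfLe hTC _)
      congr 1
      apply Subtype.ext
      change t = ((tC ^ (T.subgroupOf C).index : C) : G)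
      rw [hpow]
    exact h.t_notMem ((hφ _).1 h3)
  apply hne
  obtain ⟨a, b, ha, hb, hab⟩ := h.zcomm
  have hback : t = g⁻¹ * z * g := by rw [← hg]; group
  have ha' : g⁻¹ * a * g ∈ C := by
    rw [hC, mem_centralizer_singleton_iff, hback]
    calc g⁻¹ * a * g * (g⁻¹ * z * g) = g⁻¹ * (a * z) * g := by group
      _ = g⁻¹ * (z * a) * g := by rw [ha]
      _ = g⁻¹ * z * g * (g⁻¹ * a * g) := by group
  have hb' : g⁻¹ * b * g ∈ C := by
    rw [hC, mem_centralizer_singleton_iff, hback]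
    calc g⁻¹ * b * g * (g⁻¹ * z * g) = g⁻¹ * (b * z) * g := by group
      _ = g⁻¹ * (z * b) * g := by rw [hb]
      _ = g⁻¹ * z * g * (g⁻¹ * b * g) := by group
  have htab : tC = ⟨_, ha'⟩ * ⟨_, hb'⟩ * (⟨_, ha'⟩ : C)⁻¹ * (⟨_, hb'⟩ : C)⁻¹ := by
    apply Subtype.ext
    change t = g⁻¹ * a * g * (g⁻¹ * b * g) * (g⁻¹ * a * g)⁻¹ * (g⁻¹ * b * g)⁻¹
    rw [hback, hab]
    group
  rw [htab, map_mul, map_mul, map_mul, map_inv, map_inv]
  rw [mul_inv_cancel_comm, mul_inv_cancel]

theorem frame (h : Sw t z L T) : Frame t z T where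
  tt := h.tt
  zz := h.zz
  t1 := fun e => h.t_notMem (by rw [e]; exact one_mem _)
  z1 := h.z1
  ne := fun e => h.t_notMem (by rw [← e]; exact h.zL)
  pT := h.pT
  tT := h.tT
  tc := h.tc
  zT := h.zT
  zc := h.zc
  max := h.max
  om := h.om
  iso := by
    intro g h1 h2
    rcases h2 with h2 | h2 | h2
    · exfalso
      apply h.not_conj g⁻¹
      rw [← h2]; group
    · exact h2
    · exfalso
      rcases h1 with h1 | h1 | h1
      · have h3 : g * z * g⁻¹ ∈ L := by
          apply h.nL g (mul_inv_eq_iff_eq_mul.1 h1) z h.zL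
        rw [h2] at h3
        apply h.t_notMem
        have : t = t * z * z⁻¹ := by group
        rw [this]
        exact L.mul_mem h3 (L.inv_mem h.zL)
      · exact h.not_conj g h1
      · have h3 : t = z := Frame.conj_inj (h1.trans h2.symm)
        exact h.t_notMem (by rw [h3]; exact h.zL)

/-- `T` is not a Sylow subgroup of `G`. -/
theorem not_sylow (h : Sw t z L T) (hG : ∀ (A : Type u) [CommGroup A] (f : G →* A) (u : G), f u = 1)
    (S : Sylow 2 G) : (S : Subgroup G) ≠ T := by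
  classical
  intro hST
  obtain ⟨A, hA, φ, hφ⟩ := h.exists_hom
  have : Fintype (G ⧸ T) := Fintype.ofFinite _
  have F := h.frame
  have ht2 : t ^ 2 = 1 := by rw [pow_two, h.tt]
  have hord : orderOf t = 2 := orderOf_eq_prime ht2 F.t1
  have h1 := transfer_eq_D T φ t (by
    intro k hk hk1 g hg
    rw [hord] at hk
    have hk2 : k = 2 := by
      rcases (Nat.dvd_prime Nat.prime_two).1 hk with h | h
      · exact absurd h hk1
      · exact h
    subst hk2
    rw [hφ]
    change g⁻¹ * t ^ 2 * g ∈ L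
    rw [ht2]
    have : g⁻¹ * 1 * g = 1 := by group
    rw [this]
    exact one_mem _) T h.pT h.tT h.tc
  rw [hG] at h1
  -- the values
  have hval : ∀ q ∈ Finset.univ.filter (fun q : G ⧸ T => ∀ d ∈ T, d • q = q), val T φ t q = φ ⟨t, h.tT⟩ := by
    intro q hq
    have hq' := (Finset.mem_filter.1 hq).2
    obtain ⟨g, rfl⟩ := QuotientGroup.mk_surjective q
    have hg : ∀ d ∈ T, g⁻¹ * d * g ∈ T := fun d hd => (smul_mk_eq T d g).1 (hq' d hd)
    have hgN : g⁻¹ ∈ normalizer (T : Set G) := by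
      apply mem_normalizer_fintype
      intro d hd
      have := hg d hd
      rwa [inv_inv]
    rw [val_mk T φ t g (hg t h.tT)]
    obtain ⟨-, h2⟩ := F.act hgN
    rw [inv_inv] at h2
    have h3 : (φ ⟨t, h.tT⟩)⁻¹ * φ ⟨g⁻¹ * t * g, hg t h.tT⟩ = 1 := by
      rw [← map_inv, ← map_mul, hφ]
      change t⁻¹ * (g⁻¹ * t * g) ∈ L
      rcases h2 with h2 | h2 <;> rw [h2]
      · rw [inv_mul_cancel]; exact one_mem _
      · rw [inv_mul_cancel_left]; exact h.zL
    rw [inv_mul_eq_one] at h3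
    exact h3.symm
  rw [Finset.prod_congr rfl hval, Finset.prod_const] at h1
  -- the number of fixed cosets is odd
  have hcard : Odd (Finset.univ.filter (fun q : G ⧸ T => ∀ d ∈ T, d • q = q)).card := by
    have h2 := h.pT.card_modEq_card_fixedPoints (G ⧸ T)
    have h3 : Nat.card (MulAction.fixedPoints T (G ⧸ T)) =
        (Finset.univ.filter (fun q : G ⧸ T => ∀ d ∈ T, d • q = q)).card := by
      rw [← Fintype.card_subtype, ← Nat.card_eq_fintype_card]
      refine Nat.card_congr (Equiv.subtypeEquivRight fun q => ?_)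
      exact ⟨fun hq d hd => hq ⟨d, hd⟩, fun hq d => hq d d.2⟩
    rw [h3] at h2
    have h4 : ¬ 2 ∣ T.index := by
      rw [← hST]
      exact S.not_dvd_index
    have h5 : Nat.card (G ⧸ T) = T.index := rfl
    rw [h5] at h2
    rw [Nat.odd_iff]
    have h6 : T.index % 2 = 1 := by omega
    unfold Nat.ModEq at h2
    omega
  obtain ⟨k, hk⟩ := hcard
  have h2 : φ ⟨t, h.tT⟩ * φ ⟨t, h.tT⟩ = 1 := by
    rw [← map_mul, hφ]
    change t * t ∈ L
    rw [h.tt]
    exact one_mem _
  rw [hk, pow_succ, pow_mul, pow_two, h2, one_pow, one_mul] at h1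
  exact h.t_notMem ((hφ _).1 h1.symm)

/-- **Step (1).** -/
theorem exists_swap (h : Sw t z L T) (hG : ∀ (A : Type u) [CommGroup A] (f : G →* A) (u : G), f u = 1) :
    ∃ g : G, g * z * g⁻¹ = z ∧ g * t * g⁻¹ = t * z := by
  obtain ⟨S, hS⟩ := h.pT.exists_le_sylow
  obtain ⟨x, -, -, -, h1, h2⟩ := h.frame.exists_swap S (lt_of_le_of_ne hS (h.not_sylow hG S).symm)
  exact ⟨x, h2, h1⟩

/-- In a nonabelian simple group. -/
theorem hom_eq_one {G : Type u} [Group G] [IsSimpleGroup G] (hG : ¬ IsMulCommutative G) (A : Type u)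
    [CommGroup A] (f : G →* A) (u : G) : f u = 1 := by
  rcases (inferInstance : f.ker.Normal).eq_bot_or_eq_top with h | h
  · exfalso
    apply hG
    refine ⟨⟨fun a b => ?_⟩⟩
    have hinj := (MonoidHom.ker_eq_bot_iff f).1 h
    apply hinj
    rw [map_mul, map_mul, mul_comm]
  · have : u ∈ f.ker := by rw [h]; exact mem_top _
    exact this

end Sw

end Cfsg.Agent.StdO8.DoubSwap
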