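import Mathlib
import Cfsg.Agent.StdO8.FactI
import Cfsg.Agent.StdO8.Uni
import Cfsg.Agent.OddHalf.TR

/-!
# The frame `(t, z, T)` for `Ω₈⁺(2)`: `Ω₁(Z(T)) = ⟨t, z⟩` and `z` is isolated in it
-/

set_option autoImplicit false

namespace Cfsg.Agent.StdO8.FactK

open Cfsg.Agent.StdO8.Model Cfsg.Agent.StdO8.Code Cfsg.Agent.StdO8.Gen Cfsg.Agent.StdO8.FactD
open Cfsg.Agent.StdO8.Aut Cfsg.Agent.StdO8.Frame Cfsg.Agent.StdO8.FactH
open Cfsg.Agent.StdO8.DoubCore (DD QQ TZ)
open Cfsg.Agent.StdO8.DoubRoot (zr rr al)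
open Cfsg.Agent.StdO8.DataOf (x xm)
open Cfsg.Agent.StdO8.Bas (bv wt)
open Cfsg.Agent.StdO8.D4Root (E ip roots Φ)
open Cfsg.Agent.StdO8.Uni (ht hw U)

/-! ### The centraliser of the positive root elements -/

theorem two_lines {M : V ≃ₗ[ZMod 2] V} (hM : M ∈ O8) {a b c : ℕ}
    (hq : (!qn a && !qn b && !qn c && !Bn a b && !Bn a c) = true)
    (hlt : a < 256 ∧ b < 256 ∧ c < 256) (h0 : a ≠ 0 ∧ b ≠ 0 ∧ c ≠ 0) (hab : a ≠ b) (hac : a ≠ c)
    (hbc : b ≠ c) (hbac : b ≠ a ^^^ c) (hcab : a ^^^ b ≠ c) (hx : a ^^^ b ≠ a ^^^ c)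
    (h1 : M * X (dec a) (dec b) = X (dec a) (dec b) * M) (h2 : M * X (dec a) (dec c) = X (dec a) (dec c) * M) :
    M (dec a) = dec a := by
  simp only [Bool.and_eq_true, Bool.not_eq_true'] at hq
  obtain ⟨⟨⟨⟨qa, qb⟩, qc⟩, Bab⟩, Bac⟩ := hq
  have e1 := mem_of_commute hM (u := dec a) (w := dec b) (by rw [q_dec, qa]; rfl) (by rw [q_dec, qb]; rfl)
    (by rw [B_dec, Bab]; rfl) (dec_ne_zero hlt.1 h0.1) (dec_ne_zero hlt.2.1 h0.2.1)
    (fun h => hab (dec_inj hlt.1 hlt.2.1 h)) h1
  have e2 := mem_of_commute hM (u := dec a) (w := dec c) (by rw [q_dec, qa]; rfl) (by rw [q_dec, qc]; rfl)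
    (by rw [B_dec, Bac]; rfl) (dec_ne_zero hlt.1 h0.1) (dec_ne_zero hlt.2.2 h0.2.2)
    (fun h => hac (dec_inj hlt.1 hlt.2.2 h)) h2
  have hxl : ∀ {m n : ℕ}, m < 256 → n < 256 → m ^^^ n < 256 := fun hm hn => Nat.xor_lt_two_pow (n := 8) hm hn
  rcases e1.1 with h | h | h
  · exact h
  · exfalso
    rcases e2.1 with h' | h' | h'
    · exact hab (dec_inj hlt.1 hlt.2.1 (h'.symm.trans h))
    · exact hbc (dec_inj hlt.2.1 hlt.2.2 (h.symm.trans h'))
    · rw [← dec_xor] at h'
      exact hbac (dec_inj hlt.2.1 (hxl hlt.1 hlt.2.2) (h.symm.trans h'))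
  · exfalso
    rw [← dec_xor] at h
    rcases e2.1 with h' | h' | h'
    · have := dec_inj (hxl hlt.1 hlt.2.1) hlt.1 (h.symm.trans h')
      apply h0.2.1
      have e3 := congrArg (fun v => a ^^^ v) this
      simp only [← Nat.xor_assoc, Nat.xor_self, Nat.zero_xor] at e3
      exact e3
    · exact hcab (dec_inj (hxl hlt.1 hlt.2.1) hlt.2.2 (h.symm.trans h'))
    · rw [← dec_xor] at h'
      exact hx (dec_inj (hxl hlt.1 hlt.2.1) (hxl hlt.1 hlt.2.2) (h.symm.trans h'))

variable {G : Type*} [Group G] (C : Ctx G)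

theorem xO_wt' {i j : Fin 8} (h : Bas.ok i j) : Bas.xO (wt i + wt j) = X (dec (2 ^ i.1)) (dec (2 ^ j.1)) :=
  congrArg Subtype.val (xm_wt h)

theorem ht_wt_add (i j : Fin 8) : ht (wt i + wt j) = hw i + hw j := by
  rw [map_add, Uni.ht_wt, Uni.ht_wt]

/-- **(f1a)** -/
theorem cent_pos {g : G} (hg : g * C.t = C.t * g) (h : ∀ s ∈ Φ, 0 < ht s → g * x C s = x C s * g) :
    TZ C.t (x C zr) g := by
  have hpair : ∀ i j : Fin 8, Bas.ok i j → 0 < hw i + hw j → g * C.r (xm (wt i + wt j)) = C.r (xm (wt i + wt j)) * g :=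
    fun i j hij hh => h _ (Bas.wt_mem i j hij) (by rw [ht_wt_add]; exact hh)
  have hzτ : Commute g (C.r (zO * τO 0)) := by
    rw [map_mul]
    refine Commute.mul_right ?_ ?_
    · have := hpair 0 1 (by decide) (by decide)
      rw [← zr_eq, xm_z] at this
      exact this
    · have := hpair 0 5 (by decide) (by decide)
      have e : al 0 = wt 0 + wt 5 := by decide
      rw [← e, xm_τ] at this
      exact this
  obtain ⟨M, hM⟩ := C.isLin_of_commute hg zτ0_c2 hzτ
  have hline : ∀ i j : Fin 8, Bas.ok i j → 0 < hw i + hw j →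
      (M : V ≃ₗ[ZMod 2] V) * X (dec (2 ^ i.1)) (dec (2 ^ j.1)) = X (dec (2 ^ i.1)) (dec (2 ^ j.1)) * M := by
    intro i j hij hh
    have := (hM.commute_iff (xm (wt i + wt j))).1 (hpair i j hij hh)
    rw [xm_wt hij] at this
    exact this
  have hfin := FactG.kerz M.2 (by
    intro a ha
    simp only [List.mem_cons, List.not_mem_nil, or_false] at ha
    rcases ha with rfl | rfl | rfl | rfl | rfl | rfl
    · exact two_lines M.2 (a := 1) (b := 2) (c := 4) (by decide) (by decide) (by decide) (by decide) (by decide)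
        (by decide) (by decide) (by decide) (by decide) (hline 0 1 (by decide) (by decide)) (hline 0 2 (by decide) (by decide))
    · exact two_lines M.2 (a := 2) (b := 1) (c := 4) (by decide) (by decide) (by decide) (by decide) (by decide)
        (by decide) (by decide) (by decide) (by decide) (hline 1 0 (by decide) (by decide)) (hline 1 2 (by decide) (by decide))
    · exact two_lines M.2 (a := 4) (b := 1) (c := 2) (by decide) (by decide) (by decide) (by decide) (by decide)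
        (by decide) (by decide) (by decide) (by decide) (hline 2 0 (by decide) (by decide)) (hline 2 1 (by decide) (by decide))
    · exact two_lines M.2 (a := 8) (b := 1) (c := 2) (by decide) (by decide) (by decide) (by decide) (by decide)
        (by decide) (by decide) (by decide) (by decide) (hline 3 0 (by decide) (by decide)) (hline 3 1 (by decide) (by decide))
    · exact two_lines M.2 (a := 64) (b := 1) (c := 2) (by decide) (by decide) (by decide) (by decide) (by decide)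
        (by decide) (by decide) (by decide) (by decide) (hline 6 0 (by decide) (by decide)) (hline 6 1 (by decide) (by decide))
    · exact two_lines M.2 (a := 128) (b := 1) (c := 2) (by decide) (by decide) (by decide) (by decide) (by decide)
        (by decide) (by decide) (by decide) (by decide) (hline 7 0 (by decide) (by decide)) (hline 7 1 (by decide) (by decide)))
  rw [x_z]
  rcases hfin with h1 | h1
  · have e : M = 1 := Subtype.ext h1
    rw [e] at hM
    rcases hM.eq_of_one with h2 | h2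
    · exact Or.inl h2
    · exact Or.inr (Or.inl h2)
  · rcases DataOf.eq_of_isLin C hM h1 with h2 | h2
    · exact Or.inr (Or.inr (Or.inl h2))
    · exact Or.inr (Or.inr (Or.inr h2))

/-! ### `z` is a commutator, `t` is not in the commutator subgroup -/

theorem z_comm : ∃ a b : G, a ∈ C.L ∧ b ∈ C.L ∧ a * x C zr = x C zr * a ∧ b * x C zr = x C zr * b ∧
    x C zr = a * b * a⁻¹ * b⁻¹ := by
  have hb : word (FactF.rw1 (1, 1, 1)) ∈ QQ zO rO dO := FactF.qw_mem [(1, 1, 1)] |> fun h => by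
    rwa [FactF.qw, FactF.qw, List.append_nil] at h
  set b := word (FactF.rw1 (1, 1, 1)) with hb'
  have e1 : rO * b * rO * b = zO := by
    have := word_eq (l := Gw 1 ++ FactF.rw1 (1, 1, 1) ++ Gw 1 ++ FactF.rw1 (1, 1, 1)) (l' := Gw 0) (by decide +kernel)
    rwa [word_append, word_append, word_append] at this
  have e2 : b * b = 1 := by
    have := word_eq (l := FactF.rw1 (1, 1, 1) ++ FactF.rw1 (1, 1, 1)) (l' := []) (by decide +kernel)
    rwa [word_append] at this
  have e3 : b * zO = zO * b := by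
    have := word_eq (l := FactF.rw1 (1, 1, 1) ++ Gw 0) (l' := Gw 0 ++ FactF.rw1 (1, 1, 1)) (by decide +kernel)
    rwa [word_append, word_append] at this
  refine ⟨C.r rO, C.r b, C.r_mem _, C.r_mem _, ?_, ?_, ?_⟩
  · rw [x_z, ← map_mul, ← map_mul, FactG.zr]
  · rw [x_z, ← map_mul, ← map_mul, e3]
  · rw [x_z, ← map_inv, ← map_inv, ← map_mul, ← map_mul, ← map_mul, inv_eq_of_mul_eq_one_left FactG.rr,
      inv_eq_of_mul_eq_one_left e2, e1]

theorem L_normal {g l : G} (hg : g * C.t = C.t * g) (hl : l ∈ C.L) : g * l * g⁻¹ ∈ C.L := by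
  obtain ⟨m, rfl⟩ := hl
  obtain ⟨α, hα⟩ := C.norm g hg
  rw [hα]
  exact C.r_mem _

theorem comm_of_inner {u h : G} (hu : u ∈ C.L ∨ C.t * u ∈ C.L) (hh : h * C.t = C.t * h) :
    u * h * u⁻¹ * h⁻¹ ∈ C.L := by
  have key : ∀ u ∈ C.L, u * h * u⁻¹ * h⁻¹ ∈ C.L := by
    intro u hu
    have : u * h * u⁻¹ * h⁻¹ = u * (h * u⁻¹ * h⁻¹) := by group
    rw [this]
    exact mul_mem hu (L_normal C hh (inv_mem hu))
  rcases hu with hu | hu
  · exact key u hu
  · have h1 := key _ hu
    have e : C.t * u * h * (C.t * u)⁻¹ * h⁻¹ = C.t * (u * h * u⁻¹) * C.t⁻¹ * h⁻¹ := by group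
    have hut : Commute u C.t := by
      obtain ⟨m, hm⟩ := hu
      have : u = C.t * C.r m := by rw [hm, ← mul_assoc, C.tt, one_mul]
      rw [this]
      exact (Commute.refl _).mul_left (C.comm m)
    have hc : Commute (u * h * u⁻¹) C.t := (hut.mul_left hh).mul_left hut.inv_left
    rw [e, ← hc.eq, mul_inv_cancel_right] at h1
    exact h1

theorem inner_of {g : G} {M : O8} (hM : C.IsLin g M) (h : (M : V ≃ₗ[ZMod 2] V) ∈ Om) : g ∈ C.L ∨ C.t * g ∈ C.L := by
  rcases DataOf.eq_of_isLin C hM (m := ⟨M, h⟩) rfl with h1 | h1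
  · left; rw [h1]; exact C.r_mem _
  · right; rw [h1, ← mul_assoc, C.tt, one_mul]; exact C.r_mem _

theorem comm_lin {g h : G} (hg : g ∈ Lin C.t C.r) (hh : h ∈ Lin C.t C.r) : g * h * g⁻¹ * h⁻¹ ∈ C.L := by
  obtain ⟨M, hM⟩ := C.mem_Lin.1 hg
  obtain ⟨N, hN⟩ := C.mem_Lin.1 hh
  rcases FactG.mem_or M.2 with h1 | h1
  · exact comm_of_inner C (inner_of C hM h1) hh.1
  rcases FactG.mem_or N.2 with h2 | h2
  · have := comm_of_inner C (inner_of C hN h2) hg.1
    have e : g * h * g⁻¹ * h⁻¹ = (h * g * h⁻¹ * g⁻¹)⁻¹ := by group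
    rw [e]
    exact inv_mem this
  · have h3 : (M : V ≃ₗ[ZMod 2] V) * (N : V ≃ₗ[ZMod 2] V)⁻¹ ∈ Om := by
      have e : (M : V ≃ₗ[ZMod 2] V) * (N : V ≃ₗ[ZMod 2] V)⁻¹ = (M * FactG.rh) * (N * FactG.rh)⁻¹ := by group
      rw [e]
      exact mul_mem h1 (inv_mem h2)
    have h4 := comm_of_inner C (inner_of C (hM.mul hN.inv) h3) hh.1
    have e : g * h⁻¹ * h * (g * h⁻¹)⁻¹ * h⁻¹ = g * h * g⁻¹ * h⁻¹ := by group
    rwa [e] at h4

theorem t_notMem_comm [Finite G] :
    C.t ∉ (⁅Subgroup.centralizer {C.t}, Subgroup.centralizer {C.t}⁆ : Subgroup G) := by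
  intro hmem
  set K : Subgroup G := Subgroup.centralizer {C.t} with hK
  have htK : C.t ∈ K := Subgroup.mem_centralizer_singleton_iff.2 rfl
  set H : Subgroup K := (Lin C.t C.r).subgroupOf K with hH
  have hodd : Odd H.index := C.odd
  -- `t` in the commutator subgroup of `K`
  have h1 : (⟨C.t, htK⟩ : K) ∈ commutator K := by
    have h2 : (commutator K).map K.subtype = ⁅K, K⁆ := Subgroup.map_subtype_commutator K
    rw [← h2] at hmem
    obtain ⟨y, hy, hyt⟩ := hmem
    have : y = ⟨C.t, htK⟩ := Subtype.ext hyt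
    rwa [← this]
  have h2 : MonoidHom.transfer (Abelianization.of (G := H)) ⟨C.t, htK⟩ = 1 :=
    Abelianization.commutator_subset_ker _ h1
  have hcen : ∀ g₀ : K, (⟨C.t, htK⟩ : K) * g₀ = g₀ * ⟨C.t, htK⟩ := fun g₀ => by
    apply Subtype.ext
    exact (Subgroup.mem_centralizer_singleton_iff.1 g₀.2).symm
  have key : ∀ (k : ℕ) (g₀ : K), g₀⁻¹ * (⟨C.t, htK⟩ : K) ^ k * g₀ ∈ H →
      g₀⁻¹ * (⟨C.t, htK⟩ : K) ^ k * g₀ = (⟨C.t, htK⟩ : K) ^ k := by
    intro k g₀ _
    have h3 : Commute (⟨C.t, htK⟩ : K) g₀ := hcen g₀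
    rw [mul_assoc, (h3.pow_left k).eq, inv_mul_cancel_left]
  rw [MonoidHom.transfer_eq_pow _ _ key] at h2
  have h3 : (⟨C.t, htK⟩ : K) ^ H.index = ⟨C.t, htK⟩ := by
    obtain ⟨m, hm⟩ := hodd
    have h4 : (⟨C.t, htK⟩ : K) ^ 2 = 1 := by
      rw [pow_two]
      exact Subtype.ext C.tt
    rw [hm, pow_succ, pow_mul, h4, one_pow, one_mul]
  -- the abelianisation of `H`
  have h5 : (⟨(⟨C.t, htK⟩ : K) ^ H.index, MonoidHom.transfer_eq_pow_aux _ key⟩ : H) ∈ commutator H := by
    rw [← Abelianization.ker_of, MonoidHom.mem_ker]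
    exact h2
  have h6 : (commutator H).map (K.subtype.comp H.subtype) ≤ C.L := by
    rw [commutator_def, Subgroup.map_commutator, Subgroup.commutator_le]
    rintro _ ⟨a, -, rfl⟩ _ ⟨b, -, rfl⟩
    exact comm_lin C a.2 b.2
  have h7 := h6 ⟨_, h5, rfl⟩
  apply C.t_notMem
  have h8 : (K.subtype.comp H.subtype) ⟨(⟨C.t, htK⟩ : K) ^ H.index, MonoidHom.transfer_eq_pow_aux _ key⟩ = C.t := by
    show (((⟨C.t, htK⟩ : K) ^ H.index : K) : G) = C.t
    rw [h3]
  rwa [h8] at h7

/-- elements of `C(t)` -/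
theorem L_le : C.L ≤ Subgroup.centralizer {C.t} := by
  rintro _ ⟨m, rfl⟩
  exact Subgroup.mem_centralizer_singleton_iff.2 (C.comm m).eq

theorem z_mem_comm : x C zr ∈ (⁅Subgroup.centralizer {C.t}, Subgroup.centralizer {C.t}⁆ : Subgroup G) := by
  obtain ⟨a, b, ha, hb, -, -, e⟩ := z_comm C
  rw [e]
  exact Subgroup.commutator_mem_commutator (L_le C ha) (L_le C hb)

theorem tz_notMem_comm [Finite G] :
    C.t * x C zr ∉ (⁅Subgroup.centralizer {C.t}, Subgroup.centralizer {C.t}⁆ : Subgroup G) := by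
  intro h
  apply t_notMem_comm C
  have := mul_mem h (inv_mem (z_mem_comm C))
  rwa [mul_inv_cancel_right] at this

/-- **`z` is isolated in `⟨t, z⟩`.** -/
theorem iso [Finite G] (g : G)
    (h1 : g * C.t * g⁻¹ = C.t ∨ g * C.t * g⁻¹ = x C zr ∨ g * C.t * g⁻¹ = C.t * x C zr)
    (h2 : g * x C zr * g⁻¹ = C.t ∨ g * x C zr * g⁻¹ = x C zr ∨ g * x C zr * g⁻¹ = C.t * x C zr) :
    g * x C zr * g⁻¹ = x C zr := by
  have hz1 : x C zr ≠ 1 := by
    rw [x_z, ← map_one C.r]; exact rne C FactG.z1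
  have hzz : x C zr * x C zr = 1 := DataOf.x_sq C _
  have htz : C.t * x C zr = x C zr * C.t := (C.comm _).eq.symm
  have hne : g * C.t * g⁻¹ ≠ g * x C zr * g⁻¹ := by
    intro h
    apply C.t_notMem
    have : C.t = x C zr := mul_left_cancel (mul_right_cancel h)
    rw [this]
    exact DataOf.x_mem C _
  -- `t` is a product of the conjugates
  have hgen : ∀ c : G, c * (g * C.t * g⁻¹) = (g * C.t * g⁻¹) * c → c * (g * x C zr * g⁻¹) = (g * x C zr * g⁻¹) * c →
      c * C.t = C.t * c := by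
    intro c hc1 hc2
    rcases h1 with e1 | e1 | e1
    · rwa [e1] at hc1
    · rcases h2 with e2 | e2 | e2
      · rwa [e2] at hc2
      · exact absurd (e1.trans e2.symm) hne
      · rw [e1] at hc1
        rw [e2] at hc2
        have e : C.t = C.t * x C zr * x C zr := by rw [mul_assoc, hzz, mul_one]
        calc c * C.t = c * (C.t * x C zr) * x C zr := by rw [mul_assoc c, ← e]
          _ = C.t * x C zr * (c * x C zr) := by rw [hc2, mul_assoc]
          _ = C.t * x C zr * x C zr * c := by rw [hc1, ← mul_assoc]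
          _ = C.t * c := by rw [← e]
    · rcases h2 with e2 | e2 | e2
      · rwa [e2] at hc2
      · rw [e1] at hc1
        rw [e2] at hc2
        have e : C.t = C.t * x C zr * x C zr := by rw [mul_assoc, hzz, mul_one]
        calc c * C.t = c * (C.t * x C zr) * x C zr := by rw [mul_assoc c, ← e]
          _ = C.t * x C zr * (c * x C zr) := by rw [hc1, mul_assoc]
          _ = C.t * x C zr * x C zr * c := by rw [hc2, ← mul_assoc]
          _ = C.t * c := by rw [← e]
      · exact absurd (e1.trans e2.symm) hne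
  obtain ⟨a, b, ha, hb, haz, hbz, e⟩ := z_comm C
  have hmem : ∀ a ∈ C.L, a * x C zr = x C zr * a → g * a * g⁻¹ ∈ Subgroup.centralizer {C.t} := by
    intro a ha haz
    rw [Subgroup.mem_centralizer_singleton_iff]
    have hat : a * C.t = C.t * a := Subgroup.mem_centralizer_singleton_iff.1 (L_le C ha)
    apply hgen
    · calc g * a * g⁻¹ * (g * C.t * g⁻¹) = g * (a * C.t) * g⁻¹ := by group
        _ = _ := by rw [hat]; group
    · calc g * a * g⁻¹ * (g * x C zr * g⁻¹) = g * (a * x C zr) * g⁻¹ := by group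
        _ = _ := by rw [haz]; group
  have hcomm : g * x C zr * g⁻¹ ∈ (⁅Subgroup.centralizer {C.t}, Subgroup.centralizer {C.t}⁆ : Subgroup G) := by
    have e2 : g * x C zr * g⁻¹ = g * a * g⁻¹ * (g * b * g⁻¹) * (g * a * g⁻¹)⁻¹ * (g * b * g⁻¹)⁻¹ := by
      conv_lhs => rw [e]
      group
    rw [e2]
    exact Subgroup.commutator_mem_commutator (hmem a ha haz) (hmem b hb hbz)
  rcases h2 with h2 | h2 | h2
  · rw [h2] at hcomm
    exact absurd hcomm (t_notMem_comm C)
  · exact h2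
  · rw [h2] at hcomm
    exact absurd hcomm (tz_notMem_comm C)

/-! ### The Sylow subgroup -/

theorem mem_U {s : E} (hs : s ∈ Φ) (h : 0 < ht s) : x C s ∈ U C :=
  Cfsg.Agent.OddHalf.SL.Bridge.le_pos (X := fun r => Subgroup.zpowers (x C r)) hs h (Subgroup.mem_zpowers _)

theorem U_comm {g : G} (h : ∀ s ∈ Φ, 0 < ht s → g * x C s = x C s * g) {u : G} (hu : u ∈ U C) : g * u = u * g := by
  have : U C ≤ Subgroup.centralizer {g} := iSup₂_le fun a ha => by
    rw [Subgroup.zpowers_le, Subgroup.mem_centralizer_singleton_iff]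
    exact (h a ha.1 ha.2).symm
  exact (Subgroup.mem_centralizer_singleton_iff.1 (this hu)).symm

theorem z_U : zr ∈ Φ ∧ 0 < ht zr := by
  refine ⟨by decide, ?_⟩
  rw [zr_eq, ht_wt_add]
  decide

theorem z_top : ∀ s ∈ roots, 0 < 3 * s 0 + 2 * s 1 + s 2 → 0 ≤ ip zr s := by decide +kernel

/-- `z` centralises the positive root elements -/
theorem z_cent {s : E} (hs : s ∈ Φ) (h : 0 < ht s) : x C zr * x C s = x C s * x C zr :=
  DataOf.x_comm C z_U.1 hs (z_top s hs (by rwa [Uni.ht_apply] at h))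

/-- `T ∩ L = U` for a 2-group `T ≥ U` -/
theorem inf_L [Finite G] {T : Subgroup G} (pT : IsPGroup 2 T) (hU : U C ≤ T) : T ⊓ C.L = U C := by
  symm
  apply Subgroup.eq_of_le_of_card_ge (le_inf hU (Uni.U_le C))
  have hp : IsPGroup 2 (T ⊓ C.L : Subgroup G) := pT.to_le inf_le_left
  obtain ⟨n, hn⟩ := IsPGroup.iff_card.1 hp
  have hd : Nat.card (T ⊓ C.L : Subgroup G) ∣ Nat.card C.L := Subgroup.card_dvd_of_le inf_le_right
  rw [hn, Uni.card_L] at hd
  rw [hn, Uni.card_U]
  have h2 : Nat.Coprime (2 ^ n) 42525 := Nat.Coprime.pow_left n (by decide)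
  have h3 := h2.dvd_of_dvd_mul_right hd
  exact Nat.le_of_dvd (by norm_num) h3

/-- **The frame** for every Sylow subgroup of `C(t)` containing `U`. -/
theorem frame_of [Finite G] {T : Subgroup G} (pT : IsPGroup 2 T) (hU : U C ≤ T) (hT : ∀ y ∈ T, y * C.t = C.t * y)
    (max : ∀ P : Subgroup G, IsPGroup 2 P → T ≤ P → (∀ y ∈ P, y * C.t = C.t * y) → P ≤ T) :
    Cfsg.Agent.OddHalf.TR.Frame C.t (x C zr) T := by
  have hz1 : x C zr ≠ 1 := by
    rw [x_z, ← map_one C.r]; exact rne C FactG.z1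
  have hzz : x C zr * x C zr = 1 := DataOf.x_sq C _
  have htT : C.t ∈ T := by
    have h1 : IsPGroup 2 (T ⊔ Subgroup.zpowers C.t : Subgroup G) := by
      by_cases h : C.t ∈ T
      · have : T ⊔ Subgroup.zpowers C.t = T := sup_eq_left.2 (by rwa [Subgroup.zpowers_le])
        rw [this]; exact pT
      · obtain ⟨n, hn⟩ := IsPGroup.iff_card.1 pT
        have h2 := Uni.card_sup C.tt (H := T) (fun y hy => by
          rw [← hT y hy, mul_assoc, C.tt, mul_one]; exact hy) h
        exact IsPGroup.of_card (n := n + 1) (by rw [h2, hn, pow_succ]; ring)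
    refine max _ h1 le_sup_left ?_ (Subgroup.mem_sup_right (Subgroup.mem_zpowers _))
    intro y hy
    have h2 : T ⊔ Subgroup.zpowers C.t ≤ Subgroup.centralizer {C.t} := by
      rw [sup_le_iff, Subgroup.zpowers_le]
      exact ⟨fun y hy => Subgroup.mem_centralizer_singleton_iff.2 (hT y hy),
        Subgroup.mem_centralizer_singleton_iff.2 rfl⟩
    exact Subgroup.mem_centralizer_singleton_iff.1 (h2 hy)
  have hzT : x C zr ∈ T := hU (mem_U C z_U.1 z_U.2)
  have hcentral : ∀ y ∈ T, y * x C zr = x C zr * y := by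
    intro y hy
    have hyt := hT y hy
    -- `y` normalises `U`
    have hN : ∀ u ∈ U C, y⁻¹ * u * y ∈ U C := by
      intro u hu
      rw [← inf_L C pT hU]
      refine Subgroup.mem_inf.2 ⟨mul_mem (mul_mem (inv_mem hy) (hU hu)) hy, ?_⟩
      have h3 : y⁻¹ * C.t = C.t * y⁻¹ := by
        have : Commute y C.t := hyt
        exact this.inv_left.eq
      have := L_normal C h3 (Uni.U_le C hu)
      rwa [inv_inv] at this
    have h1 : TZ C.t (x C zr) (y * x C zr * y⁻¹) := by
      apply cent_pos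
      · have h3 : Commute y C.t := hyt
        exact ((h3.mul_left (C.comm _)).mul_left h3.inv_left).eq
      · intro s hs hh
        have h3 := hN _ (mem_U C hs hh)
        have h4 : x C zr * (y⁻¹ * x C s * y) = y⁻¹ * x C s * y * x C zr :=
          U_comm C (fun s hs hh => z_cent C hs hh) h3
        calc y * x C zr * y⁻¹ * x C s = y * (x C zr * (y⁻¹ * x C s * y)) * y⁻¹ := by group
          _ = _ := by rw [h4]; group
    have h2 : y * x C zr * y⁻¹ ∈ C.L := L_normal C hyt (DataOf.x_mem C _)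
    rcases h1 with h1 | h1 | h1 | h1
    · exfalso
      apply hz1
      rw [mul_inv_eq_one] at h1
      exact mul_eq_left.1 h1
    · exact absurd (h1 ▸ h2) C.t_notMem
    · rwa [mul_inv_eq_iff_eq_mul] at h1
    · exfalso
      apply C.t_notMem
      have h3 := mul_mem h2 (inv_mem (DataOf.x_mem C zr))
      rw [h1, mul_inv_cancel_right] at h3
      exact h3
  exact
    { tt := C.tt
      zz := hzz
      t1 := C.t_ne
      z1 := hz1
      ne := fun h => C.t_notMem (h ▸ DataOf.x_mem C zr)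
      pT := pT
      tT := htT
      tc := hT
      zT := hzT
      zc := hcentral
      max := max
      om := by
        intro y hy hyc _
        exact cent_pos C (hT y hy) fun s hs hh => (hyc _ (hU (mem_U C hs hh))).symm
      iso := iso C }

/-- **Existence of the frame.** -/
theorem frame [Finite G] : ∃ T : Subgroup G, Cfsg.Agent.OddHalf.TR.Frame C.t (x C zr) T ∧ U C ≤ T := by
  set K : Subgroup G := Subgroup.centralizer {C.t} with hK
  have hUK : U C ≤ K := (Uni.U_le C).trans (L_le C)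
  have hp : IsPGroup 2 ((U C).subgroupOf K) := by
    have h1 : Nat.card ((U C).subgroupOf K) = 2 ^ 12 := by
      rw [Nat.card_congr (Subgroup.subgroupOfEquivOfLe hUK).toEquiv, Uni.card_U]
    exact IsPGroup.of_card h1
  obtain ⟨P, hP⟩ := hp.exists_le_sylow
  have hUT : U C ≤ (P : Subgroup K).map K.subtype := by
    intro u hu
    exact ⟨⟨u, hUK hu⟩, hP (Subgroup.mem_subgroupOf.2 hu), rfl⟩
  refine ⟨(P : Subgroup K).map K.subtype, frame_of C (P.isPGroup'.map _) hUT ?_ ?_, hUT⟩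
  · rintro _ ⟨y, -, rfl⟩
    exact Subgroup.mem_centralizer_singleton_iff.1 y.2
  · intro R hR hle hRt
    have hRK : R ≤ K := fun y hy => Subgroup.mem_centralizer_singleton_iff.2 (hRt y hy)
    have h1 : IsPGroup 2 (R.subgroupOf K) := hR.comap_of_injective _ K.subtype_injective
    have h2 : (P : Subgroup K) ≤ R.subgroupOf K := by
      intro y hy
      rw [Subgroup.mem_subgroupOf]
      exact hle ⟨y, hy, rfl⟩
    have h3 := P.is_maximal' h1 h2
    intro y hy
    refine ⟨⟨y, hRK hy⟩, ?_, rfl⟩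
    have h4 : (⟨y, hRK hy⟩ : K) ∈ R.subgroupOf K := Subgroup.mem_subgroupOf.2 hy
    rw [h3] at h4
    exact h4

end Cfsg.Agent.StdO8.FactK
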