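import Cfsg.Agent.StdO8.EvenF
import Cfsg.Agent.StdO8.FactK
import Cfsg.Agent.StdO8.CardC
import Cfsg.Agent.Doubling.Even
import Cfsg.Agent.Doubling.GrowthCard

/-!
# The end of the doubling argument for `L ≅ Ω₈⁺(2)` and `|C(t) : ⟨t⟩ L|` even

Given involutions `y s` with `t ^ (y s) = t x_s` which centralise `C_L(x_s)` for all roots `s`, there is a homomorphism
`G → {±1}` with `t ↦ -1` (`exists_hom`); the case of odd `|C(t) : ⟨t⟩ L|` is `Uni.exists_hom`.
-/

set_option autoImplicit false
set_option linter.unusedSectionVars false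

namespace Cfsg.Agent.StdO8.Even

open Cfsg.Agent.StdO8.Model (V q B X O8 Om)
open Cfsg.Agent.StdO8.D4Root (E ip roots Φ)
open Cfsg.Agent.StdO8.Frame (Ctx Lin)
open Cfsg.Agent.StdO8.Bas
open Cfsg.Agent.StdO8.DataOf
open Cfsg.Agent.StdO8.Uni
open Cfsg.Agent.StdO8.EvenF
open Cfsg.Agent.StdO8.Graph (sw sw_mem sw_sq sw_inv sw_xO)
open Cfsg.Agent.StdO8.EvenLin (sw_notMem mem_or)
open Cfsg.Agent.Doubling.Rel (Root Data)
open Cfsg.Agent.Doubling.Rel.Data (four x_mem_four y_mem_four)
open Cfsg.Agent.Doubling (Growth.W)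
open Cfsg.Agent.StdO8.DoubRoot (zr)

/-! ### The root system -/

theorem seq_comm : ∀ j < 12, ∀ i < j, 0 ≤ ip (seq i) (seq j) ∨
    (ip (seq i) (seq j) = -1 ∧ ∃ k ∈ Finset.range i, seq k = seq i + seq j) := by decide +kernel

theorem zr_pos : ∀ i < 12, 0 ≤ ip zr (seq i) := by decide +kernel

theorem g0_seq : ∀ i < 12, ∃ k ∈ Finset.range 12, seq k = g0 (seq i) := by decide +kernel

theorem seq_zero : seq 0 = zr := by decide

theorem fixed_seq : ∀ i ∈ [0, 1, 4, 5, 8, 9], g0 (seq i) = seq i := by decide +kernel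

theorem swap_seq : ∀ i ∈ [2, 6, 10], g0 (seq i) = seq (i + 1) ∧ g0 (seq (i + 1)) = seq i ∧ ip (seq i) (seq (i + 1)) = 0 := by
  decide +kernel

variable {G : Type*} [Group G] {C : Ctx G} {y : E → G} (D : Data ip Φ C.t C.L (x C) y)

/-! ### The doubled group -/

/-- The doubled root groups. -/
noncomputable def Vs (C : Ctx G) (y : E → G) (i : ℕ) : Subgroup G := four (x C) y (seq i)

/-- The root groups. -/
noncomputable def Xs (C : Ctx G) (i : ℕ) : Subgroup G := Subgroup.zpowers (x C (seq i))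

theorem W_Xs (k : ℕ) : Growth.W (Xs C) k = Us C k := rfl

include D

theorem growth : Cfsg.Agent.Doubling.Growth.Dbl C.t (Vs C y) (Xs C) 12 := by
  have T := D.dbl D4Root.root
  have hm : ∀ {i : ℕ}, i < 12 → seq i ∈ Φ := fun {i} hi => seq_mem i hi
  exact
    { tt := C.tt
      conj := fun i hi v hv => T.conj_t _ (hm hi) v hv
      sq := fun i hi v hv => T.sq _ (hm hi) v hv
      fix := fun i hi v hv h => by
        refine (T.cent _ (hm hi) v hv).1 ?_
        calc C.t * v = C.t * v * (C.t * C.t) := by rw [C.tt, mul_one]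
          _ = (C.t * v * C.t) * C.t := by group
          _ = v * C.t := by rw [h]
      X_le := fun i hi => T.XW _ (hm hi)
      X_fix := fun i hi v hv => by
        have h := (T.cent _ (hm hi) v (T.XW _ (hm hi) hv)).2 hv
        rw [h, mul_assoc, C.tt, mul_one]
      free := fun i hi v hv => by
        obtain ⟨w, hw, h⟩ := T.surj _ (hm hi) v hv
        have hww := T.sq _ (hm hi) w hw
        have hwi : w⁻¹ = w := inv_eq_of_mul_eq_one_left hww
        have htw := T.conj_t _ (hm hi) w hw
        have htt2 := T.sq _ (hm hi) _ htw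
        refine ⟨w, hw, ?_⟩
        have hvv := T.sq _ (hm hi) v (T.XW _ (hm hi) hv)
        have hvi : v⁻¹ = v := inv_eq_of_mul_eq_one_left hvv
        have hti : (C.t * w * C.t)⁻¹ = C.t * w * C.t := inv_eq_of_mul_eq_one_left htt2
        calc v = v⁻¹ := hvi.symm
          _ = (w⁻¹ * (C.t * w * C.t))⁻¹ := by rw [h]
          _ = (C.t * w * C.t)⁻¹ * w := by group
          _ = (C.t * w * C.t) * w := by rw [hti]
          _ = C.t * w * C.t * w⁻¹ := by rw [hwi]
      comm := fun i j hij hj v hv w hw => by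
        rcases seq_comm j hj i hij with h | ⟨h, k, hk, e⟩
        · have h1 := T.pos _ (hm (hij.trans hj)) _ (hm hj) h v hv w hw
          have h2 : v * w * v⁻¹ * w⁻¹ = 1 := by rw [h1]; group
          rw [h2]
          exact one_mem _
        · have h1 := T.neg _ (hm (hij.trans hj)) _ (hm hj) h v hv w hw
          rw [← e] at h1
          exact Cfsg.Agent.Doubling.Growth.le_W (Vs C y) (Finset.mem_range.1 hk) h1
      indep := fun k hk => by
        rw [eq_bot_iff]
        intro g hg
        rw [Subgroup.mem_bot]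
        rcases Uni.mem_zpowers C hg.1 with h | h
        · exact h
        · exfalso
          apply not_mem_Us C hk
          rw [← h]
          exact hg.2 }

/-- The doubled group. -/
noncomputable def P (C : Ctx G) (y : E → G) : Subgroup G := Growth.W (Vs C y) 12

theorem four_le {i : ℕ} (hi : i < 12) : four (x C) y (seq i) ≤ P C y :=
  Cfsg.Agent.Doubling.Growth.le_W (Vs C y) hi

/-- `C_P(t) ≤ L` -/
theorem mem_L {u : G} (hu : u ∈ P C y) (ht : u * C.t = C.t * u) : u ∈ Uni.U C := by
  have h := (growth D).mem_U_iff (k := 12) le_rfl (w := u)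
  rw [Uni.U_eq]
  refine h.2 ⟨hu, ?_⟩
  rw [mul_assoc, ht, ← mul_assoc, C.tt, one_mul]

theorem t_notMem_P : C.t ∉ P C y := fun h => C.t_notMem (U_le C (mem_L D h rfl))

variable {f : G} (F : IsF C y f)

include F

theorem ft : f * C.t = C.t * f := F.lin.1

theorem f_notMem_L : f ∉ C.L ⊔ Subgroup.zpowers C.t := fun h => sw_notMem (Om_of_mem C F.lin h)

theorem f_notMem_P : f ∉ P C y := fun h =>
  f_notMem_L D F ((le_sup_left : C.L ≤ C.L ⊔ Subgroup.zpowers C.t) (U_le C (mem_L D h (ft D F))))

theorem f_inv : f⁻¹ = f := inv_eq_of_mul_eq_one_left F.ff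

theorem f_four {s : E} (hs : s ∈ Φ) : ∀ v ∈ four (x C) y s, f * v * f ∈ four (x C) y (g0 s) := by
  have hle : four (x C) y s ≤ (four (x C) y (g0 s)).comap (MulAut.conj f).toMonoidHom := by
    unfold four
    rw [Subgroup.closure_le]
    intro v hv
    show f * v * f⁻¹ ∈ four (x C) y (g0 s)
    rw [f_inv D F]
    rcases hv with rfl | hv
    · rw [F.fx s hs]
      exact x_mem_four _ _ _
    · rw [Set.mem_singleton_iff] at hv
      subst hv
      rcases F.fy s hs with h | h <;> rw [h]
      · exact y_mem_four _ _ _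
      · exact mul_mem (y_mem_four _ _ _) (x_mem_four _ _ _)
  intro v hv
  have h1 : f * v * f⁻¹ ∈ four (x C) y (g0 s) := hle hv
  rwa [f_inv D F] at h1

theorem f_P : ∀ p ∈ P C y, f * p * f ∈ P C y := by
  have hle : P C y ≤ (P C y).comap (MulAut.conj f).toMonoidHom := by
    refine iSup₂_le fun i hi v hv => ?_
    show f * v * f⁻¹ ∈ P C y
    rw [f_inv D F]
    have h1 := f_four D F (seq_mem i hi) v hv
    obtain ⟨k, hk, e⟩ := g0_seq i hi
    rw [← e] at h1
    exact four_le D (Finset.mem_range.1 hk) h1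
  intro v hv
  have h1 : f * v * f⁻¹ ∈ P C y := hle hv
  rwa [f_inv D F] at h1

theorem f_fix {s : E} (hs : s ∈ Φ) (gs : g0 s = s) : ∀ v ∈ four (x C) y s, v * f = f * v := by
  have hle : four (x C) y s ≤ Subgroup.centralizer {f} := by
    unfold four
    rw [Subgroup.closure_le]
    have key : ∀ v, f * v * f = v → v ∈ Subgroup.centralizer {f} := fun v h => by
      rw [Subgroup.mem_centralizer_singleton_iff]
      calc v * f = f * v * f * f := by rw [h]
        _ = f * v * (f * f) := by group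
        _ = f * v := by rw [F.ff, mul_one]
    intro v hv
    rcases hv with rfl | hv
    · exact key _ (by rw [F.fx s hs, gs])
    · rw [Set.mem_singleton_iff] at hv
      subst hv
      exact key _ (F.fix s hs gs)
  intro v hv
  exact Subgroup.mem_centralizer_singleton_iff.1 (hle hv)

/-! ### Orders -/

omit F in
theorem card_four [Finite G] {s : E} (hs : s ∈ Φ) : Nat.card (four (x C) y s) = 4 := by
  have hy : y s ∉ C.L := D.y_mem D4Root.root hs
  have hx1 : x C s ≠ 1 := x_ne C hs
  have hys : y s * y s = 1 := D.y_sq s hs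
  have h1 : Nat.card (Subgroup.zpowers (x C s) ⊔ Subgroup.zpowers (y s) : Subgroup G) = 2 * Nat.card (Subgroup.zpowers (x C s)) := by
    refine card_sup hys (fun h hh => ?_) (fun h => ?_)
    · have e : y s * h * y s = h := by
        rcases Uni.mem_zpowers C hh with e | e <;> rw [e]
        · rw [mul_one, hys]
        · rw [yx_self D hs, mul_assoc, hys, mul_one]
      rw [e]
      exact hh
    · rcases Uni.mem_zpowers C h with e | e
      · exact hy (by rw [e]; exact one_mem _)
      · exact hy (by rw [e]; exact x_mem C s)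
  have h2 : Nat.card (Subgroup.zpowers (x C s)) = 2 := by
    rw [Nat.card_zpowers]
    exact orderOf_eq_prime (by rw [pow_two]; exact x_sq C s) hx1
  have h3 : four (x C) y s = Subgroup.zpowers (x C s) ⊔ Subgroup.zpowers (y s) := by
    unfold four
    rw [Subgroup.zpowers_eq_closure, Subgroup.zpowers_eq_closure, ← Subgroup.closure_union]
    rfl
  rw [h3, h1, h2]

omit F in
theorem card_P [Finite G] : Nat.card (P C y) = 4 ^ 12 :=
  (growth D).card_W (fun i hi => card_four D (seq_mem i hi)) 12 le_rfl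

/-- The centraliser of the reflection in the doubled group. -/
theorem card_fix [Finite G] : 2 ^ 15 ≤ Nat.card (P C y ⊓ Subgroup.centralizer {f} : Subgroup G) := by
  have T := growth D
  let c : ℕ → ℕ := fun k => Nat.card (Growth.W (Vs C y) k ⊓ Subgroup.centralizer {f} : Subgroup G)
  have hfix : ∀ k ∈ [0, 1, 4, 5, 8, 9], k < 12 → c k * 4 ≤ c (k + 1) := by
    intro k hk hk12
    have h1 := T.card_fixed (f := f) hk12 (f_fix D F (seq_mem k hk12) (fixed_seq k hk))
    have h2 : Nat.card (Vs C y k) = 4 := card_four D (seq_mem k hk12)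
    rw [h2] at h1
    exact h1
  have hsw : ∀ k ∈ [2, 6, 10], k + 1 < 12 → c k * 2 ≤ c (k + 2) := by
    intro k hk hk12
    obtain ⟨e1, e2, e3⟩ := swap_seq k hk
    have m1 : seq k ∈ Φ := seq_mem k (by omega)
    have m2 : seq (k + 1) ∈ Φ := seq_mem (k + 1) hk12
    have hc : x C (seq k) * x C (seq (k + 1)) = x C (seq (k + 1)) * x C (seq k) := x_comm C m1 m2 (by rw [e3])
    refine T.card_pair (f := f) hk12 (a := x C (seq k)) (b := x C (seq (k + 1))) (x_mem_four _ _ _) (x_mem_four _ _ _)
      (x_ne C m2) ?_ ?_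
    · calc x C (seq k) * x C (seq (k + 1)) * (x C (seq k) * x C (seq (k + 1))) =
          x C (seq k) * (x C (seq (k + 1)) * x C (seq k)) * x C (seq (k + 1)) := by group
        _ = (x C (seq k) * x C (seq k)) * (x C (seq (k + 1)) * x C (seq (k + 1))) := by rw [← hc]; group
        _ = 1 := by rw [x_sq, x_sq, one_mul]
    · have h1 := F.fx _ m1
      have h2 := F.fx _ m2
      rw [e1] at h1
      rw [e2] at h2
      calc x C (seq k) * x C (seq (k + 1)) * f = x C (seq (k + 1)) * x C (seq k) * f := by rw [hc]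
        _ = (f * x C (seq k) * f) * (f * x C (seq (k + 1)) * f) * f := by rw [h1, h2]
        _ = f * x C (seq k) * (f * f) * x C (seq (k + 1)) * (f * f) := by group
        _ = f * (x C (seq k) * x C (seq (k + 1))) := by rw [F.ff]; group
  have h0 : c 0 = 1 := by
    show Nat.card (Growth.W (Vs C y) 0 ⊓ Subgroup.centralizer {f} : Subgroup G) = 1
    rw [Cfsg.Agent.Doubling.Growth.W_zero, bot_inf_eq]
    simp
  have s0 := hfix 0 (by decide) (by decide)
  have s1 := hfix 1 (by decide) (by decide)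
  have s2 := hsw 2 (by decide) (by decide)
  have s4 := hfix 4 (by decide) (by decide)
  have s5 := hfix 5 (by decide) (by decide)
  have s6 := hsw 6 (by decide) (by decide)
  have s8 := hfix 8 (by decide) (by decide)
  have s9 := hfix 9 (by decide) (by decide)
  have s10 := hsw 10 (by decide) (by decide)
  have h12 : (2 : ℕ) ^ 15 ≤ c 12 := by
    norm_num at s0 s1 s2 s4 s5 s6 s8 s9 s10 ⊢
    omega
  exact h12

omit F in
/-- The highest root element is central in the doubled group. -/
theorem central {w : G} (hw : w ∈ four (x C) y zr) : ∀ p ∈ P C y, w * p = p * w := by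
  have hle : P C y ≤ Subgroup.centralizer {w} := by
    refine iSup₂_le fun i hi v hv => ?_
    rw [Subgroup.mem_centralizer_singleton_iff]
    exact (D.four_comm D4Root.root (by decide) (seq_mem i hi) (zr_pos i hi) w hw v hv).symm
  intro p hp
  exact (Subgroup.mem_centralizer_singleton_iff.1 (hle hp)).symm

omit F in
/-- Elements whose centraliser contains a large 2-group are not conjugate to `t`. -/
theorem no_conj [Finite G] {w g : G} {R : Subgroup G} (hR : R ≤ P C y) (hc : 2 ^ 15 ≤ Nat.card R)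
    (hRw : ∀ p ∈ R, p * w = w * p) (h : g⁻¹ * C.t * g = w) : False := by
  have h1 : Nat.card R ∣ 2 ^ 24 := by
    have := Subgroup.card_dvd_of_le hR
    rw [card_P D] at this
    have e : (4 : ℕ) ^ 12 = 2 ^ 24 := by norm_num
    rwa [e] at this
  obtain ⟨j, -, hj⟩ := (Nat.dvd_prime_pow Nat.prime_two).1 h1
  have h2 : 15 ≤ j := by
    rw [hj] at hc
    exact (Nat.pow_le_pow_iff_right (by norm_num)).1 hc
  have h3 : 2 ^ 15 ∣ Nat.card R := by
    rw [hj]
    exact pow_dvd_pow 2 h2
  apply CardC.cardC C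
  refine h3.trans ?_
  have h4 : Nat.card (R.map (MulAut.conj g).toMonoidHom) = Nat.card R :=
    (Nat.card_congr (R.equivMapOfInjective (MulAut.conj g).toMonoidHom (MulAut.conj g).injective).toEquiv).symm
  rw [← h4]
  refine Subgroup.card_dvd_of_le ?_
  rintro _ ⟨p, hp, rfl⟩
  rw [Subgroup.mem_centralizer_singleton_iff]
  show g * p * g⁻¹ * C.t = C.t * (g * p * g⁻¹)
  have e : C.t = g * w * g⁻¹ := by rw [← h]; group
  rw [e]
  calc g * p * g⁻¹ * (g * w * g⁻¹) = g * (p * w) * g⁻¹ := by group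
    _ = g * w * g⁻¹ * (g * p * g⁻¹) := by rw [hRw p hp]; group

/-- Linear elements acting as `sw` or `sw z` in `f L`. -/
theorem eq_of {w l : G} {M : O8} (hw : C.IsLin w M) (hl : l ∈ C.L) (hwl : w = f * l) {m : Om} (hM : M = swO * Ctx.up m) :
    w = f * C.r m := by
  have h1 := F.lin.mul (C.isLin_r m)
  rw [← hM] at h1
  rcases hw.eq_or h1 with h | h
  · exact h
  · exfalso
    apply C.t_notMem
    have e1 : f * l = C.t * (f * C.r m) := by rw [← hwl, h]
    have e2 : C.t = l * (C.r m)⁻¹ := by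
      have e3 : f * l = f * (C.t * C.r m) := by
        rw [e1, ← mul_assoc, ← ft D F, mul_assoc]
      rw [mul_left_cancel e3, mul_inv_cancel_right]
    rw [e2]
    exact mul_mem hl (inv_mem (C.r_mem m))

/-- **(ORD)**: the involutions of `f U` are not conjugate to `t`. -/
theorem no [Finite G] {u : G} (hu : u ∈ P C y) (hut : u * C.t = C.t * u) (h2 : (f * u) * (f * u) = 1) (g : G) :
    g⁻¹ * C.t * g ≠ f * u := by
  intro hg
  obtain ⟨m, hm⟩ := U_le C (mem_L D hu hut)
  have hlin : C.IsLin (f * u) (swO * Ctx.up m) := by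
    rw [← hm]
    exact F.lin.mul (C.isLin_r m)
  have hsq : (swO * Ctx.up m) * (swO * Ctx.up m) = 1 := by
    have h3 := hlin.mul hlin
    rw [h2] at h3
    exact h3.unique C.isLin_one
  have hnot : ((swO * Ctx.up m : O8) : V ≃ₗ[ZMod 2] V) ∉ Om := fun h => sw_notMem (by
    have h3 : sw * (m : V ≃ₗ[ZMod 2] V) ∈ Om := h
    exact (Subgroup.mul_mem_cancel_right Om m.2).1 h3)
  obtain ⟨k, hk, hk2⟩ := EvenLin.lin (swO * Ctx.up m).2 hnot (congrArg Subtype.val hsq)
  set l : G := C.r ⟨k, hk⟩ with hl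
  have hlL : l ∈ C.L := C.r_mem _
  have hlin2 : C.IsLin (l * (f * u) * l⁻¹) (Ctx.up ⟨k, hk⟩ * (swO * Ctx.up m) * (Ctx.up ⟨k, hk⟩)⁻¹) :=
    ((C.isLin_r ⟨k, hk⟩).mul hlin).mul (C.isLin_r ⟨k, hk⟩).inv
  have hfl : l * (f * u) * l⁻¹ = f * ((f⁻¹ * l * f) * u * l⁻¹) := by group
  have hflL : (f⁻¹ * l * f) * u * l⁻¹ ∈ C.L :=
    mul_mem (mul_mem (v_L F.lin hlL) (by rw [← hm]; exact C.r_mem m)) (inv_mem hlL)
  have hR : ∀ w, (w = f ∨ w = f * x C zr) → ∀ p ∈ (P C y ⊓ Subgroup.centralizer {f} : Subgroup G), p * w = w * p := by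
    intro w hw p hp
    have h4 : p * f = f * p := Subgroup.mem_centralizer_singleton_iff.1 hp.2
    have h5 : p * x C zr = x C zr * p := (central D (x_mem_four _ _ _) p hp.1).symm
    rcases hw with hw | hw <;> rw [hw]
    · exact h4
    · rw [← mul_assoc, h4, mul_assoc, h5, mul_assoc]
  have hw : l * (f * u) * l⁻¹ = f ∨ l * (f * u) * l⁻¹ = f * x C zr := by
    rcases hk2 with hk2 | hk2
    · left
      have := eq_of D F hlin2 hflL hfl (m := 1) (Subtype.ext (by
        show k * (sw * (m : V ≃ₗ[ZMod 2] V)) * k⁻¹ = sw * 1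
        rw [mul_one]
        exact hk2))
      rw [map_one, mul_one] at this
      exact this
    · right
      have e0 : zr = wt 0 + wt 1 := by decide
      exact eq_of D F hlin2 hflL hfl (m := xm zr) (Subtype.ext (by
        show k * (sw * (m : V ≃ₗ[ZMod 2] V)) * k⁻¹ = sw * xO zr
        rw [e0, xO_wt (by decide)]
        exact hk2))
  refine no_conj D (R := P C y ⊓ Subgroup.centralizer {f}) inf_le_left (card_fix D F) (hR _ hw) (g := g * l⁻¹) ?_
  rw [← hg]
  group

/-! ### The Sylow subgroup -/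

/-- The generators of the Sylow 2-subgroup of `C(t)`. -/
def S (C : Ctx G) (f : G) : Set G := {s | (∃ i < 12, s = x C (seq i)) ∨ s = C.t ∨ s = f}

omit D in
omit F in
theorem closure_S : Subgroup.closure (S C f) = (Uni.U C ⊔ Subgroup.zpowers C.t) ⊔ Subgroup.zpowers f := by
  apply le_antisymm
  · rw [Subgroup.closure_le]
    rintro s (⟨i, hi, rfl⟩ | rfl | rfl)
    · refine (le_sup_left.trans le_sup_left : Uni.U C ≤ _) ?_
      rw [Uni.U_eq]
      exact mem_Us C hi
    · exact (le_sup_right.trans le_sup_left : Subgroup.zpowers C.t ≤ _) (Subgroup.mem_zpowers _)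
    · exact (le_sup_right : Subgroup.zpowers s ≤ _) (Subgroup.mem_zpowers _)
  · refine sup_le (sup_le ?_ ?_) ?_
    · rw [Uni.U_eq]
      refine iSup₂_le fun i hi => ?_
      rw [Subgroup.zpowers_le]
      exact Subgroup.subset_closure (Or.inl ⟨i, hi, rfl⟩)
    · rw [Subgroup.zpowers_le]
      exact Subgroup.subset_closure (Or.inr (Or.inl rfl))
    · rw [Subgroup.zpowers_le]
      exact Subgroup.subset_closure (Or.inr (Or.inr rfl))

theorem f_Us : ∀ p ∈ Uni.U C, f * p * f ∈ Uni.U C := by
  intro p hp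
  have h1 : p ∈ P C y := by
    rw [Uni.U_eq] at hp
    exact (growth D).U_le (k := 12) le_rfl hp
  have h2 : p * C.t = C.t * p := by
    obtain ⟨m, rfl⟩ := U_le C hp
    exact (C.comm m).eq
  refine mem_L D (f_P D F p h1) ?_
  have h3 := ft D F
  calc f * p * f * C.t = f * p * (f * C.t) := by group
    _ = f * (p * C.t) * f := by rw [h3]; group
    _ = (f * C.t) * p * f := by rw [h2]; group
    _ = C.t * (f * p * f) := by rw [h3]; group

theorem card_S [Finite G] : Nat.card (Subgroup.closure (S C f)) = 2 ^ 14 := by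
  have h1 : Nat.card (Uni.U C ⊔ Subgroup.zpowers C.t : Subgroup G) = 2 ^ 13 := by
    rw [card_sup C.tt (t_conj C (U_le C)) (fun h => C.t_notMem (U_le C h)), card_U]
    norm_num
  rw [closure_S, card_sup F.ff ?_ ?_, h1]
  · norm_num
  · have hle : Uni.U C ⊔ Subgroup.zpowers C.t ≤
        (Uni.U C ⊔ Subgroup.zpowers C.t).comap (MulAut.conj f).toMonoidHom := by
      refine sup_le (fun p hp => ?_) ?_
      · show f * p * f⁻¹ ∈ Uni.U C ⊔ Subgroup.zpowers C.t
        rw [f_inv D F]
        exact (le_sup_left : Uni.U C ≤ Uni.U C ⊔ Subgroup.zpowers C.t) (f_Us D F p hp)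
      · rw [Subgroup.zpowers_le]
        show f * C.t * f⁻¹ ∈ Uni.U C ⊔ Subgroup.zpowers C.t
        rw [ft D F, mul_inv_cancel_right]
        exact (le_sup_right : Subgroup.zpowers C.t ≤ Uni.U C ⊔ Subgroup.zpowers C.t) (Subgroup.mem_zpowers _)
    intro p hp
    have h2 : f * p * f⁻¹ ∈ Uni.U C ⊔ Subgroup.zpowers C.t := hle hp
    rwa [f_inv D F] at h2
  · exact fun h => f_notMem_L D F (sup_le_sup_right (U_le C) _ h)

theorem odd_S [Finite G] : Odd ((Subgroup.closure (S C f)).relIndex (Subgroup.centralizer {C.t})) := by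
  have hle : Subgroup.closure (S C f) ≤ Subgroup.centralizer {C.t} := by
    rw [Subgroup.closure_le]
    rintro s (⟨i, hi, rfl⟩ | rfl | rfl)
    · exact Subgroup.mem_centralizer_singleton_iff.2 (D.tL _ (x_mem C _)).symm
    · exact Subgroup.mem_centralizer_singleton_iff.2 rfl
    · exact Subgroup.mem_centralizer_singleton_iff.2 (ft D F)
  rw [← Nat.not_even_iff_odd]
  intro hev
  apply CardC.cardC C
  have h1 := Subgroup.card_mul_index ((Subgroup.closure (S C f)).subgroupOf (Subgroup.centralizer {C.t}))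
  rw [Nat.card_congr (Subgroup.subgroupOfEquivOfLe hle).toEquiv, card_S D F] at h1
  rw [← h1]
  obtain ⟨j, hj⟩ := even_iff_two_dvd.1 hev
  have hj' : ((Subgroup.closure (S C f)).subgroupOf (Subgroup.centralizer {C.t})).index = 2 * j := hj
  rw [hj']
  exact ⟨j, by ring⟩

/-! ### The end -/

theorem hyp [Finite G] : Cfsg.Agent.Doubling.Even.Hyp C.t f (P C y) (S C f) (y zr) (x C zr) := by
  have hz : zr ∈ Φ := by decide
  have hgz : g0 zr = zr := by decide
  have hy : y zr ∉ C.L := D.y_mem D4Root.root hz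
  have hzP : four (x C) y zr ≤ P C y := by
    rw [← seq_zero]
    exact four_le D (by norm_num)
  exact
    { tt := C.tt
      ff := F.ff
      tf := (ft D F).symm
      tP := fun p hp => (growth D).conj_W le_rfl hp
      fP := f_P D F
      f_notMem := f_notMem_P D F
      t_notMem := t_notMem_P D
      conj := fun p hp h => (growth D).exists_conj hp h
      sq := by
        rintro s (⟨i, hi, rfl⟩ | rfl | rfl)
        · exact x_sq C _
        · exact C.tt
        · exact F.ff
      comm := by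
        rintro s (⟨i, hi, rfl⟩ | rfl | rfl)
        · exact (D.tL _ (x_mem C _)).symm
        · rfl
        · exact ft D F
      mem := by
        rintro s (⟨i, hi, rfl⟩ | rfl | rfl)
        · exact Or.inl (four_le D hi (x_mem_four _ _ _))
        · exact Or.inr (Or.inl rfl)
        · exact Or.inr (Or.inr rfl)
      tS := Or.inr (Or.inl rfl)
      yP := hzP (y_mem_four _ _ _)
      zP := hzP (x_mem_four _ _ _)
      y_ne := fun h => hy (by rw [h]; exact one_mem _)
      z_ne := x_ne C hz
      yz_ne := fun h => hy (by rw [h]; exact x_mem C _)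
      zz := x_sq C _
      tz := D.tL _ (x_mem C _)
      yc := central D (y_mem_four _ _ _)
      zc := central D (x_mem_four _ _ _)
      yf := f_fix D F hz hgz _ (y_mem_four _ _ _)
      zf := f_fix D F hz hgz _ (x_mem_four _ _ _)
      cent := fun g hg h => by
        refine FactK.cent_pos C hg fun s hs hs2 => ?_
        obtain ⟨i, hi, rfl⟩ := seq_surj s hs hs2
        exact h _ (Or.inl ⟨i, Finset.mem_range.1 hi, rfl⟩)
      no := fun u hu h1 h2 g => no D F hu h1 h2 g }

end Cfsg.Agent.StdO8.Even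

namespace Cfsg.Agent.StdO8.Even

open Cfsg.Agent.StdO8.D4Root (E ip roots Φ)
open Cfsg.Agent.StdO8.Frame (Ctx)
open Cfsg.Agent.StdO8.DataOf

variable {G : Type*} [Group G] (C : Ctx G)

/-- **The end of the doubling argument** for `L ≅ Ω₈⁺(2)` and `|C(t) : ⟨t⟩ L|` even. -/
theorem exists_hom [Finite G] {y : E → G} (y_sq : ∀ r ∈ Φ, y r * y r = 1) (ty : ∀ r ∈ Φ, y r * C.t * y r = C.t * x C r)
    (yC : ∀ r ∈ Φ, ∀ g ∈ C.L, g * x C r = x C r * g → g * y r = y r * g)
    (hev : ¬ Odd ((C.L ⊔ Subgroup.zpowers C.t).relIndex (Subgroup.centralizer {C.t}))) :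
    ∃ m : G →* ℤˣ, m C.t = -1 := by
  have D := data C y_sq ty yC
  obtain ⟨f, F⟩ := EvenF.exists_f D hev
  refine (hyp D F).exists_hom ?_ (odd_S D F)
  exact IsPGroup.of_card (card_S D F)

/-- Both cases. -/
theorem exists_hom' [Finite G] {y : E → G} (y_sq : ∀ r ∈ Φ, y r * y r = 1) (ty : ∀ r ∈ Φ, y r * C.t * y r = C.t * x C r)
    (yC : ∀ r ∈ Φ, ∀ g ∈ C.L, g * x C r = x C r * g → g * y r = y r * g) : ∃ m : G →* ℤˣ, m C.t = -1 := by
  by_cases h : Odd ((C.L ⊔ Subgroup.zpowers C.t).relIndex (Subgroup.centralizer {C.t}))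
  · exact Uni.exists_hom C y_sq ty yC h
  · exact exists_hom C y_sq ty yC h

end Cfsg.Agent.StdO8.Even
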