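import Mathlib
import Cfsg.Agent.StdO8.FactK
import Cfsg.Agent.StdO8.DoubSwap

/-!
# The data of `DoubSwap` for every context
-/

set_option autoImplicit false

namespace Cfsg.Agent.StdO8.FactL

open Cfsg.Agent.StdO8.Model
open Cfsg.Agent.StdO8.Aut Cfsg.Agent.StdO8.Frame Cfsg.Agent.StdO8.FactK
open Cfsg.Agent.StdO8.DoubRoot (zr)
open Cfsg.Agent.StdO8.DataOf (x)
open Cfsg.Agent.StdO8.Uni (U)

variable {G : Type*} [Group G] (C : Ctx G)

theorem L_le_Lin : C.L ≤ Lin C.t C.r := by
  rintro _ ⟨m, rfl⟩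
  exact C.mem_Lin.2 ⟨_, C.isLin_r m⟩

/-- A Sylow 2-subgroup of `C(t)` which consists of linear elements and contains `U`. -/
theorem exists_T [Finite G] : ∃ T : Subgroup G, IsPGroup 2 T ∧ U C ≤ T ∧ T ≤ Lin C.t C.r ∧
    (∀ P : Subgroup G, IsPGroup 2 P → T ≤ P → (∀ y ∈ P, y * C.t = C.t * y) → P ≤ T) := by
  set K : Subgroup G := Lin C.t C.r with hK
  have hUK : U C ≤ K := (Uni.U_le C).trans (L_le_Lin C)
  have hp : IsPGroup 2 ((U C).subgroupOf K) := by
    have h1 : Nat.card ((U C).subgroupOf K) = 2 ^ 12 := by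
      rw [Nat.card_congr (Subgroup.subgroupOfEquivOfLe hUK).toEquiv, Uni.card_U]
    exact IsPGroup.of_card h1
  obtain ⟨P, hP⟩ := hp.exists_le_sylow
  have hUT : U C ≤ (P : Subgroup K).map K.subtype := by
    intro u hu
    exact ⟨⟨u, hUK hu⟩, hP (Subgroup.mem_subgroupOf.2 hu), rfl⟩
  have hcardT : Nat.card ((P : Subgroup K).map K.subtype) = Nat.card P :=
    (Nat.card_congr ((P : Subgroup K).equivMapOfInjective K.subtype K.subtype_injective).toEquiv).symm
  refine ⟨(P : Subgroup K).map K.subtype, P.isPGroup'.map _, hUT, ?_, ?_⟩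
  · rintro _ ⟨y, -, rfl⟩
    exact y.2
  · intro R hR hle hRt
    have hRC : R ≤ Subgroup.centralizer {C.t} := fun y hy => Subgroup.mem_centralizer_singleton_iff.2 (hRt y hy)
    have hKC : K ≤ Subgroup.centralizer {C.t} := fun y hy => Subgroup.mem_centralizer_singleton_iff.2 hy.1
    obtain ⟨n, hn⟩ := IsPGroup.iff_card.1 hR
    have h1 : Nat.card R ∣ Nat.card (Subgroup.centralizer {C.t} : Subgroup G) := Subgroup.card_dvd_of_le hRC
    have h2 := Subgroup.card_mul_index (K.subgroupOf (Subgroup.centralizer {C.t}))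
    rw [Nat.card_congr (Subgroup.subgroupOfEquivOfLe hKC).toEquiv] at h2
    have hodd : Odd (K.subgroupOf (Subgroup.centralizer {C.t})).index := C.odd
    rw [← h2, hn] at h1
    have h3 : 2 ^ n ∣ Nat.card K :=
      (Nat.Coprime.pow_left n (Nat.coprime_two_left.2 hodd)).dvd_of_dvd_mul_right h1
    have h4 := P.pow_dvd_card_of_pow_dvd_card h3
    have h5 : Nat.card R ≤ Nat.card ((P : Subgroup K).map K.subtype) := by
      rw [hcardT, hn]
      exact Nat.le_of_dvd Nat.card_pos h4
    exact (Subgroup.eq_of_le_of_card_ge hle h5).symm.le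

/-- **The data of `DoubSwap`.** -/
theorem sw [Finite G] : ∃ T, DoubSwap.Sw C.t (x C zr) C.L T := by
  obtain ⟨T, pT, hU, hLin, hmax⟩ := exists_T C
  have hT : ∀ y ∈ T, y * C.t = C.t * y := fun y hy => (hLin hy).1
  have F := frame_of C pT hU hT hmax
  refine ⟨T, ?_⟩
  exact
    { tt := C.tt
      zz := F.zz
      z1 := F.z1
      t_notMem := C.t_notMem
      zL := DataOf.x_mem C _
      nL := fun g hg l hl => L_normal C hg hl
      zcomm := by
        obtain ⟨a, b, -, -, h1, h2, h3⟩ := z_comm C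
        exact ⟨a, b, h1, h2, h3⟩
      pT := pT
      tT := F.tT
      tc := hT
      zT := F.zT
      zc := F.zc
      max := hmax
      om := F.om
      hTL := fun a ha b hb => comm_lin C (hLin ha) (hLin hb) }

end Cfsg.Agent.StdO8.FactL
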