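import Mathlib
import Cfsg.Agent.StdO8.FactI

/-!
# No element of order five in `C_G(t) ∩ C_G(z)`
-/

set_option autoImplicit false

namespace Cfsg.Agent.StdO8.Five

open Cfsg.Agent.StdO8.Model Cfsg.Agent.StdO8.Code Cfsg.Agent.StdO8.Gen Cfsg.Agent.StdO8.FactD
open Cfsg.Agent.StdO8.Aut Cfsg.Agent.StdO8.Frame
open Cfsg.Agent.StdO8.DoubCore (DD QQ)
open Cfsg.Agent.StdO8.DoubRoot (zr)
open Cfsg.Agent.StdO8.DataOf (x)

variable {G : Type*} [Group G] (C : Ctx G)

/-- An element whose order is prime to `2` and `3` is linear. -/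
theorem isLin_of_pow {g : G} (hg : g * C.t = C.t * g) {k : ℕ} (hk : g ^ k = 1) (h2 : Nat.Coprime k 6) :
    ∃ M, C.IsLin g M := by
  have hgK : g ∈ Subgroup.centralizer {C.t} := Subgroup.mem_centralizer_singleton_iff.2 hg
  set α := FactI.act C ⟨g, hgK⟩ with hα
  have h1 : α ^ k = 1 := by
    rw [hα, ← map_pow]
    have : (⟨g, hgK⟩ : Subgroup.centralizer {C.t}) ^ k = 1 := Subtype.ext hk
    rw [this, map_one]
  obtain ⟨n, hn0, hn3, hn⟩ := Subgroup.exists_pow_mem_of_index_ne_zero (H := cj.range)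
    (by rw [index_range]; norm_num) α
  rw [index_range] at hn3
  have hcop : Nat.Coprime n k := by
    have h6 : n ∣ 6 := by interval_cases n <;> decide
    exact (Nat.Coprime.coprime_dvd_right h6 h2).symm
  have hmem : α ∈ cj.range := by
    have h3 : α ^ (n : ℤ) ∈ cj.range := by rw [zpow_natCast]; exact hn
    have h4 : α ^ (k : ℤ) ∈ cj.range := by rw [zpow_natCast, h1]; exact one_mem _
    have h5 := Nat.gcd_eq_gcd_ab n k
    rw [Nat.Coprime.gcd_eq_one hcop] at h5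
    have h6 : α = (α ^ (n : ℤ)) ^ (Nat.gcdA n k) * (α ^ (k : ℤ)) ^ (Nat.gcdB n k) := by
      rw [← zpow_mul, ← zpow_mul, ← zpow_add, ← h5]
      simp
    rw [h6]
    exact mul_mem (zpow_mem h3 _) (zpow_mem h4 _)
  obtain ⟨M, hM⟩ := hmem
  exact ⟨M, hg, fun m => by rw [hM]; exact FactI.act_spec C ⟨g, hgK⟩ m⟩

/-- elements of `Q D` -/
theorem QD_pow {a c : Om} (ha : a ∈ QQ zO rO dO) (hc : c ∈ DD dO) : (a * c) ^ 12 = 1 := by
  have h1 : (a * c) ^ 3 ∈ QQ zO rO dO := by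
    have e : (a * c) ^ 3 = a * (c * a * c⁻¹) * (c * c * a * (c * c)⁻¹) * (c * c * c) := by
      rw [pow_succ, pow_two]; group
    rw [e, FactF.D_cube hc, mul_one]
    exact mul_mem (mul_mem ha (FactF.conj_QQ hc ha)) (FactF.conj_QQ (mul_mem hc hc) ha)
  have h2 := FactF.Q4 h1
  calc (a * c) ^ 12 = (a * c) ^ 3 * (a * c) ^ 3 * ((a * c) ^ 3 * (a * c) ^ 3) := by
        rw [← pow_add, ← pow_add]
    _ = 1 := h2

theorem IsLin_pow {C : Ctx G} {g : G} {M : O8} (h : C.IsLin g M) (n : ℕ) : C.IsLin (g ^ n) (M ^ n) := by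
  induction n with
  | zero => rw [pow_zero, pow_zero]; exact C.isLin_one
  | succ n ih => rw [pow_succ, pow_succ]; exact ih.mul h

/-- elements of order prime to 6 in `C(t) ∩ C(z)` are trivial -/
theorem eq_one_of_pow {g : G} (hg : g * C.t = C.t * g) (hz : g * x C zr = x C zr * g) {k : ℕ} (hk : g ^ k = 1)
    (h2 : Nat.Coprime k 6) : g = 1 := by
  obtain ⟨M, hM⟩ := isLin_of_pow C hg hk h2
  have hMk : M ^ k = 1 := by
    have h1 := IsLin_pow hM k
    rw [hk] at h1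
    exact h1.unique C.isLin_one
  rw [FactH.x_z] at hz
  have hMz := (hM.commute_iff zO).1 hz
  set N : Om := ⟨(M : V ≃ₗ[ZMod 2] V) * M, FactG.sq_mem_Om M.2⟩ with hN
  have hNz : N * zO = zO * N := by
    apply Subtype.ext
    have h1 : Commute (M : V ≃ₗ[ZMod 2] V) (zO : V ≃ₗ[ZMod 2] V) := hMz
    exact (h1.mul_left h1).eq
  obtain ⟨a, ha, c, hc, e⟩ := FactG.sq hNz
  have h3 := QD_pow ha hc
  rw [← e] at h3
  have h4 : M ^ 48 = 1 := by
    apply Subtype.ext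
    have h5 := congrArg Subtype.val h3
    have e1 : (((N * N) ^ 12 : Om) : V ≃ₗ[ZMod 2] V) = ((M : V ≃ₗ[ZMod 2] V) * M * (M * M)) ^ 12 := rfl
    rw [e1] at h5
    show (M : V ≃ₗ[ZMod 2] V) ^ 48 = 1
    have e2 : ((M : V ≃ₗ[ZMod 2] V) * M * (M * M)) ^ 12 = (M : V ≃ₗ[ZMod 2] V) ^ 48 := by
      rw [← pow_two, ← pow_two, ← pow_mul, ← pow_mul]
    rw [← e2]
    exact h5
  have hM1 : M = 1 := by
    have h5 : orderOf M ∣ 48 := orderOf_dvd_of_pow_eq_one h4
    have h6 : orderOf M ∣ k := orderOf_dvd_of_pow_eq_one hMk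
    have h7 : Nat.Coprime 48 k := by
      have h8 : Nat.Coprime k (6 ^ 4) := Nat.Coprime.pow_right 4 h2
      exact (Nat.Coprime.coprime_dvd_right (by decide) h8).symm
    have h8 : orderOf M ∣ 1 := by
      rw [← h7]
      exact Nat.dvd_gcd h5 h6
    exact orderOf_eq_one_iff.1 (Nat.dvd_one.1 h8)
  rw [hM1] at hM
  rcases hM.eq_of_one with h | h
  · exact h
  · exfalso
    rw [h] at hk
    have h5 : orderOf C.t = 2 := orderOf_eq_prime (by rw [pow_two]; exact C.tt) C.t_ne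
    have h6 : 2 ∣ k := by rw [← h5]; exact orderOf_dvd_of_pow_eq_one hk
    have h7 : 2 ∣ Nat.gcd k 6 := Nat.dvd_gcd h6 (by decide)
    rw [h2] at h7
    exact absurd h7 (by decide)

theorem five : ∀ g, g * C.t = C.t * g → g * x C zr = x C zr * g → g ^ 5 = 1 → g = 1 :=
  fun _ h1 h2 h3 => eq_one_of_pow C h1 h2 h3 (by decide)

end Cfsg.Agent.StdO8.Five
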