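import Cfsg.Agent.StdO8.ShadowInst

/-!
# `C(t) ∩ C(z)` normalises `Q`
-/

set_option autoImplicit false
set_option linter.all false

namespace Cfsg.Agent.StdO8.ShadowNorm

open Subgroup Cfsg.Agent.StdO8.D4Root Cfsg.Agent.StdO8.DoubCore Cfsg.Agent.StdO8.DoubRefl
  Cfsg.Agent.StdO8.DoubRoot Cfsg.Agent.StdO8.InstRel

variable {G : Type*} [Group G] {t z r : G} {L : Subgroup G} {d τ : Fin 3 → G}

section

variable (K : Core t z r L d τ)

include K

/-- the set `QD` -/
def QDm (z r : G) (d : Fin 3 → G) (g : G) : Prop := ∃ q ∈ QQ z r d, ∃ c ∈ DD d, g = q * c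

theorem QDm_mul {a b : G} (ha : QDm z r d a) (hb : QDm z r d b) : QDm z r d (a * b) := by
  obtain ⟨q, hq, c, hc, rfl⟩ := ha
  obtain ⟨q', hq', c', hc', rfl⟩ := hb
  refine ⟨q * (c * q' * c⁻¹), (QQ z r d).mul_mem hq (K.D_conj_Q hc hq'), c * c', (DD d).mul_mem hc hc', by group⟩

theorem QDm_inv {a : G} (ha : QDm z r d a) : QDm z r d a⁻¹ := by
  obtain ⟨q, hq, c, hc, rfl⟩ := ha
  refine ⟨c⁻¹ * q⁻¹ * c⁻¹⁻¹, K.D_conj_Q ((DD d).inv_mem hc) ((QQ z r d).inv_mem hq), c⁻¹,
    (DD d).inv_mem hc, by group⟩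

theorem r_eq : r = d 0 * (r * (d 0)⁻¹ * r⁻¹) * ((d 0)⁻¹ * (r * d 0 * r⁻¹)) := by
  have h := K.rd 0
  have hr := K.rr
  set A := d 0 * r * (d 0)⁻¹ with hA
  set B := (d 0)⁻¹ * r * d 0 with hB
  have hri : r⁻¹ = r := inv_eq_of_mul_eq_one_right hr
  have hAA : A * A = 1 := by rw [hA]; calc _ = d 0 * (r * r) * (d 0)⁻¹ := by group
    _ = 1 := by rw [hr]; group
  have hBB : B * B = 1 := by rw [hB]; calc _ = (d 0)⁻¹ * (r * r) * d 0 := by group
    _ = 1 := by rw [hr]; group
  have hAB : A * B = r := by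
    have : r * (A * B) = 1 := by rw [← mul_assoc]; exact h
    have h2 := eq_inv_of_mul_eq_one_right this
    rw [hri] at h2; exact h2
  have hBA : B * A = r := by
    have h3 : (A * B)⁻¹ = B * A := by
      rw [mul_inv_rev, inv_eq_of_mul_eq_one_right hAA, inv_eq_of_mul_eq_one_right hBB]
    rw [← h3, hAB, hri]
  have hrB : r * B = B * r := by
    have h5 : r * B = A := by
      calc r * B = A * B * B := by rw [hAB]
        _ = A * (B * B) := mul_assoc A B B
        _ = A := by rw [hBB, mul_one]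
    have h6 : B * r = A := by
      calc B * r = B * (B * A) := by rw [hBA]
        _ = (B * B) * A := (mul_assoc B B A).symm
        _ = A := by rw [hBB, one_mul]
    rw [h5, h6]
  have e1 : d 0 * (r * (d 0)⁻¹ * r⁻¹) * ((d 0)⁻¹ * (r * d 0 * r⁻¹)) = A * r⁻¹ * (B * r⁻¹) := by
    rw [hA, hB]; group
  rw [e1, hri, mul_assoc, ← mul_assoc r, hrB, mul_assoc B, hr, mul_one, hAB]

theorem conj_r {g : G} (ht : g * t = t * g) (hz : g * z = z * g) : g * r * g⁻¹ ∈ QQ z r d := by
  have hrt : r * t = t * r := (K.tL r K.rL).symm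
  have hrz : r * z = z * r := K.zr.symm
  have ht2 : g * r * t = t * (g * r) := by rw [mul_assoc, hrt, ← mul_assoc, ht, mul_assoc]
  have hz2 : g * r * z = z * (g * r) := by rw [mul_assoc, hrz, ← mul_assoc, hz, mul_assoc]
  have h1 : QDm z r d (g * d 0 * g⁻¹) := K.nQD g ht hz 0
  have h2 : QDm z r d ((g * r) * d 0 * (g * r)⁻¹) := K.nQD (g * r) ht2 hz2 0
  have e1 : g * r * g⁻¹ = (g * d 0 * g⁻¹) * ((g * r) * d 0 * (g * r)⁻¹)⁻¹ *
      ((g * d 0 * g⁻¹)⁻¹ * ((g * r) * d 0 * (g * r)⁻¹)) := by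
    have := r_eq K
    calc g * r * g⁻¹ = g * (d 0 * (r * (d 0)⁻¹ * r⁻¹) * ((d 0)⁻¹ * (r * d 0 * r⁻¹))) * g⁻¹ := by rw [← this]
      _ = _ := by group
  have h3 : QDm z r d (g * r * g⁻¹) := by
    rw [e1]
    exact QDm_mul K (QDm_mul K h1 (QDm_inv K h2)) (QDm_mul K (QDm_inv K h1) h2)
  obtain ⟨q, hq, c, hc, e⟩ := h3
  have h4 : q * c * (q * c) = 1 := by
    rw [← e]
    calc g * r * g⁻¹ * (g * r * g⁻¹) = g * (r * r) * g⁻¹ := by group
      _ = 1 := by rw [K.rr]; group
  have h5 := K.QD2 q hq c hc h4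
  rw [e, h5, mul_one]
  exact hq

theorem conj_Q {g : G} (ht : g * t = t * g) (hz : g * z = z * g) {q : G} (hq : q ∈ QQ z r d) :
    g * q * g⁻¹ ∈ QQ z r d := by
  unfold QQ at hq
  induction hq using closure_induction with
  | mem x hx =>
    rcases hx with rfl | ⟨c, hc, rfl⟩
    · rw [hz, mul_inv_cancel_right]; exact K.z_mem
    · have hcL := K.DL hc
      have ht2 : g * c * t = t * (g * c) := by
        rw [mul_assoc, K.t_comm hcL, ← mul_assoc, ht, mul_assoc]
      have hz2 : g * c * z = z * (g * c) := by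
        rw [mul_assoc, ← K.D_z hc, ← mul_assoc, hz, mul_assoc]
      have := conj_r K ht2 hz2
      rwa [show g * c * r * (g * c)⁻¹ = g * (c * r * c⁻¹) * g⁻¹ by group] at this
  | one => rw [mul_one, mul_inv_cancel]; exact one_mem _
  | mul a b _ _ h1 h2 =>
    rw [show g * (a * b) * g⁻¹ = (g * a * g⁻¹) * (g * b * g⁻¹) by group]
    exact mul_mem h1 h2
  | inv a _ h1 =>
    rw [show g * a⁻¹ * g⁻¹ = (g * a * g⁻¹)⁻¹ by group]
    exact inv_mem h1

end

theorem dOK' : ∀ i : Fin 3, ∀ S < 8,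
    (EPos (er S) (al i) (er (S - 2 ^ i.1)) ∧ S - 2 ^ i.1 < 8) ∨
    (ENeg (er S) (al i) (er (S + 2 ^ i.1)) ∧ S + 2 ^ i.1 < 8) := by decide +kernel

variable {x : E → G} (X : XD t L x)

/-- the group generated by the root elements -/
def QE (x : E → G) : Subgroup G := Subgroup.closure (ee x '' Set.Iio 8)

theorem ee_mem {S : ℕ} (hS : S < 8) : ee x S ∈ QE x := subset_closure ⟨S, hS, rfl⟩

include X

theorem d_QE (i : Fin 3) {q : G} (hq : q ∈ QE x) : dd x i * q * (dd x i)⁻¹ ∈ QE x := by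
  unfold QE at hq
  induction hq using closure_induction with
  | mem a ha =>
    obtain ⟨S, hS, rfl⟩ := ha
    rcases dOK' i S hS with ⟨h, h'⟩ | ⟨h, h'⟩
    · have := X.e_pos h
      unfold cj at this
      show x (al i) * x (-al i) * x (er S) * (x (al i) * x (-al i))⁻¹ ∈ QE x
      rw [this]; exact ee_mem h'
    · have := X.e_neg h
      unfold cj at this
      show x (al i) * x (-al i) * x (er S) * (x (al i) * x (-al i))⁻¹ ∈ QE x
      rw [this]; exact mul_mem (ee_mem hS) (ee_mem h')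
  | one => rw [mul_one, mul_inv_cancel]; exact one_mem _
  | mul a b _ _ h1 h2 =>
    rw [show dd x i * (a * b) * (dd x i)⁻¹ = (dd x i * a * (dd x i)⁻¹) * (dd x i * b * (dd x i)⁻¹) by group]
    exact mul_mem h1 h2
  | inv a _ h1 =>
    rw [show dd x i * a⁻¹ * (dd x i)⁻¹ = (dd x i * a * (dd x i)⁻¹)⁻¹ by group]
    exact inv_mem h1

theorem z_QE : x zr ∈ QE x := by
  have h := e0_r X
  have h0 : x ac ∈ QE x := by
    have := ee_mem (x := x) (S := 0) (by norm_num)
    unfold ee at this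
    rwa [ShadowInst.er0] at this
  have h7 : x rr ∈ QE x := by
    have := ee_mem (x := x) (S := 7) (by norm_num)
    unfold ee at this
    rwa [ShadowInst.er7] at this
  have h1 : x zr = (x rr)⁻¹ * (x ac * x rr * (x ac)⁻¹) := by
    unfold cj at h
    rw [h]; group
  rw [h1]
  exact mul_mem (inv_mem h7) (mul_mem (mul_mem h0 h7) (inv_mem h0))

theorem Q_le (K : Core t (x zr) (x rr) L (dd x) (ta x)) : QQ (x zr) (x rr) (dd x) ≤ QE x := by
  have h7 : x rr ∈ QE x := by
    have := ee_mem (x := x) (S := 7) (by norm_num)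
    unfold ee at this
    rwa [ShadowInst.er7] at this
  -- the elements of `D` normalise
  have hD : ∀ c ∈ DD (dd x), ∀ q ∈ QE x, c * q * c⁻¹ ∈ QE x := by
    intro c hc
    unfold DD at hc
    have key : ∀ c ∈ closure (Set.range (dd x)), (∀ q ∈ QE x, c * q * c⁻¹ ∈ QE x) := by
      intro c hc
      induction hc using closure_induction with
      | mem a ha =>
        obtain ⟨i, rfl⟩ := ha
        exact fun q hq => d_QE X i hq
      | one => intro q hq; rw [one_mul, inv_one, mul_one]; exact hq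
      | mul a b _ _ h1 h2 =>
        intro q hq
        rw [show a * b * q * (a * b)⁻¹ = a * (b * q * b⁻¹) * a⁻¹ by group]
        exact h1 _ (h2 _ hq)
      | inv a ha h1 =>
        intro q hq
        have h3 : a⁻¹ = a * a := by
          have := K.D3 ha
          exact inv_eq_of_mul_eq_one_right (by rw [← mul_assoc]; exact this)
        rw [h3, show a * a * q * (a * a)⁻¹ = a * (a * q * a⁻¹) * a⁻¹ by group]
        exact h1 _ (h1 _ hq)
    exact key c hc
  unfold QQ
  rw [closure_le]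
  rintro _ (rfl | ⟨c, hc, rfl⟩)
  · exact z_QE X
  · exact hD c hc _ h7

theorem ee_Q (K : Core t (x zr) (x rr) L (dd x) (ta x)) : ∀ S < 8, ee x S ∈ QQ (x zr) (x rr) (dd x) := by
  have step : ∀ (i : Fin 3) r s, EPos r (al i) s → x r ∈ QQ (x zr) (x rr) (dd x) →
      x s ∈ QQ (x zr) (x rr) (dd x) := by
    intro i r s h hr
    rw [← X.e_pos h]
    exact K.D_conj_Q (K.d_mem i) hr
  have h7 : x (er 7) ∈ QQ (x zr) (x rr) (dd x) := by rw [ShadowInst.er7]; exact K.r_mem
  have h6 := step 0 (er 7) (er 6) (by decide) h7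
  have h5 := step 1 (er 7) (er 5) (by decide) h7
  have h3 := step 2 (er 7) (er 3) (by decide) h7
  have h4 := step 1 (er 6) (er 4) (by decide) h6
  have h2 := step 2 (er 6) (er 2) (by decide) h6
  have h1 := step 2 (er 5) (er 1) (by decide) h5
  have h0 := step 0 (er 1) (er 0) (by decide) h1
  intro S hS
  unfold ee
  interval_cases S <;> assumption

/-- **normalisation of `Q`** -/
theorem norm (K : Core t (x zr) (x rr) L (dd x) (ta x)) : ∀ g, g * t = t * g → g * x zr = x zr * g →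
    ∀ S < 8, g⁻¹ * ee x S * g ∈ Subgroup.closure (ee x '' Set.Iio 8) := by
  intro g ht hz S hS
  have ht' : g⁻¹ * t = t * g⁻¹ := by rw [inv_mul_eq_iff_eq_mul, ← mul_assoc, ht, mul_inv_cancel_right]
  have hz' : g⁻¹ * x zr = x zr * g⁻¹ := by rw [inv_mul_eq_iff_eq_mul, ← mul_assoc, hz, mul_inv_cancel_right]
  have := Q_le X K (conj_Q K ht' hz' (ee_Q X K S hS))
  rwa [inv_inv] at this

end Cfsg.Agent.StdO8.ShadowNorm
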