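import Cfsg.Agent.StdO8.Graph
import Cfsg.Agent.StdO8.ShadowNorm

/-!
# The double centraliser on eleven root elements, in the context
-/

set_option autoImplicit false
set_option linter.all false

namespace Cfsg.Agent.StdO8.InstCtx

open Cfsg.Agent.StdO8.Model (V q B X O8 Om)
open Cfsg.Agent.StdO8.D4Root (E ip roots Φ)
open Cfsg.Agent.StdO8.Frame (Ctx)
open Cfsg.Agent.StdO8.Bas Cfsg.Agent.StdO8.DataOf
open Cfsg.Agent.StdO8.DoubRoot (zr rr al ac dd ta)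

variable {G : Type*} [Group G] (C : Ctx G)

/-- An element of `C(t)` which centralises the root elements centralising `x_r`, `x_s` is linear. -/
theorem exists_isLin' {r s : E} (hr : r ∈ Φ) (hs : s ∈ Φ) (h : ip r s = 0 ∨ ip r s = 1 ∨ ip r s = -1) {g : G}
    (hg : g * C.t = C.t * g)
    (hcc : ∀ e ∈ Φ, 0 ≤ ip e r → 0 ≤ ip e s → g * x C e = x C e * g) :
    ∃ M : O8, C.IsLin g M ∧ Cen (M : V ≃ₗ[ZMod 2] V) r s := by
  obtain ⟨a, b, hab, h1, h2, h3, h4⟩ := exists_ctwo hr hs h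
  have hab' : ok a (b + 4) := by
    have : ∀ a b : Fin 8, ok a b → ok a (b + 4) := by decide
    exact this a b hab
  have m1 := wt_mem a b hab
  have m2 := wt_mem a (b + 4) hab'
  have d1 := hcc _ m1 h1 h2
  have d2 := hcc _ m2 h3 h4
  have hc2 : Cfsg.Agent.StdO8.Aut.IsC2 ((xm (wt a + wt b) * xm (wt a + wt (b + 4)) : Om) : V ≃ₗ[ZMod 2] V) := by
    refine ⟨bv a, bv b + bv (b + 4), q_bv a, bv_ne a, ?_, ?_, ?_⟩
    · rw [Model.B_add_right, B_ok hab, B_ok hab', add_zero]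
    · rw [Model.q_add, q_bv, q_bv, B_bv, if_pos rfl, zero_add, zero_add]
    · show xO (wt a + wt b) * xO (wt a + wt (b + 4)) = _
      rw [xO_wt hab, xO_wt hab', xb_mul hab hab']
  have hcomm : Commute g (C.r (xm (wt a + wt b) * xm (wt a + wt (b + 4)))) := by
    rw [map_mul]
    exact Commute.mul_right d1 d2
  obtain ⟨M, hM⟩ := C.isLin_of_commute hg hc2 hcomm
  refine ⟨M, hM, fun e he e1 e2 => ?_⟩
  exact (hM.commute_iff (xm e)).1 (hcc e he e1 e2)

/-- the double centraliser, on root elements only -/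
theorem dcRoot {r s : E} (hr : r ∈ Φ) (hs : s ∈ Φ) (h : ip r s = 0 ∨ ip r s = 1) (g : G) (hg : g * C.t = C.t * g)
    (hcc : ∀ e ∈ Φ, 0 ≤ ip e r → 0 ≤ ip e s → g * x C e = x C e * g) :
    ∃ τ α β, (τ = 1 ∨ τ = C.t) ∧ (α = 1 ∨ α = x C r) ∧ (β = 1 ∨ β = x C s) ∧ g = τ * α * β := by
  obtain ⟨M, hM, hcen⟩ := exists_isLin' C hr hs (by rcases h with h | h; exacts [Or.inl h, Or.inr (Or.inl h)]) hg hcc
  obtain ⟨α, β, hα, hβ, e⟩ := Bas.dc M.2 hr hs h hcen
  obtain ⟨α', hα', eα⟩ : ∃ α' : Om, (α' = 1 ∨ α' = xm r) ∧ α = α' := by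
    rcases hα with h | h
    · exact ⟨1, Or.inl rfl, h⟩
    · exact ⟨xm r, Or.inr rfl, h⟩
  obtain ⟨β', hβ', eβ⟩ : ∃ β' : Om, (β' = 1 ∨ β' = xm s) ∧ β = β' := by
    rcases hβ with h | h
    · exact ⟨1, Or.inl rfl, h⟩
    · exact ⟨xm s, Or.inr rfl, h⟩
  have h1 := eq_of_isLin C hM (m := α' * β') (by rw [e, eα, eβ]; rfl)
  rw [map_mul] at h1
  have h2 : C.r α' = 1 ∨ C.r α' = x C r := by
    rcases hα' with h | h
    · left; rw [h, map_one]
    · right; rw [h]; rfl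
  have h3 : C.r β' = 1 ∨ C.r β' = x C s := by
    rcases hβ' with h | h
    · left; rw [h, map_one]
    · right; rw [h]; rfl
  rcases h1 with h1 | h1
  · exact ⟨1, _, _, Or.inl rfl, h2, h3, by rw [h1, one_mul]⟩
  · exact ⟨C.t, _, _, Or.inr rfl, h2, h3, by rw [h1, mul_assoc]⟩

theorem dcr : InstRel.DCR C.t (x C) := fun g hg hc =>
  dcRoot C (r := zr) (s := rr) (by decide) (by decide) (Or.inr (by decide)) g hg hc

end Cfsg.Agent.StdO8.InstCtx
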