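import Cfsg.Agent.StdO8.InstRel
import Cfsg.Agent.StdO8.Root
import Cfsg.Agent.StdO8.DataOf

/-!
# The product of three (four) root elements is not conjugate to a root element (S1734, `L = Ω₈⁺(2)`)
-/

set_option autoImplicit false
set_option linter.all false

namespace Cfsg.Agent.StdO8.NotRoot

open Cfsg.Agent.StdO8.Model (V q B X O8 Om)
open Cfsg.Agent.StdO8.D4Root (E ip roots Φ)
open Cfsg.Agent.StdO8.Frame (Ctx)
open Cfsg.Agent.StdO8.Bas Cfsg.Agent.StdO8.DataOf Cfsg.Agent.StdO8.DoubRoot Cfsg.Agent.StdO8.InstRel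

/-- the displacements of a root element are singular -/
theorem disp {c : V ≃ₗ[ZMod 2] V} (hc : Root.IsRoot c) (v : Dc.V) : Dc.q (th c v + v) = 0 := by
  obtain ⟨u, w, hu, hw, huw, -, -, -, rfl⟩ := hc
  rw [th_X hu hw huw]
  have hu' : Dc.q (toD u) = 0 := by rw [q_toD, hu]
  have hw' : Dc.q (toD w) = 0 := by rw [q_toD, hw]
  have huw' : Dc.B (toD u) (toD w) = 0 := by rw [B_toD, huw]
  have h2 : v + v = 0 := by
    funext k
    exact (by decide : ∀ a : ZMod 2, a + a = 0) _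
  have h3 : Dc.Xf (toD u) (toD w) v + v = Dc.B v (toD w) • toD u + Dc.B v (toD u) • toD w := by
    unfold Dc.Xf
    calc v + Dc.B v (toD w) • toD u + Dc.B v (toD u) • toD w + v
        = (v + v) + (Dc.B v (toD w) • toD u + Dc.B v (toD u) • toD w) := by abel
      _ = _ := by rw [h2, zero_add]
  rw [h3, Dc.q_add, Dc.B_smul_left, Dc.B_smul_right, huw', mul_zero, mul_zero, add_zero]
  have h4 : ∀ (a : ZMod 2) (x : Dc.V), Dc.q x = 0 → Dc.q (a • x) = 0 := by
    intro a x hx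
    rcases Dc.zmod_cases a with rfl | rfl
    · rw [zero_smul]; rfl
    · rw [one_smul, hx]
  rw [h4 _ _ hu', h4 _ _ hw', add_zero]

theorem isRoot_xb {i j : Fin 8} (h : ok i j) : Root.IsRoot (xb i j) := by
  refine ⟨bv i, bv j, q_bv i, q_bv j, B_ok h, bv_ne i, bv_ne j, ?_, rfl⟩
  intro e
  have h1 : B (bv i) (bv (i + 4)) = 1 := by rw [B_bv, if_pos rfl]
  rw [e, B_bv] at h1
  by_cases h2 : i + 4 = j + 4
  · exact h.1 (add_right_cancel h2).symm
  · rw [if_neg h2] at h1
    exact absurd h1 (by decide)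

theorem xO_ac : xO ac = xb 1 6 := by
  have h : ac = wt 1 + wt 6 := by decide
  rw [h, xO_wt (by decide)]
theorem xO_er1 : xO (er 1) = xb 0 6 := by
  have h : er 1 = wt 0 + wt 6 := by decide
  rw [h, xO_wt (by decide)]
theorem xO_er3 : xO (er 3) = xb 0 7 := by
  have h : er 3 = wt 0 + wt 7 := by decide
  rw [h, xO_wt (by decide)]
theorem xO_er5 : xO (er 5) = xb 0 3 := by
  have h : er 5 = wt 0 + wt 3 := by decide
  rw [h, xO_wt (by decide)]
theorem xO_zr : xO zr = xb 0 1 := by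
  have h : zr = wt 0 + wt 1 := by decide
  rw [h, xO_wt (by decide)]

theorem not_root : ¬ Root.IsRoot ((xm (er 1) * xm (er 3) * xm (er 5) : Om) : V ≃ₗ[ZMod 2] V) := by
  intro h
  have h1 := disp h (Dc.b 4)
  have h2 : ((xm (er 1) * xm (er 3) * xm (er 5) : Om) : V ≃ₗ[ZMod 2] V) = xb 0 6 * xb 0 7 * xb 0 3 := by
    rw [← xO_er1, ← xO_er3, ← xO_er5]
    rfl
  rw [h2, th_mul, th_mul, th_xb (by decide), th_xb (by decide), th_xb (by decide)] at h1
  revert h1
  decide

theorem not_root' : ¬ Root.IsRoot ((xm (er 1) * xm (er 3) * xm (er 5) * xm zr : Om) : V ≃ₗ[ZMod 2] V) := by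
  intro h
  have h1 := disp h (Dc.b 4)
  have h2 : ((xm (er 1) * xm (er 3) * xm (er 5) * xm zr : Om) : V ≃ₗ[ZMod 2] V) =
      xb 0 6 * xb 0 7 * xb 0 3 * xb 0 1 := by
    rw [← xO_er1, ← xO_er3, ← xO_er5, ← xO_zr]
    rfl
  rw [h2, th_mul, th_mul, th_mul, th_xb (by decide), th_xb (by decide), th_xb (by decide), th_xb (by decide)] at h1
  revert h1
  decide

theorem nr {G : Type*} [Group G] (C : Ctx G) : ∀ g, g * C.t = C.t * g →
    g⁻¹ * x C ac * g ≠ x C (er 1) * x C (er 3) * x C (er 5) ∧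
    g⁻¹ * x C ac * g ≠ x C (er 1) * x C (er 3) * x C (er 5) * x C zr := by
  intro g hg
  have hg' : Commute g⁻¹ C.t := (show Commute g C.t from hg).inv_left
  obtain ⟨α, hα⟩ := C.norm g⁻¹ hg'
  have h1 : g⁻¹ * x C ac * g = C.r (α (xm ac)) := by
    rw [← hα, inv_inv]
    rfl
  have h2 : Root.IsRoot ((α (xm ac) : Om) : V ≃ₗ[ZMod 2] V) := by
    apply Root.isRoot_map
    change Root.IsRoot (xO ac)
    rw [xO_ac]
    exact isRoot_xb (by decide)
  constructor
  · intro h
    rw [h1] at h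
    have h3 : α (xm ac) = xm (er 1) * xm (er 3) * xm (er 5) := by
      apply C.inj
      rw [h, map_mul, map_mul]
      rfl
    rw [h3] at h2
    exact not_root h2
  · intro h
    rw [h1] at h
    have h3 : α (xm ac) = xm (er 1) * xm (er 3) * xm (er 5) * xm zr := by
      apply C.inj
      rw [h, map_mul, map_mul, map_mul]
      rfl
    rw [h3] at h2
    exact not_root' h2

end Cfsg.Agent.StdO8.NotRoot
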