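import Cfsg.Agent.StdO8.ShadowSG
import Cfsg.Agent.StdSpSix.TR

/-!
# The Fi22.2 shadow: the transfer argument

`Shadow.main`: from the data `Shadow.Data` (`δ = 0`), a homomorphism `m : G →* ℤˣ` with `m t = -1`.
-/

set_option autoImplicit false
set_option linter.unusedSectionVars false

namespace Cfsg.Agent.StdO8.Shadow

open Subgroup

universe u

section Parity

variable {G : Type u} [Group G] [Finite G] {S U : Subgroup G}

theorem parity (hU : IsPGroup 2 U) (P : G ⧸ S → Prop) (hP : ∀ u ∈ U, ∀ q, P q → P (u • q)) :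
    Nat.card {q : G ⧸ S // P q} % 2 = Nat.card {q : G ⧸ S // P q ∧ ∀ u ∈ U, u • q = q} % 2 := by
  let act : MulAction U {q : G ⧸ S // P q} :=
    { smul := fun x q => ⟨(x : G) • (q : G ⧸ S), hP x x.2 q q.2⟩
      one_smul := fun q => Subtype.ext (one_smul G (q : G ⧸ S))
      mul_smul := fun x y q => Subtype.ext (mul_smul (x : G) (y : G) (q : G ⧸ S)) }
  have : Fact (Nat.Prime 2) := ⟨Nat.prime_two⟩
  have h1 := hU.card_modEq_card_fixedPoints {q : G ⧸ S // P q}
  have h2 : Nat.card (MulAction.fixedPoints U {q : G ⧸ S // P q}) =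
      Nat.card {q : G ⧸ S // P q ∧ ∀ u ∈ U, u • q = q} := by
    refine Nat.card_congr ⟨fun q => ⟨q.1.1, q.1.2, fun x hx => ?_⟩, fun q => ⟨⟨q.1, q.2.1⟩, fun x => ?_⟩,
      fun q => rfl, fun q => rfl⟩
    · exact congrArg Subtype.val (q.2 ⟨x, hx⟩)
    · exact Subtype.ext (q.2.2 x x.2)
  rw [h2] at h1
  exact h1

theorem card_cosets (S C : Subgroup G) :
    Nat.card {q : G ⧸ S // ∃ c ∈ C, (c : G ⧸ S) = q} = S.relIndex C := by
  rw [relIndex, index]
  symm
  refine Nat.card_congr (Equiv.ofBijective (fun q : C ⧸ S.subgroupOf C =>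
    (⟨Quotient.liftOn' q (fun c => ((c : G) : G ⧸ S)) ?_, ?_⟩ : {q : G ⧸ S // ∃ c ∈ C, (c : G ⧸ S) = q})) ⟨?_, ?_⟩)
  · intro a b hab
    rw [QuotientGroup.leftRel_apply, mem_subgroupOf] at hab
    rw [QuotientGroup.eq]
    exact hab
  · obtain ⟨c, rfl⟩ := QuotientGroup.mk_surjective q
    exact ⟨c, c.2, rfl⟩
  · intro q1 q2 h
    obtain ⟨c1, rfl⟩ := QuotientGroup.mk_surjective q1
    obtain ⟨c2, rfl⟩ := QuotientGroup.mk_surjective q2
    have h1 : ((c1 : G) : G ⧸ S) = ((c2 : G) : G ⧸ S) := congrArg Subtype.val h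
    rw [QuotientGroup.eq] at h1
    rw [QuotientGroup.eq, mem_subgroupOf]
    exact h1
  · rintro ⟨q, c, hc, rfl⟩
    exact ⟨((⟨c, hc⟩ : C) : C ⧸ S.subgroupOf C), rfl⟩

end Parity

variable {G : Type u} [Group G] [Finite G] {t x z x' : G} {e s n : ℕ → G}

open Classical in
/-- The sign on `S`. -/
noncomputable def Data.lam (D : Data t x z e s n x') : D.SG →* ℤˣ where
  toFun g := if x * (g : G) = g * x then 1 else -1
  map_one' := by simp
  map_mul' := by
    intro a b
    have ha := D.SG_x a.2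
    have hb := D.SG_x b.2
    have hzb : (b : G) * z = z * b := D.SG_comm b.2
    have hab : x * ((a : G) * b) = a * b * x ∨ x * ((a : G) * b) = a * b * x * z := D.SG_x (a * b).2
    have hne : ∀ g : G, g ≠ g * z := fun g h => D.z_ne (mul_left_cancel (h.symm.trans (mul_one g).symm))
    change (if x * ((a : G) * b) = a * b * x then (1 : ℤˣ) else -1) =
      (if x * (a : G) = a * x then 1 else -1) * (if x * (b : G) = b * x then 1 else -1)
    rcases ha with ha | ha <;> rcases hb with hb | hb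
    · have h : x * ((a : G) * b) = a * b * x := by rw [← mul_assoc, ha, mul_assoc, hb, ← mul_assoc]
      rw [if_pos h, if_pos ha, if_pos hb, one_mul]
    · have h : x * ((a : G) * b) = a * b * x * z := by
        rw [← mul_assoc, ha, mul_assoc, hb]; simp only [mul_assoc]
      have h1 : ¬ x * ((a : G) * b) = a * b * x := fun h' => hne _ (h'.symm.trans h)
      have h2 : ¬ x * (b : G) = b * x := fun h' => hne _ (h'.symm.trans hb)
      rw [if_neg h1, if_pos ha, if_neg h2, one_mul]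
    · have h : x * ((a : G) * b) = a * b * x * z := by
        rw [← mul_assoc, ha]
        calc (a : G) * x * z * b = a * x * (z * b) := by group
          _ = a * (x * b) * z := by rw [← hzb]; group
          _ = a * b * x * z := by rw [hb]; group
      have h1 : ¬ x * ((a : G) * b) = a * b * x := fun h' => hne _ (h'.symm.trans h)
      have h2 : ¬ x * (a : G) = a * x := fun h' => hne _ (h'.symm.trans ha)
      rw [if_neg h1, if_neg h2, if_pos hb, mul_one]
    · have h : x * ((a : G) * b) = a * b * x := by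
        rw [← mul_assoc, ha]
        calc (a : G) * x * z * b = a * x * (z * b) := by group
          _ = a * (x * b) * z := by rw [← hzb]; group
          _ = a * b * x * (z * z) := by rw [hb]; group
          _ = a * b * x := by rw [D.zz, mul_one]
      have h1 : ¬ x * (b : G) = b * x := fun h' => hne _ (h'.symm.trans hb)
      have h2 : ¬ x * (a : G) = a * x := fun h' => hne _ (h'.symm.trans ha)
      rw [if_pos h, if_neg h2, if_neg h1]
      rfl

theorem Data.lam_eq (D : Data t x z e s n x') (g : D.SG) : D.lam g = -1 ↔ x * (g : G) ≠ g * x := by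
  classical
  change (if x * (g : G) = g * x then (1 : ℤˣ) else -1) = -1 ↔ _
  by_cases h : x * (g : G) = g * x
  · rw [if_pos h]
    constructor
    · intro h'; exact absurd h' (by decide)
    · intro h'; exact absurd h h'
  · rw [if_neg h]
    exact ⟨fun _ => h, fun _ => rfl⟩

/-- The group `U`: conjugation maps `t` into `{t, t z}`. -/
def Data.UG (D : Data t x z e s n x') : Subgroup G where
  carrier := {g | g ∈ D.SG ∧ (t * g = g * t ∨ t * g = g * t * z)}
  one_mem' := ⟨one_mem _, Or.inl (by group)⟩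
  mul_mem' := by
    rintro a b ⟨ha, ha'⟩ ⟨hb, hb'⟩
    refine ⟨mul_mem ha hb, ?_⟩
    have hzb : b * z = z * b := D.SG_comm hb
    rcases ha' with ha' | ha' <;> rcases hb' with hb' | hb'
    · left; rw [← mul_assoc, ha', mul_assoc, hb', ← mul_assoc]
    · right; rw [← mul_assoc, ha', mul_assoc, hb']; simp only [mul_assoc]
    · right
      rw [← mul_assoc, ha']
      calc a * t * z * b = a * t * (z * b) := by group
        _ = a * (t * b) * z := by rw [← hzb]; group
        _ = a * b * t * z := by rw [hb']; group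
    · left
      rw [← mul_assoc, ha']
      calc a * t * z * b = a * t * (z * b) := by group
        _ = a * (t * b) * z := by rw [← hzb]; group
        _ = a * b * t * (z * z) := by rw [hb']; group
        _ = a * b * t := by rw [D.zz, mul_one]
  inv_mem' := by
    rintro a ⟨ha, ha'⟩
    refine ⟨inv_mem ha, ?_⟩
    have hza : a⁻¹ * z = z * a⁻¹ := D.SG_comm (inv_mem ha)
    rcases ha' with ha' | ha'
    · left
      calc t * a⁻¹ = a⁻¹ * (a * t) * a⁻¹ := by group
        _ = a⁻¹ * t := by rw [← ha']; group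
    · right
      calc t * a⁻¹ = a⁻¹ * (a * t * z) * (z * a⁻¹) := by
            calc t * a⁻¹ = t * (z * z) * a⁻¹ := by rw [D.zz, mul_one]
              _ = _ := by group
        _ = a⁻¹ * (t * a) * (a⁻¹ * z) := by rw [← ha', hza]
        _ = a⁻¹ * t * z := by group

theorem Data.mem_UG (D : Data t x z e s n x') {g : G} :
    g ∈ D.UG ↔ g ∈ D.SG ∧ (t * g = g * t ∨ t * g = g * t * z) := Iff.rfl

theorem Data.TG_pgroup (D : Data t x z e s n x') : IsPGroup 2 D.TG := D.SG_pgroup.to_le inf_le_left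

theorem Data.UG_le (D : Data t x z e s n x') : D.UG ≤ D.SG := fun _ h => h.1

theorem Data.UG_pgroup (D : Data t x z e s n x') : IsPGroup 2 D.UG := D.SG_pgroup.to_le D.UG_le

theorem Data.TG_le_UG (D : Data t x z e s n x') : D.TG ≤ D.UG := fun g h =>
  ⟨(D.mem_TG.1 h).1, Or.inl (D.mem_TG.1 h).2.symm⟩

/-- Every element of `M` commutes with `t` up to `z`. -/
theorem Data.MG_le_UG (D : Data t x z e s n x') : D.MG ≤ D.UG := by
  intro g hg
  refine ⟨D.MG_le hg, ?_⟩
  obtain ⟨c, hc, rfl⟩ := D.mem_MG.1 hg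
  obtain ⟨v, hv, b, rfl⟩ := (mem_MM _ _).1 hc
  have h1 := D.toBase.cd.row_ph (i := 0) (by norm_num) v
  have h2 : ∀ b : Bool, ∀ g : Cz z, g * zb (zC z) b = zb (zC z) b * g := fun b g => D.toBase.cd.zbc b g
  have h3 : D.toBase.wC 0 * (ph (WL D.toBase.wC) v * zb (zC z) b) =
      (ph (WL D.toBase.wC) v * zb (zC z) b) * D.toBase.wC 0 * zb (zC z) (par (row 0) v) := by
    rw [← mul_assoc, h1]
    calc ph (WL D.toBase.wC) v * D.toBase.wC 0 * zb (zC z) (par (row 0) v) * zb (zC z) b
        = ph (WL D.toBase.wC) v * D.toBase.wC 0 * (zb (zC z) (par (row 0) v) * zb (zC z) b) := by group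
      _ = ph (WL D.toBase.wC) v * (D.toBase.wC 0 * zb (zC z) b) * zb (zC z) (par (row 0) v) := by rw [h2]; group
      _ = _ := by rw [h2 b (D.toBase.wC 0)]; group
  cases h4 : par (row 0) v
  · left
    have h6 : (zb (zC z) false : Cz z) = 1 := rfl
    rw [h4, h6, mul_one] at h3
    exact congrArg Subtype.val h3
  · right
    rw [h4] at h3
    exact congrArg Subtype.val h3

/-- The fixed cosets. -/
theorem fixed_iff {S T : Subgroup G} {g : G} :
    (∀ τ ∈ T, τ • (g : G ⧸ S) = (g : G ⧸ S)) ↔ ∀ τ ∈ T, g⁻¹ * τ * g ∈ S := by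
  constructor
  · intro h τ hτ
    have h1 := h τ hτ
    rw [MulAction.Quotient.smul_mk, smul_eq_mul, eq_comm, QuotientGroup.eq, ← mul_assoc] at h1
    exact h1
  · intro h τ hτ
    rw [MulAction.Quotient.smul_mk, smul_eq_mul, eq_comm, QuotientGroup.eq, ← mul_assoc]
    exact h τ hτ

theorem Data.xtx (D : Data t x z e s n x') : x⁻¹ * t * x = t * z := by
  have := D.toBase.xt
  calc x⁻¹ * t * x = x⁻¹ * (t * x) := by group
    _ = x⁻¹ * (x * t * z) := by rw [D.tx]
    _ = t * z := by group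

/-- The first step: `z` is fixed. -/
theorem Data.stepA (D : Data t x z e s n x') {g : G} (h : ∀ τ ∈ D.TG, g⁻¹ * τ * g ∈ D.SG) : g * z = z * g := by
  have key : ∀ a ∈ D.TG, (g * z * g⁻¹) * a = a * (g * z * g⁻¹) := by
    intro a ha
    have h1 := D.SG_comm (h a ha)
    calc (g * z * g⁻¹) * a = g * (z * (g⁻¹ * a * g)) * g⁻¹ := by group
      _ = g * ((g⁻¹ * a * g) * z) * g⁻¹ := by rw [h1]
      _ = a * (g * z * g⁻¹) := by group
  have ht : t ∈ D.TG := D.mem_TG.2 ⟨D.MG_le D.t_mem, rfl⟩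
  have he : ∀ S < 8, e S ∈ D.TG := fun S hS => D.mem_TG.2 ⟨D.MG_le (D.e_mem hS), (D.te S hS).symm⟩
  rcases D.cQ _ (key t ht) (fun S hS => key _ (he S hS)) with h1 | h1 | h1 | h1
  · exfalso
    apply D.z_ne
    calc z = g⁻¹ * (g * z * g⁻¹) * g := by group
      _ = 1 := by rw [h1]; group
  · exact absurd (isConj_iff.2 ⟨g, h1⟩ : IsConj z t).symm D.nz
  · calc g * z = (g * z * g⁻¹) * g := by group
      _ = z * g := by rw [h1]
  · exfalso
    have h2 : IsConj z (t * z) := isConj_iff.2 ⟨g, h1⟩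
    have h3 : IsConj t (t * z) := isConj_iff.2 ⟨x⁻¹, by rw [inv_inv]; exact D.xtx⟩
    exact D.nz (h3.trans h2.symm)

/-- Conjugates of `x` under `C(t) ∩ C(z)`. -/
theorem Data.conj_x (D : Data t x z e s n x') {c : G} (hct : c * t = t * c) (hcz : c * z = z * c) :
    c⁻¹ * x * c = x ∨ c⁻¹ * x * c = x * z := by
  have hxQ : ∀ q ∈ closure (e '' Set.Iio 8), x * q = q * x := by
    intro q hq
    have h1 : closure (e '' Set.Iio 8) ≤ centralizer ({x} : Set G) := by
      rw [closure_le]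
      rintro _ ⟨S, hS, rfl⟩
      rw [SetLike.mem_coe, mem_centralizer_singleton_iff]
      exact (D.xe S hS).symm
    exact (mem_centralizer_singleton_iff.1 (h1 hq)).symm
  have hct' : c⁻¹ * t = t * c⁻¹ := by
    calc c⁻¹ * t = c⁻¹ * (t * c) * c⁻¹ := by group
      _ = t * c⁻¹ := by rw [← hct]; group
  have hcz' : c⁻¹ * z = z * c⁻¹ := by
    calc c⁻¹ * z = c⁻¹ * (z * c) * c⁻¹ := by group
      _ = z * c⁻¹ := by rw [← hcz]; group
  have h1 : ∀ S < 8, (x⁻¹ * (c⁻¹ * x * c)) * e S = e S * (x⁻¹ * (c⁻¹ * x * c)) := by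
    intro S hS
    have h2 := hxQ _ (D.norm c⁻¹ hct' hcz' S hS)
    rw [inv_inv] at h2
    have h3 : x⁻¹ * e S = e S * x⁻¹ := by
      calc x⁻¹ * e S = x⁻¹ * (e S * x) * x⁻¹ := by group
        _ = e S * x⁻¹ := by rw [← D.xe S hS]; group
    calc (x⁻¹ * (c⁻¹ * x * c)) * e S = x⁻¹ * (c⁻¹ * (x * (c * e S * c⁻¹)) * c) := by group
      _ = x⁻¹ * (c⁻¹ * ((c * e S * c⁻¹) * x) * c) := by rw [h2]
      _ = (x⁻¹ * e S) * (c⁻¹ * x * c) := by group
      _ = _ := by rw [h3]; group
  have h2 : (x⁻¹ * (c⁻¹ * x * c)) * t = t * (x⁻¹ * (c⁻¹ * x * c)) := by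
    have hxi : x⁻¹ * t = t * z * x⁻¹ := by
      calc x⁻¹ * t = (x⁻¹ * t * x) * x⁻¹ := by group
        _ = t * z * x⁻¹ := by rw [D.xtx]
    calc (x⁻¹ * (c⁻¹ * x * c)) * t = x⁻¹ * (c⁻¹ * x * (c * t)) := by group
      _ = x⁻¹ * (c⁻¹ * (x * t) * c) := by rw [hct]; group
      _ = x⁻¹ * ((c⁻¹ * t) * (x * z) * c) := by rw [D.toBase.xt]; group
      _ = x⁻¹ * ((t * c⁻¹) * (z * x) * c) := by rw [hct', D.zx]
      _ = x⁻¹ * t * ((c⁻¹ * z) * x * c) := by group
      _ = t * z * x⁻¹ * (z * (c⁻¹ * x * c)) := by rw [hxi, hcz']; group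
      _ = t * (z * (x⁻¹ * z)) * (c⁻¹ * x * c) := by group
      _ = t * (z * (z * x⁻¹)) * (c⁻¹ * x * c) := by
          have : x⁻¹ * z = z * x⁻¹ := by
            calc x⁻¹ * z = x⁻¹ * (z * x) * x⁻¹ := by group
              _ = z * x⁻¹ := by rw [D.zx]; group
          rw [this]
      _ = t * ((z * z) * (x⁻¹ * (c⁻¹ * x * c))) := by group
      _ = _ := by rw [D.zz, one_mul]
  have hsq : (c⁻¹ * x * c) * (c⁻¹ * x * c) = 1 := by
    calc (c⁻¹ * x * c) * (c⁻¹ * x * c) = c⁻¹ * (x * x) * c := by group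
      _ = 1 := by rw [D.xx]; group
  have hxt : (x * t) * (x * t) = z := by
    calc (x * t) * (x * t) = x * (t * x) * t := by group
      _ = x * (x * t * z) * t := by rw [D.tx]
      _ = (x * x) * (t * (z * t)) := by group
      _ = z := by rw [D.xx, one_mul, D.zt, ← mul_assoc, D.tt, one_mul]
  have h3 : c⁻¹ * x * c = x * (x⁻¹ * (c⁻¹ * x * c)) := by group
  rcases D.cQ _ h2 h1 with h | h | h | h
  · left; rw [h3, h, mul_one]
  · exfalso
    rw [h] at h3
    rw [h3, hxt] at hsq
    exact D.z_ne hsq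
  · right; rw [h3, h]
  · exfalso
    rw [h] at h3
    rw [h3] at hsq
    apply D.z_ne
    have h4 : x * (t * z) * (x * (t * z)) = z := by
      calc x * (t * z) * (x * (t * z)) = x * t * (z * x) * (t * z) := by group
        _ = (x * t) * (x * (z * t) * z) := by rw [D.zx]; group
        _ = (x * t) * (x * t) * (z * z) := by rw [D.zt]; group
        _ = z := by rw [hxt, D.zz, mul_one]
    rw [← h4, hsq]


/-- Three cases for `d`. -/
theorem Data.stepC (D : Data t x z e s n x') {d : G} (hd : d ∈ D.MG) (hdd : d * d = 1) (hdx : x * d ≠ d * x) :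
    (∃ k ∈ D.SG, k⁻¹ * d * k = t) ∨
    (∃ k ∈ D.SG, ∃ u : G, u ^ 5 = 1 ∧ u ≠ 1 ∧ u * z = z * u ∧ u * (k⁻¹ * d * k) = (k⁻¹ * d * k) * u) ∨
    (∀ A : Subgroup G, A ≤ D.SG → (∀ a ∈ A, a * d = d * a) → 18 * Nat.card A ≤ 2 ^ 18) := by
  classical
  have C := D.toBase.cd
  have Q := quo (z := z) D.zz
  obtain ⟨d', hd', rfl⟩ := D.mem_MG.1 hd
  obtain ⟨v, hv, b, rfl⟩ := (mem_MM _ _).1 hd'
  have hzb2 : ∀ b : Bool, zb (zC z) b * zb (zC z) b = 1 := by
    intro b
    rw [← zb_xor C.zz, Bool.xor_self]; rfl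
  -- `v` is singular
  have hsq : sqf tails v = false := by
    apply zb_eq_one C.z1
    rw [← sq_ph C.zz C.zc C.tc v]
    have h1 : (ph (WL D.toBase.wC) v * zb (zC z) b) * (ph (WL D.toBase.wC) v * zb (zC z) b) = 1 := Subtype.ext hdd
    calc ph (WL D.toBase.wC) v * ph (WL D.toBase.wC) v
        = ph (WL D.toBase.wC) v * ph (WL D.toBase.wC) v * (zb (zC z) b * zb (zC z) b) := by rw [hzb2, mul_one]
      _ = ph (WL D.toBase.wC) v * (ph (WL D.toBase.wC) v * zb (zC z) b) * zb (zC z) b := by group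
      _ = ph (WL D.toBase.wC) v * (zb (zC z) b * ph (WL D.toBase.wC) v) * zb (zC z) b := by
          rw [C.zbc b (ph (WL D.toBase.wC) v)]
      _ = 1 := by rw [← h1]; group
  -- `v` is odd
  have hodd : v % 2 = 1 := by
    by_contra hne
    apply hdx
    have h1 := C.row_ph (i := 1) (by norm_num) v
    rw [par_row1 v hv] at h1
    have h2 : (v % 2 == 1) = false := by simpa using hne
    have h3 : (zb (zC z) false : Cz z) = 1 := rfl
    rw [h2, h3, mul_one] at h1
    have h4 : D.toBase.wC 1 * (ph (WL D.toBase.wC) v * zb (zC z) b) = (ph (WL D.toBase.wC) v * zb (zC z) b) *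
        D.toBase.wC 1 := by
      rw [← mul_assoc, h1, mul_assoc, C.zbc, ← mul_assoc]
    exact congrArg Subtype.val h4
  have hxd : D.toBase.wC 1 * (ph (WL D.toBase.wC) v * zb (zC z) b) = (ph (WL D.toBase.wC) v * zb (zC z) b) *
        D.toBase.wC 1 * zC z := by
    have h1 := C.row_ph (i := 1) (by norm_num) v
    rw [par_row1 v hv] at h1
    have h2 : (v % 2 == 1) = true := by simpa using hodd
    have h3 : (zb (zC z) true : Cz z) = zC z := rfl
    rw [h2, h3] at h1
    rw [← mul_assoc, h1]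
    calc ph (WL D.toBase.wC) v * D.toBase.wC 1 * zC z * zb (zC z) b
        = ph (WL D.toBase.wC) v * D.toBase.wC 1 * (zC z * zb (zC z) b) := by group
      _ = ph (WL D.toBase.wC) v * (D.toBase.wC 1 * zb (zC z) b) * zC z := by rw [C.zbc]; group
      _ = _ := by rw [C.zbc]; group
  -- conjugates
  have hconj : ∀ (k : Cz z) (m : List ℕ), Act (piz z) D.toBase.wC k m →
      ∃ b' : Bool, k⁻¹ * (ph (WL D.toBase.wC) v * zb (zC z) b) * k = ph (WL D.toBase.wC) (ap m v) * zb (zC z) b' := by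
    intro k m hk
    have h1 := hk.conj C Q v
    rw [Q.eq_iff] at h1
    have h2 : k⁻¹ * (ph (WL D.toBase.wC) v * zb (zC z) b) * k =
        (k⁻¹ * ph (WL D.toBase.wC) v * k) * zb (zC z) b := by
      calc k⁻¹ * (ph (WL D.toBase.wC) v * zb (zC z) b) * k
          = k⁻¹ * ph (WL D.toBase.wC) v * (zb (zC z) b * k) := by group
        _ = _ := by rw [← C.zbc]; group
    rcases h1 with h1 | h1
    · exact ⟨b, by rw [h2, h1]⟩
    · refine ⟨xor true b, ?_⟩
      rw [h2, h1, zb_xor C.zz, mul_assoc]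
      rfl
  rcases orbits v hv hsq hodd with ⟨m, hm, h⟩ | ⟨m, hm, h⟩ | h
  · left
    obtain ⟨k, hk⟩ := D.real m hm
    obtain ⟨b', h1⟩ := hconj k m hk
    rw [h] at h1
    have h2 : ((ph (WL D.toBase.wC) 1 : Cz z) : G) = t := by
      rw [D.toBase.coe_ph]; simp [ph]
    have hkS : (k : G) ∈ D.SG := ⟨k, ⟨m, hm, hk⟩, rfl⟩
    cases b'
    · refine ⟨k, hkS, ?_⟩
      have h3 := congrArg Subtype.val h1
      have h4 : (zb (zC z) false : Cz z) = 1 := rfl
      rw [h4, mul_one] at h3
      rw [h2] at h3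
      exact h3
    · refine ⟨k * x, D.SG.mul_mem hkS (D.MG_le D.x_mem), ?_⟩
      have h3 : (k : G)⁻¹ * ((ph (WL D.toBase.wC) v * zb (zC z) b : Cz z) : G) * k = t * z := by
        have := congrArg Subtype.val h1
        exact this.trans (congrArg (fun y => y * z) h2)
      calc (k * x : G)⁻¹ * ((ph (WL D.toBase.wC) v * zb (zC z) b : Cz z) : G) * (k * x)
          = x⁻¹ * ((k : G)⁻¹ * ((ph (WL D.toBase.wC) v * zb (zC z) b : Cz z) : G) * k) * x := by group
        _ = x⁻¹ * t * (z * x) := by rw [h3]; group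
        _ = (x⁻¹ * t * x) * z := by rw [D.zx]; group
        _ = t * (z * z) := by rw [D.xtx, mul_assoc]
        _ = t := by rw [D.zz, mul_one]
  · right; left
    obtain ⟨k, hk⟩ := D.real m hm
    obtain ⟨b', h1⟩ := hconj k m hk
    rw [h] at h1
    obtain ⟨w, hw⟩ := D.real5
    have hkS : (k : G) ∈ D.SG := ⟨k, ⟨m, hm, hk⟩, rfl⟩
    -- `w` commutes with `ph 161` up to `z`
    set p : Cz z := ph (WL D.toBase.wC) 161 * zb (zC z) b' with hp
    have h2 : p * w = w * p ∨ p * w = w * p * zC z := by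
      have h3 := hw.conj C Q 161
      rw [h5_fix, Q.eq_iff] at h3
      have h4 : w⁻¹ * p * w = (w⁻¹ * ph (WL D.toBase.wC) 161 * w) * zb (zC z) b' := by
        calc w⁻¹ * p * w = w⁻¹ * ph (WL D.toBase.wC) 161 * (zb (zC z) b' * w) := by rw [hp]; group
          _ = _ := by rw [← C.zbc]; group
      rcases h3 with h3 | h3
      · left
        rw [h3, ← hp] at h4
        calc p * w = w * (w⁻¹ * p * w) := by group
          _ = w * p := by rw [h4]
      · right
        have h5 : ph (WL D.toBase.wC) 161 * zC z * zb (zC z) b' = p * zC z := by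
          rw [hp, mul_assoc, mul_assoc, C.zbc]
        rw [h3, h5] at h4
        calc p * w = w * (w⁻¹ * p * w) := by group
          _ = w * p * zC z := by rw [h4]; group
    have h3 : p * (w * w) = w * w * p := by
      rcases h2 with h2 | h2
      · rw [← mul_assoc, h2, mul_assoc, h2, ← mul_assoc]
      · calc p * (w * w) = (p * w) * w := by group
          _ = w * p * (zC z * w) := by rw [h2]; group
          _ = w * (p * w) * zC z := by rw [← C.zc w]; group
          _ = w * w * p * (zC z * zC z) := by rw [h2]; group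
          _ = w * w * p := by rw [C.zz, mul_one]
    have h4 : w * w * w * w = w ^ 4 := by simp only [pow_succ, pow_zero, one_mul]
    have h5 : w * w * w * w * w = w ^ 5 := by simp only [pow_succ, pow_zero, one_mul]
    have a2 := hw.mul C Q hw
    have a3 := a2.mul C Q hw
    have a4 := a3.mul C Q hw
    have a5 := a4.mul C Q hw
    rw [h5_pow5] at a5
    have h6 := SS_pow C Q (MM_le_SS C Q (mem_MM_of_act C Q a5))
    -- `w ^ (5 * 32) = 1`; take `u = w ^ 96` (`96 = 1 mod 5`, `= 0 mod 32`)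
    have h7 : w ^ 160 = 1 := by
      rw [h5, ← pow_mul] at h6
      exact h6
    have h8 : w ^ 96 ≠ 1 := by
      intro h9
      -- then `w ^ gcd(96, 160) = w ^ 32 = 1`; `w^4` acts nontrivially
      have h10 : w ^ 32 = 1 := by
        have : w ^ 192 = 1 := by rw [show 192 = 96 * 2 by norm_num, pow_mul, h9, one_pow]
        rw [show 192 = 160 + 32 by norm_num, pow_add, h7, one_mul] at this
        exact this
      -- `w ^ 35 = w ^ 3` acts trivially together with `w ^ 5`: so does `w`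
      have hM5 : w ^ 5 ∈ MM C Q := by rw [← h5]; exact mem_MM_of_act C Q a5
      have hM32 : w ^ 32 ∈ MM C Q := by rw [h10]; exact one_mem _
      have hM35 : w ^ 35 ∈ MM C Q := by
        rw [show 35 = 5 * 7 by norm_num, pow_mul]; exact pow_mem hM5 7
      have hM3 : w ^ 3 ∈ MM C Q := by
        have : w ^ 3 = (w ^ 32)⁻¹ * w ^ 35 := by
          rw [eq_inv_mul_iff_mul_eq, ← pow_add]
        rw [this]
        exact mul_mem (inv_mem hM32) hM35
      have hM9 : w ^ 9 ∈ MM C Q := by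
        rw [show 9 = 3 * 3 by norm_num, pow_mul]; exact pow_mem hM3 3
      have hM4 : w ^ 4 ∈ MM C Q := by
        have : w ^ 4 = (w ^ 5)⁻¹ * w ^ 9 := by
          rw [eq_inv_mul_iff_mul_eq, ← pow_add]
        rw [this]
        exact mul_mem (inv_mem hM5) hM9
      have a4' := MM_act C Q hM4
      rw [← h4] at a4'
      exact h5_pow4 (a4.uniq C Q (mulM_lt h5_lt) idM_lt a4')
    refine ⟨k, hkS, (w ^ 96 : Cz z), ?_, ?_, ?_, ?_⟩
    · have : (w ^ 96) ^ 5 = 1 := by
        rw [← pow_mul, show 96 * 5 = 160 * 3 by norm_num, pow_mul, h7, one_pow]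
      exact congrArg Subtype.val this
    · intro h9
      exact h8 (Subtype.ext h9)
    · exact mem_Cz.1 (w ^ 96).2
    · have h9 : p * w ^ 96 = w ^ 96 * p := by
        have h10 : Commute p (w * w) := h3
        have h11 := h10.pow_right 48
        rw [← pow_two, ← pow_mul] at h11
        exact h11
      have h10 : (w ^ 96) * (k⁻¹ * (ph (WL D.toBase.wC) v * zb (zC z) b) * k) =
          (k⁻¹ * (ph (WL D.toBase.wC) v * zb (zC z) b) * k) * (w ^ 96) := by
        rw [h1, h9]
      exact congrArg Subtype.val h10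
  · right; right
    intro A hA hAd
    choose! r hr using D.real
    set W : Finset ℕ := (RL.map (fun m => ap m v)).toFinset with hW
    have hWc : 9 ≤ W.card := h.trans (cnt_le _ _ (fun a ha => List.mem_toFinset.2 ha))
    have hWm : ∀ w : W, ∃ m ∈ SL, ap m v = w := by
      rintro ⟨w, hw⟩
      rw [hW, List.mem_toFinset, List.mem_map] at hw
      obtain ⟨m, hm, h1⟩ := hw
      exact ⟨m, RL_mem m hm, h1⟩
    choose μ hμ1 hμ2 using hWm
    set d₀ : Cz z := ph (WL D.toBase.wC) v * zb (zC z) b with hd0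
    have hA' : ∀ a : A, ∃ a' : Cz z, (a' : G) = a ∧ a' * d₀ = d₀ * a' ∧ a' ∈ SS C Q := by
      rintro ⟨a, ha⟩
      obtain ⟨a', h1, h2⟩ := D.mem_SG.1 (hA ha)
      refine ⟨a', h2, Subtype.ext ?_, h1⟩
      change (a' : G) * (d₀ : G) = d₀ * a'
      rw [h2]
      exact hAd a ha
    choose α hα1 hα2 hα3 using hA'
    have hx1 : D.toBase.wC 1 ∈ SS C Q := MM_le_SS C Q (D.wC_mem (by norm_num))
    let xb : Bool → Cz z := fun c => if c then D.toBase.wC 1 else 1
    have hxb : ∀ c, (xb c)⁻¹ * d₀ * xb c = d₀ * zb (zC z) c := by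
      intro c
      cases c
      · simp [xb, zb]
      · change (D.toBase.wC 1)⁻¹ * d₀ * D.toBase.wC 1 = d₀ * zC z
        have h1 : d₀ * D.toBase.wC 1 = D.toBase.wC 1 * d₀ * zC z := by
          rw [hxd, mul_assoc (d₀ * D.toBase.wC 1), C.zz, mul_one]
        rw [mul_assoc, h1]
        group
    let f : (W × Bool) × A → SS C Q := fun p =>
      ⟨α p.2 * xb p.1.2 * r (μ p.1.1), mul_mem (mul_mem (hα3 _) (by
        cases p.1.2
        · exact one_mem _
        · exact hx1)) ⟨_, hμ1 _, hr _ (hμ1 _)⟩⟩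
    have hfc : ∀ p, ∃ c : Bool, (f p : Cz z)⁻¹ * d₀ * f p = ph (WL D.toBase.wC) p.1.1 * zb (zC z) c ∧
        (f p : Cz z)⁻¹ * d₀ * f p = ((r (μ p.1.1))⁻¹ * d₀ * r (μ p.1.1)) * zb (zC z) p.1.2 := by
      rintro ⟨⟨w, c⟩, a⟩
      have h1 : (α a * xb c * r (μ w))⁻¹ * d₀ * (α a * xb c * r (μ w)) =
          ((r (μ w))⁻¹ * d₀ * r (μ w)) * zb (zC z) c := by
        calc (α a * xb c * r (μ w))⁻¹ * d₀ * (α a * xb c * r (μ w))
            = (r (μ w))⁻¹ * ((xb c)⁻¹ * ((α a)⁻¹ * (d₀ * α a)) * xb c) * r (μ w) := by group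
          _ = (r (μ w))⁻¹ * ((xb c)⁻¹ * d₀ * xb c) * r (μ w) := by rw [← hα2]; group
          _ = (r (μ w))⁻¹ * d₀ * (zb (zC z) c * r (μ w)) := by rw [hxb]; group
          _ = _ := by rw [← C.zbc]; group
      obtain ⟨b', h2⟩ := hconj (r (μ w)) (μ w) (hr _ (hμ1 _))
      rw [hμ2] at h2
      refine ⟨xor b' c, ?_, h1⟩
      change (α a * xb c * r (μ w))⁻¹ * d₀ * (α a * xb c * r (μ w)) = _
      rw [h1, h2, zb_xor C.zz, mul_assoc]
    have hf : Function.Injective f := by
      intro p q hpq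
      obtain ⟨c, hp1, hp2⟩ := hfc p
      obtain ⟨c', hq1, hq2⟩ := hfc q
      have h1 : (p.1.1 : ℕ) = q.1.1 := by
        have hlt : ∀ w : W, (w : ℕ) < 1024 := fun w => by
          rw [← hμ2 w]; exact ap_lt (SL_getlt (hμ1 w)) v
        apply C.injW Q _ (hlt _) _ (hlt _)
        have h2 : piz z ((f p : Cz z)⁻¹ * d₀ * f p) = piz z ((f q : Cz z)⁻¹ * d₀ * f q) := by rw [hpq]
        rw [hp1, hq1, Q.zb, Q.zb, map_ph, map_ph] at h2
        exact h2
      have h1' : p.1.1 = q.1.1 := Subtype.ext h1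
      have h2 : p.1.2 = q.1.2 := by
        have h3 : (f p : Cz z)⁻¹ * d₀ * f p = (f q : Cz z)⁻¹ * d₀ * f q := by rw [hpq]
        rw [hp2, hq2, h1'] at h3
        have h4 := mul_left_cancel h3
        cases h5 : p.1.2 <;> cases h6 : q.1.2
        · rfl
        · rw [h5, h6] at h4; exact absurd h4.symm (by simpa [zb] using C.z1)
        · rw [h5, h6] at h4; exact absurd h4 (by simpa [zb] using C.z1)
        · rfl
      have h3 : α p.2 * xb p.1.2 * r (μ p.1.1) = α q.2 * xb q.1.2 * r (μ q.1.1) := congrArg Subtype.val hpq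
      rw [h1', h2] at h3
      have h4 : α p.2 = α q.2 := mul_right_cancel (mul_right_cancel h3)
      have h5 : p.2 = q.2 := Subtype.ext (by rw [← hα1, ← hα1, h4])
      exact Prod.ext (Prod.ext h1' h2) h5
    have h1 := Nat.card_le_card_of_injective f hf
    rw [Nat.card_prod, Nat.card_prod, Nat.card_eq_fintype_card (α := W), Fintype.card_coe,
      Nat.card_eq_fintype_card (α := Bool), Fintype.card_bool, D.card_SS] at h1
    refine le_trans (Nat.mul_le_mul_right _ ?_) h1
    omega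


/-- (iv): the index is odd. -/
theorem Data.idx (D : Data t x z e s n x') :
    D.SG.relIndex (centralizer ({t} : Set G) ⊓ centralizer ({z} : Set G)) % 2 = 1 := by
  set C0 : Subgroup G := centralizer ({t} : Set G) ⊓ centralizer ({z} : Set G) with hC0
  by_contra hne
  have heven : 2 ∣ D.SG.relIndex C0 := by omega
  have h1 : Nat.card (D.SG.subgroupOf C0) * D.SG.relIndex C0 = Nat.card C0 := Subgroup.card_mul_index _
  have h2 : Nat.card (D.SG.subgroupOf C0) = Nat.card D.TG := by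
    have hle : D.TG ≤ C0 := by
      intro g hg
      obtain ⟨h3, h4⟩ := D.mem_TG.1 hg
      exact Subgroup.mem_inf.2 ⟨mem_centralizer_singleton_iff.2 h4, mem_centralizer_singleton_iff.2 (D.SG_comm h3)⟩
    have h3 : D.SG.subgroupOf C0 = D.TG.subgroupOf C0 := by
      ext g
      rw [mem_subgroupOf, mem_subgroupOf, D.mem_TG]
      exact ⟨fun h => ⟨h, mem_centralizer_singleton_iff.1 (Subgroup.mem_inf.1 g.2).1⟩, fun h => h.1⟩
    rw [h3]
    exact Nat.card_congr (Subgroup.subgroupOfEquivOfLe hle).toEquiv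
  have : Fact (Nat.Prime 2) := ⟨Nat.prime_two⟩
  obtain ⟨k, hk⟩ := IsPGroup.iff_card.1 D.TG_pgroup
  have hk14 : 14 ≤ k := by
    have := D.card_TG
    rw [hk] at this
    exact (Nat.pow_le_pow_iff_right (by norm_num)).1 this
  apply D.cardC
  have h3 : Nat.card C0 ∣ Nat.card (centralizer ({t} : Set G)) := Subgroup.card_dvd_of_le inf_le_left
  refine dvd_trans ?_ h3
  rw [← h1, h2, hk]
  calc 2 ^ 15 = 2 ^ 14 * 2 := by norm_num
    _ ∣ 2 ^ k * D.SG.relIndex C0 := Nat.mul_dvd_mul (pow_dvd_pow 2 hk14) heven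

theorem Data.UG_conj (D : Data t x z e s n x') {u τ : G} (hu : u ∈ D.UG) (hτ : τ ∈ D.TG) : u⁻¹ * τ * u ∈ D.TG := by
  obtain ⟨h1, h2⟩ := D.mem_TG.1 hτ
  refine D.mem_TG.2 ⟨D.SG.mul_mem (D.SG.mul_mem (D.SG.inv_mem hu.1) h1) hu.1, ?_⟩
  have h3 : τ * (u * t * u⁻¹) = (u * t * u⁻¹) * τ := by
    have hz := D.SG_comm hu.1
    rcases hu.2 with h | h
    · have : u * t * u⁻¹ = t := by rw [← h]; group
      rw [this, h2]
    · have : u * t * u⁻¹ = t * z := by
        calc u * t * u⁻¹ = u * t * (z * z) * u⁻¹ := by rw [D.zz, mul_one]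
          _ = (u * t * z) * z * u⁻¹ := by group
          _ = t * (u * z) * u⁻¹ := by rw [← h]; group
          _ = t * z := by rw [hz]; group
      rw [this]
      calc τ * (t * z) = (τ * t) * z := by group
        _ = t * (τ * z) := by rw [h2]; group
        _ = t * z * τ := by rw [D.SG_comm h1]; group
  calc u⁻¹ * τ * u * t = u⁻¹ * (τ * (u * t * u⁻¹)) * u := by group
    _ = t * (u⁻¹ * τ * u) := by rw [h3]; group

/-- **The Fi22.2 shadow.** -/
theorem main (D : Data t x z e s n x') : ∃ m : G →* ℤˣ, m t = -1 := by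
  refine StdSpSix.TR.exists_hom_of_fixed D.lam D.tt D.TG D.TG_pgroup (fun y hy => (D.mem_TG.1 hy).2) ?_
  set C0 : Subgroup G := centralizer ({t} : Set G) ⊓ centralizer ({z} : Set G) with hC0
  have hC0m : ∀ g, g ∈ C0 ↔ g * t = t * g ∧ g * z = z * g := by
    intro g
    rw [hC0, Subgroup.mem_inf, mem_centralizer_singleton_iff, mem_centralizer_singleton_iff]
  have hTfix : ∀ g : G, (∀ τ ∈ D.TG, τ • (g : G ⧸ D.SG) = (g : G ⧸ D.SG)) → g * z = z * g :=
    fun g h => D.stepA (fixed_iff.1 h)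
  -- the first parity
  have hB := parity D.UG_pgroup (S := D.SG)
    (fun q => StdSpSix.TR.Bad D.lam t q ∧ ∀ τ ∈ D.TG, τ • q = q) (by
      rintro u hu q ⟨⟨g, rfl, h, hl⟩, hfix⟩
      have hgz := hTfix g hfix
      rw [fixed_iff] at hfix
      have hux : u • (g : G ⧸ D.SG) = ((u * g : G) : G ⧸ D.SG) := rfl
      rw [hux]
      constructor
      · have hc : (u * g)⁻¹ * t * (u * g) = g⁻¹ * t * g ∨ (u * g)⁻¹ * t * (u * g) = g⁻¹ * t * g * z := by
          rcases hu.2 with h1 | h1
          · left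
            calc (u * g)⁻¹ * t * (u * g) = g⁻¹ * (u⁻¹ * (t * u)) * g := by group
              _ = g⁻¹ * t * g := by rw [h1]; group
          · right
            calc (u * g)⁻¹ * t * (u * g) = g⁻¹ * (u⁻¹ * (t * u)) * g := by group
              _ = g⁻¹ * t * (z * g) := by rw [h1]; group
              _ = g⁻¹ * t * g * z := by rw [← hgz]; group
        rw [D.lam_eq] at hl
        change x * (g⁻¹ * t * g) ≠ (g⁻¹ * t * g) * x at hl
        rcases hc with hc | hc
        · refine ⟨u * g, rfl, by rw [hc]; exact h, ?_⟩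
          rw [D.lam_eq]
          change x * ((u * g)⁻¹ * t * (u * g)) ≠ ((u * g)⁻¹ * t * (u * g)) * x
          rw [hc]
          exact hl
        · refine ⟨u * g, rfl, by rw [hc]; exact D.SG.mul_mem h (D.MG_le D.z_mem), ?_⟩
          rw [D.lam_eq]
          change x * ((u * g)⁻¹ * t * (u * g)) ≠ ((u * g)⁻¹ * t * (u * g)) * x
          rw [hc]
          intro h'
          apply hl
          apply mul_right_cancel (b := z)
          calc x * (g⁻¹ * t * g) * z = x * (g⁻¹ * t * g * z) := by group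
            _ = g⁻¹ * t * g * (z * x) := by rw [h']; group
            _ = g⁻¹ * t * g * x * z := by rw [D.zx]; group
      · rw [fixed_iff]
        intro τ hτ
        have h1 := hfix _ (D.UG_conj hu hτ)
        have h2 : (u * g)⁻¹ * τ * (u * g) = g⁻¹ * (u⁻¹ * τ * u) * g := by group
        rw [h2]
        exact h1)
  -- the second parity
  have hY := parity D.UG_pgroup (S := D.SG) (fun q => ∃ c ∈ C0, (c : G ⧸ D.SG) = q) (by
      rintro u hu q ⟨c, hc, rfl⟩
      obtain ⟨hct, hcz⟩ := (hC0m c).1 hc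
      have huz := D.SG_comm hu.1
      rcases hu.2 with h1 | h1
      · exact ⟨u * c, (hC0m _).2 ⟨by rw [mul_assoc, hct, ← mul_assoc, ← h1, mul_assoc],
          by rw [mul_assoc, hcz, ← mul_assoc, huz, mul_assoc]⟩, rfl⟩
      · have hux : (u * x) * t = t * (u * x) := by
          calc (u * x) * t = u * (x * t) := by group
            _ = u * t * (x * z) := by rw [D.toBase.xt]; group
            _ = (u * t * z) * x := by rw [← D.zx]; group
            _ = t * (u * x) := by rw [← h1]; group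
        have huxz : (u * x) * z = z * (u * x) := by
          rw [mul_assoc, ← D.zx, ← mul_assoc, huz, mul_assoc]
        refine ⟨u * x * c, (hC0m _).2 ⟨by rw [mul_assoc, hct, ← mul_assoc, hux, mul_assoc],
          by rw [mul_assoc, hcz, ← mul_assoc, huxz, mul_assoc]⟩, ?_⟩
        change ((u * x * c : G) : G ⧸ D.SG) = ((u * c : G) : G ⧸ D.SG)
        rw [eq_comm, QuotientGroup.eq]
        have h2 : (u * c)⁻¹ * (u * x * c) = c⁻¹ * x * c := by group
        rw [h2]
        rcases D.conj_x hct hcz with h3 | h3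
        · rw [h3]; exact D.MG_le D.x_mem
        · rw [h3]; exact D.SG.mul_mem (D.MG_le D.x_mem) (D.MG_le D.z_mem))
  have hcong : Nat.card {q : G ⧸ D.SG // (StdSpSix.TR.Bad D.lam t q ∧ ∀ τ ∈ D.TG, τ • q = q) ∧ ∀ u ∈ D.UG, u • q = q} =
      Nat.card {q : G ⧸ D.SG // (∃ c ∈ C0, (c : G ⧸ D.SG) = q) ∧ ∀ u ∈ D.UG, u • q = q} := by
    apply Nat.card_congr
    apply Equiv.subtypeEquivRight
    intro q
    constructor
    · rintro ⟨⟨⟨g, rfl, h, hl⟩, hfix⟩, hU⟩
      refine ⟨?_, hU⟩
      have hgz := hTfix g hfix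
      rw [fixed_iff] at hfix hU
      rw [D.lam_eq] at hl
      change x * (g⁻¹ * t * g) ≠ (g⁻¹ * t * g) * x at hl
      have hM := D.weakG hgz (fun a ha => hU a (D.MG_le_UG ha))
      have hd := hM t D.t_mem
      have hdd : (g⁻¹ * t * g) * (g⁻¹ * t * g) = 1 := by
        calc (g⁻¹ * t * g) * (g⁻¹ * t * g) = g⁻¹ * (t * t) * g := by group
          _ = 1 := by rw [D.tt]; group
      rcases D.stepC hd hdd hl with ⟨k, hk, h1⟩ | ⟨k, hk, w, h1, h2, h3, h4⟩ | h1
      · have hkz := D.SG_comm hk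
        refine ⟨g * k, (hC0m _).2 ⟨?_, ?_⟩, ?_⟩
        · calc g * k * t = g * k * (k⁻¹ * (g⁻¹ * t * g) * k) := by rw [h1]
            _ = t * (g * k) := by group
        · rw [mul_assoc, hkz, ← mul_assoc, hgz, mul_assoc]
        · rw [eq_comm, QuotientGroup.eq, inv_mul_cancel_left]
          exact hk
      · exfalso
        have hkz := D.SG_comm hk
        apply h2
        have h5 : (g * k) * w * (g * k)⁻¹ = 1 := by
          apply D.five
          · calc (g * k) * w * (g * k)⁻¹ * t = (g * k) * (w * (k⁻¹ * (g⁻¹ * t * g) * k)) * (g * k)⁻¹ := by group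
              _ = t * ((g * k) * w * (g * k)⁻¹) := by rw [h4]; group
          · have h6 : (g * k) * z = z * (g * k) := by rw [mul_assoc, hkz, ← mul_assoc, hgz, mul_assoc]
            calc (g * k) * w * (g * k)⁻¹ * z = (g * k) * w * ((g * k)⁻¹ * (z * (g * k))) * (g * k)⁻¹ := by group
              _ = (g * k) * (w * z) * (g * k)⁻¹ := by rw [← h6]; group
              _ = ((g * k) * z) * w * (g * k)⁻¹ := by rw [h3]; group
              _ = z * ((g * k) * w * (g * k)⁻¹) := by rw [h6]; group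
          · rw [conj_pow, h1]; group
        calc w = (g * k)⁻¹ * ((g * k) * w * (g * k)⁻¹) * (g * k) := by group
          _ = 1 := by rw [h5]; group
      · exfalso
        have h2 := h1 (D.TG.map (MulAut.conj g⁻¹).toMonoidHom) (by
          rintro _ ⟨τ, hτ, rfl⟩
          have := hfix τ hτ
          simpa using this) (by
          rintro _ ⟨τ, hτ, rfl⟩
          have h3 := (D.mem_TG.1 hτ).2
          change g⁻¹ * τ * g⁻¹⁻¹ * (g⁻¹ * t * g) = (g⁻¹ * t * g) * (g⁻¹ * τ * g⁻¹⁻¹)
          calc g⁻¹ * τ * g⁻¹⁻¹ * (g⁻¹ * t * g) = g⁻¹ * (τ * t) * g := by group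
            _ = _ := by rw [h3]; group)
        rw [Subgroup.card_map_of_injective (MulEquiv.injective _)] at h2
        have h3 := D.card_TG
        omega
    · rintro ⟨⟨c, hc, rfl⟩, hU⟩
      obtain ⟨hct, hcz⟩ := (hC0m c).1 hc
      refine ⟨⟨?_, fun τ hτ => hU τ (D.TG_le_UG hτ)⟩, hU⟩
      have h1 : c⁻¹ * t * c = t := by rw [mul_assoc, ← hct, inv_mul_cancel_left]
      refine ⟨c, rfl, by rw [h1]; exact D.MG_le D.t_mem, ?_⟩
      rw [D.lam_eq]
      change x * (c⁻¹ * t * c) ≠ (c⁻¹ * t * c) * x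
      rw [h1, D.tx]
      intro h
      exact D.z_ne (mul_left_cancel (h.symm.trans (mul_one _).symm))
  rw [Nat.odd_iff, hB, hcong, ← hY, card_cosets]
  exact D.idx

end Cfsg.Agent.StdO8.Shadow
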