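import Cfsg.Agent.StdO8.ShadowAct

/-!
# Realisation of the 128 matrices; the element of order 5; the case `δ = 1`
-/

set_option autoImplicit false

namespace Cfsg.Agent.StdO8.Shadow

universe u

theorem SL_nodup : SL.Nodup := by decide +kernel

/-- The matrix of order 5. -/
def h5 : List ℕ := mulM (mulM (mulM (mulM (ms 0) (ms 1)) mx) (mn 1)) (mn 2)

theorem h5_fix : ap h5 161 = 161 := by decide +kernel

theorem h5_lt : ∀ c ∈ h5, c < 1024 := by decide +kernel

theorem h5_pow5 : mulM (mulM (mulM (mulM h5 h5) h5) h5) h5 = idM := by decide +kernel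

theorem h5_pow4 : mulM (mulM (mulM h5 h5) h5) h5 ≠ idM := by decide +kernel

theorem word3 : mulM (mulM (mulM (mulM (mulM (mulM (mulM (mulM (mn 1) (mn 2)) mx) (mn 1)) (mn 2)) mx) (mn 1)) (mn 2)) mx =
    gs.getD 3 [] := by decide +kernel

theorem word5 : mulM (mulM (mn 0) mx) (mn 0) = gs.getD 5 [] := by decide +kernel

theorem word6 : mulM (mulM (mulM (mulM (mulM (mulM (mulM (mulM (mulM (mn 0) (mn 1)) (mn 2)) mx) (mn 0)) (mn 1)) mx) (mn 0))
    (mn 1)) (mn 2) = gs.getD 6 [] := by decide +kernel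

theorem wordc : mulM (mulM (mulM (mulM (mulM mx1 (mn 0)) mx1) (ms 0)) (mn 0)) mx1 =
    [1, 2, 168, 84, 544, 272, 640, 320, 512, 256] := by decide +kernel

variable {G : Type u} [Group G] {t x z x' : G} {e s n : ℕ → G}

theorem Data.real_gen (D : Data t x z e s n x') :
    ∀ k < 7, ∃ g : Cz z, Act (piz z) D.toBase.wC g (gs.getD k []) := by
  have C := D.toBase.cd
  have Q := quo (z := z) D.zz
  have S : ∀ {i} (hi : i < 3), Act (piz z) D.toBase.wC (D.toBase.sC hi) (ms i) := fun hi => D.toBase.act_s hi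
  have N : ∀ {i} (hi : i < 3), Act (piz z) D.toBase.wC (D.toBase.nC hi) (mn i) := fun hi => D.toBase.act_n hi
  have X := D.act_x
  have i0 : 0 < 3 := by norm_num
  have i1 : 1 < 3 := by norm_num
  have i2 : 2 < 3 := by norm_num
  intro k hk
  interval_cases k
  · exact ⟨_, S i0⟩
  · exact ⟨_, S i1⟩
  · exact ⟨_, S i2⟩
  · rw [← word3]
    exact ⟨_, ((((((((N i1).mul C Q (N i2)).mul C Q X).mul C Q (N i1)).mul C Q (N i2)).mul C Q X).mul C Q (N i1)).mul C Q
      (N i2)).mul C Q X⟩
  · exact ⟨_, X⟩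
  · rw [← word5]
    exact ⟨_, ((N i0).mul C Q X).mul C Q (N i0)⟩
  · rw [← word6]
    exact ⟨_, (((((((((N i0).mul C Q (N i1)).mul C Q (N i2)).mul C Q X).mul C Q (N i0)).mul C Q (N i1)).mul C Q X).mul C Q
      (N i0)).mul C Q (N i1)).mul C Q (N i2)⟩

theorem Data.real (D : Data t x z e s n x') : ∀ m ∈ SL, ∃ g : Cz z, Act (piz z) D.toBase.wC g m := by
  have C := D.toBase.cd
  have Q := quo (z := z) D.zz
  have key : ∀ k < 128, ∃ g : Cz z, Act (piz z) D.toBase.wC g (SL.getD k []) := by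
    intro k
    induction k using Nat.strong_induction_on with
    | _ k ih =>
      intro hk
      rcases Nat.eq_zero_or_pos k with rfl | hpos
      · have h0 : SL.getD 0 [] = idM := by decide +kernel
        rw [h0]
        exact ⟨1, Act.one⟩
      · obtain ⟨j, rfl⟩ : ∃ j, k = j + 1 := ⟨k - 1, by omega⟩
        obtain ⟨h1, h2, h3⟩ := tree_ok j (by omega)
        obtain ⟨a, ha⟩ := ih _ (Nat.lt_succ_of_le h1) (by omega)
        obtain ⟨b, hb⟩ := D.real_gen _ h2
        rw [h3]
        exact ⟨a * b, ha.mul C Q hb⟩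
  intro m hm
  obtain ⟨k, hk, rfl⟩ := List.getElem_of_mem hm
  have := key k (by rw [SL_len] at hk; exact hk)
  rwa [List.getD_eq_getElem _ _ hk] at this

theorem Data.real5 (D : Data t x z e s n x') : ∃ g : Cz z, Act (piz z) D.toBase.wC g h5 := by
  have C := D.toBase.cd
  have Q := quo (z := z) D.zz
  have i0 : 0 < 3 := by norm_num
  have i1 : 1 < 3 := by norm_num
  have i2 : 2 < 3 := by norm_num
  exact ⟨_, ((((D.toBase.act_s i0).mul C Q (D.toBase.act_s i1)).mul C Q D.act_x).mul C Q (D.toBase.act_n i1)).mul C Q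
    (D.toBase.act_n i2)⟩

/-- `δ = 1` is impossible. -/
theorem delta1_false (D : Data1 t x z e s n x') : False := by
  have C := D.toBase.cd
  have Q := quo (z := z) D.zz
  have i0 : 0 < 3 := by norm_num
  have h : ∃ c : Cz z, Act (piz z) D.toBase.wC c [1, 2, 168, 84, 544, 272, 640, 320, 512, 256] := by
    rw [← wordc]
    exact ⟨_, ((((D.act_x.mul C Q (D.toBase.act_n i0)).mul C Q D.act_x).mul C Q (D.toBase.act_s i0)).mul C Q
      (D.toBase.act_n i0)).mul C Q D.act_x⟩
  obtain ⟨c, hc⟩ := h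
  rw [D.toBase.act_iff] at hc
  simp only [List.forall₂_cons, List.forall₂_nil_left_iff, and_true] at hc
  obtain ⟨h1, -, h3, -⟩ := hc
  have hcz : (c : G) * z = z * c := mem_Cz.1 c.2
  have h1' : E z ((c : G)⁻¹ * t * c) t := by simpa [ph] using h1
  have h3' : E z ((c : G)⁻¹ * e 0 * c) (e 1 * e 3 * e 5) := by simpa [ph, mul_assoc] using h3
  rcases h1' with h | h
  · refine D.nr c ?_ hcz h3'
    calc (c : G) * t = c * ((c : G)⁻¹ * t * c) := by rw [h]
      _ = t * c := by group
  · -- `c⁻¹ t c = t z`: use `c x`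
    refine D.nr (c * x) ?_ ?_ ?_
    · have h4 : t * c = c * t * z := by
        calc t * c = c * ((c : G)⁻¹ * t * c) := by group
          _ = c * t * z := by rw [h, mul_assoc]
      calc c * x * t = c * (x * t) := by group
        _ = c * (t * x * z) := by rw [D.toBase.xt]
        _ = (c * t) * (x * z) := by group
        _ = (c * t) * (z * x) := by rw [D.zx]
        _ = (c * t * z) * x := by group
        _ = t * (c * x) := by rw [← h4, mul_assoc]
    · calc c * x * z = c * (x * z) := by group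
        _ = (c * z) * x := by rw [← D.zx, mul_assoc]
        _ = z * (c * x) := by rw [hcz, mul_assoc]
    · have h5 : (c * x : G)⁻¹ * e 0 * (c * x) = x⁻¹ * ((c : G)⁻¹ * e 0 * c) * x := by group
      rw [h5]
      have hx : ∀ S < 8, x⁻¹ * e S * x = e S := fun S hS => by
        rw [mul_assoc, ← D.xe S hS, inv_mul_cancel_left]
      have h6 : x⁻¹ * (e 1 * e 3 * e 5) * x = e 1 * e 3 * e 5 := by
        calc x⁻¹ * (e 1 * e 3 * e 5) * x = (x⁻¹ * e 1 * x) * (x⁻¹ * e 3 * x) * (x⁻¹ * e 5 * x) := by group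
          _ = e 1 * e 3 * e 5 := by rw [hx 1 (by norm_num), hx 3 (by norm_num), hx 5 (by norm_num)]
      rcases h3' with h3' | h3'
      · left; rw [h3', h6]
      · right
        rw [h3']
        calc x⁻¹ * (e 1 * e 3 * e 5 * z) * x = x⁻¹ * (e 1 * e 3 * e 5) * (z * x) := by group
          _ = x⁻¹ * (e 1 * e 3 * e 5) * x * z := by rw [D.zx]; group
          _ = e 1 * e 3 * e 5 * z := by rw [h6]

end Cfsg.Agent.StdO8.Shadow
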