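import Cfsg.Agent.StandardComponent.FiRedEight
import Cfsg.Agent.StdO8.InstCtx
import Cfsg.Agent.StdO8.NotRoot
import Cfsg.Agent.StdO8.CentQ
import Cfsg.Agent.StdO8.CardC
import Cfsg.Agent.StdO8.FactI
import Cfsg.Agent.StdO8.FactK
import Cfsg.Agent.StdO8.DoubSwap
import Cfsg.Agent.StdO8.Five
import Cfsg.Agent.StdO8.ShadowReal
import Cfsg.Agent.StdO8.ShadowMain
import Cfsg.Agent.StdO8.DoubMixed
import Cfsg.Agent.StdO8.FactL
import Cfsg.Agent.StdO8.Even
import Cfsg.Agent.StdSpSix.TR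

/-!
# `L ≅ Ω₈⁺(2)` is impossible (S1734)
-/

set_option autoImplicit false
set_option linter.all false

namespace Cfsg.Agent.StdO8.Final

open Subgroup
open Cfsg.Agent.StdO8.D4Root (E ip roots Φ)
open Cfsg.Agent.StdO8.Frame (Ctx)
open Cfsg.Agent.StdO8.DataOf (x)
open Cfsg.Agent.StdO8.DoubRoot (zr rr al ac dd ta YZ oj ok)
open Cfsg.Agent.StdO8.DoubSwap (Sw)

universe u

variable {G : Type u} [Group G]

/-- the involution `y` -/
theorem exists_yz [Finite G] [IsSimpleGroup G] (hG : ¬ IsMulCommutative G) (C : Ctx G) {T : Subgroup G}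
    (hT : Sw C.t (x C zr) C.L T) : ∃ y, YZ C.t (x C) y := by
  obtain ⟨g, hz, ht⟩ := hT.exists_swap (fun A _ f u => Sw.hom_eq_one hG A f u)
  exact DoubRoot.exists_y (Graph.xd C) (FactI.core C) (Graph.f8 C) hz ht

/-- the pattern `ε = (1,1,1)` -/
theorem one [Finite G] (C : Ctx G) {T : Subgroup G} (hT : Sw C.t (x C zr) C.L T)
    {y : G} (Y : YZ C.t (x C) y) (h : InstRel.One (x C) y) : ∃ m : G →* ℤˣ, m C.t = -1 := by
  have X := Graph.xd C
  have nz : ¬ IsConj C.t (x C zr) := by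
    intro hc
    obtain ⟨g, hg⟩ := isConj_iff.1 hc
    exact hT.not_conj g hg
  rcases ShadowInst.cases X Y h (InstCtx.dcr C) (CentQ.cQ C) nz (CardC.cardC C) (Five.five C)
    (ShadowNorm.norm X (FactI.core C)) (NotRoot.nr C) with hD | hD
  · exact Shadow.main hD
  · exact (Shadow.delta1_false hD).elim

/-- the three patterns -/
theorem exists_hom [Finite G] [IsSimpleGroup G] (hG : ¬ IsMulCommutative G) (C : Ctx G) :
    ∃ m : G →* ℤˣ, m C.t = -1 := by
  obtain ⟨T, hT⟩ := FactL.sw C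
  obtain ⟨y, Y⟩ := exists_yz hG C hT
  rcases DoubMixed.mixed C Y with h | h
  · obtain ⟨y, y1, y2, y3⟩ := DoubRoot.exists_Y (Graph.xd C) (FactH.f7 C) Y h
    exact Even.exists_hom' C y1 y2 y3
  · exact one C hT Y h

/-- **`L ≅ Ω₈⁺(2)` is impossible.** -/
theorem false_of_standard [Finite G] [IsSimpleGroup G] (hG : ¬ IsMulCommutative G)
    (hcomm : Cfsg.oddCore G = ⊥ → Cfsg.Agent.StdAlt.First.CommHalf G)
    (hbal : ∀ t : G, orderOf t = 2 → Cfsg.centralizerPPrimeCore 2 t = ⊥)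
    (L : Subgroup G) (hL : Cfsg.IsStandardSubgroup L)
    {F : Type*} [Field F] [Fintype F] (hF : Fintype.card F = 2)
    (e : L ≃* Cfsg.POmega F (Cfsg.quadFormPlus 4 F)) : False := by
  obtain ⟨C, -⟩ := Cfsg.Agent.StandardComponent.FiRedEight.exists_ctx hG hcomm hbal L hL hF e
  obtain ⟨m, hm⟩ := exists_hom hG C
  exact Cfsg.Agent.StdSpSix.TR.false_of_simple hG m hm

end Cfsg.Agent.StdO8.Final
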