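import Cfsg.Agent.StdO8.DoubVi
import Cfsg.Agent.StdO8.DoubSwap
import Cfsg.Agent.StdO8.FactK

/-!
# Doubling of a root element of `Ω₈⁺(2)`: existence and the signs (S1734)

In a simple group `G` with a context `C : Ctx G`: `exists_yz` (the involution `y` exists), `exists_ye` (with its signs `ε`;
`ε (oj i) = ε (ok i)` whenever the graph element `Graph t x (oj i) (ok i)` exists), `cases_eps`.
-/

set_option autoImplicit false
set_option linter.all false

namespace Cfsg.Agent.StdO8.DoubMain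

open Subgroup Cfsg.Agent.StdO8.D4Root Cfsg.Agent.StdO8.DoubRefl Cfsg.Agent.StdO8.DoubRoot Cfsg.Agent.StdO8.DoubVi
open Cfsg.Agent.StdO8.DoubCore (DD QQ TZ Core)
open Cfsg.Agent.StdO8.Frame (Ctx Lin)
open Cfsg.Agent.StdO8.DataOf (x xm)
open Cfsg.Agent.StdO8.Uni (U ht)

universe u

variable {G : Type u} [Group G] (C : Ctx G)

theorem L_le_Lin : C.L ≤ Lin C.t C.r := by
  rintro _ ⟨m, rfl⟩
  exact C.mem_Lin.2 ⟨_, C.isLin_r m⟩

theorem Lin_le : Lin C.t C.r ≤ centralizer {C.t} := fun g hg => by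
  obtain ⟨M, hM⟩ := C.mem_Lin.1 hg
  exact mem_centralizer_singleton_iff.2 hM.1

/-- A Sylow 2-subgroup of `C(t)` inside `Lin`. -/
theorem exists_T [Finite G] : ∃ T : Subgroup G, IsPGroup 2 T ∧ U C ≤ T ∧ T ≤ Lin C.t C.r ∧
    ∀ P : Subgroup G, IsPGroup 2 P → T ≤ P → (∀ y ∈ P, y * C.t = C.t * y) → P ≤ T := by
  set K : Subgroup G := centralizer {C.t} with hK
  set Λ : Subgroup G := Lin C.t C.r with hΛ
  have hUL : U C ≤ Λ := (Uni.U_le C).trans (L_le_Lin C)
  have hΛK : Λ ≤ K := Lin_le C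
  have hp : IsPGroup 2 ((U C).subgroupOf Λ) := by
    have h1 : Nat.card ((U C).subgroupOf Λ) = 2 ^ 12 := by
      rw [Nat.card_congr (Subgroup.subgroupOfEquivOfLe hUL).toEquiv, Uni.card_U]
    exact IsPGroup.of_card h1
  obtain ⟨P, hP⟩ := hp.exists_le_sylow
  have hTΛ : (P : Subgroup Λ).map Λ.subtype ≤ Λ := by
    rintro _ ⟨y, -, rfl⟩
    exact y.2
  have hcT : Nat.card ((P : Subgroup Λ).map Λ.subtype) = Nat.card P :=
    (Nat.card_congr ((P : Subgroup Λ).equivMapOfInjective _ Λ.subtype_injective).toEquiv).symm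
  refine ⟨(P : Subgroup Λ).map Λ.subtype, P.isPGroup'.map _, ?_, hTΛ, ?_⟩
  · intro u hu
    exact ⟨⟨u, hUL hu⟩, hP (mem_subgroupOf.2 hu), rfl⟩
  · intro R hR hle hRt
    have hRK : R ≤ K := fun y hy => mem_centralizer_singleton_iff.2 (hRt y hy)
    obtain ⟨n, hn⟩ := IsPGroup.iff_card.1 hR
    have h1 : 2 ^ n ∣ Nat.card K := by
      rw [← hn]; exact Subgroup.card_dvd_of_le hRK
    have h2 : Nat.card K = Λ.relIndex K * Nat.card Λ := by
      have h0 := Subgroup.relIndex_mul_relIndex (⊥ : Subgroup G) Λ K bot_le hΛK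
      rw [Subgroup.relIndex_bot_left, Subgroup.relIndex_bot_left] at h0
      rw [← h0, mul_comm]
    have h3 : Odd (Λ.relIndex K) := C.odd
    have h4 : 2 ^ n ∣ Nat.card Λ := by
      rw [h2] at h1
      exact (Nat.Coprime.pow_left n (Nat.coprime_two_left.2 h3)).dvd_of_dvd_mul_left h1
    have h5 : 2 ^ n ∣ Nat.card P := P.pow_dvd_card_of_pow_dvd_card h4
    have h6 : Nat.card R ≤ Nat.card ((P : Subgroup Λ).map Λ.subtype) := by
      rw [hn, hcT]
      exact Nat.le_of_dvd Nat.card_pos h5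
    exact (Subgroup.eq_of_le_of_card_ge hle h6).ge

/-- **Step (1)** in the context. -/
theorem exists_swap [Finite G] (hG : ∀ (A : Type u) [CommGroup A] (f : G →* A) (u : G), f u = 1) :
    ∃ g : G, g * x C zr * g⁻¹ = x C zr ∧ g * C.t * g⁻¹ = C.t * x C zr := by
  obtain ⟨T, pT, hU, hTL, hmax⟩ := exists_T C
  have hTt : ∀ y ∈ T, y * C.t = C.t * y := fun y hy =>
    mem_centralizer_singleton_iff.1 (Lin_le C (hTL hy))
  have F := FactK.frame_of C pT hU hTt hmax
  have S : DoubSwap.Sw C.t (x C zr) C.L T :=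
    { tt := C.tt
      zz := F.zz
      z1 := F.z1
      t_notMem := C.t_notMem
      zL := DataOf.x_mem C _
      nL := fun g hg l hl => FactK.L_normal C hg hl
      zcomm := by
        obtain ⟨a, b, -, -, h1, h2, h3⟩ := FactK.z_comm C
        exact ⟨a, b, h1, h2, h3⟩
      pT := pT
      tT := F.tT
      tc := F.tc
      zT := F.zT
      zc := F.zc
      max := F.max
      om := F.om
      hTL := fun a ha b hb => FactK.comm_lin C (hTL ha) (hTL hb) }
  exact S.exists_swap hG

/-- Existence of `y`. -/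
theorem exists_yz [Finite G] (hG : ∀ (A : Type u) [CommGroup A] (f : G →* A) (u : G), f u = 1) :
    ∃ y, YZ C.t (x C) y := by
  obtain ⟨g, h1, h2⟩ := exists_swap C hG
  exact exists_y (Graph.xd C) (FactI.core C) (fun i v h => Graph.f8 C i v h) h1 h2

/-- Uniqueness of `y`. -/
theorem uniq [Finite G] {y y' : G} (hy : y * y = 1) (ht : y * C.t * y⁻¹ = C.t * x C zr)
    (hz : y * x C zr = x C zr * y) (hr : y * x C rr = x C rr * y) (hd : ∀ i, y * dd (x C) i = dd (x C) i * y)
    (hy' : y' * y' = 1) (ht' : y' * C.t * y'⁻¹ = C.t * x C zr)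
    (hz' : y' * x C zr = x C zr * y') (hr' : y' * x C rr = x C rr * y') (hd' : ∀ i, y' * dd (x C) i = dd (x C) i * y') :
    y' = y ∨ y' = x C zr * y := by
  have K := FactI.core C
  set z := x C zr with hzd
  set g := y' * y⁻¹ with hg
  have hinv : ∀ {a b : G}, a * b = b * a → a⁻¹ * b = b * a⁻¹ := fun {a b} h => by
    have : Commute a b := h
    exact this.inv_left.eq
  have hc : ∀ b, y * b = b * y → y' * b = b * y' → g * b = b * g := by
    intro b h1 h2
    rw [hg, mul_assoc, hinv h1, ← mul_assoc, h2, mul_assoc]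
  have h1 : g * C.t = C.t * g := by
    have e1 : y⁻¹ * C.t * y = C.t * z := by
      have : y⁻¹ = y := inv_eq_of_mul_eq_one_right hy
      rw [this]
      rw [this] at ht
      exact ht
    have e2 : y' * (C.t * z) * y'⁻¹ = C.t := by
      calc y' * (C.t * z) * y'⁻¹ = (y' * C.t * y'⁻¹) * (y' * z * y'⁻¹) := by group
        _ = C.t * z * z := by rw [ht', hz']; group
        _ = C.t := by rw [mul_assoc, K.zz, mul_one]
    apply mul_inv_eq_iff_eq_mul.1
    calc g * C.t * g⁻¹ = y' * (y⁻¹ * C.t * y) * y'⁻¹ := by rw [hg]; group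
      _ = C.t := by rw [e1, e2]
  obtain ⟨s, hs, c, hcD, hsc⟩ := K.cD g h1 (hc _ hz hz') (fun i => hc _ (hd i) (hd' i))
  have h4 := hc _ hr hr'
  have hsr : s * x C rr = x C rr * s := K.TZ_comm hs K.rL K.zr
  have hc1 : c = 1 := by
    apply K.rc c hcD
    have h5 : s * (c * x C rr) = s * (x C rr * c) := by
      rw [← mul_assoc, ← hsc, h4, hsc, ← mul_assoc, ← mul_assoc, hsr]
    exact (mul_left_cancel h5).symm
  rw [hc1, mul_one] at hsc
  have hy'e : y' = s * y := by rw [← hsc, hg, inv_mul_cancel_right]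
  rcases hs with h | h | h | h
  · left; rw [hy'e, h, one_mul]
  · exfalso
    have e : y' * y' = z := by
      rw [hy'e, h]
      have e1 : y * C.t = C.t * z * y := by rw [← ht]; group
      calc C.t * y * (C.t * y) = C.t * (y * C.t) * y := by group
        _ = (C.t * C.t) * z * (y * y) := by rw [e1]; group
        _ = z := by rw [K.tt, hy]; group
    rw [hy'] at e
    exact K.z1 e.symm
  · right; rw [hy'e, h]
  · exfalso
    have e : y' * y' = z := by
      rw [hy'e, h]
      have e1 : y * C.t = C.t * z * y := by rw [← ht]; group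
      have e2 : z * y = y * z := hz.symm
      calc C.t * z * y * (C.t * z * y) = C.t * z * (y * C.t) * z * y := by group
        _ = C.t * (z * C.t) * z * (y * z) * y := by rw [e1]; group
        _ = C.t * (C.t * z) * z * (z * y) * y := by rw [← K.tz, e2]
        _ = (C.t * C.t) * (z * z) * z * (y * y) := by group
        _ = z := by rw [K.tt, K.zz, hy]; group
    rw [hy'] at e
    exact K.z1 e.symm

/-- The signs are invariant under the graph elements. -/
theorem eps_graph [Finite G] {ε : Fin 3 → Bool} {y : G} (Y : YE C.t (x C) ε y) (i : Fin 3) {v : G}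
    (hv : Graph C.t (x C) (oj i) (DoubRoot.ok i) v) : ε (oj i) = ε (DoubRoot.ok i) := by
  have X := Graph.xd C
  have K := FactI.core C
  have ga := gam_al i
  have vx : ∀ s ∈ Φ, cj v (x C s) = x C (gam (oj i) (DoubRoot.ok i) s) := hv.vx
  have vz : cj v (x C zr) = x C zr := by rw [vx zr (by decide), ga.2.2.2.2.2.2.1]
  have vr : cj v (x C rr) = x C rr := by rw [vx rr (by decide), ga.2.2.2.2.2.2.2]
  have vt : cj v C.t = C.t := cj_comm hv.vt
  set y' := cj v y with hy'
  have cc : ∀ u, cj y' (cj v u) = cj v (cj y u) := fun u => by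
    rw [hy']; exact (cj_cj v y u).symm
  have hyd : ∀ l, y' * dd (x C) l = dd (x C) l * y' := by
    have key : ∀ l l', cj v (dd (x C) l) = dd (x C) l' → y' * dd (x C) l' = dd (x C) l' * y' := by
      intro l l' h
      apply comm_of_cj
      rw [← h, cc, cj_comm (Y.yd l)]
    intro l
    rcases fin_cases' i l with rfl | rfl | rfl
    · apply key l l
      unfold dd
      rw [cj_mul, vx _ (al_mem _).1, vx _ (al_mem _).2, ga.1, ga.2.1]
    · apply key (DoubRoot.ok i)
      unfold dd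
      rw [cj_mul, vx _ (al_mem _).1, vx _ (al_mem _).2, ga.2.2.2.2.1, ga.2.2.2.2.2.1]
    · apply key (oj i)
      unfold dd
      rw [cj_mul, vx _ (al_mem _).1, vx _ (al_mem _).2, ga.2.2.1, ga.2.2.2.1]
  have hu := uniq C Y.yy Y.yt Y.yz Y.yr Y.yd (y' := y')
    (by rw [hy', ← cj_mul, Y.yy]; unfold cj; group)
    (by
      change cj y' C.t = _
      have := cc C.t
      rw [vt, show cj y C.t = C.t * x C zr from Y.yt, cj_mul, vt, vz] at this
      exact this)
    (by
      apply comm_of_cj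
      have := cc (x C zr)
      rwa [vz, cj_comm Y.yz, vz] at this)
    (by
      apply comm_of_cj
      have := cc (x C rr)
      rwa [vr, cj_comm Y.yr, vr] at this)
    hyd
  -- the action on `x (al (oj i))`
  have h1 : cj y' (x C (al (DoubRoot.ok i))) = x C (al (DoubRoot.ok i)) * pw (x C zr) (ε (oj i)) := by
    have := cc (x C (al (oj i)))
    rw [vx _ (al_mem _).1, ga.2.2.1, show cj y (x C (al (oj i))) = _ from Y.yτ (oj i), cj_mul] at this
    change _ = cj v (x C (al (oj i))) * cj v (pw (x C zr) (ε (oj i))) at this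
    rw [vx _ (al_mem _).1, ga.2.2.1, cj_pw, vz] at this
    exact this
  have h2 : cj y' (x C (al (DoubRoot.ok i))) = x C (al (DoubRoot.ok i)) * pw (x C zr) (ε (DoubRoot.ok i)) := by
    have h3 : cj y (x C (al (DoubRoot.ok i))) = x C (al (DoubRoot.ok i)) * pw (x C zr) (ε (DoubRoot.ok i)) :=
      Y.yτ (DoubRoot.ok i)
    rcases hu with h | h
    · rw [h, h3]
    · rw [h, cj_comp, h3, cj_mul, cj_pw]
      have h4 : cj (x C zr) (x C (al (DoubRoot.ok i))) = x C (al (DoubRoot.ok i)) := cj_comm (K.zτ (DoubRoot.ok i))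
      have h5 : cj (x C zr) (x C zr) = x C zr := cj_comm rfl
      rw [h4, h5]
  rw [h1] at h2
  have h3 := mul_left_cancel h2
  have hz1 : x C zr ≠ 1 := K.z1
  cases h4 : ε (oj i) <;> cases h5 : ε (DoubRoot.ok i)
  · rfl
  · rw [h4, h5] at h3
    exact absurd h3.symm hz1
  · rw [h4, h5] at h3
    exact absurd h3 hz1
  · rfl

/-- **Existence of `y` with its signs.** -/
theorem exists_eps [Finite G] (hG : ∀ (A : Type u) [CommGroup A] (f : G →* A) (u : G), f u = 1) :
    ∃ (ε : Fin 3 → Bool) (y : G), YE C.t (x C) ε y ∧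
      ((∀ i, ε i = false) ∨ (∀ i, ε i = true) ∨ ∃ i, ε i = true ∧ ε (oj i) = false ∧ ε (DoubRoot.ok i) = false) := by
  obtain ⟨y, hy⟩ := exists_yz C hG
  obtain ⟨ε, hε, h1⟩ := exists_ye hy
  refine ⟨ε, y, hε, ?_⟩
  have h2 : ∀ i, ε i = true → ε (oj i) = ε (DoubRoot.ok i) := by
    intro i hi
    obtain ⟨v, hv⟩ := h1 i hi
    exact eps_graph C hε i hv
  have key : ∀ a b c : Bool, (a = true → b = c) → (b = true → a = c) → (c = true → a = b) →
      (a = false ∧ b = false ∧ c = false) ∨ (a = true ∧ b = true ∧ c = true) ∨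
      (a = true ∧ b = false ∧ c = false) ∨ (b = true ∧ a = false ∧ c = false) ∨
      (c = true ∧ a = false ∧ b = false) := by decide
  rcases key (ε 0) (ε 1) (ε 2) (h2 0) (h2 1) (h2 2) with h | h | h | h | h
  · left
    intro i
    fin_cases i
    exacts [h.1, h.2.1, h.2.2]
  · right; left
    intro i
    fin_cases i
    exacts [h.1, h.2.1, h.2.2]
  · right; right; exact ⟨0, h.1, h.2.1, h.2.2⟩
  · right; right; exact ⟨1, h.1, h.2.1, h.2.2⟩
  · right; right; exact ⟨2, h.1, h.2.1, h.2.2⟩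

/-- The pattern `ε = 0` gives the doubled root elements. -/
theorem exists_Y [Finite G] {ε : Fin 3 → Bool} {y : G} (Y : YE C.t (x C) ε y) (h0 : ∀ i, ε i = false) :
    ∃ Y : E → G, (∀ r ∈ Φ, Y r * Y r = 1) ∧ (∀ r ∈ Φ, Y r * C.t * Y r = C.t * x C r) ∧
      (∀ r ∈ Φ, ∀ g ∈ C.L, g * x C r = x C r * g → g * Y r = Y r * g) := by
  have h1 : ∀ i, y * ta (x C) i * y⁻¹ = ta (x C) i := by
    intro i
    have := Y.yτ i
    rwa [h0, pw_false, mul_one] at this
  exact DoubRoot.exists_Y (Graph.xd C) (FactH.f7 C) (y := y)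
    ⟨Y.yy, Y.yt, Y.yz, Y.yr, Y.yd, fun i => Or.inl (h1 i)⟩ h1

end Cfsg.Agent.StdO8.DoubMain
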