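import Cfsg.Agent.StdO8.DoubCore

/-!
# Doubling of a root element of `Ω₈⁺(2)`: reflections (S1734)

Seven commuting involutions `t, z, w, r, a, b, c` (`⟨z, w, r, a, b, c⟩` = the elementary abelian subgroup
`A_i` of `L`) and elements `e, u, n, m` of `L` normalising it. From an involution `y` moving `t` to `tz` we
get an element centralising `t` which acts on `A_i` as the transvection interchanging `a` and `b`.
-/

set_option autoImplicit false
set_option linter.all false

namespace Cfsg.Agent.StdO8.DoubRefl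

variable {G : Type*} [Group G]

/-- conjugation -/
def cj (g x : G) : G := g * x * g⁻¹

theorem cj_mul (g x y : G) : cj g (x * y) = cj g x * cj g y := by unfold cj; group

theorem cj_comp (g h x : G) : cj (g * h) x = cj g (cj h x) := by unfold cj; group

theorem cj_inv {g x y : G} (h : cj g x = y) : cj g⁻¹ y = x := by rw [← h]; unfold cj; group

theorem cj_one (x : G) : cj 1 x = x := by unfold cj; group

theorem lc {x y : G} (h : x * y = y * x) (u : G) : x * (y * u) = y * (x * u) := by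
  rw [← mul_assoc, h, mul_assoc]

theorem sq' {x : G} (h : x * x = 1) (u : G) : x * (x * u) = u := by
  rw [← mul_assoc, h, one_mul]

/-- The configuration. -/
structure Fr (t z w r a b c e u n m : G) : Prop where
  sq : ∀ p ∈ [t, z, w, r, a, b, c], p * p = 1
  cm : ∀ p ∈ [t, z, w, r, a, b, c], ∀ q ∈ [t, z, w, r, a, b, c], p * q = q * p
  et : cj e t = t
  ez : cj e z = r
  er : cj e r = r * z
  ew : cj e w = w * c
  ec : cj e c = w
  ea : cj e a = a
  eb : cj e b = b
  ut : cj u t = t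
  uz : cj u z = z
  ur : cj u r = r
  ua : cj u a = a
  ub : cj u b = b
  uw : cj u w = w * r
  uc : cj u c = c * z
  nt : cj n t = t
  nr : cj n r = r
  nc : cj n c = c
  nz : cj n z = a
  na : cj n a = z
  nw : cj n w = b
  nb : cj n b = w
  mt : cj m t = t
  mr : cj m r = r
  mc : cj m c = c
  mz : cj m z = b
  mb : cj m b = z
  mw : cj m w = a
  ma : cj m a = w

namespace Fr

variable {t z w r a b c e u n m : G}

/-- `v` centralises `t, z, w, r, c` and interchanges `a`, `b`. -/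
structure Refl (t z w r a b c v : G) : Prop where
  vt : cj v t = t
  vz : cj v z = z
  vw : cj v w = w
  vr : cj v r = r
  va : cj v a = b
  vb : cj v b = a
  vc : cj v c = c

/-- the permutation case -/
theorem perm (F : Fr t z w r a b c e u n m) {y : G} (yt : cj y t = t * z) (yz : cj y z = z) (yr : cj y r = r)
    (ya : cj y a = b) (yb : cj y b = a) (yc : cj y c = c) (yw : cj y w = w ∨ cj y w = w * z) :
    ∃ v, Refl t z w r a b c v := by
  have sz := F.sq z (by simp)
  have sw := F.sq w (by simp)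
  have sr := F.sq r (by simp)
  have sc := F.sq c (by simp)
  have zr := F.cm z (by simp) r (by simp)
  have wz := F.cm w (by simp) z (by simp)
  have wr := F.cm w (by simp) r (by simp)
  have cz := F.cm c (by simp) z (by simp)
  have crr := F.cm c (by simp) r (by simp)
  have cw := F.cm c (by simp) w (by simp)
  have ei_t : cj e⁻¹ t = t := cj_inv F.et
  have ei_r : cj e⁻¹ r = z := cj_inv F.ez
  have ei_z : cj e⁻¹ z = r * z := cj_inv (by rw [cj_mul, F.er, F.ez, mul_assoc, zr, sq' sr])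
  have ei_w : cj e⁻¹ w = c := cj_inv F.ec
  have ei_c : cj e⁻¹ c = c * w := cj_inv (by rw [cj_mul, F.ec, F.ew, sq' sw])
  have ei_a : cj e⁻¹ a = a := cj_inv F.ea
  have ei_b : cj e⁻¹ b = b := cj_inv F.eb
  set y1 := e * y * e⁻¹ with hy1
  set y2 := e * y1 * e⁻¹ with hy2
  have c1 : ∀ x, cj y1 x = cj e (cj y (cj e⁻¹ x)) := fun x => by rw [hy1, cj_comp, cj_comp]
  have c2 : ∀ x, cj y2 x = cj e (cj y1 (cj e⁻¹ x)) := fun x => by rw [hy2, cj_comp, cj_comp]
  have t1 : cj y1 t = t * r := by rw [c1, ei_t, yt, cj_mul, F.et, F.ez]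
  have z1 : cj y1 z = z := by rw [c1, ei_z, cj_mul, yr, yz, cj_mul, F.er, F.ez, mul_assoc, zr, sq' sr]
  have r1 : cj y1 r = r := by rw [c1, ei_r, yz, F.ez]
  have a1 : cj y1 a = b := by rw [c1, ei_a, ya, F.eb]
  have b1 : cj y1 b = a := by rw [c1, ei_b, yb, F.ea]
  have w1 : cj y1 w = w := by rw [c1, ei_w, yc, F.ec]
  have t2 : cj y2 t = t * (r * z) := by rw [c2, ei_t, t1, cj_mul, F.et, F.er]
  have z2 : cj y2 z = z := by rw [c2, ei_z, cj_mul, r1, z1, cj_mul, F.er, F.ez, mul_assoc, zr, sq' sr]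
  have r2 : cj y2 r = r := by rw [c2, ei_r, z1, F.ez]
  have a2 : cj y2 a = b := by rw [c2, ei_a, a1, F.eb]
  have b2 : cj y2 b = a := by rw [c2, ei_b, b1, F.ea]
  have c3 : ∀ x, cj (y2 * y1 * y) x = cj y2 (cj y1 (cj y x)) := fun x => by rw [cj_comp, cj_comp]
  have t3 : cj (y2 * y1 * y) t = t := by
    rw [c3, yt, cj_mul, t1, z1, cj_mul, cj_mul, t2, r2, z2]
    have : t * (r * z) * r * z = t * ((r * (z * r)) * z) := by group
    rw [this, zr, sq' sr, sz, mul_one]
  have z3 : cj (y2 * y1 * y) z = z := by rw [c3, yz, z1, z2]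
  have r3 : cj (y2 * y1 * y) r = r := by rw [c3, yr, r1, r2]
  have a3 : cj (y2 * y1 * y) a = b := by rw [c3, ya, b1, a2]
  have b3 : cj (y2 * y1 * y) b = a := by rw [c3, yb, a1, b2]
  rcases yw with yw | yw
  · have k1 : cj y1 c = c := by
      rw [c1, ei_c, cj_mul, yc, yw, cj_mul, F.ec, F.ew, sq' sw]
    have w2 : cj y2 w = w := by rw [c2, ei_w, k1, F.ec]
    have k2 : cj y2 c = c := by
      rw [c2, ei_c, cj_mul, k1, w1, cj_mul, F.ec, F.ew, sq' sw]
    have w3 : cj (y2 * y1 * y) w = w := by rw [c3, yw, w1, w2]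
    have k3 : cj (y2 * y1 * y) c = c := by rw [c3, yc, k1, k2]
    exact ⟨_, t3, z3, w3, r3, a3, b3, k3⟩
  · have k1 : cj y1 c = c * r := by
      rw [c1, ei_c, cj_mul, yc, yw, cj_mul, F.ec, cj_mul, F.ew, F.ez]
      rw [mul_assoc w, sq' sw]
    have w2 : cj y2 w = w * (r * z) := by rw [c2, ei_w, k1, cj_mul, F.ec, F.er]
    have k2 : cj y2 c = c * (r * z) := by
      rw [c2, ei_c, cj_mul, k1, w1, cj_mul, cj_mul, F.ec, F.er, F.ew]
      have h1 : w * (r * z) = r * z * w := by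
        rw [← mul_assoc, wr, mul_assoc, wz, ← mul_assoc]
      have h2 : c * (r * z) = r * z * c := by
        rw [← mul_assoc, crr, mul_assoc, cz, ← mul_assoc]
      rw [h1, mul_assoc, sq' sw, h2]
    have w3 : cj (y2 * y1 * y) w = w * r := by
      rw [c3, yw, cj_mul, w1, z1, cj_mul, w2, z2, mul_assoc, mul_assoc, sz, mul_one]
    have k3 : cj (y2 * y1 * y) c = c * z := by
      rw [c3, yc, k1, cj_mul, k2, r2, mul_assoc, mul_assoc, zr, sq' sr]
    have c4 : ∀ x, cj (u * (y2 * y1 * y)) x = cj u (cj (y2 * y1 * y) x) := fun x => cj_comp _ _ _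
    refine ⟨u * (y2 * y1 * y), ?_, ?_, ?_, ?_, ?_, ?_, ?_⟩
    · rw [c4, t3, F.ut]
    · rw [c4, z3, F.uz]
    · rw [c4, w3, cj_mul, F.uw, F.ur, mul_assoc, sr, mul_one]
    · rw [c4, r3, F.ur]
    · rw [c4, a3, F.ub]
    · rw [c4, b3, F.ua]
    · rw [c4, k3, cj_mul, F.uc, F.uz, mul_assoc, sz, mul_one]

/-- the sign case -/
theorem sign (F : Fr t z w r a b c e u n m) {y : G} (yt : cj y t = t * z) (yz : cj y z = z) (yr : cj y r = r)
    (ya : cj y a = a) (yb : cj y b = b) (yc : cj y c = c) (yw : cj y w = w * z) :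
    ∃ v, Refl t z w r a b c v := by
  have sa := F.sq a (by simp)
  have sb := F.sq b (by simp)
  have ab := F.cm a (by simp) b (by simp)
  have ta := F.cm t (by simp) a (by simp)
  have ni_t : cj n⁻¹ t = t := cj_inv F.nt
  have ni_r : cj n⁻¹ r = r := cj_inv F.nr
  have ni_c : cj n⁻¹ c = c := cj_inv F.nc
  have ni_z : cj n⁻¹ z = a := cj_inv F.na
  have ni_a : cj n⁻¹ a = z := cj_inv F.nz
  have ni_w : cj n⁻¹ w = b := cj_inv F.nb
  have ni_b : cj n⁻¹ b = w := cj_inv F.nw
  have mi_t : cj m⁻¹ t = t := cj_inv F.mt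
  have mi_r : cj m⁻¹ r = r := cj_inv F.mr
  have mi_c : cj m⁻¹ c = c := cj_inv F.mc
  have mi_z : cj m⁻¹ z = b := cj_inv F.mb
  have mi_b : cj m⁻¹ b = z := cj_inv F.mz
  have mi_w : cj m⁻¹ w = a := cj_inv F.ma
  have mi_a : cj m⁻¹ a = w := cj_inv F.mw
  set p := n * y * n⁻¹ with hp
  set q := m * y * m⁻¹ with hq
  have cp : ∀ x, cj p x = cj n (cj y (cj n⁻¹ x)) := fun x => by rw [hp, cj_comp, cj_comp]
  have cq : ∀ x, cj q x = cj m (cj y (cj m⁻¹ x)) := fun x => by rw [hq, cj_comp, cj_comp]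
  have p_t : cj p t = t * a := by rw [cp, ni_t, yt, cj_mul, F.nt, F.nz]
  have p_z : cj p z = z := by rw [cp, ni_z, ya, F.na]
  have p_w : cj p w = w := by rw [cp, ni_w, yb, F.nb]
  have p_r : cj p r = r := by rw [cp, ni_r, yr, F.nr]
  have p_c : cj p c = c := by rw [cp, ni_c, yc, F.nc]
  have p_a : cj p a = a := by rw [cp, ni_a, yz, F.nz]
  have p_b : cj p b = b * a := by rw [cp, ni_b, yw, cj_mul, F.nw, F.nz]
  have q_t : cj q t = t * b := by rw [cq, mi_t, yt, cj_mul, F.mt, F.mz]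
  have q_z : cj q z = z := by rw [cq, mi_z, yb, F.mb]
  have q_w : cj q w = w := by rw [cq, mi_w, ya, F.ma]
  have q_r : cj q r = r := by rw [cq, mi_r, yr, F.mr]
  have q_c : cj q c = c := by rw [cq, mi_c, yc, F.mc]
  have q_b : cj q b = b := by rw [cq, mi_b, yz, F.mz]
  have q_a : cj q a = a * b := by rw [cq, mi_a, yw, cj_mul, F.mw, F.mz]
  have c3 : ∀ x, cj (p * q * p) x = cj p (cj q (cj p x)) := fun x => by rw [cj_comp, cj_comp]
  refine ⟨p * q * p, ?_, ?_, ?_, ?_, ?_, ?_, ?_⟩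
  · rw [c3, p_t, cj_mul, q_t, q_a, cj_mul, cj_mul, cj_mul, p_t, p_b, p_a]
    have : t * a * (b * a) * (a * (b * a)) = t * (a * (b * ((a * a) * (b * a)))) := by group
    rw [this, sa, one_mul, sq' sb, sa, mul_one]
  · rw [c3, p_z, q_z, p_z]
  · rw [c3, p_w, q_w, p_w]
  · rw [c3, p_r, q_r, p_r]
  · rw [c3, p_a, q_a, cj_mul, p_a, p_b, ← mul_assoc, ab, mul_assoc, sa, mul_one]
  · rw [c3, p_b, cj_mul, q_b, q_a, cj_mul, cj_mul, p_a, p_b]
    have : b * a * (a * (b * a)) = b * ((a * a) * (b * a)) := by group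
    rw [this, sa, one_mul, sq' sb]
  · rw [c3, p_c, q_c, p_c]

end Fr

end Cfsg.Agent.StdO8.DoubRefl
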