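import Cfsg.Agent.StdO8.DoubRoot
import Cfsg.Agent.StdO8.Graph
import Cfsg.Agent.StdO8.Root

/-!
# Doubling of a root element of `Ω₈⁺(2)`: the action of `y_{z'}` (S1734)

`y` with `t^y = tz`, `y` centralises `Q_z`, `d i`, and `[y, τ i] = z^(ε i)`. `y' = n y n⁻¹` (`n` the Weyl element of
`ac`), `z' = x rr`. `vi`: `y' x(ac) y' = y t^h z^a z'^h b x(ac)`, `b` the product of the `x (rr - al i)`, `ε i = 1`.
-/

set_option autoImplicit false
set_option linter.all false

namespace Cfsg.Agent.StdO8.DoubVi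

open Subgroup Cfsg.Agent.StdO8.D4Root Cfsg.Agent.StdO8.DoubRefl Cfsg.Agent.StdO8.DoubRoot
open Cfsg.Agent.StdO8.Model (V q B X O8 Om)
open Cfsg.Agent.StdO8.Frame (Ctx)
open Cfsg.Agent.StdO8.Bas (xO wt bv xb Cen exists_ctwo wt_mem q_bv B_bv bv_ne xO_wt xb_mul B_ok)
open Cfsg.Agent.StdO8.DataOf (xm eq_of_isLin)

variable {G : Type*} [Group G]

/-- `g` or `1` -/
def pw (g : G) (b : Bool) : G := if b then g else 1

theorem pw_true (g : G) : pw g true = g := rfl

theorem pw_false (g : G) : pw g false = 1 := rfl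

theorem cj_pw (w g : G) (b : Bool) : cj w (pw g b) = pw (cj w g) b := by
  cases b
  · simp [pw, cj]
  · rfl

theorem cj_comm {w g : G} (h : w * g = g * w) : cj w g = g := by
  unfold cj; rw [h, mul_inv_cancel_right]

theorem comm_of_cj {w g : G} (h : cj w g = g) : w * g = g * w := mul_inv_eq_iff_eq_mul.1 h

/-- The involution `y` with its signs `ε`. -/
structure YE (t : G) (x : E → G) (ε : Fin 3 → Bool) (y : G) : Prop where
  yy : y * y = 1
  yt : y * t * y⁻¹ = t * x zr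
  yz : y * x zr = x zr * y
  yr : y * x rr = x rr * y
  yd : ∀ i, y * dd x i = dd x i * y
  yτ : ∀ i, y * ta x i * y⁻¹ = ta x i * pw (x zr) (ε i)

theorem exists_ye {t : G} {x : E → G} {y : G} (h : YZ t x y) :
    ∃ ε : Fin 3 → Bool, YE t x ε y ∧ ∀ i, ε i = true → ∃ v, Graph t x (oj i) (DoubRoot.ok i) v := by
  classical
  refine ⟨fun i => decide (y * ta x i * y⁻¹ ≠ ta x i), ⟨h.yy, h.yt, h.yz, h.yr, h.yd, fun i => ?_⟩, fun i hi => ?_⟩
  · by_cases hi : y * ta x i * y⁻¹ = ta x i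
    · simp [hi, pw]
    · rw [decide_eq_true (by exact hi)]
      rcases h.yτ i with h1 | h1
      · exact absurd h1 hi
      · exact h1.1
  · have hi' : y * ta x i * y⁻¹ ≠ ta x i := of_decide_eq_true hi
    rcases h.yτ i with h1 | h1
    · exact absurd h1 hi'
    · exact h1.2

/-- Double centralisers, with root elements only. -/
theorem dcx (C : Ctx G) {r s : E} (hr : r ∈ Φ) (hs : s ∈ Φ) (h : ip r s = 0 ∨ ip r s = 1) {g : G}
    (hg : g * C.t = C.t * g)
    (hcc : ∀ e ∈ Φ, 0 ≤ ip e r → 0 ≤ ip e s → g * DataOf.x C e = DataOf.x C e * g) :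
    ∃ τ α β, (τ = 1 ∨ τ = C.t) ∧ (α = 1 ∨ α = DataOf.x C r) ∧ (β = 1 ∨ β = DataOf.x C s) ∧ g = τ * α * β := by
  obtain ⟨M, hM, hcen⟩ : ∃ M : O8, C.IsLin g M ∧ Cen (M : V ≃ₗ[ZMod 2] V) r s := by
    obtain ⟨a, b, hab, h1, h2, h3, h4⟩ := exists_ctwo hr hs (by tauto)
    have hab' : Bas.ok a (b + 4) := by
      have : ∀ a b : Fin 8, Bas.ok a b → Bas.ok a (b + 4) := by decide
      exact this a b hab
    have m1 := wt_mem a b hab
    have m2 := wt_mem a (b + 4) hab'
    have d1 := hcc _ m1 h1 h2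
    have d2 := hcc _ m2 h3 h4
    have hc2 : Cfsg.Agent.StdO8.Aut.IsC2 ((xm (wt a + wt b) * xm (wt a + wt (b + 4)) : Om) : V ≃ₗ[ZMod 2] V) := by
      refine ⟨bv a, bv b + bv (b + 4), q_bv a, bv_ne a, ?_, ?_, ?_⟩
      · rw [Model.B_add_right, B_ok hab, B_ok hab', add_zero]
      · rw [Model.q_add, q_bv, q_bv, B_bv, if_pos rfl, zero_add, zero_add]
      · show xO (wt a + wt b) * xO (wt a + wt (b + 4)) = _
        rw [xO_wt hab, xO_wt hab', xb_mul hab hab']
    have hcomm : Commute g (C.r (xm (wt a + wt b) * xm (wt a + wt (b + 4)))) := by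
      rw [map_mul]
      exact Commute.mul_right d1 d2
    obtain ⟨M, hM⟩ := C.isLin_of_commute hg hc2 hcomm
    refine ⟨M, hM, fun e he e1 e2 => ?_⟩
    exact (hM.commute_iff (xm e)).1 (hcc e he e1 e2)
  obtain ⟨α, β, hα, hβ, e⟩ := Bas.dc M.2 hr hs h hcen
  obtain ⟨α', hα', eα⟩ : ∃ α' : Om, (α' = 1 ∨ α' = xm r) ∧ α = α' := by
    rcases hα with h | h
    · exact ⟨1, Or.inl rfl, h⟩
    · exact ⟨xm r, Or.inr rfl, h⟩
  obtain ⟨β', hβ', eβ⟩ : ∃ β' : Om, (β' = 1 ∨ β' = xm s) ∧ β = β' := by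
    rcases hβ with h | h
    · exact ⟨1, Or.inl rfl, h⟩
    · exact ⟨xm s, Or.inr rfl, h⟩
  have h1 := eq_of_isLin C hM (m := α' * β') (by rw [e, eα, eβ]; rfl)
  rw [map_mul] at h1
  have h2 : C.r α' = 1 ∨ C.r α' = DataOf.x C r := by
    rcases hα' with h | h
    · left; rw [h, map_one]
    · right; rw [h]; rfl
  have h3 : C.r β' = 1 ∨ C.r β' = DataOf.x C s := by
    rcases hβ' with h | h
    · left; rw [h, map_one]
    · right; rw [h]; rfl
  rcases h1 with h1 | h1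
  · exact ⟨1, _, _, Or.inl rfl, h2, h3, by rw [h1, one_mul]⟩
  · exact ⟨C.t, _, _, Or.inr rfl, h2, h3, by rw [h1, mul_assoc]⟩

theorem fA : ∀ i : Fin 3, EPos rr (al i) (rr - al i) := by decide +kernel

theorem fB : ∀ i : Fin 3, EPos (rr - al (oj i)) (al (DoubRoot.ok i)) (ac + al i) := by decide +kernel

theorem fC : ∀ i : Fin 3, EPos (ac + al i) (al i) ac := by decide +kernel

theorem fN : NPos zr ac rr ∧ NNeg rr ac zr ∧ ∀ i : Fin 3, NZero (rr - al i) ac ∧ NNeg (al i) ac (ac + al i) ∧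
    NPos (ac + al i) ac (al i) := by decide +kernel

/-- the action of `x (-ac)` -/
theorem fS : CNeg zr (-ac) rr ∧ CFix rr (-ac) ∧ ∀ i : Fin 3, CFix (rr - al i) (-ac) ∧ CFix (al i) (-ac) ∧
    CNeg (ac + al i) (-ac) (al i) := by decide +kernel

/-- the action of `x (rr - al j)` -/
theorem fF : (∀ j : Fin 3, CFix zr (rr - al j) ∧ CFix rr (rr - al j) ∧ CFix ac (rr - al j)) ∧
    (∀ i j : Fin 3, CFix (rr - al i) (rr - al j)) ∧
    (∀ i : Fin 3, CNeg (al i) (rr - al i) rr ∧ CNeg (ac + al i) (rr - al i) zr) ∧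
    (∀ i j : Fin 3, i ≠ j → CFix (al i) (rr - al j) ∧ CFix (ac + al i) (rr - al j)) := by decide +kernel

theorem classify : ∀ e ∈ roots, 0 ≤ ip e zr → 0 ≤ ip e rr →
    e = zr ∨ e = rr ∨ ∃ i : Fin 3, e = rr - al i ∨ e = al i ∨ e = ac + al i := by decide +kernel

theorem mem1 : zr ∈ roots ∧ rr ∈ roots ∧ ac ∈ roots ∧ -ac ∈ roots ∧
    ∀ i : Fin 3, rr - al i ∈ roots ∧ al i ∈ roots ∧ -al i ∈ roots ∧ ac + al i ∈ roots := by decide +kernel

theorem mem2 : 0 ≤ ip zr rr ∧ 0 ≤ ip ac zr ∧ 0 ≤ ip zr ac ∧ ∀ i : Fin 3, 0 ≤ ip zr (rr - al i) ∧ 0 ≤ ip zr (al i) ∧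
    0 ≤ ip zr (ac + al i) ∧ 0 ≤ ip rr (al i) ∧ 0 ≤ ip rr (ac + al i) ∧ 0 ≤ ip rr (rr - al i) ∧
    0 ≤ ip ac (rr - al i) ∧ 0 ≤ ip ac (ac + al i) ∧ 0 ≤ ip zr (-al i) := by decide +kernel

section act

variable {t : G} {L : Subgroup G} {x : E → G} (X : XD t L x) {ε : Fin 3 → Bool} {y : G} (Y : YE t x ε y)

theorem YE.inv (Y : YE t x ε y) : y⁻¹ = y := inv_eq_of_mul_eq_one_right Y.yy

theorem nn_sq (X : XD t L x) : nn x ac * nn x ac = 1 := by
  have h1 := X.x_sq ac mem1.2.2.1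
  have h2 := X.x_sq (-ac) mem1.2.2.2.1
  unfold nn
  calc x ac * x (-ac) * x ac * (x ac * x (-ac) * x ac) = x ac * (x (-ac) * (x ac * x ac) * x (-ac)) * x ac := by group
    _ = 1 := by rw [h1, mul_one, h2, mul_one, h1]

include X Y

theorem ystep {a b : E} {i : Fin 3} (ha : y * x a = x a * y) (h : EPos a (al i) b) : y * x b = x b * y := by
  apply comm_of_cj
  have h1 : x b = cj (dd x i) (x a) := (X.e_pos h).symm
  rw [h1, cj_cj, cj_comm ha]
  congr 1
  exact cj_comm (Y.yd i)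

theorem yf (i : Fin 3) : y * x (rr - al i) = x (rr - al i) * y := ystep X Y Y.yr (fA i)

theorem yc (i : Fin 3) : y * x (ac + al i) = x (ac + al i) * y := ystep X Y (yf X Y _) (fB i)

theorem ya : y * x ac = x ac * y := ystep X Y (yc X Y 0) (fC 0)

theorem ynu (i : Fin 3) : y * x (-al i) * y⁻¹ = x (-al i) * pw (x zr) (ε i) := by
  have h1 := Y.yd i
  have h2 := Y.yτ i
  unfold dd at h1
  unfold ta at h2
  have h3 := X.x_sq (al i) (mem1.2.2.2.2 i).2.1
  have h4 : x (-al i) = x (al i) * (x (al i) * x (-al i)) := by rw [← mul_assoc, h3, one_mul]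
  have h5 : y * x (-al i) * y⁻¹ = (y * x (al i) * y⁻¹) * (y * (x (al i) * x (-al i)) * y⁻¹) := by
    nth_rewrite 1 [h4]; group
  have h6 : pw (x zr) (ε i) * (x (al i) * x (-al i)) = x (al i) * x (-al i) * pw (x zr) (ε i) := by
    cases ε i
    · rw [pw_false, one_mul, mul_one]
    · rw [pw_true]
      have h7 := X.x_comm zr mem1.1 (al i) (mem1.2.2.2.2 i).2.1 (mem2.2.2.2 i).2.1
      have h8 := X.x_comm zr mem1.1 (-al i) (mem1.2.2.2.2 i).2.2.1 (mem2.2.2.2 i).2.2.2.2.2.2.2.2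
      rw [← mul_assoc, h7, mul_assoc, h8, mul_assoc]
  rw [h5, h2, h1, mul_inv_cancel_right, mul_assoc, h6, ← mul_assoc, ← mul_assoc, h3, one_mul]

omit X Y in
theorem cj_inv_of_sq {g : G} (h : g * g = 1) : g⁻¹ = g := inv_eq_of_mul_eq_one_right h

/-- `y' = n y n⁻¹` -/
def yp (x : E → G) (y : G) : G := nn x ac * y * (nn x ac)⁻¹

/-- `y'' = s y s`, `s = x (-ac)` -/
def y2 (x : E → G) (y : G) : G := x (-ac) * y * (x (-ac))⁻¹

/-- the product of the `x (rr - al i)` with `ε i = 1` -/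
def bb (x : E → G) (ε : Fin 3 → Bool) : G :=
  pw (x (rr - al 0)) (ε 0) * pw (x (rr - al 1)) (ε 1) * pw (x (rr - al 2)) (ε 2)

omit X Y in
theorem cj_yp (u : G) : cj (yp x y) u = cj (nn x ac) (cj y (cj (nn x ac)⁻¹ u)) := by
  unfold yp; rw [cj_comp, cj_comp]

omit X Y in
theorem cj_y2 (u : G) : cj (y2 x y) u = cj (x (-ac)) (cj y (cj (x (-ac))⁻¹ u)) := by
  unfold y2; rw [cj_comp, cj_comp]

omit Y in
theorem n_inv : (nn x ac)⁻¹ = nn x ac := cj_inv_of_sq (nn_sq X)

omit Y in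
theorem s_inv : (x (-ac))⁻¹ = x (-ac) := X.inv mem1.2.2.2.1

omit Y in
theorem zrr : x zr * x rr = x rr * x zr := X.x_comm zr mem1.1 rr mem1.2.1 mem2.1

omit Y in
theorem zz : x zr * x zr = 1 := X.x_sq zr mem1.1

omit Y in
theorem RR : x rr * x rr = 1 := X.x_sq rr mem1.2.1

omit Y in
theorem tn : cj (nn x ac) t = t := X.t_fix (X.nnL mem1.2.2.1 mem1.2.2.2.1)

omit Y in
theorem ts : cj (x (-ac)) t = t := X.t_fix (X.xL _ mem1.2.2.2.1)

theorem y_t : cj y t = t * x zr := Y.yt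

theorem y_z : cj y (x zr) = x zr := cj_comm Y.yz

theorem y_r : cj y (x rr) = x rr := cj_comm Y.yr

theorem y_f (i : Fin 3) : cj y (x (rr - al i)) = x (rr - al i) := cj_comm (yf X Y i)

theorem y_c (i : Fin 3) : cj y (x (ac + al i)) = x (ac + al i) := cj_comm (yc X Y i)

theorem y_a : cj y (x ac) = x ac := cj_comm (ya X Y)

theorem y_τ (i : Fin 3) : cj y (x (al i)) = x (al i) * pw (x zr) (ε i) := Y.yτ i

/-- the action of `y'` -/
theorem yp_t : cj (yp x y) t = t * x rr := by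
  rw [cj_yp, n_inv X, tn X, y_t X Y, cj_mul, tn X, X.n_pos fN.1]

theorem yp_z : cj (yp x y) (x zr) = x zr := by
  rw [cj_yp, n_inv X, X.n_pos fN.1, y_r X Y, X.n_neg fN.2.1]

theorem yp_r : cj (yp x y) (x rr) = x rr := by
  rw [cj_yp, n_inv X, X.n_neg fN.2.1, y_z X Y, X.n_pos fN.1]

theorem yp_f (i : Fin 3) : cj (yp x y) (x (rr - al i)) = x (rr - al i) := by
  rw [cj_yp, n_inv X, X.n_zero (fN.2.2 i).1, y_f X Y, X.n_zero (fN.2.2 i).1]

theorem yp_c (i : Fin 3) : cj (yp x y) (x (ac + al i)) = x (ac + al i) * pw (x rr) (ε i) := by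
  rw [cj_yp, n_inv X, X.n_pos (fN.2.2 i).2.2, y_τ X Y, cj_mul, X.n_neg (fN.2.2 i).2.1, cj_pw, X.n_pos fN.1]

theorem yp_τ (i : Fin 3) : cj (yp x y) (x (al i)) = x (al i) := by
  rw [cj_yp, n_inv X, X.n_neg (fN.2.2 i).2.1, y_c X Y, X.n_pos (fN.2.2 i).2.2]

/-- the action of `y''` -/
theorem y2_t : cj (y2 x y) t = t * (x zr * x rr) := by
  rw [cj_y2, s_inv X, ts X, y_t X Y, cj_mul, ts X, X.con fS.1]

theorem y2_z : cj (y2 x y) (x zr) = x zr := by
  rw [cj_y2, s_inv X, X.con fS.1, cj_mul, y_z X Y, y_r X Y, cj_mul, X.con fS.1, X.fix fS.2.1, mul_assoc, RR X,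
    mul_one]

theorem y2_r : cj (y2 x y) (x rr) = x rr := by
  rw [cj_y2, s_inv X, X.fix fS.2.1, y_r X Y, X.fix fS.2.1]

theorem y2_f (i : Fin 3) : cj (y2 x y) (x (rr - al i)) = x (rr - al i) := by
  rw [cj_y2, s_inv X, X.fix (fS.2.2 i).1, y_f X Y, X.fix (fS.2.2 i).1]

theorem y2_τ (i : Fin 3) : cj (y2 x y) (x (al i)) = x (al i) * pw (x zr * x rr) (ε i) := by
  rw [cj_y2, s_inv X, X.fix (fS.2.2 i).2.1, y_τ X Y, cj_mul, X.fix (fS.2.2 i).2.1, cj_pw, X.con fS.1]

theorem y2_c (i : Fin 3) : cj (y2 x y) (x (ac + al i)) = x (ac + al i) * pw (x zr * x rr) (ε i) := by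
  rw [cj_y2, s_inv X, X.con (fS.2.2 i).2.2, cj_mul, y_c X Y, y_τ X Y, cj_mul, X.con (fS.2.2 i).2.2, cj_mul,
    X.fix (fS.2.2 i).2.1, cj_pw, X.con fS.1, mul_assoc, sq' (X.x_sq _ (mem1.2.2.2.2 i).2.1)]

theorem yp_zr : cj (yp x y) (x zr * x rr) = x zr * x rr := by
  rw [cj_mul, yp_z X Y, yp_r X Y]

theorem y_zr : cj y (x zr * x rr) = x zr * x rr := by
  rw [cj_mul, y_z X Y, y_r X Y]

/-- the action of `m = y y' y''` -/
theorem m_t : cj (y * yp x y * y2 x y) t = t := by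
  rw [cj_comp, cj_comp, y2_t X Y, cj_mul (yp x y), yp_t X Y, yp_zr X Y, cj_mul y, y_zr X Y, cj_mul y, y_t X Y, y_r X Y]
  have h1 := zrr X
  have h2 := zz X
  have h3 := RR X
  calc t * x zr * x rr * (x zr * x rr) = t * ((x zr * x rr) * (x zr * x rr)) := by group
    _ = t * ((x zr * x rr) * (x rr * x zr)) := by rw [← h1]
    _ = t * (x zr * (x rr * x rr) * x zr) := by group
    _ = t := by rw [h3, mul_one, h2, mul_one]

theorem m_z : cj (y * yp x y * y2 x y) (x zr) = x zr := by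
  rw [cj_comp, cj_comp, y2_z X Y, yp_z X Y, y_z X Y]

theorem m_r : cj (y * yp x y * y2 x y) (x rr) = x rr := by
  rw [cj_comp, cj_comp, y2_r X Y, yp_r X Y, y_r X Y]

theorem m_f (i : Fin 3) : cj (y * yp x y * y2 x y) (x (rr - al i)) = x (rr - al i) := by
  rw [cj_comp, cj_comp, y2_f X Y, yp_f X Y, y_f X Y]

theorem m_τ (i : Fin 3) : cj (y * yp x y * y2 x y) (x (al i)) = x (al i) * pw (x rr) (ε i) := by
  rw [cj_comp, cj_comp, y2_τ X Y, cj_mul, yp_τ X Y, cj_pw, yp_zr X Y, cj_mul, y_τ X Y, cj_pw, y_zr X Y]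
  cases ε i
  · simp only [pw_false, mul_one]
  · simp only [pw_true]
    rw [mul_assoc, sq' (zz X)]

theorem m_c (i : Fin 3) : cj (y * yp x y * y2 x y) (x (ac + al i)) = x (ac + al i) * pw (x zr) (ε i) := by
  rw [cj_comp, cj_comp, y2_c X Y, cj_mul, yp_c X Y, cj_pw, yp_zr X Y, cj_mul, cj_mul, y_c X Y, cj_pw, cj_pw, y_zr X Y,
    y_r X Y]
  cases ε i
  · simp only [pw_false, mul_one]
  · simp only [pw_true]
    rw [zrr X, mul_assoc, sq' (RR X)]

omit Y in
theorem bbL : bb x ε ∈ L := by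
  have h : ∀ i, pw (x (rr - al i)) (ε i) ∈ L := by
    intro i
    cases ε i
    · exact one_mem _
    · exact X.xL _ (mem1.2.2.2.2 i).1
  exact L.mul_mem (L.mul_mem (h 0) (h 1)) (h 2)

omit Y in
theorem pf_fix {e : E} {j : Fin 3} (h : CFix e (rr - al j)) : cj (pw (x (rr - al j)) (ε j)) (x e) = x e := by
  cases ε j
  · rw [pw_false, cj_one]
  · rw [pw_true, X.fix h]

omit Y in
theorem b_z : cj (bb x ε) (x zr) = x zr := by
  unfold bb
  rw [cj_comp, cj_comp, pf_fix X (fF.1 2).1, pf_fix X (fF.1 1).1, pf_fix X (fF.1 0).1]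

omit Y in
theorem b_r : cj (bb x ε) (x rr) = x rr := by
  unfold bb
  rw [cj_comp, cj_comp, pf_fix X (fF.1 2).2.1, pf_fix X (fF.1 1).2.1, pf_fix X (fF.1 0).2.1]

omit Y in
theorem b_a : cj (bb x ε) (x ac) = x ac := by
  unfold bb
  rw [cj_comp, cj_comp, pf_fix X (fF.1 2).2.2, pf_fix X (fF.1 1).2.2, pf_fix X (fF.1 0).2.2]

omit Y in
theorem b_f (i : Fin 3) : cj (bb x ε) (x (rr - al i)) = x (rr - al i) := by
  unfold bb
  rw [cj_comp, cj_comp, pf_fix X (fF.2.1 i 2), pf_fix X (fF.2.1 i 1), pf_fix X (fF.2.1 i 0)]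

omit Y in
theorem pf_τ (i : Fin 3) : cj (pw (x (rr - al i)) (ε i)) (x (al i)) = x (al i) * pw (x rr) (ε i) := by
  cases ε i
  · rw [pw_false, cj_one, pw_false, mul_one]
  · rw [pw_true, X.con (fF.2.2.1 i).1, pw_true]

omit Y in
theorem pf_c (i : Fin 3) : cj (pw (x (rr - al i)) (ε i)) (x (ac + al i)) = x (ac + al i) * pw (x zr) (ε i) := by
  cases ε i
  · rw [pw_false, cj_one, pw_false, mul_one]
  · rw [pw_true, X.con (fF.2.2.1 i).2, pw_true]

omit Y in
theorem b_τ (i : Fin 3) : cj (bb x ε) (x (al i)) = x (al i) * pw (x rr) (ε i) := by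
  have h := fF.2.2.2
  have hr : ∀ j, cj (pw (x (rr - al j)) (ε j)) (x rr) = x rr := fun j => pf_fix X (fF.1 j).2.1
  unfold bb
  rw [cj_comp, cj_comp]
  fin_cases i
  · change cj _ (cj _ (cj _ (x (al 0)))) = x (al 0) * pw (x rr) (ε 0)
    rw [pf_fix X (h 0 2 (by decide)).1, pf_fix X (h 0 1 (by decide)).1, pf_τ X]
  · change cj _ (cj _ (cj _ (x (al 1)))) = x (al 1) * pw (x rr) (ε 1)
    rw [pf_fix X (h 1 2 (by decide)).1, pf_τ X, cj_mul, pf_fix X (h 1 0 (by decide)).1, cj_pw, hr]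
  · change cj _ (cj _ (cj _ (x (al 2)))) = x (al 2) * pw (x rr) (ε 2)
    rw [pf_τ X, cj_mul, pf_fix X (h 2 1 (by decide)).1, cj_pw, hr, cj_mul, pf_fix X (h 2 0 (by decide)).1, cj_pw, hr]

omit Y in
theorem b_c (i : Fin 3) : cj (bb x ε) (x (ac + al i)) = x (ac + al i) * pw (x zr) (ε i) := by
  have h := fF.2.2.2
  have hr : ∀ j, cj (pw (x (rr - al j)) (ε j)) (x zr) = x zr := fun j => pf_fix X (fF.1 j).1
  unfold bb
  rw [cj_comp, cj_comp]
  fin_cases i
  · change cj _ (cj _ (cj _ (x (ac + al 0)))) = x (ac + al 0) * pw (x zr) (ε 0)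
    rw [pf_fix X (h 0 2 (by decide)).2, pf_fix X (h 0 1 (by decide)).2, pf_c X]
  · change cj _ (cj _ (cj _ (x (ac + al 1)))) = x (ac + al 1) * pw (x zr) (ε 1)
    rw [pf_fix X (h 1 2 (by decide)).2, pf_c X, cj_mul, pf_fix X (h 1 0 (by decide)).2, cj_pw, hr]
  · change cj _ (cj _ (cj _ (x (ac + al 2)))) = x (ac + al 2) * pw (x zr) (ε 2)
    rw [pf_c X, cj_mul, pf_fix X (h 2 1 (by decide)).2, cj_pw, hr, cj_mul, pf_fix X (h 2 0 (by decide)).2, cj_pw, hr]

omit Y in
theorem bb_sq : bb x ε * bb x ε = 1 := by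
  have hsq : ∀ i, pw (x (rr - al i)) (ε i) * pw (x (rr - al i)) (ε i) = 1 := by
    intro i
    cases ε i
    · rw [pw_false, one_mul]
    · exact X.x_sq _ (mem1.2.2.2.2 i).1
  have hc : ∀ i j, pw (x (rr - al i)) (ε i) * pw (x (rr - al j)) (ε j) =
      pw (x (rr - al j)) (ε j) * pw (x (rr - al i)) (ε i) := by
    intro i j
    cases ε i
    · rw [pw_false, one_mul, mul_one]
    · cases ε j
      · rw [pw_false, one_mul, mul_one]
      · exact (X.x_comm _ (mem1.2.2.2.2 i).1 _ (mem1.2.2.2.2 j).1 (fF.2.1 i j).2.2)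
  unfold bb
  calc pw (x (rr - al 0)) (ε 0) * pw (x (rr - al 1)) (ε 1) * pw (x (rr - al 2)) (ε 2) *
        (pw (x (rr - al 0)) (ε 0) * pw (x (rr - al 1)) (ε 1) * pw (x (rr - al 2)) (ε 2))
      = pw (x (rr - al 0)) (ε 0) * pw (x (rr - al 1)) (ε 1) * (pw (x (rr - al 2)) (ε 2) *
        pw (x (rr - al 0)) (ε 0)) * pw (x (rr - al 1)) (ε 1) * pw (x (rr - al 2)) (ε 2) := by group
    _ = pw (x (rr - al 0)) (ε 0) * (pw (x (rr - al 1)) (ε 1) * pw (x (rr - al 0)) (ε 0)) *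
        (pw (x (rr - al 2)) (ε 2) * pw (x (rr - al 1)) (ε 1)) * pw (x (rr - al 2)) (ε 2) := by rw [hc 2 0]; group
    _ = (pw (x (rr - al 0)) (ε 0) * pw (x (rr - al 0)) (ε 0)) * (pw (x (rr - al 1)) (ε 1) *
        pw (x (rr - al 1)) (ε 1)) * (pw (x (rr - al 2)) (ε 2) * pw (x (rr - al 2)) (ε 2)) := by
          rw [hc 1 0, hc 2 1]; group
    _ = 1 := by rw [hsq, hsq, hsq, one_mul, one_mul]

/-- `y' ` is an involution -/
theorem yp_sq : yp x y * yp x y = 1 := by
  unfold yp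
  calc nn x ac * y * (nn x ac)⁻¹ * (nn x ac * y * (nn x ac)⁻¹) = nn x ac * (y * y) * (nn x ac)⁻¹ := by group
    _ = 1 := by rw [Y.yy, mul_one, mul_inv_cancel]

theorem y2_sq : y2 x y * y2 x y = 1 := by
  unfold y2
  calc x (-ac) * y * (x (-ac))⁻¹ * (x (-ac) * y * (x (-ac))⁻¹) = x (-ac) * (y * y) * (x (-ac))⁻¹ := by group
    _ = 1 := by rw [Y.yy, mul_one, mul_inv_cancel]

theorem a_yp : x ac * yp x y * x ac = y2 x y := by
  have ha := X.x_sq ac mem1.2.2.1
  have h1 := ya X Y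
  unfold yp y2
  rw [n_inv X, s_inv X]
  unfold nn
  calc x ac * (x ac * x (-ac) * x ac * y * (x ac * x (-ac) * x ac)) * x ac
      = (x ac * x ac) * x (-ac) * (x ac * y * x ac) * x (-ac) * (x ac * x ac) := by group
    _ = x (-ac) * (x ac * (y * x ac)) * x (-ac) := by rw [ha]; group
    _ = x (-ac) * y * x (-ac) := by rw [h1, ← mul_assoc (x ac) (x ac) y, ha, one_mul]

end act

/-- The value of `m = y y' y''`. -/
theorem exists_m (C : Ctx G) {ε : Fin 3 → Bool} {y : G} (Y : YE C.t (DataOf.x C) ε y) :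
    ∃ h a h' : Bool, y * yp (DataOf.x C) y * y2 (DataOf.x C) y =
      bb (DataOf.x C) ε * (pw C.t h * pw (DataOf.x C zr) a * pw (DataOf.x C rr) h') := by
  have X := Graph.xd C
  set x := DataOf.x C with hx
  set m := y * yp x y * y2 x y with hm
  have key : ∀ u, cj m u = cj (bb x ε) u → cj ((bb x ε)⁻¹ * m) u = u := by
    intro u hu
    rw [cj_comp, hu]
    unfold cj; group
  have h1 : (bb x ε)⁻¹ * m * C.t = C.t * ((bb x ε)⁻¹ * m) := by
    apply comm_of_cj
    apply key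
    rw [hm, m_t X Y, X.t_fix (bbL X)]
  have h2 : ∀ e ∈ Φ, 0 ≤ ip e zr → 0 ≤ ip e rr → (bb x ε)⁻¹ * m * x e = x e * ((bb x ε)⁻¹ * m) := by
    intro e he h3 h4
    apply comm_of_cj
    apply key
    rw [hm]
    rcases classify e he h3 h4 with rfl | rfl | ⟨i, rfl | rfl | rfl⟩
    · rw [m_z X Y, b_z X]
    · rw [m_r X Y, b_r X]
    · rw [m_f X Y, b_f X]
    · rw [m_τ X Y, b_τ X]
    · rw [m_c X Y, b_c X]
  obtain ⟨τ, α, β, hτ, hα, hβ, e⟩ := dcx C (r := zr) (s := rr) mem1.1 mem1.2.1 (Or.inr (by decide)) h1 h2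
  have hm' : m = bb x ε * (τ * α * β) := by rw [← e, mul_inv_cancel_left]
  obtain ⟨h, rfl⟩ : ∃ h, τ = pw C.t h := by
    rcases hτ with h | h
    · exact ⟨false, h⟩
    · exact ⟨true, h⟩
  obtain ⟨a, rfl⟩ : ∃ a, α = pw (x zr) a := by
    rcases hα with h | h
    · exact ⟨false, h⟩
    · exact ⟨true, h⟩
  obtain ⟨h', rfl⟩ : ∃ a, β = pw (x rr) a := by
    rcases hβ with h | h
    · exact ⟨false, h⟩
    · exact ⟨true, h⟩
  exact ⟨h, a, h', hm'⟩

theorem pw_comm {g u : G} (h : g * u = u * g) (b : Bool) : pw g b * u = u * pw g b := by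
  cases b
  · rw [pw_false, one_mul, mul_one]
  · exact h

theorem pw_sq {g : G} (h : g * g = 1) (b : Bool) : pw g b * pw g b = 1 := by
  cases b
  · rw [pw_false, one_mul]
  · exact h

set_option maxHeartbeats 2000000 in
/-- **(vi).** -/
theorem vi (C : Ctx G) {ε : Fin 3 → Bool} {y : G} (Y : YE C.t (DataOf.x C) ε y) :
    ∃ h a : Bool, y * yp (DataOf.x C) y * y2 (DataOf.x C) y =
      bb (DataOf.x C) ε * (pw C.t h * pw (DataOf.x C zr) a * pw (DataOf.x C rr) h) ∧
      yp (DataOf.x C) y * DataOf.x C ac * yp (DataOf.x C) y =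
      y * (bb (DataOf.x C) ε * (pw C.t h * pw (DataOf.x C zr) a * pw (DataOf.x C rr) h)) * DataOf.x C ac ∧
      yp (DataOf.x C) y * y * yp (DataOf.x C) y = y * pw (DataOf.x C zr * DataOf.x C rr) h := by
  have X := Graph.xd C
  obtain ⟨h, a, h', hm⟩ := exists_m C Y
  set x := DataOf.x C with hx
  set t := C.t with ht
  set b := bb x ε with hb
  set m := y * yp x y * y2 x y with hmdef
  have y2e : y2 x y = yp x y * y * m := by
    have h1 := yp_sq X Y
    calc y2 x y = (yp x y * (y * y) * yp x y) * y2 x y := by rw [Y.yy, mul_one, h1, one_mul]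
      _ = yp x y * y * m := by rw [hmdef]; group
  have ha2 := X.x_sq ac mem1.2.2.1
  have hA : yp x y * x ac * yp x y = y * m * x ac := by
    have h1 := a_yp X Y
    have h2 : yp x y * x ac * yp x y = yp x y * (x ac * yp x y * x ac) * (x ac)⁻¹ := by group
    rw [h2, h1, y2e, X.inv mem1.2.2.1]
    calc yp x y * (yp x y * y * m) * x ac = (yp x y * yp x y) * y * m * x ac := by group
      _ = y * m * x ac := by rw [yp_sq X Y, one_mul]
  -- commutation
  have btc : b * t = t * b := (X.tL _ (bbL X)).symm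
  have bzc : b * x zr = x zr * b := comm_of_cj (b_z X)
  have brc : b * x rr = x rr * b := comm_of_cj (b_r X)
  have bac : b * x ac = x ac * b := comm_of_cj (b_a X)
  have tzc : t * x zr = x zr * t := X.tL _ (X.xL _ mem1.1)
  have trc : t * x rr = x rr * t := X.tL _ (X.xL _ mem1.2.1)
  have zrc := zrr X
  have bb1 : b * b = 1 := bb_sq X
  have zz1 := zz X
  have rr1 := RR X
  have tt1 : t * t = 1 := X.tt
  have yb : cj y b = b := by
    rw [hb]; unfold bb
    rw [cj_mul, cj_mul, cj_pw, cj_pw, cj_pw, y_f X Y, y_f X Y, y_f X Y]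
  have ym : cj y m = m * pw (x zr) h := by
    rw [hm, cj_mul, yb, cj_mul, cj_mul, cj_pw, cj_pw, cj_pw, y_t X Y, y_z X Y, y_r X Y]
    cases h
    · simp only [pw_false, mul_one]
    · simp only [pw_true]
      have e1 : x zr * (pw (x zr) a * pw (x rr) h') = pw (x zr) a * pw (x rr) h' * x zr := by
        rw [← mul_assoc, ← pw_comm rfl a, mul_assoc, ← pw_comm zrc.symm h', mul_assoc]
      calc b * (t * x zr * pw (x zr) a * pw (x rr) h') = b * (t * (x zr * (pw (x zr) a * pw (x rr) h'))) := by group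
        _ = b * (t * pw (x zr) a * pw (x rr) h') * x zr := by rw [e1]; group
  have am : cj (x ac) m = m * pw (x zr) h' := by
    have e1 : cj (x ac) t = t := X.t_fix (X.xL _ mem1.2.2.1)
    have e2 : cj (x ac) (x zr) = x zr := X.fix ⟨mem1.1, mem1.2.2.1, mem2.2.2.1⟩
    have e3 : cj (x ac) (x rr) = x rr * x zr := X.con (by decide)
    have e4 : cj (x ac) b = b := cj_comm bac.symm
    rw [hm, cj_mul, e4, cj_mul, cj_mul, cj_pw, cj_pw, cj_pw, e1, e2, e3]
    cases h'
    · simp only [pw_false, mul_one]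
    · simp only [pw_true]
      group
  have mz : m * x zr = x zr * m := comm_of_cj (m_z X Y)
  have msq : m * m = 1 := by
    have tz' : t * pw (x zr) a = pw (x zr) a * t := (pw_comm tzc.symm a).symm
    have e0 : (pw t h * pw (x zr) a * pw (x rr) h') * (pw t h * pw (x zr) a * pw (x rr) h') = 1 := by
      have c1 : Commute (pw t h) (pw (x zr) a) := by
        cases h
        · exact Commute.one_left _
        · exact tz'
      have c2 : Commute (pw t h) (pw (x rr) h') := by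
        cases h
        · exact Commute.one_left _
        · exact (pw_comm trc.symm h').symm
      have c3 : Commute (pw (x zr) a) (pw (x rr) h') := by
        cases a
        · exact Commute.one_left _
        · exact (pw_comm zrc.symm h').symm
      have c4 : Commute (pw t h * pw (x zr) a) (pw (x rr) h') := c2.mul_left c3
      rw [← pow_two, c4.mul_pow, c1.mul_pow, pow_two, pow_two, pow_two, pw_sq tt1, pw_sq zz1, pw_sq rr1, one_mul,
        one_mul]
    have c5 : Commute b (pw t h * pw (x zr) a * pw (x rr) h') := by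
      refine Commute.mul_right (Commute.mul_right ?_ ?_) ?_
      · exact (pw_comm btc.symm h).symm
      · exact (pw_comm bzc.symm a).symm
      · exact (pw_comm brc.symm h').symm
    rw [hm, ← pow_two, c5.mul_pow, pow_two, pow_two, bb1, e0, one_mul]
  -- `h = h'`
  have hh : h = h' := by
    have e1 : (y * m * x ac) * (y * m * x ac) = 1 := by
      rw [← hA]
      calc yp x y * x ac * yp x y * (yp x y * x ac * yp x y) = yp x y * x ac * (yp x y * yp x y) * x ac * yp x y := by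
            group
        _ = yp x y * (x ac * x ac) * yp x y := by rw [yp_sq X Y]; group
        _ = 1 := by rw [ha2, mul_one, yp_sq X Y]
    have e2 : (y * m * x ac) * (y * m * x ac) = cj y m * cj (x ac) m := by
      have hay := ya X Y
      unfold cj
      rw [Y.inv, X.inv mem1.2.2.1]
      calc y * m * x ac * (y * m * x ac) = y * m * (x ac * y) * m * x ac := by group
        _ = y * m * (y * x ac) * m * x ac := by rw [hay]
        _ = y * m * y * (x ac * m * x ac) := by group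
    rw [e1, ym, am] at e2
    have hz1 : x zr ≠ 1 := X.x_ne _ mem1.1
    cases h <;> cases h'
    · rfl
    · exfalso
      apply hz1
      rw [pw_false, pw_true, mul_one, ← mul_assoc, msq, one_mul] at e2
      exact e2.symm
    · exfalso
      apply hz1
      rw [pw_false, pw_true, mul_one, mz, mul_assoc, msq, mul_one] at e2
      exact e2.symm
    · rfl
  subst hh
  refine ⟨h, a, hm, by rw [hA, hm], ?_⟩
  -- `y' y y'`
  have c1 : cj (y2 x y) m = m * pw (x zr * x rr) h := by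
    have e1 : cj (y2 x y) b = b := by
      rw [hb]; unfold bb
      rw [cj_mul, cj_mul, cj_pw, cj_pw, cj_pw, y2_f X Y, y2_f X Y, y2_f X Y]
    rw [hm, cj_mul, e1, cj_mul, cj_mul, cj_pw, cj_pw, cj_pw, y2_t X Y, y2_z X Y, y2_r X Y]
    cases h
    · simp only [pw_false, mul_one]
    · simp only [pw_true]
      have e2 : x zr * x rr * (pw (x zr) a * x rr) = pw (x zr) a * x rr * (x zr * x rr) := by
        have e3 : pw (x zr) a * (x zr * x rr) = x zr * x rr * pw (x zr) a := by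
          apply pw_comm
          rw [mul_assoc, ← zrc]
        calc x zr * x rr * (pw (x zr) a * x rr) = (x zr * x rr * pw (x zr) a) * x rr := by group
          _ = pw (x zr) a * ((x zr * x rr) * x rr) := by rw [← e3]; group
          _ = pw (x zr) a * x rr * (x zr * x rr) := by rw [zrc, mul_assoc (x rr), zrc]; group
      calc b * (t * (x zr * x rr) * pw (x zr) a * x rr) = b * (t * (x zr * x rr * (pw (x zr) a * x rr))) := by group
        _ = b * (t * pw (x zr) a * x rr) * (x zr * x rr) := by rw [e2]; group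
  have h2 := y2_sq X Y
  have hyy : y * yp x y = m * y2 x y := by
    rw [hmdef]
    calc y * yp x y = y * yp x y * (y2 x y * y2 x y) := by rw [h2, mul_one]
      _ = y * yp x y * y2 x y * y2 x y := by group
  have h3 : (y * yp x y) * (y * yp x y) = pw (x zr * x rr) h := by
    rw [hyy]
    have e3 : y2 x y * m * y2 x y = m * pw (x zr * x rr) h := by
      rw [← c1]
      unfold cj
      rw [cj_inv_of_sq h2]
    calc m * y2 x y * (m * y2 x y) = m * (y2 x y * m * y2 x y) := by group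
      _ = pw (x zr * x rr) h := by rw [e3, ← mul_assoc, msq, one_mul]
  calc yp x y * y * yp x y = y * ((y * yp x y) * (y * yp x y)) := by
        calc yp x y * y * yp x y = (y * y) * yp x y * y * yp x y := by rw [Y.yy, one_mul]
          _ = y * ((y * yp x y) * (y * yp x y)) := by group
    _ = y * pw (x zr * x rr) h := by rw [h3]

end Cfsg.Agent.StdO8.DoubVi
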