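import Cfsg.Agent.StdO8.DoubMain
import Cfsg.Agent.StdO8.NotRoot
import Cfsg.Agent.StdO8.Triality

/-!
# `ε = (1,0,0)` is impossible (S1734, `L = Ω₈⁺(2)`)

The word `P = y' n_i y' s_i n_i y'` (`s_i = x (al i)`, `n_i = x (-al i)`) acts on `M / ⟨z⟩`, `M = ⟨t, y⟩ Q_z`; up to `y` it
centralises `t`, and it maps the root element `x ac` to an element which is not a root element.
-/

set_option autoImplicit false
set_option linter.all false

namespace Cfsg.Agent.StdO8.DoubWord

open Subgroup Cfsg.Agent.StdO8.D4Root Cfsg.Agent.StdO8.DoubRefl Cfsg.Agent.StdO8.DoubRoot Cfsg.Agent.StdO8.DoubVi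
open Cfsg.Agent.StdO8.Frame (Ctx Lin)
open Cfsg.Agent.StdO8.Tri (tri tri_xm)
open Cfsg.Agent.StdO8.Tri (rho)

section Ez

variable {G : Type*} [Group G] {z : G}

/-- Equality up to the factor `z`. -/
def Ez (z a b : G) : Prop := a = b ∨ a = b * z

theorem Ez.refl (a : G) : Ez z a a := Or.inl rfl

theorem Ez.of_eq {a b : G} (h : a = b) : Ez z a b := Or.inl h

theorem Ez.symm (zz : z * z = 1) {a b : G} (h : Ez z a b) : Ez z b a := by
  rcases h with rfl | rfl
  · exact Or.inl rfl
  · right; rw [mul_assoc, zz, mul_one]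

theorem Ez.trans (zz : z * z = 1) {a b c : G} (h : Ez z a b) (h' : Ez z b c) : Ez z a c := by
  rcases h with rfl | rfl <;> rcases h' with rfl | rfl
  · exact Or.inl rfl
  · exact Or.inr rfl
  · exact Or.inr rfl
  · left; rw [mul_assoc, zz, mul_one]

theorem Ez.mul (zz : z * z = 1) {a a' b b' : G} (h : Ez z a a') (h' : Ez z b b') (hb : z * b' = b' * z) :
    Ez z (a * b) (a' * b') := by
  rcases h with rfl | rfl <;> rcases h' with rfl | rfl
  · exact Or.inl rfl
  · right; rw [mul_assoc]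
  · right; rw [mul_assoc, hb, mul_assoc]
  · left; rw [mul_assoc, ← mul_assoc z, hb, mul_assoc b', zz, mul_one]

theorem Ez.cj {a b g : G} (h : Ez z a b) (hg : g * z = z * g) : Ez z (cj g a) (cj g b) := by
  rcases h with rfl | rfl
  · exact Or.inl rfl
  · right; rw [cj_mul, cj_comm hg]

/-- The product of the entries of the list at the bits of `v`. -/
def ph : List G → ℕ → G
  | [], _ => 1
  | a :: l, v => (if v % 2 = 1 then a else 1) * ph l (v / 2)

/-- The action of a matrix. -/
def ap : List ℕ → ℕ → ℕ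
  | [], _ => 0
  | a :: l, v => (if v % 2 = 1 then a else 0) ^^^ ap l (v / 2)

theorem z_ph {L : List G} (h : ∀ a ∈ L, z * a = a * z) (v : ℕ) : z * ph L v = ph L v * z := by
  induction L generalizing v with
  | nil => simp [ph]
  | cons a l ih =>
    simp only [ph]
    have h1 := h a (by simp)
    have h2 := ih (fun b hb => h b (by simp [hb])) (v / 2)
    by_cases hv : v % 2 = 1
    · simp only [hv, if_true]
      rw [← mul_assoc, h1, mul_assoc, h2, mul_assoc]
    · simp only [hv, if_false, one_mul]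
      exact h2

theorem comm_ph (zz : z * z = 1) {L : List G} {g : G} (hg : z * g = g * z) (h : ∀ a ∈ L, z * a = a * z)
    (hc : ∀ a ∈ L, Ez z (g * a) (a * g)) (v : ℕ) : Ez z (g * ph L v) (ph L v * g) := by
  induction L generalizing v with
  | nil => left; simp [ph]
  | cons a l ih =>
    simp only [ph]
    have h2 := ih (fun b hb => h b (by simp [hb])) (fun b hb => hc b (by simp [hb])) (v / 2)
    have hz := z_ph (L := l) (fun b hb => h b (by simp [hb])) (v / 2)
    by_cases hv : v % 2 = 1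
    · simp only [hv, if_true]
      have h1 := hc a (by simp)
      have e1 : Ez z (g * (a * ph l (v / 2))) (a * g * ph l (v / 2)) := by
        rw [← mul_assoc]
        exact h1.mul zz (Ez.refl _) hz
      have e2 : Ez z (a * g * ph l (v / 2)) (a * ph l (v / 2) * g) := by
        rw [mul_assoc, mul_assoc]
        refine (Ez.refl a).mul zz h2 ?_
        rw [← mul_assoc, hz, mul_assoc, hg, mul_assoc]
      exact e1.trans zz e2
    · simp only [hv, if_false, one_mul]
      exact h2

theorem ph_xor (zz : z * z = 1) {L : List G} (h : ∀ a ∈ L, z * a = a * z) (hs : ∀ a ∈ L, a * a = 1)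
    (hc : ∀ a ∈ L, ∀ b ∈ L, Ez z (a * b) (b * a)) (u v : ℕ) : Ez z (ph L u * ph L v) (ph L (u ^^^ v)) := by
  induction L generalizing u v with
  | nil => left; simp [ph]
  | cons a l ih =>
    have hz : ∀ w, z * ph l w = ph l w * z := z_ph (L := l) (fun b hb => h b (by simp [hb]))
    have h2 := ih (fun b hb => h b (by simp [hb])) (fun b hb => hs b (by simp [hb]))
      (fun b hb c hc' => hc b (by simp [hb]) c (by simp [hc'])) (u / 2) (v / 2)
    have ha := h a (by simp)
    have h3 : ∀ w, Ez z (a * ph l w) (ph l w * a) := fun w =>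
      comm_ph zz ha (fun b hb => h b (by simp [hb])) (fun b hb => hc a (by simp) b (by simp [hb])) w
    simp only [ph, Nat.xor_div_two, Nat.xor_mod_two_eq_one]
    by_cases h1 : u % 2 = 1 <;> by_cases h1' : v % 2 = 1
    · simp only [h1, h1', iff_self, not_true_eq_false, if_false, if_true, one_mul]
      have e1 : Ez z (a * ph l (u / 2) * (a * ph l (v / 2))) (a * (a * ph l (u / 2)) * ph l (v / 2)) := by
        have : a * ph l (u / 2) * (a * ph l (v / 2)) = a * (ph l (u / 2) * a) * ph l (v / 2) := by group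
        rw [this]
        refine Ez.mul zz ((Ez.refl a).mul zz ((h3 _).symm zz) ?_) (Ez.refl _) (hz _)
        rw [← mul_assoc, ha, mul_assoc, hz, mul_assoc]
      refine e1.trans zz ?_
      rw [← mul_assoc, hs a (by simp), one_mul]
      exact h2
    · simp only [h1, h1', iff_false, not_true_eq_false, not_false_eq_true, if_false, if_true, one_mul]
      rw [mul_assoc]
      exact (Ez.refl a).mul zz h2 (hz _)
    · simp only [h1, h1', false_iff, not_true_eq_false, if_false, if_true, one_mul]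
      have e1 : Ez z (ph l (u / 2) * (a * ph l (v / 2))) (a * ph l (u / 2) * ph l (v / 2)) := by
        rw [← mul_assoc]
        exact ((h3 _).symm zz).mul zz (Ez.refl _) (hz _)
      refine e1.trans zz ?_
      rw [mul_assoc]
      exact (Ez.refl a).mul zz h2 (hz _)
    · simp only [h1, h1', iff_self, not_true_eq_false, if_false, one_mul]
      exact h2

/-- `g` acts as the matrix `m`. -/
theorem act_aux (zz : z * z = 1) {W : List G} (h : ∀ a ∈ W, z * a = a * z) (hs : ∀ a ∈ W, a * a = 1)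
    (hc : ∀ a ∈ W, ∀ b ∈ W, Ez z (a * b) (b * a)) {g : G} {L : List G} {m : List ℕ}
    (hf : List.Forall₂ (fun a b => Ez z (cj g a) (ph W b)) L m) (v : ℕ) :
    Ez z (cj g (ph L v)) (ph W (ap m v)) := by
  induction hf generalizing v with
  | nil =>
    left
    have : ∀ W : List G, ph W 0 = 1 := by
      intro W
      induction W with
      | nil => rfl
      | cons a l ih => simp [ph, ih]
    simp [ph, ap, this, DoubRefl.cj]
  | @cons a b l m' hab _ ih =>
    simp only [ph, ap]
    rw [cj_mul]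
    refine Ez.trans zz ?_ (ph_xor zz h hs hc _ _)
    refine Ez.mul zz ?_ (ih _) (z_ph h _)
    by_cases hv : v % 2 = 1
    · simp only [hv, if_true]
      exact hab
    · simp only [hv, if_false]
      left
      have : ∀ W : List G, ph W 0 = 1 := by
        intro W
        induction W with
        | nil => rfl
        | cons a l ih => simp [ph, ih]
      rw [this]
      simp [DoubRefl.cj]

/-- the product of the `w j`, `j ∈ l` -/
def pr (w : ℕ → G) : List ℕ → G
  | [] => 1
  | j :: l => w j * pr w l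

/-- the bit mask of a list -/
def mask : List ℕ → ℕ
  | [] => 0
  | j :: l => 2 ^ j ^^^ mask l

/-- the list of the ten generators -/
def WL (w : ℕ → G) : List G := [w 0, w 1, w 2, w 3, w 4, w 5, w 6, w 7, w 8, w 9]

theorem ph_single (w : ℕ → G) : ∀ j < 10, ph (WL w) (2 ^ j) = w j := by
  intro j hj
  interval_cases j <;> simp [WL, ph]

theorem mem_WL {w : ℕ → G} {a : G} (h : a ∈ WL w) : ∃ j < 10, a = w j := by
  simp only [WL, List.mem_cons, List.not_mem_nil, or_false] at h
  rcases h with h | h | h | h | h | h | h | h | h | h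
  exacts [⟨0, by norm_num, h⟩, ⟨1, by norm_num, h⟩, ⟨2, by norm_num, h⟩, ⟨3, by norm_num, h⟩, ⟨4, by norm_num, h⟩,
    ⟨5, by norm_num, h⟩, ⟨6, by norm_num, h⟩, ⟨7, by norm_num, h⟩, ⟨8, by norm_num, h⟩, ⟨9, by norm_num, h⟩]

/-- the hypotheses on the ten generators -/
structure El (z : G) (w : ℕ → G) : Prop where
  zz : z * z = 1
  zw : ∀ j < 10, z * w j = w j * z
  sq : ∀ j < 10, w j * w j = 1
  cm : ∀ j < 10, ∀ k < 10, Ez z (w j * w k) (w k * w j)

theorem El.pr_mask {w : ℕ → G} (h : El z w) (l : List ℕ) (hl : ∀ j ∈ l, j < 10) : Ez z (pr w l) (ph (WL w) (mask l)) := by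
  have h1 : ∀ a ∈ WL w, z * a = a * z := fun a ha => by
    obtain ⟨j, hj, rfl⟩ := mem_WL ha; exact h.zw j hj
  have h2 : ∀ a ∈ WL w, a * a = 1 := fun a ha => by
    obtain ⟨j, hj, rfl⟩ := mem_WL ha; exact h.sq j hj
  have h3 : ∀ a ∈ WL w, ∀ b ∈ WL w, Ez z (a * b) (b * a) := fun a ha b hb => by
    obtain ⟨j, hj, rfl⟩ := mem_WL ha
    obtain ⟨k, hk, rfl⟩ := mem_WL hb
    exact h.cm j hj k hk
  induction l with
  | nil => left; simp [pr, mask, ph, WL]
  | cons j l ih =>
    simp only [pr, mask]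
    refine Ez.trans h.zz ?_ (ph_xor h.zz h1 h2 h3 _ _)
    rw [ph_single w j (hl j (by simp))]
    exact (Ez.refl _).mul h.zz (ih fun k hk => hl k (by simp [hk])) (z_ph h1 _)

/-- `g` acts on the generators by the lists `f j`. -/
def Act (z : G) (w : ℕ → G) (g : G) (f : ℕ → List ℕ) : Prop :=
  g * z = z * g ∧ ∀ j < 10, (∀ k ∈ f j, k < 10) ∧ Ez z (cj g (w j)) (pr w (f j))

/-- the matrix -/
def mw (f : ℕ → List ℕ) : List ℕ := (List.range 10).map (fun j => mask (f j))

theorem El.act {w : ℕ → G} (h : El z w) {g : G} {f : ℕ → List ℕ} (hg : Act z w g f) {u : G} {v : ℕ}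
    (hu : Ez z u (ph (WL w) v)) : Ez z (cj g u) (ph (WL w) (ap (mw f) v)) := by
  have h1 : ∀ a ∈ WL w, z * a = a * z := fun a ha => by
    obtain ⟨j, hj, rfl⟩ := mem_WL ha; exact h.zw j hj
  have h2 : ∀ a ∈ WL w, a * a = 1 := fun a ha => by
    obtain ⟨j, hj, rfl⟩ := mem_WL ha; exact h.sq j hj
  have h3 : ∀ a ∈ WL w, ∀ b ∈ WL w, Ez z (a * b) (b * a) := fun a ha b hb => by
    obtain ⟨j, hj, rfl⟩ := mem_WL ha
    obtain ⟨k, hk, rfl⟩ := mem_WL hb
    exact h.cm j hj k hk
  obtain ⟨hgz, hm⟩ := hg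
  refine (hu.cj hgz).trans h.zz ?_
  apply act_aux h.zz h1 h2 h3
  rw [List.forall₂_iff_get]
  refine ⟨by simp [WL, mw], ?_⟩
  intro i hi hi'
  have hi10 : i < 10 := hi
  have e1 : (WL w).get ⟨i, hi⟩ = w i := by
    simp only [WL, List.length_cons, List.length_nil] at hi
    interval_cases i <;> rfl
  have e2 : (mw f).get ⟨i, hi'⟩ = mask (f i) := by simp [mw]
  rw [e1, e2]
  obtain ⟨h4, h5⟩ := hm i hi10
  exact h5.trans h.zz (h.pr_mask _ h4)

end Ez

/-- the roots `ac + ∑_{i ∈ S} al i` -/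
def eR (S : ℕ) : E :=
  ac + (if S.testBit 0 then al 0 else 0) + (if S.testBit 1 then al 1 else 0) + (if S.testBit 2 then al 2 else 0)

theorem eR_mem : ∀ S < 8, eR S ∈ roots := by decide +kernel

theorem eR_zr : ∀ S < 8, 0 ≤ ip zr (eR S) := by decide +kernel

theorem eR_pair : ∀ S < 8, ∀ T < 8, 0 ≤ ip (eR S) (eR T) ∨ (ip (eR S) (eR T) = -1 ∧ eR S + eR T = zr) := by
  decide +kernel

theorem eR_val : eR 0 = ac ∧ eR 7 = rr ∧ eR 6 = rr - al 0 ∧ eR 5 = rr - al 1 ∧ eR 3 = rr - al 2 ∧
    eR 1 = ac + al 0 ∧ eR 2 = ac + al 1 ∧ eR 4 = ac + al 2 := by decide +kernel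

theorem eR_al : ∀ i : Fin 3, ∀ S < 8, (S.testBit i = true → CFix (eR S) (al i)) ∧
    (S.testBit i = false → CNeg (eR S) (al i) (eR (S + 2 ^ i.1))) := by decide +kernel

theorem eR_nal : ∀ i : Fin 3, ∀ S < 8, (S.testBit i = false → CFix (eR S) (-al i)) ∧
    (S.testBit i = true → CNeg (eR S) (-al i) (eR (S - 2 ^ i.1))) := by decide +kernel

/-- the action of `s_i` -/
def fs (i : Fin 3) (S : ℕ) : List ℕ := if S < 8 then (if S.testBit i then [S] else [S, S + 2 ^ i.1]) else [S]

/-- the action of `n_i` -/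
def fn (i : Fin 3) (S : ℕ) : List ℕ := if S < 8 then (if S.testBit i then [S, S - 2 ^ i.1] else [S]) else [S]

/-- the action of `y'` -/
def fy (ε : Fin 3 → Bool) (h : Bool) : ℕ → List ℕ
  | 0 => 9 :: ((if ε 0 then [6] else []) ++ (if ε 1 then [5] else []) ++ (if ε 2 then [3] else []) ++
      (if h then [8] else []) ++ (if h then [7] else []) ++ [0])
  | 1 => if ε 0 then [1, 7] else [1]
  | 2 => if ε 1 then [2, 7] else [2]
  | 4 => if ε 2 then [4, 7] else [4]
  | 8 => [8, 7]
  | 9 => if h then [9, 7] else [9]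
  | n => [n]

theorem fs_lt : ∀ i : Fin 3, ∀ S < 10, ∀ k ∈ fs i S, k < 10 := by decide +kernel

theorem fn_lt : ∀ i : Fin 3, ∀ S < 10, ∀ k ∈ fn i S, k < 10 := by decide +kernel

theorem fy_lt : ∀ (ε : Fin 3 → Bool) (h : Bool), ∀ S < 10, ∀ k ∈ fy ε h S, k < 10 := by decide +kernel

section gens

variable {G : Type*} [Group G]

/-- the ten generators -/
def gw (t : G) (x : E → G) (y : G) (j : ℕ) : G := if j < 8 then x (eR j) else if j = 8 then t else y

variable {t : G} {L : Subgroup G} {x : E → G} (X : XD t L x) {ε : Fin 3 → Bool} {y : G} (Y : YE t x ε y)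

include X Y

theorem y_eR : ∀ S < 8, y * x (eR S) = x (eR S) * y := by
  intro S hS
  obtain ⟨h0, h7, h6, h5, h3, h1, h2, h4⟩ := eR_val
  interval_cases S
  · rw [h0]; exact ya X Y
  · rw [h1]; exact yc X Y 0
  · rw [h2]; exact yc X Y 1
  · rw [h3]; exact yf X Y 2
  · rw [h4]; exact yc X Y 2
  · rw [h5]; exact yf X Y 1
  · rw [h6]; exact yf X Y 0
  · rw [h7]; exact Y.yr

theorem el : El (x zr) (gw t x y) := by
  have tz : t * x zr = x zr * t := X.tL _ (X.xL _ mem1.1)
  have zz' := zz X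
  have yt : y * t = t * x zr * y := by rw [← Y.yt]; group
  refine ⟨zz', ?_, ?_, ?_⟩
  · intro j hj
    unfold gw
    split_ifs with h1 h2
    · exact X.x_comm _ mem1.1 _ (eR_mem j h1) (eR_zr j h1)
    · exact tz.symm
    · exact Y.yz.symm
  · intro j hj
    unfold gw
    split_ifs with h1 h2
    · exact X.x_sq _ (eR_mem j h1)
    · exact X.tt
    · exact Y.yy
  · intro j hj k hk
    have cty : ∀ S < 8, t * x (eR S) = x (eR S) * t := fun S hS => X.tL _ (X.xL _ (eR_mem S hS))
    have cyy := y_eR X Y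
    have hyt : Ez (x zr) (y * t) (t * y) := by
      right; rw [yt, mul_assoc, ← Y.yz, mul_assoc]
    unfold gw
    split_ifs with h1 h2 h3 h4 h5 h6 h7 h8
    · rcases eR_pair j h1 k h2 with h | ⟨h, h'⟩
      · exact Ez.of_eq (X.x_comm _ (eR_mem j h1) _ (eR_mem k h2) h)
      · right
        have h9 := X.x_conj _ (eR_mem j h1) _ (eR_mem k h2) h
        rw [h'] at h9
        have h10 := X.x_sq _ (eR_mem k h2)
        calc x (eR j) * x (eR k) = (x (eR k) * x (eR k)) * x (eR j) * x (eR k) := by rw [h10, one_mul]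
          _ = x (eR k) * (x (eR k) * x (eR j) * x (eR k)) := by group
          _ = x (eR k) * x (eR j) * x zr := by rw [h9]; group
    · exact Ez.of_eq (cty j h1).symm
    · exact Ez.of_eq (cyy j h1).symm
    · exact Ez.of_eq (cty k h5)
    · exact Ez.refl _
    · exact hyt.symm zz'
    · exact Ez.of_eq (cyy k h7)
    · exact hyt
    · exact Ez.refl _

/-- `s_i` -/
theorem act_s (i : Fin 3) : Act (x zr) (gw t x y) (x (al i)) (fs i) := by
  have tz : t * x zr = x zr * t := X.tL _ (X.xL _ mem1.1)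
  refine ⟨(X.x_comm zr mem1.1 (al i) (mem1.2.2.2.2 i).2.1 (mem2.2.2.2 i).2.1).symm, fun j hj => ⟨fs_lt i j hj, ?_⟩⟩
  by_cases h1 : j < 8
  · have h2 := eR_al i j h1
    simp only [gw, if_pos h1, fs]
    by_cases h3 : j.testBit i = true
    · rw [if_pos h3, X.fix (h2.1 h3)]
      left
      simp [pr, gw, h1]
    · have h3' : j.testBit i = false := by simpa using h3
      rw [if_neg h3, X.con (h2.2 h3')]
      have h4 : j + 2 ^ i.1 < 8 := by
        have : ∀ i : Fin 3, ∀ j < 8, j.testBit i = false → j + 2 ^ i.1 < 8 := by decide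
        exact this i j h1 h3'
      left
      simp [pr, gw, h1, h4]
  · have h2 : j = 8 ∨ j = 9 := by omega
    rcases h2 with rfl | rfl
    · left
      change cj (x (al i)) t = t * 1
      rw [mul_one, X.t_fix (X.xL _ (mem1.2.2.2.2 i).2.1)]
    · change Ez (x zr) (cj (x (al i)) y) (y * 1)
      rw [mul_one]
      have h3 : y * x (al i) * y⁻¹ = x (al i) * pw (x zr) (ε i) := Y.yτ i
      have h4 : y * x (al i) = x (al i) * pw (x zr) (ε i) * y := by rw [← h3]; group
      have h5 := X.x_sq (al i) (mem1.2.2.2.2 i).2.1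
      have h6 : cj (x (al i)) y = pw (x zr) (ε i) * y := by
        unfold DoubRefl.cj
        rw [X.inv (mem1.2.2.2.2 i).2.1, mul_assoc, h4, mul_assoc, ← mul_assoc, h5, one_mul]
      rw [h6]
      cases ε i
      · left; rw [pw_false, one_mul]
      · right; rw [pw_true, ← Y.yz]

/-- `n_i` -/
theorem act_n (i : Fin 3) : Act (x zr) (gw t x y) (x (-al i)) (fn i) := by
  refine ⟨(X.x_comm zr mem1.1 (-al i) (mem1.2.2.2.2 i).2.2.1 (mem2.2.2.2 i).2.2.2.2.2.2.2.2).symm,
    fun j hj => ⟨fn_lt i j hj, ?_⟩⟩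
  by_cases h1 : j < 8
  · have h2 := eR_nal i j h1
    simp only [gw, if_pos h1, fn]
    by_cases h3 : j.testBit i = true
    · rw [if_pos h3, X.con (h2.2 h3)]
      have h4 : j - 2 ^ i.1 < 8 := lt_of_le_of_lt (Nat.sub_le _ _) h1
      left
      simp [pr, gw, h1, h4]
    · have h3' : j.testBit i = false := by simpa using h3
      rw [if_neg h3, X.fix (h2.1 h3')]
      left
      simp [pr, gw, h1]
  · have h2 : j = 8 ∨ j = 9 := by omega
    rcases h2 with rfl | rfl
    · left
      change cj (x (-al i)) t = t * 1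
      rw [mul_one, X.t_fix (X.xL _ (mem1.2.2.2.2 i).2.2.1)]
    · change Ez (x zr) (cj (x (-al i)) y) (y * 1)
      rw [mul_one]
      have h3 : y * x (-al i) * y⁻¹ = x (-al i) * pw (x zr) (ε i) := ynu X Y i
      have h4 : y * x (-al i) = x (-al i) * pw (x zr) (ε i) * y := by rw [← h3]; group
      have h5 := X.x_sq (-al i) (mem1.2.2.2.2 i).2.2.1
      have h6 : cj (x (-al i)) y = pw (x zr) (ε i) * y := by
        unfold DoubRefl.cj
        rw [X.inv (mem1.2.2.2.2 i).2.2.1, mul_assoc, h4, mul_assoc, ← mul_assoc, h5, one_mul]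
      rw [h6]
      cases ε i
      · left; rw [pw_false, one_mul]
      · right; rw [pw_true, ← Y.yz]

end gens

section word

universe u

variable {G : Type u} [Group G] (C : Ctx G)

/-- `y'` -/
theorem act_y {ε : Fin 3 → Bool} {y : G} (Y : YE C.t (DataOf.x C) ε y) : ∃ h : Bool, Act (DataOf.x C zr) (gw C.t (DataOf.x C) y) (yp (DataOf.x C) y) (fy ε h) := by
  have X := Graph.xd C
  obtain ⟨h, a, -, h2, h3⟩ := vi C Y
  obtain ⟨v0, v7, v6, v5, v3, v1, v2, v4⟩ := eR_val
  set x := DataOf.x C with hx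
  set z := x zr with hz
  have zz' : z * z = 1 := zz X
  have yp2 := yp_sq X Y
  have ypi : (yp x y)⁻¹ = yp x y := inv_eq_of_mul_eq_one_right yp2
  have hypz : yp x y * z = z * yp x y := comm_of_cj (yp_z X Y)
  refine ⟨h, hypz, fun j hj => ⟨fy_lt ε h j hj, ?_⟩⟩
  have g0 : gw C.t x y 0 = x ac := by simp [gw, v0]
  have g1 : gw C.t x y 1 = x (ac + al 0) := by simp [gw, v1]
  have g2 : gw C.t x y 2 = x (ac + al 1) := by simp [gw, v2]
  have g3 : gw C.t x y 3 = x (rr - al 2) := by simp [gw, v3]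
  have g4 : gw C.t x y 4 = x (ac + al 2) := by simp [gw, v4]
  have g5 : gw C.t x y 5 = x (rr - al 1) := by simp [gw, v5]
  have g6 : gw C.t x y 6 = x (rr - al 0) := by simp [gw, v6]
  have g7 : gw C.t x y 7 = x rr := by simp [gw, v7]
  have g8 : gw C.t x y 8 = C.t := by simp [gw]
  have g9 : gw C.t x y 9 = y := by simp [gw]
  have hc : ∀ (i : Fin 3) (j : ℕ), gw C.t x y j = x (ac + al i) →
      Ez z (cj (yp x y) (gw C.t x y j)) (pr (gw C.t x y) (if ε i then [j, 7] else [j])) := by
    intro i j hj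
    left
    rw [hj, yp_c X Y]
    cases ε i
    · simp [pr, pw, hj]
    · simp [pr, pw, hj, g7]
  interval_cases j
  · -- `x ac`
    have e1 : cj (yp x y) (x ac) = y * (bb x ε * (pw C.t h * pw z a * pw (x rr) h)) * x ac := by
      rw [← h2]
      unfold DoubRefl.cj
      rw [ypi]
    have e2 : pr (gw C.t x y) (fy ε h 0) = y * (bb x ε * (pw C.t h * pw (x rr) h)) * x ac := by
      have f0 : fy ε h 0 = 9 :: ((if ε 0 then [6] else []) ++ (if ε 1 then [5] else []) ++ (if ε 2 then [3] else []) ++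
        (if h then [8] else []) ++ (if h then [7] else []) ++ [0]) := rfl
      rw [f0]
      unfold bb
      cases ε 0 <;> cases ε 1 <;> cases ε 2 <;> cases h <;>
        simp [pr, pw, g0, g3, g5, g6, g7, g8, g9, mul_assoc]
    rw [g0, e1, e2]
    cases a
    · left; rw [pw_false, mul_one]
    · right
      have hza : z * x ac = x ac * z := X.x_comm _ mem1.1 _ mem1.2.2.1 mem2.2.2.1
      have hzr : z * pw (x rr) h = pw (x rr) h * z := (pw_comm (zrr X).symm h).symm
      rw [pw_true]
      calc y * (bb x ε * (pw C.t h * z * pw (x rr) h)) * x ac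
          = y * (bb x ε * (pw C.t h * (z * pw (x rr) h))) * x ac := by group
        _ = y * (bb x ε * (pw C.t h * pw (x rr) h)) * (z * x ac) := by rw [hzr]; group
        _ = y * (bb x ε * (pw C.t h * pw (x rr) h)) * x ac * z := by rw [hza]; group
  · exact hc 0 1 g1
  · exact hc 1 2 g2
  · left
    rw [g3, yp_f X Y]
    simp [pr, fy, g3]
  · exact hc 2 4 g4
  · left
    rw [g5, yp_f X Y]
    simp [pr, fy, g5]
  · left
    rw [g6, yp_f X Y]
    simp [pr, fy, g6]
  · left
    rw [g7, yp_r X Y]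
    simp [pr, fy, g7]
  · left
    rw [g8, yp_t X Y]
    simp [pr, fy, g7, g8]
  · rw [g9]
    have e1 : cj (yp x y) y = y * pw (z * x rr) h := by
      rw [← h3]
      unfold DoubRefl.cj
      rw [ypi]
    have f9 : fy ε h 9 = if h then [9, 7] else [9] := rfl
    rw [e1, f9]
    cases h
    · left; simp [pr, pw, g9]
    · right
      simp only [pr, pw_true, if_true, g9, g7, mul_one]
      rw [zrr X, mul_assoc]

/-- the word -/
noncomputable def P (y : G) (i : Fin 3) : G :=
  yp (DataOf.x C) y * (DataOf.x C (-al i) * (yp (DataOf.x C) y * (DataOf.x C (al i) * (DataOf.x C (-al i) *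
    yp (DataOf.x C) y))))

/-- the action of the word on the bit masks -/
def wd (ε : Fin 3 → Bool) (h : Bool) (i : Fin 3) (v : ℕ) : ℕ :=
  ap (mw (fy ε h)) (ap (mw (fn i)) (ap (mw (fy ε h)) (ap (mw (fs i)) (ap (mw (fn i)) (ap (mw (fy ε h)) v)))))

end word

theorem wd_t : ∀ (i j : Fin 3) (h : Bool), wd (fun l => decide (l = j)) h i (2 ^ 8) = 2 ^ 8 := by decide +kernel

theorem wd_false : ∀ i : Fin 3, wd (fun l => decide (l = i)) false i (2 ^ 0) = mask [2 ^ i.1, 7] := by decide +kernel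

theorem wd_true : ∀ i : Fin 3, wd (fun l => decide (l = i)) true (i + 1) (2 ^ 0) =
    mask [2 ^ (i + 1).1, 7 - 2 ^ i.1, 7] := by decide +kernel

section notroot

open Cfsg.Agent.StdO8.Model (V q B X O8 Om)
open Cfsg.Agent.StdO8.Bas (xO wt bv xb xO_wt th th_xb th_mul)
open Cfsg.Agent.StdO8.DataOf (xm)

/-- product of two orthogonal root elements -/
noncomputable def mA (i : Fin 3) (c : Bool) : Om := xm (ac + al i) * xm rr * pw (xm zr) c

/-- product of three root elements -/
noncomputable def mB (i : Fin 3) (c : Bool) : Om := xm (ac + al (i + 1)) * xm (rr - al i) * xm rr * pw (xm zr) c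

theorem rho_all' : rho zr = zr ∧ rho rr = rr ∧ ∀ i : Fin 3, rho (ac + al i) = ac + al (i + 1) ∧
    rho (rr - al i) = rr - al (i + 1) := by decide +kernel

theorem tri_pw (c : Bool) : tri (pw (xm zr) c) = pw (xm zr) c := by
  cases c
  · exact map_one tri
  · change tri (xm zr) = xm zr
    rw [tri_xm mem1.1, rho_all'.1]

theorem tri_mA (i : Fin 3) (c : Bool) : tri (mA i c) = mA (i + 1) c := by
  unfold mA
  rw [map_mul, map_mul, tri_pw, tri_xm (mem1.2.2.2.2 i).2.2.2, tri_xm mem1.2.1, rho_all'.2.1, (rho_all'.2.2 i).1]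

theorem tri_mB (i : Fin 3) (c : Bool) : tri (mB i c) = mB (i + 1) c := by
  unfold mB
  rw [map_mul, map_mul, map_mul, tri_pw, tri_xm (mem1.2.2.2.2 (i + 1)).2.2.2, tri_xm (mem1.2.2.2.2 i).1,
    tri_xm mem1.2.1, rho_all'.2.1, (rho_all'.2.2 (i + 1)).1, (rho_all'.2.2 i).2]

theorem not_mA0 (c : Bool) : ¬ Root.IsRoot ((mA 0 c : Om) : V ≃ₗ[ZMod 2] V) := by
  intro h
  have e1 : xO (ac + al 0) = xb 0 6 := by
    have h : ac + al 0 = wt 0 + wt 6 := by decide
    rw [h, xO_wt (by decide)]
  have e2 : xO rr = xb 0 2 := by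
    have h : rr = wt 0 + wt 2 := by decide
    rw [h, xO_wt (by decide)]
  have h1 := NotRoot.disp h (Dc.b 4)
  cases c
  · have h2 : ((mA 0 false : Om) : V ≃ₗ[ZMod 2] V) = xb 0 6 * xb 0 2 * 1 := by
      rw [← e1, ← e2]; rfl
    rw [h2, mul_one, th_mul, th_xb (by decide), th_xb (by decide)] at h1
    revert h1
    decide
  · have h2 : ((mA 0 true : Om) : V ≃ₗ[ZMod 2] V) = xb 0 6 * xb 0 2 * xb 0 1 := by
      rw [← e1, ← e2, ← NotRoot.xO_zr]; rfl
    rw [h2, th_mul, th_mul, th_xb (by decide), th_xb (by decide), th_xb (by decide)] at h1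
    revert h1
    decide

theorem not_mB2 (c : Bool) : ¬ Root.IsRoot ((mB 2 c : Om) : V ≃ₗ[ZMod 2] V) := by
  intro h
  have e1 : xO (ac + al (2 + 1)) = xb 0 6 := by
    have h : ac + al (2 + 1) = wt 0 + wt 6 := by decide
    rw [h, xO_wt (by decide)]
  have e2 : xO rr = xb 0 2 := by
    have h : rr = wt 0 + wt 2 := by decide
    rw [h, xO_wt (by decide)]
  have e3 : xO (rr - al 2) = xb 0 7 := by
    have h : rr - al 2 = wt 0 + wt 7 := by decide
    rw [h, xO_wt (by decide)]
  have h1 := NotRoot.disp h (Dc.b 4)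
  cases c
  · have h2 : ((mB 2 false : Om) : V ≃ₗ[ZMod 2] V) = xb 0 6 * xb 0 7 * xb 0 2 * 1 := by
      rw [← e1, ← e2, ← e3]; rfl
    rw [h2, mul_one, th_mul, th_mul, th_xb (by decide), th_xb (by decide), th_xb (by decide)] at h1
    revert h1
    decide
  · have h2 : ((mB 2 true : Om) : V ≃ₗ[ZMod 2] V) = xb 0 6 * xb 0 7 * xb 0 2 * xb 0 1 := by
      rw [← e1, ← e2, ← e3, ← NotRoot.xO_zr]; rfl
    rw [h2, th_mul, th_mul, th_mul, th_xb (by decide), th_xb (by decide), th_xb (by decide), th_xb (by decide)] at h1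
    revert h1
    decide

theorem not_mA (i : Fin 3) (c : Bool) : ¬ Root.IsRoot ((mA i c : Om) : V ≃ₗ[ZMod 2] V) := by
  have step : ∀ j, Root.IsRoot ((mA j c : Om) : V ≃ₗ[ZMod 2] V) → Root.IsRoot ((mA (j + 1) c : Om) : V ≃ₗ[ZMod 2] V) := by
    intro j hj
    rw [← tri_mA]
    exact Root.isRoot_map tri hj
  intro h
  fin_cases i
  · exact not_mA0 c h
  · exact not_mA0 c (step 2 (step 1 h))
  · exact not_mA0 c (step 2 h)

theorem not_mB (i : Fin 3) (c : Bool) : ¬ Root.IsRoot ((mB i c : Om) : V ≃ₗ[ZMod 2] V) := by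
  have step : ∀ j, Root.IsRoot ((mB j c : Om) : V ≃ₗ[ZMod 2] V) → Root.IsRoot ((mB (j + 1) c : Om) : V ≃ₗ[ZMod 2] V) := by
    intro j hj
    rw [← tri_mB]
    exact Root.isRoot_map tri hj
  intro h
  fin_cases i
  · exact not_mB2 c (step 1 (step 0 h))
  · exact not_mB2 c (step 1 h)
  · exact not_mB2 c h

end notroot

universe u

/-- **(13)**: `ε` is not of the form `(1,0,0)`. -/
theorem one_false {G : Type u} [Group G] (C : Ctx G) {ε : Fin 3 → Bool} {y : G} (Y : YE C.t (DataOf.x C) ε y)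
    {i : Fin 3} (hi : ε i = true) (hj : ε (oj i) = false) (hk : ε (DoubRoot.ok i) = false) : False := by
  have X := Graph.xd C
  have hε : ε = fun l => decide (l = i) := by
    funext l
    rcases fin_cases' i l with rfl | rfl | rfl
    · simp [hi]
    · have h : ∀ i : Fin 3, oj i ≠ i := by decide
      simp [hj, h i]
    · have h : ∀ i : Fin 3, DoubRoot.ok i ≠ i := by decide
      simp [hk, h i]
  subst hε
  obtain ⟨h, hy⟩ := act_y C Y
  have E := el X Y
  set x := DataOf.x C with hx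
  set z := x zr with hz
  have zz' : z * z = 1 := zz X
  set w := gw C.t x y with hw
  have hP : ∀ (j : Fin 3) {u : G} {v : ℕ}, Ez z u (ph (WL w) v) →
      Ez z (cj (P C y j) u) (ph (WL w) (wd (fun l => decide (l = i)) h j v)) := by
    intro j u v hu
    unfold P wd
    rw [cj_comp, cj_comp, cj_comp, cj_comp, cj_comp]
    exact E.act hy (E.act (act_n X Y j) (E.act hy (E.act (act_s X Y j) (E.act (act_n X Y j) (E.act hy hu)))))
  have w8 : w 8 = C.t := by simp [hw, gw]
  have w0 : w 0 = x ac := by simp [hw, gw, eR_val.1]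
  have yAc := ya X Y
  -- an element of `C(t)` acting on `x ac` like `P`
  have hPt : ∀ j : Fin 3, ∃ g, g * C.t = C.t * g ∧ cj g (x ac) = cj (P C y j) (x ac) := by
    intro j
    have h1 : Ez z C.t (ph (WL w) (2 ^ 8)) := by rw [ph_single w 8 (by norm_num), w8]; exact Ez.refl _
    have h2 := hP j h1
    rw [wd_t, ph_single w 8 (by norm_num), w8] at h2
    rcases h2 with h2 | h2
    · exact ⟨P C y j, comm_of_cj h2, rfl⟩
    · refine ⟨P C y j * y, ?_, ?_⟩
      · apply comm_of_cj
        have h3 : P C y j * z = z * P C y j := by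
          have e1 := hy.1
          have e2 := (act_n X Y j).1
          have e3 := (act_s X Y j).1
          have c1 : Commute (yp x y) z := e1
          have c2 : Commute (x (-al j)) z := e2
          have c3 : Commute (x (al j)) z := e3
          exact (c1.mul_left (c2.mul_left (c1.mul_left (c3.mul_left (c2.mul_left c1))))).eq
        rw [cj_comp, show cj y C.t = C.t * z from Y.yt, cj_mul, h2, cj_comm h3, mul_assoc, zz', mul_one]
      · rw [cj_comp, cj_comm yAc]
  have h0 : Ez z (x ac) (ph (WL w) (2 ^ 0)) := by rw [ph_single w 0 (by norm_num), w0]; exact Ez.refl _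
  -- the root property
  have hroot : ∀ g, g * C.t = C.t * g → ∀ m : Model.Om, cj g (x ac) = C.r m → Root.IsRoot (m : Model.V ≃ₗ[ZMod 2] Model.V) := by
    intro g hg m hm
    obtain ⟨α, hα⟩ := C.norm g hg
    have h1 : cj g (x ac) = C.r (α (DataOf.xm ac)) := hα _
    rw [h1] at hm
    have h2 : α (DataOf.xm ac) = m := C.inj hm
    rw [← h2]
    apply Root.isRoot_map
    change Root.IsRoot (Bas.xO ac)
    rw [NotRoot.xO_ac]
    exact NotRoot.isRoot_xb (by decide)
  cases h
  · obtain ⟨g, hg, hgA⟩ := hPt i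
    have h1 := hP i h0
    rw [wd_false] at h1
    have h2 := E.pr_mask [2 ^ i.1, 7] ((by decide : ∀ i : Fin 3, ∀ j ∈ [2 ^ i.1, 7], j < 10) i)
    have h3 := h1.trans zz' (h2.symm zz')
    rw [← hgA] at h3
    have h4 : pr w [2 ^ i.1, 7] = x (ac + al i) * x rr := by
      obtain ⟨v0, v7, v6, v5, v3, v1, v2, v4⟩ := eR_val
      fin_cases i <;> simp [pr, hw, gw, v1, v2, v4, v7]
    rw [h4] at h3
    rcases h3 with h3 | h3
    · refine not_mA i false (hroot g hg _ ?_)
      rw [h3]
      unfold mA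
      rw [pw_false, mul_one, map_mul]
      rfl
    · refine not_mA i true (hroot g hg _ ?_)
      rw [h3]
      unfold mA
      rw [pw_true, map_mul, map_mul]
      rfl
  · obtain ⟨g, hg, hgA⟩ := hPt (i + 1)
    have h1 := hP (i + 1) h0
    rw [wd_true] at h1
    have h2 := E.pr_mask [2 ^ (i + 1).1, 7 - 2 ^ i.1, 7]
      ((by decide : ∀ i : Fin 3, ∀ j ∈ [2 ^ (i + 1).1, 7 - 2 ^ i.1, 7], j < 10) i)
    have h3 := h1.trans zz' (h2.symm zz')
    rw [← hgA] at h3
    have h4 : pr w [2 ^ (i + 1).1, 7 - 2 ^ i.1, 7] = x (ac + al (i + 1)) * x (rr - al i) * x rr := by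
      obtain ⟨v0, v7, v6, v5, v3, v1, v2, v4⟩ := eR_val
      fin_cases i <;> simp [pr, hw, gw, v1, v2, v4, v7, v3, v5, v6, mul_assoc]
    rw [h4] at h3
    rcases h3 with h3 | h3
    · refine not_mB i false (hroot g hg _ ?_)
      rw [h3]
      unfold mB
      rw [pw_false, mul_one, map_mul, map_mul]
      rfl
    · refine not_mB i true (hroot g hg _ ?_)
      rw [h3]
      unfold mB
      rw [pw_true, map_mul, map_mul, map_mul]
      rfl

end Cfsg.Agent.StdO8.DoubWord
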