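import Cfsg.Agent.StdO8.EvenLin

/-!
# The reflection in `C_G(t)` when `|C(t) : ⟨t⟩ L|` is even

`L ≅ Ω₈⁺(2)`; involutions `y s` with `t ^ (y s) = t x_s` which centralise `C_L(x_s)` for all roots `s`. If `|C(t) : ⟨t⟩ L|` is even, there
is an involution `f` of `C(t)` which acts as the reflection `sw` on `L`, commutes with `y s` for the roots `s` fixed by the graph
automorphism, and maps `y s` into `y_{s'} ⟨x_{s'}⟩`, `s'` the image of `s`, in general (`exists_f`).
-/

set_option autoImplicit false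

namespace Cfsg.Agent.StdO8.EvenF

open Cfsg.Agent.StdO8.Model (V q B X O8 Om)
open Cfsg.Agent.StdO8.D4Root (E ip roots Φ)
open Cfsg.Agent.StdO8.Frame (Ctx Lin)
open Cfsg.Agent.StdO8.Bas
open Cfsg.Agent.StdO8.DataOf
open Cfsg.Agent.StdO8.Graph (sw sw_mem sw_sq sw_inv sw_xO)
open Cfsg.Agent.StdO8.EvenLin (sw_notMem mem_or)
open Cfsg.Agent.Doubling.Rel (Root Data)

/-- The graph automorphism of the root system. -/
def g0 (s : E) : E := DoubRoot.gam 1 2 s

theorem g0_mem : ∀ s ∈ roots, g0 s ∈ roots ∧ g0 (g0 s) = s := by decide +kernel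

theorem g0_eq : ∀ s ∈ roots, g0 s = ![s 0, s 1, s 2, - s 3] := by decide +kernel

/-- The reflection as an element of `O8`. -/
def swO : O8 := ⟨sw, sw_mem⟩

theorem swO_sq : swO * swO = 1 := Subtype.ext sw_sq

theorem cj_xm {s : E} (hs : s ∈ Φ) : Cfsg.Agent.StdO8.Aut.cj swO (xm s) = xm (g0 s) := by
  apply Subtype.ext
  rw [Cfsg.Agent.StdO8.Aut.cj_coe]
  show sw * xO s * sw⁻¹ = xO (g0 s)
  rw [sw_inv, sw_xO hs]
  rfl

variable {G : Type*} [Group G] (C : Ctx G)

theorem L_le_Lin : C.L ⊔ Subgroup.zpowers C.t ≤ Lin C.t C.r := by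
  rw [sup_le_iff, Subgroup.zpowers_le]
  refine ⟨?_, C.mem_Lin.2 ⟨1, C.isLin_t⟩⟩
  rintro _ ⟨m, rfl⟩
  exact C.mem_Lin.2 ⟨_, C.isLin_r m⟩

theorem Lin_le : Lin C.t C.r ≤ Subgroup.centralizer {C.t} := fun _ hg => Subgroup.mem_centralizer_singleton_iff.2 hg.1

/-- Elements of `Lin` acting as elements of `Om`. -/
theorem mem_of_Om {g : G} {M : O8} (hM : C.IsLin g M) (h : (M : V ≃ₗ[ZMod 2] V) ∈ Om) : g ∈ C.L ⊔ Subgroup.zpowers C.t := by
  have hL : ∀ m, C.r m ∈ C.L ⊔ Subgroup.zpowers C.t := fun m =>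
    (le_sup_left : C.L ≤ C.L ⊔ Subgroup.zpowers C.t) (C.r_mem m)
  have ht : C.t ∈ C.L ⊔ Subgroup.zpowers C.t :=
    (le_sup_right : Subgroup.zpowers C.t ≤ C.L ⊔ Subgroup.zpowers C.t) (Subgroup.mem_zpowers _)
  rcases DataOf.eq_of_isLin C hM (m := ⟨M, h⟩) rfl with h1 | h1
  · rw [h1]; exact hL _
  · rw [h1]; exact mul_mem ht (hL _)

theorem Om_of_mem {g : G} {M : O8} (hM : C.IsLin g M) (h : g ∈ C.L ⊔ Subgroup.zpowers C.t) : (M : V ≃ₗ[ZMod 2] V) ∈ Om := by
  let S : Subgroup G :=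
    { carrier := {g | ∃ m : Om, C.IsLin g (Ctx.up m)}
      one_mem' := ⟨1, by
        have e : Ctx.up (1 : Om) = 1 := rfl
        rw [e]; exact C.isLin_one⟩
      mul_mem' := by
        rintro a b ⟨m, hm⟩ ⟨n, hn⟩
        exact ⟨m * n, hm.mul hn⟩
      inv_mem' := by
        rintro a ⟨m, hm⟩
        exact ⟨m⁻¹, hm.inv⟩ }
  have hle : C.L ⊔ Subgroup.zpowers C.t ≤ S := by
    rw [sup_le_iff, Subgroup.zpowers_le]
    constructor
    · rintro _ ⟨m, rfl⟩
      exact ⟨m, C.isLin_r m⟩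
    · exact ⟨1, C.isLin_t⟩
  obtain ⟨m, hm⟩ := hle h
  have := hM.unique hm
  rw [this]
  exact m.2

/-- **Existence of an element acting as the reflection.** -/
theorem exists_v [Finite G] (hev : ¬ Odd ((C.L ⊔ Subgroup.zpowers C.t).relIndex (Subgroup.centralizer {C.t}))) :
    ∃ v, C.IsLin v swO := by
  have hne : ¬ Lin C.t C.r ≤ C.L ⊔ Subgroup.zpowers C.t := by
    intro hle
    apply hev
    rw [le_antisymm (L_le_Lin C) hle]
    exact C.odd
  obtain ⟨g, hg, hgn⟩ := Set.not_subset.1 hne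
  obtain ⟨M, hM⟩ := C.mem_Lin.1 hg
  have hMO : (M : V ≃ₗ[ZMod 2] V) ∉ Om := fun h => hgn (mem_of_Om C hM h)
  have h1 := (mem_or M.2).resolve_left hMO
  refine ⟨(C.r ⟨_, h1⟩)⁻¹ * g, ?_⟩
  have h2 := (C.isLin_r ⟨_, h1⟩).inv.mul hM
  have e : (Ctx.up ⟨_, h1⟩)⁻¹ * M = swO := by
    apply Subtype.ext
    show ((M : V ≃ₗ[ZMod 2] V) * sw)⁻¹ * (M : V ≃ₗ[ZMod 2] V) = sw
    rw [mul_inv_rev, inv_mul_cancel_right, sw_inv]
  rwa [e] at h2

variable {C}

theorem v_x {v : G} (hv : C.IsLin v swO) {s : E} (hs : s ∈ Φ) : v * x C s * v⁻¹ = x C (g0 s) := by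
  unfold x
  rw [hv.2, cj_xm hs]

theorem v_L {v : G} (hv : C.IsLin v swO) {l : G} (hl : l ∈ C.L) : v⁻¹ * l * v ∈ C.L := by
  obtain ⟨m, rfl⟩ := hl
  have := hv.inv.2 m
  rw [inv_inv] at this
  rw [this]
  exact C.r_mem _

/-! ### Uniqueness of the involutions -/

theorem sep : ∀ r ∈ roots, ∃ s ∈ roots, r - s ∈ roots ∧ ip r s = 1 ∧ ip (r - s) r = 1 ∧ ip (r - s) s = -1 := by
  decide +kernel

/-- The fixed roots are connected. -/
theorem path : ∀ s ∈ roots, g0 s = s → ∃ a ∈ roots, ∃ b ∈ roots, g0 a = a ∧ g0 b = b ∧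
    (DoubRoot.zr = a ∨ (g0 (a - DoubRoot.zr) = a - DoubRoot.zr ∧ a - DoubRoot.zr ∈ roots ∧ ip DoubRoot.zr (a - DoubRoot.zr) = -1)) ∧
    (a = b ∨ (g0 (b - a) = b - a ∧ b - a ∈ roots ∧ ip a (b - a) = -1)) ∧
    (b = s ∨ (g0 (s - b) = s - b ∧ s - b ∈ roots ∧ ip b (s - b) = -1)) := by
  decide +kernel

section Data

variable {y : E → G} (D : Data ip Φ C.t C.L (x C) y)

include D

/-- The elements of `C(t)` which centralise `C_L(x_r)`. -/
theorem cent_root {r : E} (hr : r ∈ Φ) {g : G} (hg : g * C.t = C.t * g)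
    (hc : ∀ h ∈ C.L, h * x C r = x C r * h → g * h = h * g) :
    ∃ τ α, (τ = 1 ∨ τ = C.t) ∧ (α = 1 ∨ α = x C r) ∧ g = τ * α := by
  obtain ⟨s, hs, hrs, h1, h2, h3⟩ := sep r hr
  obtain ⟨τ, α, β, hτ, hα, hβ, e⟩ := D.dc r hr s hs (Or.inr h1) g hg fun h hh h1 _ => hc h hh h1
  rcases hβ with hβ | hβ
  · exact ⟨τ, α, hτ, hα, by rw [e, hβ, mul_one]⟩
  · exfalso
    have e1 := hc _ (x_mem C (r - s)) (x_comm C hrs hr (by rw [h2]; decide))
    have cτ : τ * x C (r - s) = x C (r - s) * τ := by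
      rcases hτ with h | h <;> rw [h]
      · rw [one_mul, mul_one]
      · exact D.tL _ (x_mem C _)
    have cα : α * x C (r - s) = x C (r - s) * α := by
      rcases hα with h | h <;> rw [h]
      · rw [one_mul, mul_one]
      · exact (x_comm C hrs hr (by rw [h2]; decide)).symm
    have cβ : β * x C (r - s) = x C (r - s) * β := by
      have e2 : β = (τ * α)⁻¹ * g := by rw [e]; group
      have e3 : τ * α * x C (r - s) = x C (r - s) * (τ * α) := by
        rw [mul_assoc, cα, ← mul_assoc, cτ, mul_assoc]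
      have e4 : (τ * α)⁻¹ * x C (r - s) = x C (r - s) * (τ * α)⁻¹ := by
        rw [inv_mul_eq_iff_eq_mul, ← mul_assoc, e3]; group
      rw [e2, mul_assoc, e1, ← mul_assoc, e4, mul_assoc]
    rw [hβ] at cβ
    have e5 := x_conj C hrs hs h3
    rw [cβ, mul_assoc, x_sq, mul_one, sub_add_cancel] at e5
    exact x_ne C hr (left_eq_mul.1 e5)

theorem yx_self {r : E} (hr : r ∈ Φ) : y r * x C r = x C r * y r := (D.yC r hr _ (x_mem C r) rfl).symm

/-- **Uniqueness of the involutions `y r`.** -/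
theorem uniq {r : E} (hr : r ∈ Φ) {w : G} (hw : w * w = 1) (hwt : w * C.t * w = C.t * x C r)
    (hc : ∀ h ∈ C.L, h * x C r = x C r * h → w * h = h * w) : w = y r ∨ w = y r * x C r := by
  have hy := D.y_sq r hr
  have hg : y r * w * C.t = C.t * (y r * w) := by
    have e1 : w * C.t = C.t * x C r * w := by
      calc w * C.t = w * C.t * (w * w) := by rw [hw, mul_one]
        _ = w * C.t * w * w := by group
        _ = _ := by rw [hwt]
    have e2 : y r * (C.t * x C r) = C.t * y r := by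
      have e3 := D.ty r hr
      calc y r * (C.t * x C r) = y r * (y r * C.t * y r) := by rw [e3]
        _ = (y r * y r) * C.t * y r := by group
        _ = C.t * y r := by rw [hy, one_mul]
    calc y r * w * C.t = y r * (w * C.t) := by group
      _ = y r * (C.t * x C r) * w := by rw [e1]; group
      _ = C.t * (y r * w) := by rw [e2]; group
  obtain ⟨τ, α, hτ, hα, e⟩ := cent_root D hr hg fun h hh h1 => by
    have e1 := hc h hh h1
    have e2 := D.yC r hr h hh h1
    rw [mul_assoc, e1, ← mul_assoc, ← e2, mul_assoc]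
  have hwe : w = y r * τ * α := by
    calc w = (y r * y r) * w := by rw [hy, one_mul]
      _ = y r * (y r * w) := by group
      _ = y r * τ * α := by rw [e]; group
  rcases hτ with hτ | hτ
  · rw [hτ, mul_one] at hwe
    rcases hα with hα | hα
    · left; rw [hwe, hα, mul_one]
    · right; rw [hwe, hα]
  · exfalso
    have cα : α * y r = y r * α := by
      rcases hα with h | h <;> rw [h]
      · rw [one_mul, mul_one]
      · exact (yx_self D hr).symm
    have cαt : C.t * α = α * C.t := by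
      rcases hα with h | h <;> rw [h]
      · rw [one_mul, mul_one]
      · exact D.tL _ (x_mem C r)
    have αα : α * α = 1 := by
      rcases hα with h | h <;> rw [h]
      · rw [one_mul]
      · exact x_sq C r
    rw [hwe, hτ] at hw
    have e1 : y r * C.t * α * (y r * C.t * α) = (y r * C.t * y r) * C.t * (α * α) := by
      calc y r * C.t * α * (y r * C.t * α) = y r * C.t * (α * y r) * C.t * α := by group
        _ = y r * C.t * y r * (α * C.t) * α := by rw [cα]; group
        _ = (y r * C.t * y r) * C.t * (α * α) := by rw [← cαt]; group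
    rw [e1, D.ty r hr, αα, mul_one] at hw
    have e2 : C.t * x C r * C.t = x C r := by
      rw [D.tL _ (x_mem C r), mul_assoc, D.tt, mul_one]
    rw [e2] at hw
    exact x_ne C hr hw

/-- The action of `v` on the `y s`. -/
theorem v_y {v : G} (hv : C.IsLin v swO) {s : E} (hs : s ∈ Φ) :
    v * y s * v⁻¹ = y (g0 s) ∨ v * y s * v⁻¹ = y (g0 s) * x C (g0 s) := by
  have hvt : v * C.t = C.t * v := hv.1
  refine uniq D (g0_mem s hs).1 ?_ ?_ ?_
  · calc v * y s * v⁻¹ * (v * y s * v⁻¹) = v * (y s * y s) * v⁻¹ := by group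
      _ = 1 := by rw [D.y_sq s hs]; group
  · rw [← v_x hv hs]
    have e1 : v⁻¹ * C.t * v = C.t := by rw [mul_assoc, ← hvt, inv_mul_cancel_left]
    calc v * y s * v⁻¹ * C.t * (v * y s * v⁻¹) = v * (y s * (v⁻¹ * C.t * v) * y s) * v⁻¹ := by group
      _ = v * (C.t * x C s) * v⁻¹ := by rw [e1, D.ty s hs]
      _ = (v * C.t) * x C s * v⁻¹ := by group
      _ = C.t * (v * x C s * v⁻¹) := by rw [hvt]; group
  · intro h hh h1
    rw [← v_x hv hs] at h1
    have h2 : v⁻¹ * h * v * x C s = x C s * (v⁻¹ * h * v) := by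
      calc v⁻¹ * h * v * x C s = v⁻¹ * (h * (v * x C s * v⁻¹)) * v := by group
        _ = x C s * (v⁻¹ * h * v) := by rw [h1]; group
    have h3 := D.yC s hs _ (v_L hv hh) h2
    calc v * y s * v⁻¹ * h = v * (y s * (v⁻¹ * h * v)) * v⁻¹ := by group
      _ = h * (v * y s * v⁻¹) := by rw [← h3]; group

/-- `v` is an involution. -/
theorem v_sq {v : G} (hv : C.IsLin v swO) : v * v = 1 := by
  have h1 := hv.mul hv
  rw [swO_sq] at h1
  rcases h1.eq_of_one with h2 | h2
  · exact h2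
  · exfalso
    have hz : DoubRoot.zr ∈ Φ := by decide
    have hgz : g0 DoubRoot.zr = DoubRoot.zr := by decide
    set z := DoubRoot.zr with hzd
    have h3 := v_y D hv hz
    rw [hgz] at h3
    have h4 : v * x C z * v⁻¹ = x C z := by rw [v_x hv hz, hgz]
    have h5 : v * v * y z * (v * v)⁻¹ = y z := by
      rcases h3 with h3 | h3
      · calc v * v * y z * (v * v)⁻¹ = v * (v * y z * v⁻¹) * v⁻¹ := by group
          _ = y z := by rw [h3, h3]
      · calc v * v * y z * (v * v)⁻¹ = v * (v * y z * v⁻¹) * v⁻¹ := by group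
          _ = v * (y z * x C z) * v⁻¹ := by rw [h3]
          _ = (v * y z * v⁻¹) * (v * x C z * v⁻¹) := by group
          _ = y z * (x C z * x C z) := by rw [h3, h4]; group
          _ = y z := by rw [x_sq, mul_one]
    rw [h2] at h5
    have h6 := D.ty z hz
    have h7 : y z * C.t * y z = C.t := by
      calc y z * C.t * y z = (C.t * y z * C.t⁻¹) * C.t * y z := by rw [h5]
        _ = C.t * (y z * y z) := by group
        _ = C.t := by rw [D.y_sq z hz, mul_one]
    rw [h7] at h6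
    exact x_ne C hz (left_eq_mul.1 h6)

/-- Passing from one fixed root to another. -/
theorem pass {v : G} (hv : C.IsLin v swO) {a b : E} (ha : a ∈ Φ) (hb : b ∈ Φ) (gb : g0 b = b)
    (gba : g0 (b - a) = b - a) (hba : b - a ∈ Φ) (hab : ip a (b - a) = -1) (h : v * y a * v⁻¹ = y a) :
    v * y b * v⁻¹ = y b := by
  have h1 := v_y D hv hb
  rw [gb] at h1
  rcases h1 with h1 | h1
  · exact h1
  exfalso
  obtain ⟨κ, hκ, e⟩ := D.lemA' D4Root.root ha hba hab
  have eab : a + (b - a) = b := by abel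
  rw [eab] at hκ e
  have hx : ∀ {s : E}, s ∈ Φ → g0 s = s → v * x C s * v⁻¹ = x C s := fun {s} hs hg => by rw [v_x hv hs, hg]
  have vκ : v * κ * v⁻¹ = κ := by
    rcases hκ with h | h <;> rw [h]
    · group
    · exact hx hb gb
  have e2 : v * (x C (b - a) * y a * x C (b - a)) * v⁻¹ = x C (b - a) * y a * x C (b - a) := by
    calc v * (x C (b - a) * y a * x C (b - a)) * v⁻¹ =
        (v * x C (b - a) * v⁻¹) * (v * y a * v⁻¹) * (v * x C (b - a) * v⁻¹) := by group
      _ = _ := by rw [hx hba gba, h]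
  rw [e] at e2
  have e3 : v * (y b * y a * κ) * v⁻¹ = y b * x C b * y a * κ := by
    calc v * (y b * y a * κ) * v⁻¹ = (v * y b * v⁻¹) * (v * y a * v⁻¹) * (v * κ * v⁻¹) := by group
      _ = _ := by rw [h1, h, vκ]
  rw [e3] at e2
  have e4 : y b * x C b = y b := mul_right_cancel (mul_right_cancel e2)
  exact x_ne C hb (mul_eq_left.1 e4)

theorem all_fixed {v : G} (hv : C.IsLin v swO) (h : v * y DoubRoot.zr * v⁻¹ = y DoubRoot.zr) {s : E} (hs : s ∈ Φ)
    (gs : g0 s = s) : v * y s * v⁻¹ = y s := by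
  obtain ⟨a, ha, b, hb, ga, gb, h1, h2, h3⟩ := path s hs gs
  have hz : DoubRoot.zr ∈ Φ := by decide
  have hgz : g0 DoubRoot.zr = DoubRoot.zr := by decide
  have e1 : v * y a * v⁻¹ = y a := by
    rcases h1 with h1 | ⟨h1, h1', h1''⟩
    · rw [← h1]; exact h
    · exact pass D hv hz ha ga h1 h1' h1'' h
  have e2 : v * y b * v⁻¹ = y b := by
    rcases h2 with h2 | ⟨h2, h2', h2''⟩
    · rw [← h2]; exact e1
    · exact pass D hv ha hb gb h2 h2' h2'' e1
  rcases h3 with h3 | ⟨h3, h3', h3''⟩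
  · rw [← h3]; exact e2
  · exact pass D hv hb hs gs h3 h3' h3'' e2

end Data

/-- The reflection. -/
structure IsF (C : Ctx G) (y : E → G) (f : G) : Prop where
  lin : C.IsLin f swO
  ff : f * f = 1
  fx : ∀ s ∈ Φ, f * x C s * f = x C (g0 s)
  fy : ∀ s ∈ Φ, f * y s * f = y (g0 s) ∨ f * y s * f = y (g0 s) * x C (g0 s)
  fix : ∀ s ∈ Φ, g0 s = s → f * y s * f = y s

/-- **Existence of the reflection.** -/
theorem exists_f [Finite G] {y : E → G} (D : Data ip Φ C.t C.L (x C) y)
    (hev : ¬ Odd ((C.L ⊔ Subgroup.zpowers C.t).relIndex (Subgroup.centralizer {C.t}))) : ∃ f, IsF C y f := by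
  have key : ∀ v, C.IsLin v swO → v * y DoubRoot.zr * v⁻¹ = y DoubRoot.zr → IsF C y v := by
    intro v hv h
    have hvv := v_sq D hv
    have vinv : v⁻¹ = v := inv_eq_of_mul_eq_one_left hvv
    refine ⟨hv, hvv, fun s hs => ?_, fun s hs => ?_, fun s hs gs => ?_⟩
    · have := v_x hv hs
      rwa [vinv] at this
    · have := v_y D hv hs
      rwa [vinv] at this
    · have := all_fixed D hv h hs gs
      rwa [vinv] at this
  obtain ⟨v, hv⟩ := exists_v C hev
  have hz : DoubRoot.zr ∈ Φ := by decide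
  have hgz : g0 DoubRoot.zr = DoubRoot.zr := by decide
  have h1 := v_y D hv hz
  rw [hgz] at h1
  rcases h1 with h1 | h1
  · exact ⟨v, key v hv h1⟩
  · have hv' : C.IsLin (C.t * v) swO := by
      have := C.isLin_t.mul hv
      rwa [one_mul] at this
    refine ⟨C.t * v, key _ hv' ?_⟩
    set z := DoubRoot.zr
    have e1 : C.t * y z * C.t = y z * x C z := by
      have e2 := D.ty z hz
      have e3 := D.y_sq z hz
      have e4 := D.tL _ (x_mem C z)
      have e5 := yx_self D hz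
      calc C.t * y z * C.t = (y z * y z) * C.t * y z * C.t := by rw [e3, one_mul]
        _ = y z * (y z * C.t * y z) * C.t := by group
        _ = y z * (C.t * x C z) * C.t := by rw [e2]
        _ = y z * (x C z * (C.t * C.t)) := by rw [e4]; group
        _ = y z * x C z := by rw [D.tt, mul_one]
    have tx : C.t * x C z * C.t = x C z := by rw [D.tL _ (x_mem C z), mul_assoc, D.tt, mul_one]
    calc C.t * v * y z * (C.t * v)⁻¹ = C.t * (v * y z * v⁻¹) * C.t⁻¹ := by group
      _ = C.t * (y z * x C z) * C.t := by rw [h1, C.t_inv]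
      _ = C.t * y z * 1 * x C z * C.t := by group
      _ = C.t * y z * (C.t * C.t) * x C z * C.t := by rw [D.tt]
      _ = (C.t * y z * C.t) * (C.t * x C z * C.t) := by group
      _ = y z * (x C z * x C z) := by rw [e1, tx]; group
      _ = y z := by rw [x_sq, mul_one]

end Cfsg.Agent.StdO8.EvenF
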