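import Mathlib
import Cfsg.Agent.StdO8.FactK
import Cfsg.Agent.StdO8.EvenLin

/-!
# A graph automorphism in `C(t)` makes `|C(t) : ⟨t⟩ L|` even
-/

set_option autoImplicit false

namespace Cfsg.Agent.StdO8.ParityX

open Cfsg.Agent.StdO8.Model Cfsg.Agent.StdO8.Code Cfsg.Agent.StdO8.Gen Cfsg.Agent.StdO8.FactD
open Cfsg.Agent.StdO8.Aut Cfsg.Agent.StdO8.Frame Cfsg.Agent.StdO8.FactK
open Cfsg.Agent.StdO8.DoubRoot (zr al oj gam)
open Cfsg.Agent.StdO8.DataOf (x xm)
open Cfsg.Agent.StdO8.D4Root (E ip roots Φ)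

/-- a c2 element moves some vector to a vector not orthogonal to it -/
theorem c2_B {c : V ≃ₗ[ZMod 2] V} (h : IsC2 c) : ∃ v, B v (c v) = 1 := by
  obtain ⟨u', w', hu', hu0', huw', hw', rfl⟩ := h
  obtain ⟨v, hv⟩ : ∃ v, B u' v ≠ 0 := by
    by_contra hcon
    push Not at hcon
    exact hu0' (nondeg hcon)
  have hv1 : B u' v = 1 := (z2 _).resolve_left hv
  refine ⟨v, ?_⟩
  rw [X_apply' hu' huw', B_add_right, B_add_right, B_add_right, B_self, B_smul_right, B_smul_right,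
      B_smul_right, B_comm v u', B_comm v w', hw', hv1, zero_add, one_mul, mul_one, mul_one,
      Cfsg.Agent.StdO8.Root.z2_add_self, zero_add, mul_one]

theorem not_c2 {l : List (ℕ × ℕ)} (hl : l.all ok = true) (h : (List.range 256).all (fun v => !Bn v (ev l v)) = true) :
    ¬ IsC2 ((word l : Om) : V ≃ₗ[ZMod 2] V) := by
  intro hc
  obtain ⟨v, hv⟩ := c2_B hc
  obtain ⟨n, hn, rfl⟩ := dec_surj v
  rw [word_dec hl, B_dec] at hv
  rw [List.all_eq_true] at h
  have := h n (List.mem_range.2 hn)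
  rw [Bool.not_eq_true'] at this
  rw [this] at hv
  exact absurd hv (by decide)

theorem τ12_c2 : IsC2 ((τO 1 * τO 2 : Om) : V ≃ₗ[ZMod 2] V) := by
  refine ⟨dec 4, dec 128 + dec 8, by rw [q_dec]; decide, dec_ne_zero (by norm_num) (by norm_num), ?_, ?_, ?_⟩
  · rw [B_add_right, B_dec, B_dec]; decide
  · rw [← dec_xor, q_dec]; decide
  · have e1 : (τO 1 : V ≃ₗ[ZMod 2] V) = X (dec 4) (dec 128) := by
      have : τO 1 = gen (4, 128) := FactH.gen_eq _ rfl
      rw [this]; rfl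
    have e2 : (τO 2 : V ≃ₗ[ZMod 2] V) = X (dec 4) (dec 8) := by
      have : τO 2 = gen (4, 8) := FactH.gen_eq _ rfl
      rw [this]; rfl
    show (τO 1 : V ≃ₗ[ZMod 2] V) * (τO 2 : V ≃ₗ[ZMod 2] V) = _
    rw [e1, e2]
    exact X_mul (by rw [q_dec]; decide) (by rw [B_dec]; decide) (by rw [B_dec]; decide)

theorem τ10_not : ¬ IsC2 ((τO 1 * τO 0 : Om) : V ≃ₗ[ZMod 2] V) := by
  have h := not_c2 (l := Gw 6 ++ Gw 5) (by decide +kernel) (by decide +kernel)
  rwa [word_append] at h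

theorem τ02_not : ¬ IsC2 ((τO 0 * τO 2 : Om) : V ≃ₗ[ZMod 2] V) := by
  have h := not_c2 (l := Gw 5 ++ Gw 7) (by decide +kernel) (by decide +kernel)
  rwa [word_append] at h

variable {G : Type*} [Group G] (C : Ctx G)

theorem gam_gam : ∀ i : Fin 3, ∀ s ∈ roots, gam (oj i) (DoubRoot.ok i) s ∈ roots ∧
    gam (oj i) (DoubRoot.ok i) (gam (oj i) (DoubRoot.ok i) s) = s := by decide +kernel

theorem gam_al : gam (oj 1) (DoubRoot.ok 1) (al 1) = al 1 ∧ gam (oj 1) (DoubRoot.ok 1) (al 2) = al 0 ∧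
    gam (oj 2) (DoubRoot.ok 2) (al 1) = al 0 ∧ gam (oj 2) (DoubRoot.ok 2) (al 2) = al 2 := by decide

theorem al_mem : ∀ i : Fin 3, al i ∈ roots := by decide

/-- An element of `C(t)` centralising all root elements is `1` or `t`. -/
theorem cent_all {g : G} (hg : g * C.t = C.t * g) (h : ∀ s ∈ Φ, g * x C s * g⁻¹ = x C s) : g = 1 ∨ g = C.t := by
  refine C.cent g hg fun m => ?_
  have h1 : (⊤ : Subgroup Om) ≤ (Subgroup.centralizer {g}).comap C.r := by
    rw [← Tri.gen, Subgroup.closure_le]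
    rintro _ ⟨s, hs, rfl⟩
    show C.r (xm s) ∈ Subgroup.centralizer {g}
    rw [Subgroup.mem_centralizer_singleton_iff]
    exact (mul_inv_eq_iff_eq_mul.1 (h s hs)).symm
  have h2 : C.r m ∈ Subgroup.centralizer {g} := h1 (Subgroup.mem_top m)
  exact (Subgroup.mem_centralizer_singleton_iff.1 h2).symm

/-- a graph element is not in `L⟨t⟩` -/
theorem not_inner {i : Fin 3} {v : G} (h : DoubRoot.Graph C.t (x C) (oj i) (DoubRoot.ok i) v) {m : Om}
    (hm : C.IsLin v (Ctx.up m)) : False := by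
  have h1 : ∀ s ∈ Φ, m * xm s * m⁻¹ = xm (gam (oj i) (DoubRoot.ok i) s) := by
    intro s hs
    apply C.inj
    have := h.vx s hs
    rw [show x C s = C.r (xm s) from rfl, hm.2] at this
    exact this
  have hi : i = 0 ∨ i = 1 ∨ i = 2 := by
    have : ∀ i : Fin 3, i = 0 ∨ i = 1 ∨ i = 2 := by decide
    exact this i
  have hτ : ∀ i, xm (al i) = τO i := FactH.xm_τ
  have hc2 : IsC2 ((m * (τO 1 * τO 2) * m⁻¹ : Om) : V ≃ₗ[ZMod 2] V) :=
    τ12_c2.conj (M := (m : V ≃ₗ[ZMod 2] V)) (Om_le m.2)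
  have e : m * (τO 1 * τO 2) * m⁻¹ = (m * xm (al 1) * m⁻¹) * (m * xm (al 2) * m⁻¹) := by
    rw [hτ, hτ]; group
  rcases hi with rfl | rfl | rfl
  · -- linear, but not in `Om`
    have h2 : ∀ s ∈ Φ, Graph.sw * (xm s : V ≃ₗ[ZMod 2] V) * Graph.sw = m * xm s * (m : V ≃ₗ[ZMod 2] V)⁻¹ := by
      intro s hs
      have h3 := congrArg Subtype.val (h1 s hs)
      have h4 : Graph.sw * (xm s : V ≃ₗ[ZMod 2] V) * Graph.sw = (xm (gam 1 2 s) : V ≃ₗ[ZMod 2] V) :=
        Graph.sw_xO hs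
      rw [h4]
      exact h3.symm
    have h3 : ∀ m', cj (⟨Graph.sw, Graph.sw_mem⟩⁻¹ * Ctx.up m) m' = m' := by
      intro m'
      have h4 : (⊤ : Subgroup Om) ≤ (MonoidHom.eqLocus (cj (⟨Graph.sw, Graph.sw_mem⟩⁻¹ * Ctx.up m)).toMonoidHom
          (MonoidHom.id Om)) := by
        rw [← Tri.gen, Subgroup.closure_le]
        rintro _ ⟨s, hs, rfl⟩
        show cj (⟨Graph.sw, Graph.sw_mem⟩⁻¹ * Ctx.up m) (xm s) = xm s
        apply Subtype.ext
        rw [cj_coe]
        show Graph.sw⁻¹ * (m : V ≃ₗ[ZMod 2] V) * (xm s) * (Graph.sw⁻¹ * (m : V ≃ₗ[ZMod 2] V))⁻¹ = xm s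
        have h5 : Graph.sw⁻¹ * (m : V ≃ₗ[ZMod 2] V) * (xm s) * (Graph.sw⁻¹ * (m : V ≃ₗ[ZMod 2] V))⁻¹ =
            Graph.sw⁻¹ * ((m : V ≃ₗ[ZMod 2] V) * (xm s) * (m : V ≃ₗ[ZMod 2] V)⁻¹) * Graph.sw := by group
        rw [h5, ← h2 s hs]
        have h6 : Graph.sw⁻¹ * (Graph.sw * (xm s : V ≃ₗ[ZMod 2] V) * Graph.sw) * Graph.sw =
          (xm s : V ≃ₗ[ZMod 2] V) * (Graph.sw * Graph.sw) := by group
        rw [h6, Graph.sw_sq, mul_one]
      exact h4 (Subgroup.mem_top m')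
    have h4 := Ctx.eq_one_of_cj h3
    have h5 : Graph.sw = (m : V ≃ₗ[ZMod 2] V) := congrArg Subtype.val (inv_mul_eq_one.1 h4)
    exact EvenLin.sw_notMem (by rw [h5]; exact m.2)
  · rw [e, h1 _ (al_mem 1), h1 _ (al_mem 2), gam_al.1, gam_al.2.1, hτ, hτ] at hc2
    exact τ10_not hc2
  · rw [e, h1 _ (al_mem 1), h1 _ (al_mem 2), gam_al.2.2.1, gam_al.2.2.2, hτ, hτ] at hc2
    exact τ02_not hc2

theorem sup_normal [Finite G] :
    ((C.L ⊔ Subgroup.zpowers C.t).subgroupOf (Subgroup.centralizer {C.t})).Normal := by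
  refine ⟨fun l hl g => ?_⟩
  rw [Subgroup.mem_subgroupOf] at hl ⊢
  have hg : (g : G) * C.t = C.t * g := Subgroup.mem_centralizer_singleton_iff.1 g.2
  have h1 : C.L ⊔ Subgroup.zpowers C.t ≤ (C.L ⊔ Subgroup.zpowers C.t).comap (MulAut.conj (g : G)).toMonoidHom := by
    rw [sup_le_iff, Subgroup.zpowers_le]
    refine ⟨fun l hl => ?_, ?_⟩
    · exact Subgroup.mem_sup_left (L_normal C hg hl)
    · show (g : G) * C.t * (g : G)⁻¹ ∈ C.L ⊔ Subgroup.zpowers C.t
      rw [hg, mul_inv_cancel_right]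
      exact Subgroup.mem_sup_right (Subgroup.mem_zpowers _)
  exact h1 hl

theorem mem_sup_iff {g : G} (h : g ∈ C.L ⊔ Subgroup.zpowers C.t) : g ∈ C.L ∨ C.t * g ∈ C.L := by
  have h1 : C.L ⊔ Subgroup.zpowers C.t ≤ (Lin C.t C.r) := by
    rw [sup_le_iff, Subgroup.zpowers_le]
    exact ⟨fun l hl => by obtain ⟨m, rfl⟩ := hl; exact C.mem_Lin.2 ⟨_, C.isLin_r m⟩, C.mem_Lin.2 ⟨_, C.isLin_t⟩⟩
  have key : ∀ g ∈ C.L ⊔ Subgroup.zpowers C.t, g ∈ C.L ∨ C.t * g ∈ C.L := by
    intro g hg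
    have hct : ∀ l ∈ C.L, l * C.t = C.t * l := fun l hl => Subgroup.mem_centralizer_singleton_iff.1 (L_le C hl)
    rw [Subgroup.sup_eq_closure] at hg
    induction hg using Subgroup.closure_induction with
    | mem y hy =>
      rcases hy with hy | hy
      · left; exact hy
      · obtain ⟨k, rfl⟩ := hy
        have h2 : C.t ^ (2 : ℤ) = 1 := by rw [zpow_ofNat, pow_two]; exact C.tt
        rcases Int.even_or_odd' k with ⟨m, rfl | rfl⟩
        · left
          show C.t ^ (2 * m) ∈ C.L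
          rw [zpow_mul, h2, one_zpow]; exact one_mem _
        · right
          show C.t * C.t ^ (2 * m + 1) ∈ C.L
          rw [zpow_add, zpow_mul, h2, one_zpow, one_mul, zpow_one, C.tt]; exact one_mem _
    | one => left; exact one_mem _
    | mul a b _ _ ha hb =>
      rcases ha with ha | ha <;> rcases hb with hb | hb
      · left; exact mul_mem ha hb
      · right
        have : C.t * (a * b) = a * (C.t * b) := by rw [← mul_assoc, ← hct a ha, mul_assoc]
        rw [this]; exact mul_mem ha hb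
      · right
        rw [← mul_assoc]; exact mul_mem ha hb
      · left
        have h3 := mul_mem ha hb
        have h4 : C.t * a * (C.t * b) = a * b := by
          have h5 := hct _ ha
          calc C.t * a * (C.t * b) = (C.t * a * C.t) * b := by group
            _ = C.t * (C.t * a) * b := by rw [h5]
            _ = (C.t * C.t) * a * b := by group
            _ = _ := by rw [C.tt, one_mul]
        rwa [h4] at h3
    | inv a _ ha =>
      rcases ha with ha | ha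
      · left; exact inv_mem ha
      · right
        have h3 := inv_mem ha
        have h4 := hct _ h3
        have h5 : C.t * a⁻¹ = (C.t * a)⁻¹ := by
          have e1 : a⁻¹ = (C.t * a)⁻¹ * C.t := by group
          rw [e1, h4, ← mul_assoc, C.tt, one_mul]
        rw [h5]; exact h3
  exact key g h

/-- **(g)** -/
theorem even_of_graph [Finite G] {i : Fin 3} {v : G}
    (h : DoubRoot.Graph C.t (x C) (oj i) (DoubRoot.ok i) v) :
    ¬ Odd ((C.L ⊔ Subgroup.zpowers C.t).relIndex (Subgroup.centralizer {C.t})) := by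
  intro hodd
  set K : Subgroup G := Subgroup.centralizer {C.t} with hK
  set H : Subgroup K := (C.L ⊔ Subgroup.zpowers C.t).subgroupOf K with hH
  have hN : H.Normal := sup_normal C
  have hodd' : Odd (Nat.card (K ⧸ H)) := hodd
  have hvK : v ∈ K := Subgroup.mem_centralizer_singleton_iff.2 h.vt
  -- `v²` is `1` or `t`
  have hsq : v * v = 1 ∨ v * v = C.t := by
    apply cent_all C
    · have : Commute v C.t := h.vt
      exact (this.mul_left this).eq
    · intro s hs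
      have e1 : v * v * x C s * (v * v)⁻¹ = v * (v * x C s * v⁻¹) * v⁻¹ := by group
      rw [e1, h.vx s hs, h.vx _ (gam_gam i s hs).1, (gam_gam i s hs).2]
  have h1 : ((⟨v, hvK⟩ : K) : K ⧸ H) ^ 2 = 1 := by
    rw [pow_two, ← QuotientGroup.mk_mul, QuotientGroup.eq_one_iff, hH, Subgroup.mem_subgroupOf]
    show v * v ∈ _
    rcases hsq with h2 | h2
    · rw [h2]; exact one_mem _
    · rw [h2]; exact Subgroup.mem_sup_right (Subgroup.mem_zpowers _)
  have h2 : ((⟨v, hvK⟩ : K) : K ⧸ H) = 1 := by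
    have h3 : orderOf ((⟨v, hvK⟩ : K) : K ⧸ H) ∣ 2 := orderOf_dvd_of_pow_eq_one h1
    have h4 : orderOf ((⟨v, hvK⟩ : K) : K ⧸ H) ∣ Nat.card (K ⧸ H) := orderOf_dvd_natCard _
    have h5 : Nat.Coprime 2 (Nat.card (K ⧸ H)) := Nat.coprime_two_left.2 hodd'
    have h6 := Nat.dvd_gcd h3 h4
    rw [h5] at h6
    exact orderOf_eq_one_iff.1 (Nat.dvd_one.1 h6)
  rw [QuotientGroup.eq_one_iff, hH, Subgroup.mem_subgroupOf] at h2
  rcases mem_sup_iff C h2 with h3 | h3
  · obtain ⟨m, hm⟩ := h3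
    exact not_inner C h (m := m) (by
      have := C.isLin_r m
      rw [hm] at this
      exact this)
  · obtain ⟨m, hm⟩ := h3
    have e : v = C.t * C.r m := by
      rw [hm]
      show v = C.t * (C.t * v)
      rw [← mul_assoc, C.tt, one_mul]
    refine not_inner C h (m := m) ?_
    have := C.isLin_t.mul (C.isLin_r m)
    rw [one_mul, ← e] at this
    exact this

end Cfsg.Agent.StdO8.ParityX
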