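import Cfsg.Agent.StdO8.Model
import Cfsg.Agent.AutOrth.Gen

/-!
# A subgroup of `Ω₈⁺(2)` containing a root element, closed under local commutators, is everything
-/

set_option autoImplicit false

namespace Cfsg.Agent.StdO8.RootJ

open QuadraticMap Cfsg.Agent.LieClassical.OrthCore Cfsg.Agent.LieClassical.OrthTrans
  Cfsg.Agent.LieClassical.OrthSimple Cfsg.Agent.LieClassical.OrthFinite Cfsg.Agent.AutOrth.Main
  Cfsg.Agent.StdO8.Model

/-! ### linear algebra -/

/-- A vector orthogonal to two vectors and not to a third one. -/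
theorem exists_sep3 {a b s : V} (h0 : s ≠ 0) (h1 : s ≠ a) (h2 : s ≠ b) (h3 : s ≠ a + b) :
    ∃ y, B a y = 0 ∧ B b y = 0 ∧ B s y = 1 := by
  by_contra hcon
  push Not at hcon
  have key : (polarBilin q s) ∈ Submodule.span (ZMod 2) (Set.range ![polarBilin q a, polarBilin q b]) := by
    apply mem_span_of_iInf_ker_le_ker
    intro y hy
    rw [Submodule.mem_iInf] at hy
    have e0 : B a y = 0 := hy 0
    have e1 : B b y = 0 := hy 1
    exact (z2 _).resolve_right (hcon y e0 e1)
  rw [Matrix.range_cons, Matrix.range_cons, Matrix.range_empty, Set.union_empty] at key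
  obtain ⟨α, β, hαβ⟩ := Submodule.mem_span_pair.1 key
  have hs : s = α • a + β • b := by
    apply eq_of_B
    intro w
    have := LinearMap.congr_fun hαβ w
    rw [B_add_left, B_smul_left, B_smul_left]
    exact this.symm
  rcases z2 α with rfl | rfl <;> rcases z2 β with rfl | rfl <;>
    simp only [zero_smul, one_smul, zero_add, add_zero] at hs
  · exact h0 hs
  · exact h2 hs
  · exact h1 hs
  · exact h3 hs

/-- A nonsingular vector orthogonal to three vectors. -/
theorem exists_nonsing3 (a b c : V) : ∃ d, B a d = 0 ∧ B b d = 0 ∧ B c d = 0 ∧ q d = 1 := by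
  by_contra hcon
  push Not at hcon
  let f : V →ₗ[ZMod 2] (Fin 3 → ZMod 2) := LinearMap.pi fun i => polarBilin q (![a, b, c] i)
  have h1 := LinearMap.finrank_range_add_finrank_ker f
  have h2 : Module.finrank (ZMod 2) (LinearMap.range f) ≤ 3 := by
    refine le_trans (Submodule.finrank_le _) ?_
    rw [Module.finrank_fin_fun]
  rw [finrank_V] at h1
  have hq : ∀ d ∈ LinearMap.ker f, q d = 0 := by
    intro d hd
    have e := LinearMap.mem_ker.1 hd
    have e0 : B a d = 0 := congrFun e 0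
    have e1 : B b d = 0 := congrFun e 1
    have e2 : B c d = 0 := congrFun e 2
    exact (z2 _).resolve_right (hcon d e0 e1 e2)
  have hnd : (polarBilin q).Nondegenerate := by
    constructor
    · intro x hx
      exact nondeg hx
    · intro x hx
      apply nondeg
      intro y
      rw [B_comm]
      exact hx y
  have hle : LinearMap.ker f ≤ LinearMap.BilinForm.orthogonal (polarBilin q) (LinearMap.ker f) := by
    intro d hd
    rw [LinearMap.BilinForm.mem_orthogonal_iff]
    intro d' hd'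
    show B d' d = 0
    have := q_add d' d
    rw [hq d hd, hq d' hd', hq _ (Submodule.add_mem _ hd' hd)] at this
    simpa using this.symm
  have h3 := LinearMap.BilinForm.finrank_orthogonal hnd (LinearMap.ker f)
  have h4 := Submodule.finrank_mono hle
  rw [h3, finrank_V] at h4
  omega

/-- A singular vector orthogonal to a line and not on it. -/
theorem exists_sing_off {p e : V} (hp : p ≠ 0) (he : e ≠ 0) (hpe : p ≠ e) :
    ∃ v, q v = 0 ∧ B p v = 0 ∧ B e v = 0 ∧ v ≠ 0 ∧ v ≠ p ∧ v ≠ e ∧ v ≠ p + e := by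
  obtain ⟨p', a1, a2⟩ := exists_B hp he hpe 1 0
  obtain ⟨e', a3, a4⟩ := exists_B hp he hpe 0 1
  obtain ⟨v, hv0, hv, hi⟩ := exists_sing_perp (Q := q) ![p, e, p', e'] (by rw [finrank_V]; norm_num)
  have e0 : B p v = 0 := hi 0
  have e1 : B e v = 0 := hi 1
  have e2 : B p' v = 0 := hi 2
  have e3 : B e' v = 0 := hi 3
  refine ⟨v, hv, e0, e1, hv0, ?_, ?_, ?_⟩
  · rintro rfl
    rw [B_comm, a1] at e2; exact absurd e2 (by decide)
  · rintro rfl
    rw [B_comm, a4] at e3; exact absurd e3 (by decide)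
  · rintro rfl
    rw [B_comm, B_add_left, a1, a2] at e2; exact absurd e2 (by decide)

/-- Moving a singular vector to an opposite one. -/
theorem exists_move {a b s : V} (hs : q s = 0) (hsa : B a s = 0) (hsb : B b s = 0) (h0 : s ≠ 0)
    (h1 : s ≠ a) (h2 : s ≠ b) (h3 : s ≠ a + b) : ∃ x ∈ Om, x a = a ∧ x b = b ∧ B s (x s) = 1 := by
  obtain ⟨c0, e1, e2, e3⟩ := exists_sep3 h0 h1 h2 h3
  obtain ⟨c, hc, ha, hb, hcs⟩ : ∃ c, q c = 0 ∧ B a c = 0 ∧ B b c = 0 ∧ B s c = 1 := by
    rcases z2 (q c0) with h | h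
    · exact ⟨c0, h, e1, e2, e3⟩
    · refine ⟨c0 + s, ?_, ?_, ?_, ?_⟩
      · rw [q_add, h, hs, B_comm, e3]; decide
      · rw [B_add_right, e1, hsa]; decide
      · rw [B_add_right, e2, hsb]; decide
      · rw [B_add_right, e3, B_self]; decide
  obtain ⟨d, d1, d2, d3, d4⟩ := exists_nonsing3 a b c
  refine ⟨X c d, X_mem _ _, ?_, ?_, ?_⟩
  · rw [X_apply' hc d3, B_comm c a, ha, B_comm d a, d1]; simp
  · rw [X_apply' hc d3, B_comm c b, hb, B_comm d b, d2]; simp
  · rw [X_apply' hc d3, d4, B_comm c s, hcs, B_add_right, B_add_right, B_add_right, B_smul_right,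
      B_smul_right, B_smul_right, B_self, hcs, B_comm d s]
    have : ∀ x : ZMod 2, 0 + 1 * x + x * 1 + 1 * 1 * 1 = 1 := by decide
    exact this _

theorem X_ne_one {u w : V} (hu : q u = 0) (h : B u w = 0) (h1 : u ≠ 0) (h2 : w ≠ 0) (h3 : u ≠ w) :
    X u w ≠ 1 := by
  intro he
  obtain ⟨v, e1, e2⟩ := exists_B h1 h2 h3 0 1
  have := X_apply' hu h v
  rw [he, e1, e2] at this
  simp only [zero_smul, one_smul, mul_zero, add_zero] at this
  exact h1 (left_eq_add.1 this)

/-- An isometry which is the identity on the orthogonal space of a line. -/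
theorem eq_of_fix_perp {b : V ≃ₗ[ZMod 2] V} (hb : b ∈ O8) {p e : V} (hp : q p = 0) (he : q e = 0)
    (hpe : B p e = 0) (hp0 : p ≠ 0) (he0 : e ≠ 0) (hne : p ≠ e)
    (hfix : ∀ v, B p v = 0 → B e v = 0 → b v = v) : b = 1 ∨ b = X p e := by
  obtain ⟨p', a1, a2⟩ := exists_B hp0 he0 hne 1 0
  obtain ⟨e', a3, a4⟩ := exists_B hp0 he0 hne 0 1
  have hbp : b p = p := hfix p (B_self p) (by rw [B_comm]; exact hpe)
  have hbe : b e = e := hfix e hpe (B_self e)
  -- `b u + u` is in the line
  have hmem : ∀ u, b u + u = 0 ∨ b u + u = p ∨ b u + u = e ∨ b u + u = p + e := by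
    intro u
    by_contra hcon
    push Not at hcon
    obtain ⟨y, y1, y2, y3⟩ := exists_sep3 hcon.1 hcon.2.1 hcon.2.2.1 hcon.2.2.2
    have := O8_B hb u y
    rw [hfix y y1 y2] at this
    rw [B_add_left, this] at y3
    have h2 : ∀ x : ZMod 2, x + x ≠ 1 := by decide
    exact h2 _ y3
  have hq : ∀ u, B (b u + u) u = 0 := by
    intro u
    have h1 : b u = u + (b u + u) := by
      calc b u = (u + u) + b u := by rw [add_self, zero_add]
        _ = u + (b u + u) := by abel
    have h2 := O8_q hb u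
    rw [h1, q_add] at h2
    have h3 : q (b u + u) = 0 := by
      rcases hmem u with h | h | h | h <;> rw [h]
      · exact q_zero
      · exact hp
      · exact he
      · rw [q_add, hp, he, hpe]; decide
    rw [h3, add_zero] at h2
    rw [B_comm]
    simpa using h2
  -- values on the dual vectors
  have key : ∀ u, B p u = 1 → B e u = 0 → b u = u ∨ b u = u + e := by
    intro u u1 u2
    have h1 : b u = u + (b u + u) := by
      calc b u = (u + u) + b u := by rw [add_self, zero_add]
        _ = u + (b u + u) := by abel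
    have h2 := hq u
    rcases hmem u with h | h | h | h <;> rw [h] at h1 h2
    · left; rw [h1, add_zero]
    · rw [u1] at h2; exact absurd h2 (by decide)
    · right; exact h1
    · rw [B_add_left, u1, u2] at h2; exact absurd h2 (by decide)
  have key' : ∀ u, B p u = 0 → B e u = 1 → b u = u ∨ b u = u + p := by
    intro u u1 u2
    have h1 : b u = u + (b u + u) := by
      calc b u = (u + u) + b u := by rw [add_self, zero_add]
        _ = u + (b u + u) := by abel
    have h2 := hq u
    rcases hmem u with h | h | h | h <;> rw [h] at h1 h2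
    · left; rw [h1, add_zero]
    · right; exact h1
    · rw [u2] at h2; exact absurd h2 (by decide)
    · rw [B_add_left, u1, u2] at h2; exact absurd h2 (by decide)
  have hB := O8_B hb p' e'
  -- decomposition
  have hdec : ∀ v, ∃ w, (B p w = 0 ∧ B e w = 0) ∧ v = w + B p v • p' + B e v • e' := by
    intro v
    refine ⟨v + B p v • p' + B e v • e', ⟨?_, ?_⟩, ?_⟩
    · rw [B_add_right, B_add_right, B_smul_right, B_smul_right, a1, a3]
      have : ∀ x y : ZMod 2, x + x * 1 + y * 0 = 0 := by decide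
      exact this _ _
    · rw [B_add_right, B_add_right, B_smul_right, B_smul_right, a2, a4]
      have : ∀ x y : ZMod 2, y + x * 0 + y * 1 = 0 := by decide
      exact this _ _
    · have e1 := add_self (B p v • p')
      have e2 := add_self (B e v • e')
      calc v = v + (B p v • p' + B p v • p') + (B e v • e' + B e v • e') := by
              rw [e1, e2, add_zero, add_zero]
        _ = _ := by abel
  have hX := fun v => X_apply hp he hpe v
  rcases key p' a1 a2 with h1 | h1 <;> rcases key' e' a3 a4 with h2 | h2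
  · left
    ext v : 1
    obtain ⟨w, ⟨w1, w2⟩, hv⟩ := hdec v
    rw [hv, map_add, map_add, map_smul, map_smul, h1, h2, hfix w w1 w2]
    rfl
  · exfalso
    rw [h1, h2, B_add_right, B_comm p' p, a1] at hB
    have : ∀ x : ZMod 2, x + 1 ≠ x := by decide
    exact this _ hB
  · exfalso
    rw [h1, h2, B_add_left, a4] at hB
    have : ∀ x : ZMod 2, x + 1 ≠ x := by decide
    exact this _ hB
  · right
    ext v : 1
    obtain ⟨w, ⟨w1, w2⟩, hv⟩ := hdec v
    rw [hX, hv, map_add, map_add, map_smul, map_smul, h1, h2, hfix w w1 w2]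
    have e1 : B p (w + B p v • p' + B e v • e') = B p v := by rw [← hv]
    have e2 : B e (w + B p v • p' + B e v • e') = B e v := by rw [← hv]
    rw [e1, e2, smul_add, smul_add]
    abel

/-! ### the normalizer of `J` -/

section

variable {J : Subgroup (V ≃ₗ[ZMod 2] V)}

/-- `E_p` normalizes `J` -/
structure SS (J : Subgroup (V ≃ₗ[ZMod 2] V)) (p : V) : Prop where
  sing : q p = 0
  ne : p ≠ 0
  nor : ∀ v, B p v = 0 → ∀ j ∈ J, X p v * j * (X p v)⁻¹ ∈ J

/-- closure of `J` under the centralizers of its involutions -/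
def HJ (J : Subgroup (V ≃ₗ[ZMod 2] V)) : Prop :=
  ∀ a ∈ J, a ≠ 1 → a * a = 1 → ∀ x ∈ Om, x * a = a * x → ∀ j ∈ J, x * j * x⁻¹ ∈ J

theorem SS_of_mem (hJ : HJ J) {p v : V} (hp : q p = 0) (hv : B p v = 0) (hp0 : p ≠ 0)
    (hv0 : v ≠ 0) (hne : p ≠ v) (h : X p v ∈ J) : SS J p := by
  refine ⟨hp, hp0, fun w hw => hJ _ h (X_ne_one hp hv hp0 hv0 hne) (X_mul_self _ _) _ (X_mem _ _) ?_⟩
  rw [X_mul hp hw hv, X_mul hp hv hw, add_comm]

/-- opposite points -/
theorem SS_opp (hJO : J ≤ Om) (h1 : ∃ j ∈ J, j ≠ 1) {p p' : V} (hp : SS J p) (hp' : SS J p')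
    (h : B p p' = 1) : J = Om := by
  have hH : Hyp q p p' := ⟨hp.sing, hp'.sing, h⟩
  have hsup := Cfsg.Agent.AutOrth.Gen.sup_RS_eq_top good hH
  have hN : ∀ g ∈ Om, ∀ n ∈ J, g * n * g⁻¹ ∈ J := by
    have key : ∀ {p : V} (_ : SS J p) (hs : q p = 0),
        Cfsg.Agent.AutOrth.SemiSim.RS q p hs ≤ (Subgroup.normalizer (J : Set (V ≃ₗ[ZMod 2] V))).comap Om.subtype := by
      intro p hp hs g hg
      obtain ⟨w, hw, rfl⟩ := hg
      have e : ((Cfsg.Agent.AutOrth.SemiSim.sg q p w hs hw : Om) : V ≃ₗ[ZMod 2] V) = X p w :=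
        (X_eq hs hw).symm
      rw [Subgroup.mem_comap, Subgroup.mem_normalizer_iff]
      intro j
      show j ∈ J ↔ ((Cfsg.Agent.AutOrth.SemiSim.sg q p w hs hw : Om) : V ≃ₗ[ZMod 2] V) * j *
        ((Cfsg.Agent.AutOrth.SemiSim.sg q p w hs hw : Om) : V ≃ₗ[ZMod 2] V)⁻¹ ∈ J
      rw [e]
      refine ⟨fun hj => hp.nor w hw j hj, fun hj => ?_⟩
      have := hp.nor w hw _ hj
      rw [X_inv] at this
      rwa [show X p w * (X p w * j * X p w) * X p w = (X p w * X p w) * j * (X p w * X p w) by group,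
        X_mul_self, one_mul, mul_one] at this
    have hle : (⊤ : Subgroup Om) ≤ (Subgroup.normalizer (J : Set (V ≃ₗ[ZMod 2] V))).comap Om.subtype := by
      rw [← hsup]
      exact sup_le (key hp _) (key hp' _)
    intro g hg n hn
    have := hle (Subgroup.mem_top (⟨g, hg⟩ : Om))
    rw [Subgroup.mem_comap, Subgroup.mem_normalizer_iff] at this
    exact (this n).1 hn
  rcases good_normal_dichotomy good hJO hN with h2 | h2
  · exfalso
    obtain ⟨j, hj, hj1⟩ := h1
    obtain ⟨c, hc⟩ := h2 j hj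
    rcases z2 c with rfl | rfl
    · have := hc p
      rw [zero_smul] at this
      exact hp.ne (j.map_eq_zero_iff.1 this)
    · apply hj1
      ext v : 1
      rw [hc v, one_smul]; rfl
  · exact h2

/-- the set is stable under the normalizer -/
theorem SS_map {p : V} (hp : SS J p) {x : V ≃ₗ[ZMod 2] V} (hx : x ∈ O8)
    (hn : ∀ j ∈ J, x * j * x⁻¹ ∈ J) (hn' : ∀ j ∈ J, x⁻¹ * j * x ∈ J) : SS J (x p) := by
  refine ⟨by rw [O8_q hx]; exact hp.sing, fun h => hp.ne (x.map_eq_zero_iff.1 h), ?_⟩
  intro v hv j hj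
  obtain ⟨w, rfl⟩ := x.surjective v
  rw [O8_B hx] at hv
  rw [← X_conj hx]
  have := hn _ (hp.nor w hv _ (hn' j hj))
  rwa [show x * (X p w * (x⁻¹ * j * x) * (X p w)⁻¹) * x⁻¹ =
    x * X p w * x⁻¹ * j * (x * X p w * x⁻¹)⁻¹ by group] at this

theorem SS_map_of_comm (hJ : HJ J) {p : V} (hp : SS J p) {a : V ≃ₗ[ZMod 2] V} (ha : a ∈ J)
    (ha1 : a ≠ 1) (haa : a * a = 1) {x : V ≃ₗ[ZMod 2] V} (hx : x ∈ Om) (hxa : x * a = a * x) :
    SS J (x p) := by
  refine SS_map hp (Om_le hx) (hJ a ha ha1 haa x hx hxa) (fun j hj => ?_)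
  have h1 : x⁻¹ * a = a * x⁻¹ := by
    rw [inv_mul_eq_iff_eq_mul, ← mul_assoc, hxa, mul_inv_cancel_right]
  have := hJ a ha ha1 haa x⁻¹ (Om.inv_mem hx) h1 j hj
  rwa [inv_inv] at this

/-- a totally singular line -/
structure Ln (p e : V) : Prop where
  qp : q p = 0
  qe : q e = 0
  pe : B p e = 0
  p0 : p ≠ 0
  e0 : e ≠ 0
  ne : p ≠ e

theorem Ln.X_ne {p e : V} (h : Ln p e) : X p e ≠ 1 := X_ne_one h.qp h.pe h.p0 h.e0 h.ne

theorem Ln.symm {p e : V} (h : Ln p e) : Ln e p :=
  ⟨h.qe, h.qp, by rw [B_comm]; exact h.pe, h.e0, h.p0, h.ne.symm⟩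

theorem Ln.comm {p e : V} (h : Ln p e) : X p e = X e p := X_comm h.qp h.qe

theorem Ln.add {p e : V} (h : Ln p e) : Ln p (p + e) := by
  refine ⟨h.qp, ?_, ?_, h.p0, ?_, ?_⟩
  · rw [q_add, h.qp, h.qe, h.pe]; decide
  · rw [B_add_right, B_self, h.pe]; decide
  · intro h1; exact h.ne (eq_of_add_eq_zero h1)
  · intro h1; exact h.e0 (left_eq_add.1 h1)

theorem Ln.X_add {p e : V} (h : Ln p e) : X p (p + e) = X p e := X_add_left h.qp

variable (hJ : HJ J) (hJO : J ≤ Om)

include hJ in
theorem Ln.ss_left {p e : V} (h : Ln p e) (hm : X p e ∈ J) : SS J p :=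
  SS_of_mem hJ h.qp h.pe h.p0 h.e0 h.ne hm

include hJ in
theorem Ln.ss_right {p e : V} (h : Ln p e) (hm : X p e ∈ J) : SS J e :=
  h.symm.ss_left hJ (by rw [← h.comm]; exact hm)

include hJ in
theorem Ln.ss_add {p e : V} (h : Ln p e) (hm : X p e ∈ J) : SS J (p + e) :=
  h.add.ss_right hJ (by rw [h.X_add]; exact hm)

include hJ hJO

/-- **uniqueness of the line** -/
theorem mem_line (hno : J ≠ Om) {p e s : V} (h : Ln p e) (hm : X p e ∈ J) (hs : SS J s) :
    s = p ∨ s = e ∨ s = p + e := by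
  have h1 : ∃ j ∈ J, j ≠ 1 := ⟨_, hm, h.X_ne⟩
  by_contra hcon
  push Not at hcon
  have hsp : B p s = 0 := (z2 _).resolve_right fun h' => hno (SS_opp hJO h1 (h.ss_left hJ hm) hs h')
  have hse : B e s = 0 := (z2 _).resolve_right fun h' => hno (SS_opp hJO h1 (h.ss_right hJ hm) hs h')
  obtain ⟨x, hx, hxp, hxe, hB⟩ := exists_move hs.sing hsp hse hs.ne hcon.1 hcon.2.1 hcon.2.2
  have hc : x * X p e = X p e * x := by
    have := X_conj (Om_le hx) p e
    rw [hxp, hxe, mul_inv_eq_iff_eq_mul] at this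
    exact this
  exact hno (SS_opp hJO h1 hs (SS_map_of_comm hJ hs hm h.X_ne (X_mul_self _ _) hx hc) hB)

/-- **the claim** -/
theorem mem_line_of_X (hno : J ≠ Om) {p e w : V} (h : Ln p e) (hm : X p e ∈ J) (hw : B p w = 0)
    (hX : X p w ∈ J) : w = 0 ∨ w = p ∨ w = e ∨ w = p + e := by
  have h1 : ∃ j ∈ J, j ≠ 1 := ⟨_, hm, h.X_ne⟩
  by_contra hcon
  push Not at hcon
  obtain ⟨w0, wp, we, wpe⟩ := hcon
  have hXne : X p w ≠ 1 := X_ne_one h.qp hw h.p0 w0 wp.symm
  rcases z2 (q w) with hqw | hqw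
  · have hl : Ln p w := ⟨h.qp, hqw, hw, h.p0, w0, wp.symm⟩
    rcases mem_line hJ hJO hno h hm (hl.ss_right hJ hX) with h' | h' | h'
    · exact wp h'
    · exact we h'
    · exact wpe h'
  · rcases z2 (B e w) with hB | hB
    · -- move `e` by the centralizer of `X p w`
      have n1 : e ≠ w := fun h' => by rw [← h', h.qe] at hqw; exact absurd hqw (by decide)
      have n2 : e ≠ p + w := by
        intro h'
        have := h.qe
        rw [h', q_add, h.qp, hqw, hw] at this
        exact absurd this (by decide)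
      obtain ⟨x, hx, hxp, hxw, hB'⟩ := exists_move (a := p) (b := w) h.qe h.pe
        (by rw [B_comm]; exact hB) h.e0 h.ne.symm n1 n2
      have hc : x * X p w = X p w * x := by
        have := X_conj (Om_le hx) p w
        rw [hxp, hxw, mul_inv_eq_iff_eq_mul] at this
        exact this
      have he := h.ss_right hJ hm
      exact hno (SS_opp hJO h1 he (SS_map_of_comm hJ he hX hXne (X_mul_self _ _) hx hc) hB')
    · obtain ⟨v, v1, v2, v3, v4, v5, v6, v7⟩ := exists_sing_off h.p0 h.e0 h.ne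
      have h2 := (h.ss_right hJ hm).nor v v3 _ hX
      rw [X_conj (X_mem_O8 _ _), X_apply h.qe v1 v3, X_apply h.qe v1 v3, hB, B_comm e p, h.pe,
        B_comm v p, v2] at h2
      simp only [zero_smul, one_smul, add_zero] at h2
      have h3 : X p v ∈ J := by
        have hpv : B p (w + v) = 0 := by rw [B_add_right, hw, v2, add_zero]
        have hpe' : B p (B v w • e) = 0 := by rw [B_smul_right, h.pe, mul_zero]
        have h4 := J.mul_mem hX h2
        rw [← X_mul h.qp hpv hpe', ← X_mul h.qp hw v2, ← mul_assoc, ← mul_assoc, X_mul_self,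
          one_mul] at h4
        have h5 : X p (B v w • e) ∈ J := by
          rcases z2 (B v w) with h' | h' <;> rw [h']
          · rw [zero_smul, X_zero_right]; exact J.one_mem
          · rw [one_smul]; exact hm
        exact (J.mul_mem_cancel_right h5).1 h4
      have hl : Ln p v := ⟨h.qp, v1, v2, h.p0, v4, v5.symm⟩
      rcases mem_line hJ hJO hno h hm (hl.ss_right hJ h3) with h' | h' | h'
      · exact v5 h'
      · exact v6 h'
      · exact v7 h'

/-- the isometry on the orthogonal space of the line -/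
theorem on_perp (hno : J ≠ Om) {p e : V} (h : Ln p e) (hm : X p e ∈ J) {b : V ≃ₗ[ZMod 2] V}
    (hb : b ∈ O8)
    (hcom : ∀ x ∈ Om, x * X p e = X p e * x → x * b * x⁻¹ * b⁻¹ ∈ J)
    (hbp : b p = p) {v : V} (hv : B p v = 0) (hv' : B e v = 0) : b v = v ∨ b v = v + p := by
  -- the line
  have lin : ∀ {v : V}, B p v = 0 → b v + v = 0 ∨ b v + v = p ∨ b v + v = e ∨ b v + v = p + e := by
    intro v hv
    have hc : X p v * X p e = X p e * X p v := by
      rw [X_mul h.qp hv h.pe, X_mul h.qp h.pe hv, add_comm]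
    have h1 := hcom _ (X_mem _ _) hc
    have h2 : B p (b v) = 0 := by
      have := O8_B hb p v
      rw [hbp] at this
      rw [this]; exact hv
    rw [X_inv, show X p v * b * X p v * b⁻¹ = X p v * (b * X p v * b⁻¹) by group, X_conj hb, hbp,
      X_mul h.qp hv h2] at h1
    rw [add_comm (b v) v]
    exact mem_line_of_X hJ hJO hno h hm (by rw [B_add_right, hv, zero_add]; exact h2) h1
  have rc : ∀ v w : V, b v + v = w → b v = v + w := by
    intro v w hw
    calc b v = (v + v) + b v := by rw [add_self, zero_add]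
      _ = v + (b v + v) := by abel
      _ = v + w := by rw [hw]
  -- on the orthogonal space of the line
  obtain ⟨f, f1, f2⟩ := exists_B h.p0 h.e0 h.ne 0 1
  have hB := O8_B hb f v
  have hBx : ∀ y, (y = 0 ∨ y = p ∨ y = e ∨ y = p + e) → B y v = 0 := by
    rintro y (rfl | rfl | rfl | rfl)
    · exact B_zero_left v
    · exact hv
    · exact hv'
    · rw [B_add_left, hv, hv', add_zero]
  have hf := lin f1
  have hyy : ∀ y z, (y = 0 ∨ y = p ∨ y = e ∨ y = p + e) → (z = 0 ∨ z = p ∨ z = e ∨ z = p + e) →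
      B y z = 0 := by
    have hep : B e p = 0 := by rw [B_comm]; exact h.pe
    rintro y z (rfl | rfl | rfl | rfl) (rfl | rfl | rfl | rfl) <;>
      simp only [B_add_left, B_add_right, B_self, h.pe, hep, B_zero_left, B_zero_right, add_zero]
  have hz := lin hv
  have hfz : B f (b v + v) = 0 := by
    generalize hz1 : b v + v = z1 at hz ⊢
    generalize hf1 : b f + f = y1 at hf
    rw [rc f _ hf1, rc v _ hz1, B_add_left, B_add_right, B_add_right, hyy _ _ hf hz, add_zero,
      hBx _ hf, add_zero] at hB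
    simpa using hB
  rcases hz with h' | h' | h' | h'
  · left; rw [rc v _ h', add_zero]
  · right; exact rc v _ h'
  · rw [h', B_comm, f2] at hfz; exact absurd hfz (by decide)
  · rw [h', B_add_right, B_comm f p, f1, B_comm f e, f2] at hfz; exact absurd hfz (by decide)

/-- **the main lemma** for an isometry with a fixed point on the line -/
theorem eq_of_fix (hno : J ≠ Om) {p e : V} (h : Ln p e) (hm : X p e ∈ J) {b : V ≃ₗ[ZMod 2] V}
    (hb : b ∈ O8)
    (hcom : ∀ x ∈ Om, x * X p e = X p e * x → x * b * x⁻¹ * b⁻¹ ∈ J)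
    (hbp : b p = p) (hbe : b e = e ∨ b e = p + e) : b = 1 ∨ b = X p e := by
  rcases hbe with hbe | hbe
  · -- trivial on the line
    apply eq_of_fix_perp hb h.qp h.qe h.pe h.p0 h.e0 h.ne
    intro v hv hv'
    rcases on_perp hJ hJO hno h hm hb hcom hbp hv hv' with h' | h'
    · exact h'
    · rcases on_perp hJ hJO hno h.symm (by rw [← h.comm]; exact hm) hb (by rw [← h.comm]; exact hcom)
        hbe hv' hv with h2 | h2
      · exact h2
      · exfalso
        rw [h'] at h2
        exact h.ne (add_left_cancel h2)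
  · exfalso
    obtain ⟨v, v1, v2, v3, v4, v5, v6, v7⟩ := exists_sing_off h.p0 h.e0 h.ne
    have hc : X e v * X p e = X p e * X e v := by
      rw [h.comm, X_mul h.qe v3 h.symm.pe, X_mul h.qe h.symm.pe v3, add_comm]
    have h1 := hcom _ (X_mem _ _) hc
    rw [X_inv, show X e v * b * X e v * b⁻¹ = X e v * (b * X e v * b⁻¹) by group, X_conj hb, hbe] at h1
    have hvp : B v p = 0 := by rw [B_comm]; exact v2
    have hve : B v e = 0 := by rw [B_comm]; exact v3
    have hvpe : B v (p + e) = 0 := by rw [B_add_right, hvp, hve]; decide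
    have hpev : B (p + e) v = 0 := by rw [B_comm]; exact hvpe
    have hpep : B (p + e) p = 0 := by rw [B_comm]; exact h.add.pe
    -- `X e v * X (p + e) v = X p v`
    have h2 : X e v * X (p + e) v = X p v := by
      rw [X_comm h.qe v1, X_comm h.add.qe v1, X_mul v1 hve hvpe, X_comm h.qp v1]
      congr 1
      calc e + (p + e) = (e + e) + p := by abel
        _ = p := by rw [add_self, zero_add]
    have h3 : X p v ∈ J := by
      rcases on_perp hJ hJO hno h hm hb hcom hbp v2 v3 with h' | h'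
      · rw [h', h2] at h1
        exact h1
      · rw [h', ← X_mul h.add.qe hpev hpep, ← mul_assoc, h2] at h1
        have h4 : X (p + e) p ∈ J := by
          rw [X_comm h.add.qe h.qp, h.X_add]; exact hm
        exact (J.mul_mem_cancel_right h4).1 h1
    have hl : Ln p v := ⟨h.qp, v1, v2, h.p0, v4, v5.symm⟩
    rcases mem_line hJ hJO hno h hm (hl.ss_right hJ h3) with h' | h' | h'
    · exact v5 h'
    · exact v6 h'
    · exact v7 h'

/-- **a root element in `J`** -/
theorem eq_Om {B0 : Set (V ≃ₗ[ZMod 2] V)} (hB : ∀ b ∈ B0, b ∈ O8)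
    (hJB : ∀ a ∈ J, a ≠ 1 → a * a = 1 → ∀ x ∈ Om, x * a = a * x → ∀ b ∈ B0, x * b * x⁻¹ * b⁻¹ ∈ J)
    (h3 : ∀ a, ∃ b ∈ B0, b ≠ 1 ∧ b ≠ a ∧ ∃ n, b ^ 2 ^ n = 1)
    {p e : V} (h : Ln p e) (hm : X p e ∈ J) : J = Om := by
  by_contra hno
  obtain ⟨b, hb0, hb1, hba, n, hbn⟩ := h3 (X p e)
  have hb := hB b hb0
  -- the image of the line
  have hcj : b * X p e * b⁻¹ ∈ J := by
    have := hJB _ hm h.X_ne (X_mul_self _ _) _ (X_mem p e) rfl b hb0
    rw [X_inv] at this
    rw [show X p e * b * X p e * b⁻¹ = X p e * (b * X p e * b⁻¹) by group] at this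
    exact (J.mul_mem_cancel_left hm).1 this
  rw [X_conj hb] at hcj
  have hl : Ln (b p) (b e) := ⟨by rw [O8_q hb]; exact h.qp, by rw [O8_q hb]; exact h.qe,
    by rw [O8_B hb]; exact h.pe, fun h' => h.p0 (b.map_eq_zero_iff.1 h'),
    fun h' => h.e0 (b.map_eq_zero_iff.1 h'), fun h' => h.ne (b.injective h')⟩
  have mp := mem_line hJ hJO hno h hm (hl.ss_left hJ hcj)
  have me := mem_line hJ hJO hno h hm (hl.ss_right hJ hcj)
  -- a fixed point
  have hcom : ∀ x ∈ Om, x * X p e = X p e * x → x * b * x⁻¹ * b⁻¹ ∈ J := fun x hx hc =>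
    hJB _ hm h.X_ne (X_mul_self _ _) x hx hc b hb0
  have hpe := add_self p
  have hee := add_self e
  have haddp : p + (p + e) = e := by rw [← add_assoc, hpe, zero_add]
  have hadde : (p + e) + e = p := by rw [add_assoc, hee, add_zero]
  have hadde' : e + (p + e) = p := by rw [add_comm, hadde]
  have fin : ∀ {p e : V} (_ : Ln p e) (_ : X p e = X p e) (_ : X p e ∈ J)
      (_ : ∀ x ∈ Om, x * X p e = X p e * x → x * b * x⁻¹ * b⁻¹ ∈ J), b ≠ X p e → b p = p →
      (b e = e ∨ b e = p + e) → False := by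
    intro p e h _ hm hcom hne h1 h2
    rcases eq_of_fix hJ hJO hno h hm hb hcom h1 h2 with h' | h'
    · exact hb1 h'
    · exact hne h'
  by_cases hbp : b p = p
  · refine fin h rfl hm hcom hba hbp ?_
    rcases me with h' | h' | h'
    · exact absurd (b.injective (hbp.trans h'.symm)) h.ne
    · exact Or.inl h'
    · exact Or.inr h'
  · by_cases hbe : b e = e
    · refine fin h.symm rfl (by rw [← h.comm]; exact hm) (by rw [← h.comm]; exact hcom)
        (by rw [← h.comm]; exact hba) hbe ?_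
      rcases mp with h' | h' | h'
      · exact absurd h' hbp
      · exact absurd (b.injective (hbe.trans h'.symm)) h.ne.symm
      · right; rw [h', add_comm]
    · -- either `b` fixes `p + e` or it is a 3-cycle
      have cases3 : (b p = e ∧ b e = p) ∨ b (b (b p)) = p := by
        rcases mp with h' | h' | h'
        · exact absurd h' hbp
        · rcases me with h2 | h2 | h2
          · exact Or.inl ⟨h', h2⟩
          · exact absurd h2 hbe
          · right
            rw [h', h2, map_add, h', h2, hadde']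
        · rcases me with h2 | h2 | h2
          · right
            rw [h', map_add, h', h2, show p + e + p = e by rw [add_comm p e, add_assoc, hpe, add_zero], h2]
          · exact absurd h2 hbe
          · exact absurd (b.injective (h'.trans h2.symm)) h.ne
      rcases cases3 with ⟨h1, h2⟩ | h1
      · have hs : Ln (p + e) p := h.add.symm
        refine fin hs rfl (by rw [← h.add.comm, h.X_add]; exact hm)
          (by rw [← h.add.comm, h.X_add]; exact hcom) (by rw [← h.add.comm, h.X_add]; exact hba) ?_ ?_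
        · rw [map_add, h1, h2, add_comm]
        · right; rw [h1, add_comm p e, add_assoc, hpe, add_zero]
      · apply hbp
        have p3 : Function.IsPeriodicPt b 3 p := h1
        have p2 : Function.IsPeriodicPt b (2 ^ n) p := by
          have := congrArg (fun g : V ≃ₗ[ZMod 2] V => g p) hbn
          rw [Function.IsPeriodicPt, Function.IsFixedPt]
          have e2 : ∀ k : ℕ, (b ^ k) p = b^[k] p := by
            intro k
            induction k with
            | zero => rfl
            | succ k ih => rw [pow_succ', Function.iterate_succ_apply', ← ih]; rfl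
          rw [← e2]
          exact this
        have p1 := p3.gcd p2
        have hg : Nat.gcd 3 (2 ^ n) = 1 := Nat.Coprime.pow_right n (by norm_num)
        rw [hg] at p1
        exact p1

end

/-- the version with a subgroup `B0` of order divisible by four -/
theorem eq_Om_of_four_dvd {J B0 : Subgroup (V ≃ₗ[ZMod 2] V)} (hJO : J ≤ Om) (hB : B0 ≤ O8)
    (h4 : 4 ∣ Nat.card B0)
    (hJ : ∀ a ∈ J, a ≠ 1 → a * a = 1 → ∀ x ∈ Om, x * a = a * x → ∀ j ∈ J, x * j * x⁻¹ ∈ J)
    (hJB : ∀ a ∈ J, a ≠ 1 → a * a = 1 → ∀ x ∈ Om, x * a = a * x → ∀ b ∈ B0, x * b * x⁻¹ * b⁻¹ ∈ J)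
    {p e : V} (hp : q p = 0) (he : q e = 0) (hpe : B p e = 0) (hp0 : p ≠ 0) (he0 : e ≠ 0)
    (hne : p ≠ e) (hm : X p e ∈ J) : J = Om := by
  have : Finite (V ≃ₗ[ZMod 2] V) := Finite.of_injective (fun g : V ≃ₗ[ZMod 2] V => (g : V → V))
    DFunLike.coe_injective
  refine eq_Om hJ hJO (B0 := B0) hB hJB ?_ ⟨hp, he, hpe, hp0, he0, hne⟩ hm
  intro a
  have := Fact.mk Nat.prime_two
  obtain ⟨P⟩ : Nonempty (Sylow 2 B0) := inferInstance
  have hP : 4 ∣ Nat.card P := by
    have h1 : 2 ≤ (Nat.card B0).factorization 2 :=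
      (Nat.Prime.pow_dvd_iff_le_factorization Nat.prime_two (Nat.card_pos.ne')).1
        (show 2 ^ 2 ∣ Nat.card B0 from h4)
    have h2 := P.card_eq_multiplicity
    have h3 : 2 ^ 2 ∣ 2 ^ (Nat.card B0).factorization 2 := pow_dvd_pow 2 h1
    rw [← h2] at h3
    exact h3
  by_contra hcon
  push Not at hcon
  have hsub : ((P : Subgroup B0) : Set B0) ⊆ {x | (x : V ≃ₗ[ZMod 2] V) = 1 ∨ (x : V ≃ₗ[ZMod 2] V) = a} := by
    intro x hx
    by_contra hx'
    simp only [Set.mem_setOf_eq, not_or] at hx'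
    obtain ⟨n, hn⟩ := (IsPGroup.iff_orderOf.1 P.2) ⟨x, hx⟩
    apply hcon x x.2 hx'.1 hx'.2 n
    have h1 := pow_orderOf_eq_one (⟨x, hx⟩ : P)
    rw [hn] at h1
    have h2 := congrArg (fun y : P => (((y : B0) : V ≃ₗ[ZMod 2] V))) h1
    simpa using h2
  have hcard : Nat.card P ≤ 2 := by
    have h1 : Set.ncard ((P : Subgroup B0) : Set B0) ≤ Set.ncard ({1, a} : Set (V ≃ₗ[ZMod 2] V)) := by
      apply Set.ncard_le_ncard_of_injOn (fun x : B0 => (x : V ≃ₗ[ZMod 2] V))
      · intro x hx
        exact hsub hx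
      · exact Subtype.val_injective.injOn
    have h2 := Set.ncard_insert_le (1 : V ≃ₗ[ZMod 2] V) {a}
    rw [Set.ncard_singleton] at h2
    have h3 : Nat.card P = Set.ncard ((P : Subgroup B0) : Set B0) := rfl
    omega
  have := Nat.le_of_dvd Nat.card_pos hP
  omega

end Cfsg.Agent.StdO8.RootJ
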