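import Cfsg.Agent.StdO8.ShadowInC

/-!
# The matrices of the generators
-/

set_option autoImplicit false

namespace Cfsg.Agent.StdO8.Shadow

universe u

variable {G : Type u} [Group G] {t x z x' : G} {e s n : ℕ → G}

theorem E.symm' {z a b : G} (zz : z * z = 1) (h : E z a b) : E z b a := by
  rcases h with h | h
  · exact Or.inl h.symm
  · right; rw [h, mul_assoc, zz, mul_one]

theorem E.trans' {z a b c : G} (zz : z * z = 1) (h : E z a b) (h' : E z b c) : E z a c := by
  rcases h with rfl | rfl <;> rcases h' with rfl | rfl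
  · exact Or.inl rfl
  · exact Or.inr rfl
  · exact Or.inr rfl
  · left; rw [mul_assoc, zz, mul_one]

/-- The list in `G`. -/
abbrev LG (t x : G) (e : ℕ → G) : List G := [t, x, e 0, e 1, e 2, e 3, e 4, e 5, e 6, e 7]

theorem LG_eq : LG t x e = WL (wG t x e) := rfl

theorem Base.coe_ph (B : Base t x z e s n x') (v : ℕ) :
    ((ph (WL B.wC) v : Cz z) : G) = ph (LG t x e) v := by
  have := map_ph (Cz z).subtype (WL B.wC) v
  exact this

theorem Base.act_iff (B : Base t x z e s n x') {g : Cz z} {m : List ℕ} :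
    Act (piz z) B.wC g m ↔ List.Forall₂ (fun a b => E z ((g : G)⁻¹ * a * g) (ph (LG t x e) b)) (LG t x e) m := by
  have key : ∀ (a : Cz z) (b : ℕ), ((piz z g)⁻¹ * piz z a * piz z g = ph (WB (piz z) B.wC) b) ↔
      E z ((g : G)⁻¹ * a * g) (ph (LG t x e) b) := by
    intro a b
    have h1 : ph (WB (piz z) B.wC) b = piz z (ph (WL B.wC) b) := (map_ph _ _ _).symm
    rw [h1, ← map_inv, ← map_mul, ← map_mul, (quo B.zz).eq_iff, ← B.coe_ph]
    constructor
    · rintro (h | h)
      · exact Or.inl (congrArg Subtype.val h)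
      · exact Or.inr (congrArg Subtype.val h)
    · rintro (h | h)
      · exact Or.inl (Subtype.ext h)
      · exact Or.inr (Subtype.ext h)
  unfold Act ActH
  constructor
  · intro h
    unfold WB at h
    rw [List.forall₂_map_left_iff] at h
    have h2 : LG t x e = (WL B.wC).map Subtype.val := rfl
    rw [h2, List.forall₂_map_left_iff]
    exact h.imp (fun a b hab => (key a b).1 hab)
  · intro h
    unfold WB
    rw [List.forall₂_map_left_iff]
    have h2 : LG t x e = (WL B.wC).map Subtype.val := rfl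
    rw [h2, List.forall₂_map_left_iff] at h
    exact h.imp (fun a b hab => (key a b).2 hab)

/-- The generators in the centraliser. -/
def Base.sC (B : Base t x z e s n x') {i : ℕ} (hi : i < 3) : Cz z := ⟨s i, mem_Cz.2 (B.zs i hi).symm⟩
def Base.nC (B : Base t x z e s n x') {i : ℕ} (hi : i < 3) : Cz z := ⟨n i, mem_Cz.2 (B.zn i hi).symm⟩
def Base.xC (B : Base t x z e s n x') : Cz z := ⟨x', mem_Cz.2 B.zx'.symm⟩

/-- The matrices. -/
def ms : ℕ → List ℕ
  | 0 => [1, 2, 12, 8, 48, 32, 192, 128, 768, 512]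
  | 1 => [1, 2, 20, 40, 16, 32, 320, 640, 256, 512]
  | _ => [1, 2, 68, 136, 272, 544, 64, 128, 256, 512]

def mn : ℕ → List ℕ
  | 0 => [1, 2, 4, 12, 16, 48, 64, 192, 256, 768]
  | 1 => [1, 2, 4, 8, 20, 40, 64, 128, 320, 640]
  | _ => [1, 2, 4, 8, 16, 32, 68, 136, 272, 544]

def mx : List ℕ := [513, 2, 422, 520, 528, 32, 576, 128, 256, 512]

def mx1 : List ℕ := [513, 514, 935, 520, 528, 32, 576, 128, 256, 512]

theorem ph_low (a0 a1 a2 a3 a4 a5 a6 a7 a8 a9 : G) :
    ph [a0, a1, a2, a3, a4, a5, a6, a7, a8, a9] 1 = a0 ∧ ph [a0, a1, a2, a3, a4, a5, a6, a7, a8, a9] 2 = a1 ∧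
    ph [a0, a1, a2, a3, a4, a5, a6, a7, a8, a9] 4 = a2 ∧ ph [a0, a1, a2, a3, a4, a5, a6, a7, a8, a9] 8 = a3 ∧
    ph [a0, a1, a2, a3, a4, a5, a6, a7, a8, a9] 16 = a4 ∧ ph [a0, a1, a2, a3, a4, a5, a6, a7, a8, a9] 32 = a5 ∧
    ph [a0, a1, a2, a3, a4, a5, a6, a7, a8, a9] 64 = a6 ∧ ph [a0, a1, a2, a3, a4, a5, a6, a7, a8, a9] 128 = a7 ∧
    ph [a0, a1, a2, a3, a4, a5, a6, a7, a8, a9] 256 = a8 ∧ ph [a0, a1, a2, a3, a4, a5, a6, a7, a8, a9] 512 = a9 := by
  simp [ph]

theorem Base.st (B : Base t x z e s n x') {i : ℕ} (hi : i < 3) : (s i)⁻¹ * t * s i = t := by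
  rw [mul_assoc, B.ts i hi, inv_mul_cancel_left]

theorem Base.nt (B : Base t x z e s n x') {i : ℕ} (hi : i < 3) : (n i)⁻¹ * t * n i = t := by
  rw [mul_assoc, B.tn i hi, inv_mul_cancel_left]

theorem Base.act_s (B : Base t x z e s n x') {i : ℕ} (hi : i < 3) : Act (piz z) B.wC (B.sC hi) (ms i) := by
  rw [B.act_iff]
  have h1 := B.st hi
  have h2 := B.xs i hi
  have h3 := B.es i hi
  have hE : ∀ a : G, E z a a := fun a => Or.inl rfl
  change List.Forall₂ (fun a b => E z ((s i)⁻¹ * a * s i) (ph (LG t x e) b)) (LG t x e) (ms i)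
  interval_cases i
  · have a0 := h3 0 (by norm_num)
    have a1 := h3 1 (by norm_num)
    have a2 := h3 2 (by norm_num)
    have a3 := h3 3 (by norm_num)
    have a4 := h3 4 (by norm_num)
    have a5 := h3 5 (by norm_num)
    have a6 := h3 6 (by norm_num)
    have a7 := h3 7 (by norm_num)
    simp [Nat.testBit] at a0 a1 a2 a3 a4 a5 a6 a7
    simp [ms, ph, h1, h2, hE, a0, a1, a2, a3, a4, a5, a6, a7]
  · have a0 := h3 0 (by norm_num)
    have a1 := h3 1 (by norm_num)
    have a2 := h3 2 (by norm_num)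
    have a3 := h3 3 (by norm_num)
    have a4 := h3 4 (by norm_num)
    have a5 := h3 5 (by norm_num)
    have a6 := h3 6 (by norm_num)
    have a7 := h3 7 (by norm_num)
    simp [Nat.testBit] at a0 a1 a2 a3 a4 a5 a6 a7
    simp [ms, ph, h1, h2, hE, a0, a1, a2, a3, a4, a5, a6, a7]
  · have a0 := h3 0 (by norm_num)
    have a1 := h3 1 (by norm_num)
    have a2 := h3 2 (by norm_num)
    have a3 := h3 3 (by norm_num)
    have a4 := h3 4 (by norm_num)
    have a5 := h3 5 (by norm_num)
    have a6 := h3 6 (by norm_num)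
    have a7 := h3 7 (by norm_num)
    simp [Nat.testBit] at a0 a1 a2 a3 a4 a5 a6 a7
    simp [ms, ph, h1, h2, hE, a0, a1, a2, a3, a4, a5, a6, a7]

theorem Base.act_n (B : Base t x z e s n x') {i : ℕ} (hi : i < 3) : Act (piz z) B.wC (B.nC hi) (mn i) := by
  rw [B.act_iff]
  have h1 := B.nt hi
  have h2 := B.xn i hi
  have h3 := B.en i hi
  have hE : ∀ a : G, E z a a := fun a => Or.inl rfl
  change List.Forall₂ (fun a b => E z ((n i)⁻¹ * a * n i) (ph (LG t x e) b)) (LG t x e) (mn i)
  have c : ∀ R < 8, ∀ S < 8, R ≠ 7 - S → e S * e R = e R * e S := fun R hR S hS h => B.ec S hS R hR h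
  interval_cases i
  · have a0 := h3 0 (by norm_num)
    have a1 := h3 1 (by norm_num)
    have a2 := h3 2 (by norm_num)
    have a3 := h3 3 (by norm_num)
    have a4 := h3 4 (by norm_num)
    have a5 := h3 5 (by norm_num)
    have a6 := h3 6 (by norm_num)
    have a7 := h3 7 (by norm_num)
    simp [Nat.testBit] at a0 a1 a2 a3 a4 a5 a6 a7
    rw [c 0 (by norm_num) 1 (by norm_num) (by norm_num)] at a1
    rw [c 2 (by norm_num) 3 (by norm_num) (by norm_num)] at a3
    rw [c 4 (by norm_num) 5 (by norm_num) (by norm_num)] at a5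
    rw [c 6 (by norm_num) 7 (by norm_num) (by norm_num)] at a7
    simp [mn, ph, h1, h2, hE, a0, a1, a2, a3, a4, a5, a6, a7]
  · have a0 := h3 0 (by norm_num)
    have a1 := h3 1 (by norm_num)
    have a2 := h3 2 (by norm_num)
    have a3 := h3 3 (by norm_num)
    have a4 := h3 4 (by norm_num)
    have a5 := h3 5 (by norm_num)
    have a6 := h3 6 (by norm_num)
    have a7 := h3 7 (by norm_num)
    simp [Nat.testBit] at a0 a1 a2 a3 a4 a5 a6 a7
    rw [c 0 (by norm_num) 2 (by norm_num) (by norm_num)] at a2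
    rw [c 1 (by norm_num) 3 (by norm_num) (by norm_num)] at a3
    rw [c 4 (by norm_num) 6 (by norm_num) (by norm_num)] at a6
    rw [c 5 (by norm_num) 7 (by norm_num) (by norm_num)] at a7
    simp [mn, ph, h1, h2, hE, a0, a1, a2, a3, a4, a5, a6, a7]
  · have a0 := h3 0 (by norm_num)
    have a1 := h3 1 (by norm_num)
    have a2 := h3 2 (by norm_num)
    have a3 := h3 3 (by norm_num)
    have a4 := h3 4 (by norm_num)
    have a5 := h3 5 (by norm_num)
    have a6 := h3 6 (by norm_num)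
    have a7 := h3 7 (by norm_num)
    simp [Nat.testBit] at a0 a1 a2 a3 a4 a5 a6 a7
    rw [c 0 (by norm_num) 4 (by norm_num) (by norm_num)] at a4
    rw [c 1 (by norm_num) 5 (by norm_num) (by norm_num)] at a5
    rw [c 2 (by norm_num) 6 (by norm_num) (by norm_num)] at a6
    rw [c 3 (by norm_num) 7 (by norm_num) (by norm_num)] at a7
    simp [mn, ph, h1, h2, hE, a0, a1, a2, a3, a4, a5, a6, a7]

theorem Base.act_x_aux (B : Base t x z e s n x') {a b : ℕ} (h1 : E z (x'⁻¹ * x * x') (ph (LG t x e) a))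
    (h2 : E z (x'⁻¹ * e 0 * x') (ph (LG t x e) b)) :
    Act (piz z) B.wC B.xC [513, a, b, 520, 528, 32, 576, 128, 256, 512] := by
  rw [B.act_iff]
  change List.Forall₂ (fun a b => E z (x'⁻¹ * a * x') (ph (LG t x e) b)) (LG t x e) _
  have h3 := B.tx'
  have a1 := B.e1' 1 (by simp)
  have a2 := B.e1' 2 (by simp)
  have a3 := B.e3' 3 (by simp)
  have a4 := B.e1' 4 (by simp)
  have a5 := B.e3' 5 (by simp)
  have a6 := B.e3' 6 (by simp)
  have a7 := B.e3' 7 (by simp)
  simp only [List.forall₂_cons, List.forall₂_nil_left_iff, and_true]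
  refine ⟨?_, h1, h2, ?_, ?_, ?_, ?_, ?_, ?_, ?_⟩
  · simpa [ph] using h3
  · simpa [ph] using a1
  · simpa [ph] using a2
  · simpa [ph] using a3
  · simpa [ph] using a4
  · simpa [ph] using a5
  · simpa [ph] using a6
  · simpa [ph] using a7

theorem Data.act_x (D : Data t x z e s n x') : Act (piz z) D.toBase.wC D.toBase.xC mx := by
  refine D.toBase.act_x_aux (a := 2) (b := 422) ?_ ?_
  · simpa [ph] using D.xx'
  · have h := D.e0'
    rw [← D.xe 0 (by norm_num)] at h
    simpa [ph, mul_assoc] using h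

theorem Data1.act_x (D : Data1 t x z e s n x') : Act (piz z) D.toBase.wC D.toBase.xC mx1 := by
  refine D.toBase.act_x_aux (a := 514) (b := 935) ?_ ?_
  · simpa [ph] using D.xx'
  · have h := D.e0'
    refine E.trans' D.zz h ?_
    right
    have h1 : e 0 * x * t = t * x * e 0 * z := by
      rw [D.tx, ← D.xe 0 (by norm_num)]
      calc x * e 0 * t = x * (e 0 * t) := by group
        _ = x * t * e 0 := by rw [← D.te 0 (by norm_num)]; group
        _ = x * t * (z * z) * e 0 := by rw [D.zz, mul_one]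
        _ = x * t * z * (z * e 0) := by group
        _ = x * t * z * e 0 * z := by rw [D.ze 0 (by norm_num)]; group
    have hz : ∀ a b : G, b * z = z * b → a * z * b = a * b * z := by
      intro a b h
      rw [mul_assoc, ← h, mul_assoc]
    rw [h1, hz _ _ (D.ze 3 (by norm_num)).symm, hz _ _ (D.ze 5 (by norm_num)).symm, hz _ _ (D.ze 6 (by norm_num)).symm,
      hz _ _ (D.ze 7 (by norm_num)).symm]
    simp [ph, mul_assoc]

end Cfsg.Agent.StdO8.Shadow
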