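import Cfsg.Agent.StdO8.ShadowRep

/-!
# The extraspecial group `M` of order `2 ^ 11` and the 2-group `S` of order `2 ^ 18`

Everything inside a group `C` (the centraliser of `z` in the application) with a central involution `z`.
-/

set_option autoImplicit false

namespace Cfsg.Agent.StdO8.Shadow

theorem SL_mul : ∀ b ∈ SL, ∀ a ∈ SL, mulM a b ∈ SL := by
  have key : ∀ k < 128, ∀ a ∈ SL, mulM a (SL.getD k []) ∈ SL := by
    intro k
    induction k using Nat.strong_induction_on with
    | _ k ih =>
      intro hk a ha
      rcases Nat.eq_zero_or_pos k with rfl | hpos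
      · have h0 : SL.getD 0 [] = idM := by decide +kernel
        rw [h0, mulM_idM (SL_getlt ha)]
        exact ha
      · obtain ⟨j, rfl⟩ : ∃ j, k = j + 1 := ⟨k - 1, by omega⟩
        obtain ⟨h1, h2, h3⟩ := tree_ok j (by omega)
        rw [h3, ← mulM_assoc]
        apply SL_closed_gen _ (ih _ (by omega) (by omega) a ha)
        rw [List.getD_eq_getElem _ _ (by simpa [gs] using h2)]
        exact List.getElem_mem _
  intro b hb a ha
  obtain ⟨k, hk, rfl⟩ := List.getElem_of_mem hb
  have := key k (by rw [SL_len] at hk; exact hk) a ha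
  rwa [List.getD_eq_getElem _ _ hk] at this

section Par

/-- Parity of the bits with coefficients. -/
def par : List Bool → ℕ → Bool
  | [], _ => false
  | c :: l, v => xor (c && (v % 2 == 1)) (par l (v / 2))

/-- The square of a product. -/
def sqf : List (List Bool) → ℕ → Bool
  | [], _ => false
  | c :: cs, v => xor ((v % 2 == 1) && par c (v / 2)) (sqf cs (v / 2))

/-- The partner of a basis vector. -/
def pr (i : ℕ) : ℕ := [1, 0, 9, 8, 7, 6, 5, 4, 3, 2].getD i 10

def row (i : ℕ) : List Bool := (List.range 10).map (fun j => decide (j = pr i))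

def tails : List (List Bool) :=
  (List.range 10).map (fun i => ((List.range 10).drop (i + 1)).map (fun j => decide (j = pr i)))

theorem par_row : ∀ d < 1024, (∀ i < 10, par (row i) d = false) → d = 0 := by decide +kernel

end Par

section Cent

universe u

variable {C : Type u} [Group C]

/-- `z` or `1`. -/
def zb (z : C) (b : Bool) : C := if b then z else 1

theorem zb_xor {z : C} (zz : z * z = 1) (a b : Bool) : zb z (xor a b) = zb z a * zb z b := by
  cases a <;> cases b <;> simp [zb, zz]

/-- The list of the ten generators. -/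
def WL (w : ℕ → C) : List C := [w 0, w 1, w 2, w 3, w 4, w 5, w 6, w 7, w 8, w 9]

structure CD (z : C) (w : ℕ → C) : Prop where
  zz : z * z = 1
  z1 : z ≠ 1
  zc : ∀ g, g * z = z * g
  sq : ∀ i < 10, w i * w i = 1
  cm : ∀ i < 10, ∀ j < 10, w i * w j = w j * w i * zb z (decide (j = pr i))
  cent : ∀ g, (∀ i < 10, g * w i = w i * g) → g = 1 ∨ g = z

variable {z : C} {w : ℕ → C}

theorem CD.zbc (D : CD z w) (b : Bool) (g : C) : g * zb z b = zb z b * g := by
  unfold zb
  split
  · exact D.zc g
  · rw [mul_one, one_mul]

theorem comm_par (zz : z * z = 1) (zc : ∀ g, g * z = z * g) {g : C} {L : List C} {cs : List Bool}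
    (h : List.Forall₂ (fun a c => g * a = a * g * zb z c) L cs) (v : ℕ) :
    g * ph L v = ph L v * g * zb z (par cs v) := by
  have hzb : ∀ (b : Bool) (g : C), g * zb z b = zb z b * g := by
    intro b g
    unfold zb
    split
    · exact zc g
    · rw [mul_one, one_mul]
  induction h generalizing v with
  | nil => simp [ph, par, zb]
  | @cons a c l l' hac _ ih =>
    simp only [ph, par]
    rw [zb_xor zz]
    have h2 : g * (if v % 2 = 1 then a else 1) = (if v % 2 = 1 then a else 1) * g * zb z (c && (v % 2 == 1)) := by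
      by_cases hv : v % 2 = 1
      · simp [hv, hac]
      · simp [hv, zb]
    calc g * ((if v % 2 = 1 then a else 1) * ph l (v / 2))
        = (g * (if v % 2 = 1 then a else 1)) * ph l (v / 2) := by group
      _ = (if v % 2 = 1 then a else 1) * g * (zb z (c && (v % 2 == 1)) * ph l (v / 2)) := by rw [h2]; group
      _ = (if v % 2 = 1 then a else 1) * (g * ph l (v / 2)) * zb z (c && (v % 2 == 1)) := by
          rw [← hzb]; group
      _ = (if v % 2 = 1 then a else 1) * ph l (v / 2) * g * (zb z (par l' (v / 2)) * zb z (c && (v % 2 == 1))) := by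
          rw [ih]; group
      _ = _ := by rw [hzb]

/-- Commutation of a list with its tails. -/
def TC (z : C) : List C → List (List Bool) → Prop
  | [], [] => True
  | g :: l, c :: cs => g * g = 1 ∧ List.Forall₂ (fun a b => g * a = a * g * zb z b) l c ∧ TC z l cs
  | _, _ => False

theorem sq_ph (zz : z * z = 1) (zc : ∀ g, g * z = z * g) : ∀ {L : List C} {cs : List (List Bool)}, TC z L cs →
    ∀ v, ph L v * ph L v = zb z (sqf cs v)
  | [], [], _, v => by simp [ph, sqf, zb]
  | g :: l, c :: cs, h, v => by
    obtain ⟨h1, h2, h3⟩ := h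
    have ih := sq_ph zz zc h3 (v / 2)
    simp only [ph, sqf]
    rw [zb_xor zz, ← ih]
    by_cases hv : v % 2 = 1
    · have h4 := comm_par zz zc h2 (v / 2)
      have hzb : ∀ (b : Bool) (g : C), g * zb z b = zb z b * g := by
        intro b g
        unfold zb
        split
        · exact zc g
        · rw [mul_one, one_mul]
      simp only [hv, if_true, beq_self_eq_true, Bool.true_and]
      calc g * ph l (v / 2) * (g * ph l (v / 2)) = g * (ph l (v / 2) * (g * ph l (v / 2))) := by group
        _ = g * (ph l (v / 2) * (ph l (v / 2) * g * zb z (par c (v / 2)))) := by rw [h4]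
        _ = g * (ph l (v / 2) * ph l (v / 2)) * g * zb z (par c (v / 2)) := by group
        _ = g * zb z (sqf cs (v / 2)) * g * zb z (par c (v / 2)) := by rw [ih]
        _ = zb z (sqf cs (v / 2)) * (g * g) * zb z (par c (v / 2)) := by
            rw [hzb (sqf cs (v / 2)) g]; simp only [mul_assoc]
        _ = zb z (par c (v / 2)) * (ph l (v / 2) * ph l (v / 2)) := by
            rw [h1, mul_one, ← hzb, ih]
    · simp [hv, zb]
  | [], _ :: _, h, _ => h.elim
  | _ :: _, [], h, _ => h.elim

theorem CD.cm0 (D : CD z w) {i j : ℕ} (hi : i < 10) (hj : j < 10) (b : Bool) (hb : decide (j = pr i) = b) :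
    w i * w j = w j * w i * zb z b := by rw [← hb]; exact D.cm i hi j hj

theorem CD.row_comm (D : CD z w) {i : ℕ} (hi : i < 10) :
    List.Forall₂ (fun a c => w i * a = a * w i * zb z c) (WL w) (row i) := by
  have h : row i = [decide (0 = pr i), decide (1 = pr i), decide (2 = pr i), decide (3 = pr i), decide (4 = pr i),
    decide (5 = pr i), decide (6 = pr i), decide (7 = pr i), decide (8 = pr i), decide (9 = pr i)] := rfl
  rw [h]
  unfold WL
  simp only [List.forall₂_cons, List.forall₂_nil_left_iff, and_true]
  exact ⟨D.cm i hi 0 (by norm_num), D.cm i hi 1 (by norm_num), D.cm i hi 2 (by norm_num), D.cm i hi 3 (by norm_num),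
    D.cm i hi 4 (by norm_num), D.cm i hi 5 (by norm_num), D.cm i hi 6 (by norm_num), D.cm i hi 7 (by norm_num),
    D.cm i hi 8 (by norm_num), D.cm i hi 9 (by norm_num)⟩

theorem CD.tc (D : CD z w) : TC z (WL w) tails := by
  have h : tails = [[true, false, false, false, false, false, false, false, false],
    [false, false, false, false, false, false, false, false],
    [false, false, false, false, false, false, true], [false, false, false, false, true, false],
    [false, false, true, false, false], [true, false, false, false], [false, false, false], [false, false], [false],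
    []] := by decide +kernel
  rw [h]
  unfold WL
  simp only [TC, List.forall₂_cons, List.forall₂_nil_left_iff, and_true]
  have q : ∀ i < 10, w i * w i = 1 := D.sq
  refine ⟨q 0 (by norm_num), ?_, q 1 (by norm_num), ?_, q 2 (by norm_num), ?_, q 3 (by norm_num), ?_,
    q 4 (by norm_num), ?_, q 5 (by norm_num), ?_, q 6 (by norm_num), ?_, q 7 (by norm_num), ?_, q 8 (by norm_num), ?_,
    q 9 (by norm_num)⟩
  all_goals first
    | exact D.cm0 (by norm_num) (by norm_num) _ (by decide)
    | (refine ⟨D.cm0 (by norm_num) (by norm_num) _ (by decide), ?_⟩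
       repeat' first
         | exact D.cm0 (by norm_num) (by norm_num) _ (by decide)
         | refine ⟨D.cm0 (by norm_num) (by norm_num) _ (by decide), ?_⟩)

omit [Group C] in
theorem mem_WL {a : C} (h : a ∈ WL w) : ∃ i < 10, a = w i := by
  simp only [WL, List.mem_cons, List.not_mem_nil, or_false] at h
  rcases h with h | h | h | h | h | h | h | h | h | h
  · exact ⟨0, by norm_num, h⟩
  · exact ⟨1, by norm_num, h⟩
  · exact ⟨2, by norm_num, h⟩
  · exact ⟨3, by norm_num, h⟩
  · exact ⟨4, by norm_num, h⟩
  · exact ⟨5, by norm_num, h⟩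
  · exact ⟨6, by norm_num, h⟩
  · exact ⟨7, by norm_num, h⟩
  · exact ⟨8, by norm_num, h⟩
  · exact ⟨9, by norm_num, h⟩

omit [Group C] in
theorem WL_mem {i : ℕ} (hi : i < 10) : w i ∈ WL w := by
  simp only [WL, List.mem_cons, List.not_mem_nil, or_false]
  interval_cases i <;> simp

variable {H : Type u} [Group H] {π : C →* H}

theorem map_ph (π : C →* H) (L : List C) (v : ℕ) : π (ph L v) = ph (L.map π) v := by
  induction L generalizing v with
  | nil => simp [ph]
  | cons a l ih =>
    simp only [ph, List.map_cons, map_mul, ih]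
    congr 1
    split <;> simp

/-- The basis of the quotient. -/
def WB (π : C →* H) (w : ℕ → C) : List H := (WL w).map π

theorem mem_WB {a : H} (h : a ∈ WB π w) : ∃ i < 10, a = π (w i) := by
  obtain ⟨b, hb, rfl⟩ := List.mem_map.1 h
  obtain ⟨i, hi, rfl⟩ := mem_WL hb
  exact ⟨i, hi, rfl⟩

theorem WB_mem {i : ℕ} (hi : i < 10) : π (w i) ∈ WB π w := List.mem_map_of_mem (WL_mem hi)

theorem WB_length : (WB π w).length = 10 := rfl

/-- `π` has kernel `{1, z}` and is surjective. -/
structure Quo (z : C) (π : C →* H) : Prop where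
  surj : Function.Surjective π
  eq_iff : ∀ a b, π a = π b ↔ a = b ∨ a = b * z

theorem Quo.zb (Q : Quo z π) (a : C) (b : Bool) : π (a * zb z b) = π a := by
  rw [Q.eq_iff]
  cases b <;> simp [Shadow.zb]

theorem CD.elW (D : CD z w) (Q : Quo z π) : El (WB π w) := by
  constructor
  · intro a ha
    obtain ⟨i, hi, rfl⟩ := mem_WB ha
    rw [← map_mul, D.sq i hi, map_one]
  · intro a ha b hb
    obtain ⟨i, hi, rfl⟩ := mem_WB ha
    obtain ⟨j, hj, rfl⟩ := mem_WB hb
    rw [← map_mul, ← map_mul, D.cm i hi j hj, Q.zb]

theorem CD.row_ph (D : CD z w) {i : ℕ} (hi : i < 10) (v : ℕ) :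
    w i * ph (WL w) v = ph (WL w) v * w i * Shadow.zb z (par (row i) v) :=
  comm_par D.zz D.zc (D.row_comm hi) v

theorem zb_eq_one {b : Bool} (hz : z ≠ 1) (h : Shadow.zb z b = 1) : b = false := by
  cases b
  · rfl
  · exact absurd h hz

theorem CD.injW (D : CD z w) (Q : Quo z π) :
    ∀ u < 1024, ∀ v < 1024, ph (WB π w) u = ph (WB π w) v → u = v := by
  intro u hu v hv h
  have hW := D.elW Q
  have h1 : ph (WB π w) (u ^^^ v) = 1 := by rw [hW.ph_xor, h, hW.ph_sq]
  have h2 : π (ph (WL w) (u ^^^ v)) = π 1 := by rw [map_ph, map_one]; exact h1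
  rw [Q.eq_iff, one_mul] at h2
  have h3 : ∀ i < 10, par (row i) (u ^^^ v) = false := by
    intro i hi
    have h4 := D.row_ph hi (u ^^^ v)
    apply zb_eq_one D.z1
    rcases h2 with h2 | h2
    · rw [h2, mul_one, one_mul] at h4
      have := congrArg (fun g => (w i)⁻¹ * g) h4
      simp only [inv_mul_cancel, inv_mul_cancel_left] at this
      exact this.symm
    · rw [h2, D.zc, ] at h4
      have := congrArg (fun g => (z * w i)⁻¹ * g) h4
      simp only [inv_mul_cancel, inv_mul_cancel_left] at this
      exact this.symm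
  have h4 : u ^^^ v = 0 := par_row _ (Nat.xor_lt_two_pow (n := 10) hu hv) h3
  exact Nat.xor_eq_zero_iff.1 h4

/-- The commutation pattern of an element which is trivial on the quotient. -/
theorem CD.kerW (D : CD z w) (Q : Quo z π) {g : C} (hg : ∀ i < 10, π (g⁻¹ * w i * g) = π (w i)) :
    ∃ v < 1024, g = ph (WL w) v ∨ g = ph (WL w) v * z := by
  classical
  have h1 : ∀ i, ∃ b : Bool, i < 10 → g * w i = w i * g * Shadow.zb z b := by
    intro i
    by_cases hi : i < 10
    · have h2 := hg i hi
      rw [Q.eq_iff] at h2
      rcases h2 with h2 | h2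
      · refine ⟨false, fun _ => ?_⟩
        rw [mul_assoc, inv_mul_eq_iff_eq_mul] at h2
        simp [Shadow.zb, h2]
      · refine ⟨true, fun _ => ?_⟩
        rw [mul_assoc, inv_mul_eq_iff_eq_mul] at h2
        simp only [Shadow.zb, if_true]
        rw [h2]
        calc g * w i = g * w i * (z * z) := by rw [D.zz, mul_one]
          _ = g * (w i * z) * z := by simp only [mul_assoc]
    · exact ⟨false, fun h => absurd h hi⟩
  choose b hb using h1
  have hW := D.elW Q
  have key : ∀ k ≤ 10, ∃ p : C, π p ∈ MH (WB π w) hW ∧
      ∀ j < 10, w j * p = p * w j * Shadow.zb z (decide (j < k) && b j) := by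
    intro k
    induction k with
    | zero =>
      intro _
      refine ⟨1, by rw [map_one]; exact Subgroup.one_mem _, fun j _ => ?_⟩
      simp [Shadow.zb]
    | succ k ih =>
      intro hk
      obtain ⟨p, hp, hpc⟩ := ih (by omega)
      have hpr : pr k < 10 := by
        have : ∀ k < 10, pr k < 10 := by decide
        exact this k (by omega)
      by_cases hbk : b k = true
      · refine ⟨p * w (pr k), ?_, fun j hj => ?_⟩
        · rw [map_mul]
          refine Subgroup.mul_mem _ hp ?_
          have h3 : ∀ i < 10, 2 ^ i < 1024 ∧ ph (WB π w) (2 ^ i) = π (w i) := by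
            intro i hi
            interval_cases i <;> simp [WB, WL, ph]
          exact ⟨2 ^ (pr k), (h3 _ hpr).1, (h3 _ hpr).2.symm⟩
        · have h3 := hpc j hj
          have h4 : w j * w (pr k) = w (pr k) * w j * Shadow.zb z (decide (j = k)) := by
            rw [D.cm j hj (pr k) hpr]
            have h5 : ∀ j < 10, ∀ k < 10, decide (pr k = pr j) = decide (j = k) := by decide
            rw [h5 j hj k (by omega)]
          calc w j * (p * w (pr k)) = (w j * p) * w (pr k) := by group
            _ = p * w j * (Shadow.zb z (decide (j < k) && b j) * w (pr k)) := by rw [h3]; group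
            _ = p * (w j * w (pr k)) * Shadow.zb z (decide (j < k) && b j) := by rw [← D.zbc]; group
            _ = p * w (pr k) * w j * (Shadow.zb z (decide (j = k)) * Shadow.zb z (decide (j < k) && b j)) := by
                rw [h4]; group
            _ = _ := by
                rw [← zb_xor D.zz]
                congr 2
                rcases lt_trichotomy j k with h | h | h
                · simp [h, h.ne, Nat.lt_succ_of_lt h]
                · subst h; simp [hbk]
                · have h6 : ¬ j < k + 1 := by omega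
                  simp [h6, h.ne', not_lt.2 h.le]
      · refine ⟨p, hp, fun j hj => ?_⟩
        rw [hpc j hj]
        congr 2
        rcases lt_trichotomy j k with h | h | h
        · simp [h, Nat.lt_succ_of_lt h]
        · subst h; simp [hbk]
        · have h6 : ¬ j < k + 1 := by omega
          simp [h6, not_lt.2 h.le]
  obtain ⟨p, hp, hpc⟩ := key 10 le_rfl
  have h5 : ∀ j < 10, (g * p⁻¹) * w j = w j * (g * p⁻¹) := by
    intro j hj
    have h6 := hpc j hj
    simp only [hj, decide_true, Bool.true_and] at h6
    have h7 : p⁻¹ * w j = w j * p⁻¹ * Shadow.zb z (b j) := by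
      have hz2 : Shadow.zb z (b j) * Shadow.zb z (b j) = 1 := by
        rw [← zb_xor D.zz, Bool.xor_self]; rfl
      calc p⁻¹ * w j = p⁻¹ * (w j * p) * p⁻¹ := by group
        _ = w j * (Shadow.zb z (b j) * p⁻¹) := by rw [h6]; group
        _ = w j * p⁻¹ * Shadow.zb z (b j) := by rw [← D.zbc]; group
    calc (g * p⁻¹) * w j = g * (p⁻¹ * w j) := by group
      _ = (g * w j) * p⁻¹ * Shadow.zb z (b j) := by rw [h7]; group
      _ = w j * g * (Shadow.zb z (b j) * p⁻¹) * Shadow.zb z (b j) := by rw [hb j hj]; group
      _ = w j * g * p⁻¹ * (Shadow.zb z (b j) * Shadow.zb z (b j)) := by rw [← D.zbc]; group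
      _ = w j * (g * p⁻¹) := by
          rw [← zb_xor D.zz, Bool.xor_self]; simp [Shadow.zb, mul_assoc]
  obtain ⟨v, hv, hpv⟩ := hp
  have hπ : π g = π (ph (WL w) v) := by
    rw [map_ph]
    change π g = ph (WB π w) v
    rw [← hpv]
    rcases D.cent _ h5 with h | h
    · rw [mul_inv_eq_one.1 h]
    · rw [Q.eq_iff]
      right
      rw [mul_inv_eq_iff_eq_mul] at h
      rw [h, D.zc]
  exact ⟨v, hv, (Q.eq_iff _ _).1 hπ⟩

end Cent

end Cfsg.Agent.StdO8.Shadow
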