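import Mathlib

/-!
# The 128 matrices of the Fi22.2 shadow (`L` of type Ω₈⁺(2))

`V10 = M/⟨z⟩` with basis `t, x, e_S` (`S ⊆ {0,1,2}`); vectors are 10-bit numbers, matrices are lists of the images of the
basis vectors (row convention).
-/

set_option autoImplicit false

namespace Cfsg.Agent.StdO8.Shadow

/-- Action of a matrix on a vector. -/
def ap : List ℕ → ℕ → ℕ
  | [], _ => 0
  | a :: l, v => (if v % 2 = 1 then a else 0) ^^^ ap l (v / 2)

theorem ap_zero (m : List ℕ) : ap m 0 = 0 := by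
  induction m with
  | nil => rfl
  | cons a l ih => simp [ap, ih]

theorem ap_xor (m : List ℕ) (u v : ℕ) : ap m (u ^^^ v) = ap m u ^^^ ap m v := by
  induction m generalizing u v with
  | nil => exact (Nat.xor_self 0).symm
  | cons a l ih =>
    simp only [ap, Nat.xor_div_two, ih, Nat.xor_mod_two_eq_one]
    by_cases h1 : u % 2 = 1 <;> by_cases h2 : v % 2 = 1
    · simp only [h1, h2, iff_self, not_true_eq_false, if_false, if_true, Nat.zero_xor]
      rw [Nat.xor_assoc, Nat.xor_left_comm (ap l (u / 2)), ← Nat.xor_assoc a a, Nat.xor_self, Nat.zero_xor]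
    · simp only [h1, h2, iff_false, not_true_eq_false, not_false_eq_true, if_false, if_true, Nat.zero_xor]
      rw [Nat.xor_assoc]
    · simp only [h1, h2, false_iff, not_true_eq_false, not_false_eq_true, if_false, if_true, Nat.zero_xor]
      rw [Nat.xor_left_comm]
    · simp only [h1, h2, iff_self, not_true_eq_false, if_false, Nat.zero_xor]

/-- Product (first `a`, then `b`). -/
def mulM (a b : List ℕ) : List ℕ := a.map (ap b)

theorem ap_mulM (a b : List ℕ) (v : ℕ) : ap (mulM a b) v = ap b (ap a v) := by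
  induction a generalizing v with
  | nil => exact (ap_zero b).symm
  | cons c l ih =>
    have h : mulM (c :: l) b = ap b c :: mulM l b := rfl
    rw [h]
    simp only [ap]
    rw [ap_xor, ih]
    by_cases h1 : v % 2 = 1
    · simp [h1]
    · simp [h1, ap_zero]

theorem mulM_assoc (a b c : List ℕ) : mulM (mulM a b) c = mulM a (mulM b c) := by
  simp only [mulM, List.map_map]
  apply List.map_congr_left
  intro v _
  exact (ap_mulM b c v).symm

def idM : List ℕ := [1, 2, 4, 8, 16, 32, 64, 128, 256, 512]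

theorem ap_idM (v : ℕ) (hv : v < 1024) : ap idM v = v := by
  have : ∀ v < 1024, ap idM v = v := by decide +kernel
  exact this v hv

/-- Generators of the 2-group. -/
def gs : List (List ℕ) := [
  [1, 2, 12, 8, 48, 32, 192, 128, 768, 512],
  [1, 2, 20, 40, 16, 32, 320, 640, 256, 512],
  [1, 2, 68, 136, 272, 544, 64, 128, 256, 512],
  [1, 2, 4, 8, 64, 128, 16, 32, 256, 512],
  [513, 2, 422, 520, 528, 32, 576, 128, 256, 512],
  [769, 2, 502, 762, 784, 800, 832, 896, 256, 512],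
  [545, 2, 446, 560, 552, 32, 986, 800, 672, 512]]

/-- The 2-group of order 128. -/
def SL : List (List ℕ) := [[1, 2, 4, 8, 16, 32, 64, 128, 256, 512], [1, 2, 12, 8, 48, 32, 192, 128, 768, 512],
  [1, 2, 20, 40, 16, 32, 320, 640, 256, 512], [1, 2, 68, 136, 272, 544, 64, 128, 256, 512],
  [1, 2, 4, 8, 64, 128, 16, 32, 256, 512], [513, 2, 422, 520, 528, 32, 576, 128, 256, 512],
  [769, 2, 502, 762, 784, 800, 832, 896, 256, 512], [545, 2, 446, 560, 552, 32, 986, 800, 672, 512],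
  [1, 2, 60, 40, 48, 32, 960, 640, 768, 512], [1, 2, 204, 136, 816, 544, 192, 128, 768, 512],
  [1, 2, 12, 8, 192, 128, 48, 32, 768, 512], [513, 2, 942, 520, 560, 32, 704, 128, 768, 512],
  [769, 2, 780, 762, 48, 800, 192, 896, 768, 512], [545, 2, 910, 560, 520, 32, 250, 800, 160, 512],
  [1, 2, 340, 680, 272, 544, 320, 640, 256, 512], [1, 2, 68, 136, 64, 128, 272, 544, 256, 512],
  [513, 2, 950, 552, 528, 32, 832, 640, 256, 512], [769, 2, 742, 474, 784, 800, 576, 384, 256, 512],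
  [545, 2, 918, 528, 552, 32, 378, 288, 672, 512], [1, 2, 20, 40, 320, 640, 16, 32, 256, 512],
  [513, 2, 998, 648, 784, 544, 576, 128, 256, 512], [769, 2, 694, 378, 528, 288, 832, 896, 256, 512],
  [545, 2, 612, 272, 136, 544, 986, 800, 672, 512], [513, 2, 422, 520, 576, 128, 528, 32, 256, 512],
  [769, 2, 502, 762, 832, 896, 784, 800, 256, 512], [545, 2, 446, 560, 986, 800, 552, 32, 672, 512],
  [257, 2, 84, 250, 272, 800, 320, 896, 256, 512], [33, 2, 28, 48, 40, 32, 474, 800, 672, 512],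
  [257, 2, 862, 602, 304, 288, 448, 384, 768, 512], [641, 2, 494, 704, 648, 128, 890, 896, 672, 512],
  [33, 2, 638, 304, 168, 544, 602, 288, 160, 512], [1, 2, 1020, 680, 816, 544, 960, 640, 768, 512],
  [1, 2, 204, 136, 192, 128, 816, 544, 768, 512], [513, 2, 414, 552, 560, 32, 448, 640, 768, 512],
  [769, 2, 828, 474, 48, 800, 960, 384, 768, 512], [545, 2, 390, 528, 520, 32, 90, 288, 160, 512],
  [1, 2, 60, 40, 960, 640, 48, 32, 768, 512], [513, 2, 366, 648, 304, 544, 704, 128, 768, 512],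
  [769, 2, 972, 378, 816, 288, 192, 896, 768, 512], [545, 2, 884, 272, 680, 544, 250, 800, 160, 512],
  [513, 2, 942, 520, 704, 128, 560, 32, 768, 512], [769, 2, 780, 762, 192, 896, 48, 800, 768, 512],
  [545, 2, 910, 560, 250, 800, 520, 32, 160, 512], [257, 2, 174, 250, 560, 800, 704, 896, 768, 512],
  [33, 2, 44, 48, 8, 32, 762, 800, 160, 512], [257, 2, 260, 602, 16, 288, 64, 384, 256, 512],
  [641, 2, 814, 704, 520, 128, 250, 896, 160, 512], [33, 2, 846, 304, 648, 544, 890, 288, 672, 512],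
  [1, 2, 340, 680, 320, 640, 272, 544, 256, 512], [513, 2, 246, 168, 784, 544, 832, 640, 256, 512],
  [769, 2, 166, 90, 528, 288, 576, 384, 256, 512], [545, 2, 748, 816, 136, 544, 378, 288, 672, 512],
  [513, 2, 998, 648, 576, 128, 784, 544, 256, 512], [769, 2, 694, 378, 832, 896, 528, 288, 256, 512],
  [545, 2, 612, 272, 986, 800, 136, 544, 672, 512], [257, 2, 324, 986, 272, 800, 64, 384, 256, 512],
  [33, 2, 52, 16, 40, 32, 890, 288, 672, 512], [257, 2, 622, 890, 304, 288, 704, 896, 768, 512],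
  [641, 2, 870, 576, 648, 128, 474, 384, 672, 512], [33, 2, 726, 784, 168, 544, 762, 800, 160, 512],
  [513, 2, 950, 552, 832, 640, 528, 32, 256, 512], [769, 2, 742, 474, 576, 384, 784, 800, 256, 512],
  [545, 2, 918, 528, 378, 288, 552, 32, 672, 512], [257, 2, 276, 890, 16, 288, 320, 896, 256, 512],
  [33, 2, 454, 784, 648, 544, 474, 800, 672, 512], [257, 2, 670, 986, 560, 800, 448, 384, 768, 512],
  [641, 2, 660, 320, 40, 640, 890, 896, 672, 512], [33, 2, 36, 16, 8, 32, 602, 288, 160, 512],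
  [257, 2, 84, 250, 320, 896, 272, 800, 256, 512], [33, 2, 28, 48, 474, 800, 40, 32, 672, 512],
  [257, 2, 862, 602, 448, 384, 304, 288, 768, 512], [641, 2, 494, 704, 890, 896, 648, 128, 672, 512],
  [33, 2, 638, 304, 602, 288, 168, 544, 160, 512], [769, 2, 252, 90, 816, 288, 960, 384, 768, 512],
  [129, 2, 76, 192, 136, 128, 378, 896, 672, 512], [545, 2, 476, 816, 680, 544, 90, 288, 160, 512],
  [513, 2, 94, 168, 304, 544, 448, 640, 768, 512], [129, 2, 734, 448, 168, 640, 602, 384, 160, 512],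
  [1, 2, 1020, 680, 960, 640, 816, 544, 768, 512], [513, 2, 366, 648, 704, 128, 304, 544, 768, 512],
  [769, 2, 972, 378, 192, 896, 816, 288, 768, 512], [545, 2, 884, 272, 250, 800, 680, 544, 160, 512],
  [641, 2, 294, 576, 520, 128, 90, 384, 160, 512], [513, 2, 414, 552, 448, 640, 560, 32, 768, 512],
  [769, 2, 828, 474, 960, 384, 48, 800, 768, 512], [545, 2, 390, 528, 90, 288, 520, 32, 160, 512],
  [641, 2, 980, 320, 680, 640, 250, 896, 160, 512], [257, 2, 174, 250, 704, 896, 560, 800, 768, 512],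
  [33, 2, 44, 48, 762, 800, 8, 32, 160, 512], [257, 2, 260, 602, 64, 384, 16, 288, 256, 512],
  [641, 2, 814, 704, 250, 896, 520, 128, 160, 512], [33, 2, 846, 304, 890, 288, 648, 544, 672, 512],
  [129, 2, 140, 192, 8, 128, 762, 896, 160, 512], [129, 2, 798, 448, 552, 640, 986, 384, 672, 512],
  [513, 2, 246, 168, 832, 640, 784, 544, 256, 512], [769, 2, 166, 90, 576, 384, 528, 288, 256, 512],
  [545, 2, 748, 816, 378, 288, 136, 544, 672, 512], [641, 2, 700, 960, 40, 640, 474, 384, 672, 512],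
  [257, 2, 276, 890, 320, 896, 16, 288, 256, 512], [33, 2, 454, 784, 474, 800, 648, 544, 672, 512],
  [257, 2, 670, 986, 448, 384, 560, 800, 768, 512], [641, 2, 660, 320, 890, 896, 40, 640, 672, 512],
  [33, 2, 36, 16, 602, 288, 8, 32, 160, 512], [129, 2, 196, 64, 136, 128, 986, 384, 672, 512],
  [129, 2, 630, 832, 168, 640, 762, 896, 160, 512], [257, 2, 324, 986, 64, 384, 272, 800, 256, 512],
  [33, 2, 52, 16, 890, 288, 40, 32, 672, 512], [257, 2, 622, 890, 704, 896, 304, 288, 768, 512],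
  [641, 2, 870, 576, 474, 384, 648, 128, 672, 512], [33, 2, 726, 784, 762, 800, 168, 544, 160, 512],
  [129, 2, 310, 832, 552, 640, 378, 896, 672, 512], [129, 2, 132, 64, 8, 128, 602, 384, 160, 512],
  [769, 2, 252, 90, 960, 384, 816, 288, 768, 512], [129, 2, 76, 192, 378, 896, 136, 128, 672, 512],
  [545, 2, 476, 816, 90, 288, 680, 544, 160, 512], [513, 2, 94, 168, 448, 640, 304, 544, 768, 512],
  [129, 2, 734, 448, 602, 384, 168, 640, 160, 512], [641, 2, 380, 960, 680, 640, 90, 384, 160, 512],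
  [641, 2, 980, 320, 250, 896, 680, 640, 160, 512], [641, 2, 294, 576, 90, 384, 520, 128, 160, 512],
  [129, 2, 140, 192, 762, 896, 8, 128, 160, 512], [129, 2, 798, 448, 986, 384, 552, 640, 672, 512],
  [641, 2, 700, 960, 474, 384, 40, 640, 672, 512], [129, 2, 310, 832, 378, 896, 552, 640, 672, 512],
  [129, 2, 132, 64, 602, 384, 8, 128, 160, 512], [129, 2, 196, 64, 986, 384, 136, 128, 672, 512],
  [129, 2, 630, 832, 762, 896, 168, 640, 160, 512], [641, 2, 380, 960, 90, 384, 680, 640, 160, 512]]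

/-- Spanning tree: element `k + 1` is the product of element `p` and generator `j`. -/
def tree : List (ℕ × ℕ) := [(0, 0), (0, 1), (0, 2), (0, 3), (0, 4), (0, 5), (0, 6), (1, 1), (1, 2), (1, 3), (1, 4), (1, 5), (1, 6), (2,
  2), (2, 3), (2, 4), (2, 5), (2, 6), (3, 3), (3, 4), (3, 5), (3, 6), (4, 4), (4, 5), (4, 6), (5, 5), (5, 6),
  (6, 0), (6, 6), (7, 2), (8, 2), (8, 3), (8, 4), (8, 5), (8, 6), (9, 3), (9, 4), (9, 5), (9, 6), (10, 4),
  (10, 5), (10, 6), (11, 5), (11, 6), (12, 0), (12, 6), (13, 2), (14, 3), (14, 4), (14, 5), (14, 6), (15, 4),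
  (15, 5), (15, 6), (16, 5), (16, 6), (17, 0), (17, 6), (18, 2), (19, 4), (19, 5), (19, 6), (20, 5), (20, 6),
  (21, 0), (21, 6), (22, 2), (23, 5), (23, 6), (24, 0), (24, 6), (25, 2), (26, 0), (26, 6), (27, 2), (28, 5),
  (28, 6), (31, 3), (32, 4), (32, 5), (32, 6), (34, 6), (36, 4), (36, 5), (36, 6), (38, 6), (40, 5), (40, 6),
  (41, 0), (41, 6), (42, 2), (43, 6), (45, 6), (48, 4), (48, 5), (48, 6), (50, 6), (52, 5), (52, 6), (53, 0),
  (53, 6), (54, 2), (55, 6), (57, 6), (60, 5), (60, 6), (61, 0), (61, 6), (62, 2), (63, 6), (65, 6), (68, 0),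
  (68, 6), (69, 2), (70, 5), (70, 6), (73, 6), (80, 6), (84, 6), (87, 6), (89, 6), (95, 6), (98, 6), (100, 6),
  (105, 6), (107, 6), (112, 6)]

theorem SL_len : SL.length = 128 := by decide +kernel

theorem SL_closed_gen : ∀ a ∈ SL, ∀ g ∈ gs, mulM a g ∈ SL := by decide +kernel

theorem tree_ok : ∀ k < 127, (tree.getD k (0, 0)).1 ≤ k ∧ (tree.getD k (0, 0)).2 < 7 ∧
    SL.getD (k + 1) [] = mulM (SL.getD (tree.getD k (0, 0)).1 []) (gs.getD (tree.getD k (0, 0)).2 []) := by
  decide +kernel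

/-- The five involutions with `|C(a)| = 256`. -/
def i256 : List (List ℕ) := [[1, 2, 4, 8, 64, 128, 16, 32, 256, 512], [513, 2, 422, 520, 528, 32, 576, 128, 256, 512], [769, 2, 502,
  762, 784, 800, 832, 896, 256, 512], [257, 2, 260, 602, 16, 288, 64, 384, 256, 512], [1, 2, 340, 680, 320,
  640, 272, 544, 256, 512]]

/-- The 38 involutions with `|C(a)| = 64`, with a basis of `C(a)`. -/
def i64 : List (List ℕ × List ℕ) := [([1, 2, 12, 8, 48, 32, 192, 128, 768, 512], [1, 2, 8, 32, 128, 512]), ([1, 2, 20, 40, 16, 32, 320, 640,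
  256, 512], [1, 2, 16, 32, 256, 512]), ([1, 2, 68, 136, 272, 544, 64, 128, 256, 512], [1, 2, 64, 128, 256,
  512]), ([545, 2, 446, 560, 552, 32, 986, 800, 672, 512], [2, 24, 32, 69, 384, 512]), ([1, 2, 60, 40, 48, 32,
  960, 640, 768, 512], [1, 2, 24, 32, 384, 512]), ([1, 2, 204, 136, 816, 544, 192, 128, 768, 512], [1, 2, 72,
  128, 288, 512]), ([1, 2, 12, 8, 192, 128, 48, 32, 768, 512], [1, 2, 8, 112, 160, 512]), ([513, 2, 942, 520,
  560, 32, 704, 128, 768, 512], [2, 9, 32, 128, 257, 512]), ([1, 2, 340, 680, 272, 544, 320, 640, 256, 512],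
  [1, 2, 80, 160, 256, 512]), ([513, 2, 950, 552, 528, 32, 832, 640, 256, 512], [2, 17, 32, 129, 256, 512]),
  ([769, 2, 742, 474, 784, 800, 576, 384, 256, 512], [2, 17, 33, 193, 256, 512]), ([513, 2, 998, 648, 784,
  544, 576, 128, 256, 512], [2, 33, 65, 128, 256, 512]), ([769, 2, 694, 378, 528, 288, 832, 896, 256, 512],
  [2, 49, 65, 129, 256, 512]), ([513, 2, 422, 520, 576, 128, 528, 32, 256, 512], [2, 9, 80, 160, 256, 512]),
  ([769, 2, 502, 762, 832, 896, 784, 800, 256, 512], [2, 13, 80, 160, 256, 512]), ([257, 2, 84, 250, 272, 800,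
  320, 896, 256, 512], [2, 17, 65, 160, 256, 512]), ([33, 2, 28, 48, 40, 32, 474, 800, 672, 512], [2, 13, 21,
  32, 384, 512]), ([1, 2, 1020, 680, 816, 544, 960, 640, 768, 512], [1, 2, 120, 160, 288, 512]), ([513, 2,
  414, 552, 560, 32, 448, 640, 768, 512], [2, 24, 32, 129, 257, 512]), ([545, 2, 390, 528, 520, 32, 90, 288,
  160, 512], [2, 24, 32, 205, 333, 512]), ([513, 2, 366, 648, 304, 544, 704, 128, 768, 512], [2, 33, 72, 128,
  257, 512]), ([513, 2, 942, 520, 704, 128, 560, 32, 768, 512], [2, 9, 112, 160, 257, 512]), ([513, 2, 246,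
  168, 784, 544, 832, 640, 256, 512], [2, 33, 80, 129, 256, 512]), ([769, 2, 166, 90, 528, 288, 576, 384, 256,
  512], [2, 49, 80, 145, 256, 512]), ([257, 2, 324, 986, 272, 800, 64, 384, 256, 512], [2, 17, 64, 129, 256,
  512]), ([257, 2, 276, 890, 16, 288, 320, 896, 256, 512], [2, 16, 33, 65, 256, 512]), ([33, 2, 36, 16, 8, 32,
  602, 288, 160, 512], [2, 5, 24, 32, 384, 512]), ([257, 2, 84, 250, 320, 896, 272, 800, 256, 512], [2, 21,
  69, 160, 256, 512]), ([641, 2, 494, 704, 890, 896, 648, 128, 672, 512], [2, 21, 72, 128, 288, 512]), ([513,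
  2, 94, 168, 304, 544, 448, 640, 768, 512], [2, 33, 88, 129, 257, 512]), ([1, 2, 1020, 680, 960, 640, 816,
  544, 768, 512], [1, 2, 40, 136, 344, 512]), ([257, 2, 260, 602, 64, 384, 16, 288, 256, 512], [2, 5, 80, 160,
  256, 512]), ([513, 2, 246, 168, 832, 640, 784, 544, 256, 512], [2, 41, 80, 137, 256, 512]), ([769, 2, 166,
  90, 576, 384, 528, 288, 256, 512], [2, 61, 80, 157, 256, 512]), ([129, 2, 76, 192, 378, 896, 136, 128, 672,
  512], [2, 13, 69, 128, 288, 512]), ([513, 2, 94, 168, 448, 640, 304, 544, 768, 512], [2, 41, 88, 137, 257,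
  512]), ([641, 2, 294, 576, 90, 384, 520, 128, 160, 512], [2, 61, 72, 128, 285, 512]), ([129, 2, 132, 64,
  602, 384, 8, 128, 160, 512], [2, 5, 72, 128, 288, 512])]

/-- All involutions. -/
def invs : List (List ℕ) := i256 ++ i64.map Prod.fst

theorem SL_lt : ∀ m ∈ SL, m.length = 10 ∧ ∀ a ∈ m, a < 1024 := by decide +kernel

theorem SL_inv : ∀ m ∈ SL, mulM m m = idM → m = idM ∨ m ∈ i256 ∨ m ∈ i64.map Prod.fst := by decide +kernel

theorem SL_exp : ∀ m ∈ SL, mulM (mulM (mulM m m) (mulM m m)) (mulM (mulM m m) (mulM m m)) = idM := by decide +kernel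

/-- Number of fixed vectors. -/
def nf (m : List ℕ) : ℕ := (List.range 1024).countP (fun v => ap m v == v)

def nf2 (m m' : List ℕ) : ℕ := (List.range 1024).countP (fun v => ap m v == v && ap m' v == v)

theorem nf_256 : ∀ m ∈ i256, nf m = 256 := by decide +kernel

theorem nf_64 : ∀ p ∈ i64, nf p.1 = 64 := by decide +kernel

theorem nf2_256 : ∀ m ∈ i256, ∀ m' ∈ i256, m = m' ∨ nf2 m m' ≤ 64 := by decide +kernel

theorem bas_64 : ∀ p ∈ i64, (∀ u ∈ p.2, u < 1024 ∧ ap p.1 u = u) ∧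
    (invs.filter (fun b => p.2.all (fun u => ap b u == u))).length ≤ 3 := by decide +kernel

theorem com_inv : (invs.filter (fun a => Nat.ble 31 (invs.countP (fun b => mulM a b == mulM b a)))).length ≤ 3 := by
  decide +kernel

end Cfsg.Agent.StdO8.Shadow
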