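import Mathlib

/-!
# The input of the Fi22.2 shadow (S1734, `L` of type Ω₈⁺(2), `ε = (1,1,1)`)

`z` = highest root element, `e S` (`S < 8`, bit `i` of `S`) = root element of `α₂ + ∑_{i ∈ S} αᵢ`, `s i`, `n i` = root elements
of `αᵢ`, `-αᵢ` (the three outer nodes), `x` = the involution over `z`, `x'` the involution over `e 7`.
-/

set_option autoImplicit false

namespace Cfsg.Agent.StdO8.Shadow

/-- Equality up to the factor `z`. -/
def E {G : Type*} [Group G] (z a b : G) : Prop := a = b ∨ a = b * z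

structure Base {G : Type*} [Group G] (t x z : G) (e s n : ℕ → G) (x' : G) : Prop where
  tt : t * t = 1
  xx : x * x = 1
  zz : z * z = 1
  z_ne : z ≠ 1
  zt : z * t = t * z
  zx : z * x = x * z
  ze : ∀ S < 8, z * e S = e S * z
  zs : ∀ i < 3, z * s i = s i * z
  zn : ∀ i < 3, z * n i = n i * z
  zx' : z * x' = x' * z
  tx : t * x = x * t * z
  te : ∀ S < 8, t * e S = e S * t
  xe : ∀ S < 8, x * e S = e S * x
  ee : ∀ S < 8, e S * e S = 1
  ec : ∀ S < 8, ∀ R < 8, R ≠ 7 - S → e S * e R = e R * e S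
  ed : ∀ S < 8, e S * e (7 - S) = e (7 - S) * e S * z
  cQ : ∀ g, g * t = t * g → (∀ S < 8, g * e S = e S * g) → g = 1 ∨ g = t ∨ g = z ∨ g = t * z
  ts : ∀ i < 3, t * s i = s i * t
  tn : ∀ i < 3, t * n i = n i * t
  xs : ∀ i < 3, E z ((s i)⁻¹ * x * s i) x
  xn : ∀ i < 3, E z ((n i)⁻¹ * x * n i) x
  es : ∀ i < 3, ∀ S < 8, E z ((s i)⁻¹ * e S * s i) (if S.testBit i then e S else e S * e (S + 2 ^ i))
  en : ∀ i < 3, ∀ S < 8, E z ((n i)⁻¹ * e S * n i) (if S.testBit i then e S * e (S - 2 ^ i) else e S)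
  tx' : E z (x'⁻¹ * t * x') (t * e 7)
  e1' : ∀ S, (S = 1 ∨ S = 2 ∨ S = 4) → E z (x'⁻¹ * e S * x') (e S * e 7)
  e3' : ∀ S, (S = 3 ∨ S = 5 ∨ S = 6 ∨ S = 7) → E z (x'⁻¹ * e S * x') (e S)

/-- The data with `δ = 0`. -/
structure Data {G : Type*} [Group G] (t x z : G) (e s n : ℕ → G) (x' : G) : Prop extends Base t x z e s n x' where
  xx' : E z (x'⁻¹ * x * x') x
  e0' : E z (x'⁻¹ * e 0 * x') (e 0 * x * e 3 * e 5 * e 6)
  nz : ¬ IsConj t z
  cardC : ¬ 2 ^ 15 ∣ Nat.card (Subgroup.centralizer ({t} : Set G))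
  five : ∀ g, g * t = t * g → g * z = z * g → g ^ 5 = 1 → g = 1
  norm : ∀ g, g * t = t * g → g * z = z * g → ∀ S < 8, g⁻¹ * e S * g ∈ Subgroup.closure (e '' Set.Iio 8)

/-- The data with `δ = 1`. -/
structure Data1 {G : Type*} [Group G] (t x z : G) (e s n : ℕ → G) (x' : G) : Prop extends Base t x z e s n x' where
  xx' : E z (x'⁻¹ * x * x') (x * e 7)
  e0' : E z (x'⁻¹ * e 0 * x') (e 0 * x * t * e 3 * e 5 * e 6 * e 7)
  nr : ∀ g, g * t = t * g → g * z = z * g → ¬ E z (g⁻¹ * e 0 * g) (e 1 * e 3 * e 5)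

end Cfsg.Agent.StdO8.Shadow
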