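import Cfsg.Agent.StdO8.ShadowOrb

/-!
# The groups `M` and `S` in the centraliser of `z`
-/

set_option autoImplicit false

namespace Cfsg.Agent.StdO8.Shadow

section

universe u

variable {C H : Type u} [Group C] [Group H] {z : C} {w : ℕ → C} {π : C →* H}

/-- The action of an element of `C`. -/
abbrev Act (π : C →* H) (w : ℕ → C) (g : C) (m : List ℕ) : Prop := ActH (WB π w) (π g) m

theorem Act.mul (D : CD z w) (Q : Quo z π) {g h : C} {a b : List ℕ} (h1 : Act π w g a) (h2 : Act π w h b) :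
    Act π w (g * h) (mulM a b) := by
  unfold Act
  rw [map_mul]
  exact ActH.mul (D.elW Q) h1 h2

theorem Act.one : Act π w 1 idM := by
  unfold Act
  rw [map_one]
  exact (actH_idM_iff WB_length).2 (fun a _ => by group)

theorem Act.pow (D : CD z w) (Q : Quo z π) {g : C} {a : List ℕ} (h1 : Act π w g a) (n : ℕ) :
    Act π w (g ^ n) ((fun b => mulM b a)^[n] idM) := by
  induction n with
  | zero => rw [pow_zero]; exact Act.one
  | succ n ih =>
    rw [pow_succ, Function.iterate_succ_apply']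
    exact ih.mul D Q h1

/-- `M`. -/
def MM (D : CD z w) (Q : Quo z π) : Subgroup C := (MH (WB π w) (D.elW Q)).comap π

theorem mem_MM (D : CD z w) (Q : Quo z π) {g : C} :
    g ∈ MM D Q ↔ ∃ v < 1024, ∃ b : Bool, g = ph (WL w) v * zb z b := by
  constructor
  · rintro ⟨v, hv, h⟩
    refine ⟨v, hv, ?_⟩
    have h1 : π g = π (ph (WL w) v) := by rw [map_ph]; exact h
    rcases (Q.eq_iff _ _).1 h1 with h2 | h2
    · exact ⟨false, by rw [h2]; simp [zb]⟩
    · exact ⟨true, h2⟩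
  · rintro ⟨v, hv, b, rfl⟩
    refine ⟨v, hv, ?_⟩
    rw [Q.zb, map_ph]
    rfl

theorem MM_act (D : CD z w) (Q : Quo z π) {g : C} (hg : g ∈ MM D Q) : Act π w g idM := by
  obtain ⟨v, hv, h⟩ := hg
  unfold Act
  rw [h, actH_idM_iff WB_length]
  intro a ha
  have := comm_ph (g := a) (L := WB π w) (fun b hb => (D.elW Q).comm a ha b hb) v
  rw [mul_assoc, this, inv_mul_cancel_left]

theorem mem_MM_of_act (D : CD z w) (Q : Quo z π) {g : C} (hg : Act π w g idM) : g ∈ MM D Q := by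
  have h1 : ∀ i < 10, π (g⁻¹ * w i * g) = π (w i) := by
    intro i hi
    rw [map_mul, map_mul, map_inv]
    exact (actH_idM_iff WB_length).1 hg _ (WB_mem hi)
  obtain ⟨v, hv, h⟩ := D.kerW Q h1
  rw [mem_MM]
  rcases h with h | h
  · exact ⟨v, hv, false, by rw [h]; simp [zb]⟩
  · exact ⟨v, hv, true, h⟩

theorem Act.uniq (D : CD z w) (Q : Quo z π) {g : C} {a b : List ℕ} (ha : ∀ c ∈ a, c < 1024) (hb : ∀ c ∈ b, c < 1024)
    (h1 : Act π w g a) (h2 : Act π w g b) : a = b := ActH.uniq (D.injW Q) ha hb h1 h2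

theorem Act.conj (D : CD z w) (Q : Quo z π) {g : C} {m : List ℕ} (h : Act π w g m) (v : ℕ) :
    π (g⁻¹ * ph (WL w) v * g) = π (ph (WL w) (ap m v)) := by
  rw [map_mul, map_mul, map_inv, map_ph, map_ph]
  exact ActH.conj_ph (D.elW Q) h v

variable [Finite C]

/-- `S`. -/
def SS (D : CD z w) (Q : Quo z π) : Subgroup C where
  carrier := {g | ∃ m ∈ SL, Act π w g m}
  one_mem' := ⟨idM, idM_mem, Act.one⟩
  mul_mem' := by
    rintro a b ⟨m, hm, ha⟩ ⟨m', hm', hb⟩
    exact ⟨mulM m m', SL_mul m' hm' m hm, ha.mul D Q hb⟩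
  inv_mem' := by
    rintro a ⟨m, hm, ha⟩
    have key : ∀ n : ℕ, (fun b => mulM b m)^[n] idM ∈ SL := by
      intro n
      induction n with
      | zero => exact idM_mem
      | succ n ih => rw [Function.iterate_succ_apply']; exact SL_mul m hm _ ih
    have h1 : a⁻¹ = a ^ (orderOf a - 1) := by
      rw [eq_comm, eq_inv_iff_mul_eq_one, ← pow_succ, Nat.sub_add_cancel (orderOf_pos a), pow_orderOf_eq_one]
    change ∃ m ∈ SL, Act π w a⁻¹ m
    rw [h1]
    exact ⟨_, key _, ha.pow D Q _⟩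

theorem mem_SS (D : CD z w) (Q : Quo z π) {g : C} : g ∈ SS D Q ↔ ∃ m ∈ SL, Act π w g m := Iff.rfl

theorem MM_le_SS (D : CD z w) (Q : Quo z π) : MM D Q ≤ SS D Q := fun _ hg => ⟨idM, idM_mem, MM_act D Q hg⟩

omit [Finite C] in
theorem card_MM (D : CD z w) (Q : Quo z π) : Nat.card (MM D Q) = 2048 := by
  have h1 : Nat.card (Fin 1024 × Bool) = 2048 := by simp
  rw [← h1]
  symm
  refine Nat.card_congr (Equiv.ofBijective (fun p => ⟨ph (WL w) p.1 * zb z p.2,
    (mem_MM D Q).2 ⟨p.1, p.1.2, p.2, rfl⟩⟩) ⟨?_, ?_⟩)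
  · rintro ⟨a, b⟩ ⟨a', b'⟩ h
    have h2 : ph (WL w) a * zb z b = ph (WL w) a' * zb z b' := congrArg Subtype.val h
    have h3 : (a : ℕ) = a' := by
      apply D.injW Q a a.2 a' a'.2
      have := congrArg π h2
      rw [Q.zb, Q.zb, map_ph, map_ph] at this
      exact this
    rw [h3] at h2
    have h4 := mul_left_cancel h2
    have h5 : b = b' := by
      cases b <;> cases b'
      · rfl
      · exact absurd h4.symm (by simpa [zb] using D.z1)
      · exact absurd h4 (by simpa [zb] using D.z1)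
      · rfl
    rw [h5, Fin.ext h3]
  · rintro ⟨g, hg⟩
    obtain ⟨v, hv, b, rfl⟩ := (mem_MM D Q).1 hg
    exact ⟨(⟨v, hv⟩, b), rfl⟩

theorem SS_idx_aux (D : CD z w) (Q : Quo z π) {a b : C} (ha : a ∈ SS D Q) {m : List ℕ} (hm : m ∈ SL)
    (h1 : Act π w a m) (h2 : Act π w b m) : a⁻¹ * b ∈ MM D Q := by
  obtain ⟨m', hm', h3⟩ := (SS D Q).inv_mem ha
  have h4 := h3.mul D Q h1
  rw [inv_mul_cancel] at h4
  have h5 := h4.uniq D Q (mulM_lt (SL_getlt hm)) idM_lt Act.one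
  apply mem_MM_of_act D Q
  have h6 := h3.mul D Q h2
  rwa [h5] at h6

theorem card_SS_le (D : CD z w) (Q : Quo z π) : Nat.card (SS D Q) ≤ 2 ^ 18 := by
  classical
  have h1 := Subgroup.card_eq_card_quotient_mul_card_subgroup ((MM D Q).subgroupOf (SS D Q))
  have h2 : Nat.card ((MM D Q).subgroupOf (SS D Q)) = 2048 := by
    rw [← card_MM D Q]
    exact Nat.card_congr (Subgroup.subgroupOfEquivOfLe (MM_le_SS D Q)).toEquiv
  have h3 : Nat.card (SS D Q ⧸ (MM D Q).subgroupOf (SS D Q)) ≤ 128 := by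
    have hρ : ∀ g : SS D Q, ∃ m ∈ SL, Act π w g m := fun g => g.2
    choose ρ hρ1 hρ2 using hρ
    let f : (SS D Q ⧸ (MM D Q).subgroupOf (SS D Q)) → SL.toFinset := fun q =>
      ⟨ρ q.out, List.mem_toFinset.2 (hρ1 _)⟩
    have hf : Function.Injective f := by
      intro p q hpq
      have h4 : ρ p.out = ρ q.out := congrArg Subtype.val hpq
      rw [← QuotientGroup.out_eq' p, ← QuotientGroup.out_eq' q, QuotientGroup.eq, Subgroup.mem_subgroupOf]
      exact SS_idx_aux D Q p.out.2 (hρ1 _) (hρ2 _) (by rw [h4]; exact hρ2 _)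
    have h5 := Nat.card_le_card_of_injective f hf
    have h6 : Nat.card SL.toFinset ≤ 128 := by
      rw [Nat.card_eq_fintype_card, Fintype.card_coe, ← SL_len]
      exact List.toFinset_card_le _
    exact h5.trans h6
  rw [h1, h2]
  calc _ ≤ 128 * 2048 := Nat.mul_le_mul_right _ h3
    _ = 2 ^ 18 := by norm_num

theorem SS_pow (D : CD z w) (Q : Quo z π) {g : C} (hg : g ∈ SS D Q) : g ^ 2 ^ 5 = 1 := by
  obtain ⟨m, hm, h⟩ := hg
  have h1 := h.mul D Q h
  have h2 := h1.mul D Q h1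
  have h3 := h2.mul D Q h2
  rw [SL_exp m hm] at h3
  have h4 := mem_MM_of_act D Q h3
  obtain ⟨v, hv, b, h5⟩ := (mem_MM D Q).1 h4
  have h6 : (ph (WL w) v * zb z b) * (ph (WL w) v * zb z b) = zb z (sqf tails v) := by
    have h7 := sq_ph D.zz D.zc D.tc v
    calc _ = ph (WL w) v * (zb z b * ph (WL w) v) * zb z b := by group
      _ = (ph (WL w) v * ph (WL w) v) * (zb z b * zb z b) := by rw [← D.zbc]; group
      _ = zb z (sqf tails v) := by rw [h7, ← zb_xor D.zz, Bool.xor_self]; simp [zb]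
  have h8 : g ^ 2 ^ 5 = ((g * g * (g * g) * (g * g * (g * g))) * (g * g * (g * g) * (g * g * (g * g)))) *
      ((g * g * (g * g) * (g * g * (g * g))) * (g * g * (g * g) * (g * g * (g * g)))) := by
    simp only [← pow_two, ← pow_mul]
    norm_num
  rw [h8, h5, h6, ← zb_xor D.zz, Bool.xor_self]
  rfl

theorem SS_pgroup (D : CD z w) (Q : Quo z π) : IsPGroup 2 (SS D Q) := fun g =>
  ⟨5, Subtype.ext (SS_pow D Q g.2)⟩

/-- Weak closure of `M` in `S`. -/
theorem weakC (D : CD z w) (Q : Quo z π) (c : C) (h : ∀ g ∈ MM D Q, c⁻¹ * g * c ∈ SS D Q) :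
    ∀ g ∈ MM D Q, c⁻¹ * g * c ∈ MM D Q := by
  have hW := D.elW Q
  set K : Subgroup H := (MH (WB π w) hW).map (MulAut.conj (π c)⁻¹).toMonoidHom with hK
  have hmem : ∀ k ∈ K, ∃ v < 1024, k = (π c)⁻¹ * ph (WB π w) v * π c := by
    rintro k ⟨y, ⟨v, hv, rfl⟩, rfl⟩
    exact ⟨v, hv, by simp⟩
  have hcardMH : Nat.card (MH (WB π w) hW) = 1024 := by
    have h1 : Nat.card (Fin 1024) = 1024 := by simp
    rw [← h1]
    symm
    refine Nat.card_congr (Equiv.ofBijective (fun v => ⟨ph (WB π w) v, v, v.2, rfl⟩) ⟨?_, ?_⟩)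
    · intro a b hab
      exact Fin.ext (D.injW Q a a.2 b b.2 (congrArg Subtype.val hab))
    · rintro ⟨g, v, hv, rfl⟩
      exact ⟨⟨v, hv⟩, rfl⟩
  have hw := weak hW WB_length (D.injW Q) ?_ K ?_ ?_ ?_ ?_
  · intro g hg
    obtain ⟨v, hv, hgv⟩ := hg
    have h1 : (π c)⁻¹ * ph (WB π w) v * π c ∈ K := ⟨ph (WB π w) v, ⟨v, hv, rfl⟩, by simp⟩
    have h2 := hw h1
    change π (c⁻¹ * g * c) ∈ MH (WB π w) hW
    rw [map_mul, map_mul, map_inv, hgv]
    exact h2
  · intro k hk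
    obtain ⟨g, rfl⟩ := Q.surj k
    obtain ⟨v, hv, b, h1⟩ := (mem_MM D Q).1 (mem_MM_of_act D Q hk)
    exact ⟨v, hv, by rw [h1, Q.zb, map_ph]; rfl⟩
  · intro k hk
    obtain ⟨v, hv, rfl⟩ := hmem k hk
    have h1 := h (ph (WL w) v) ((mem_MM D Q).2 ⟨v, hv, false, by simp [zb]⟩)
    obtain ⟨m, hm, h2⟩ := h1
    refine ⟨m, hm, ?_⟩
    unfold Act at h2
    rw [map_mul, map_mul, map_inv, map_ph] at h2
    exact h2
  · intro a ha b hb
    obtain ⟨u, _, rfl⟩ := hmem a ha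
    obtain ⟨v, _, rfl⟩ := hmem b hb
    have := hW.ph_comm u v
    calc (π c)⁻¹ * ph (WB π w) u * π c * ((π c)⁻¹ * ph (WB π w) v * π c)
        = (π c)⁻¹ * (ph (WB π w) u * ph (WB π w) v) * π c := by group
      _ = _ := by rw [this]; group
  · intro a ha
    obtain ⟨u, _, rfl⟩ := hmem a ha
    calc (π c)⁻¹ * ph (WB π w) u * π c * ((π c)⁻¹ * ph (WB π w) u * π c)
        = (π c)⁻¹ * (ph (WB π w) u * ph (WB π w) u) * π c := by group
      _ = 1 := by rw [hW.ph_sq]; group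
  · rw [hK, ← hcardMH]
    exact Subgroup.card_map_of_injective (MulEquiv.injective _)

end

end Cfsg.Agent.StdO8.Shadow
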