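import Cfsg.Agent.StdO8.ShadowDefs
import Cfsg.Agent.StdO8.ShadowGrp

/-!
# From the data in `G` to the centraliser of `z`
-/

set_option autoImplicit false

namespace Cfsg.Agent.StdO8.Shadow

universe u

variable {G : Type u} [Group G] {t x z x' : G} {e s n : ℕ → G}

/-- The centraliser of `z`. -/
abbrev Cz (z : G) : Subgroup G := Subgroup.centralizer ({z} : Set G)

theorem mem_Cz {g : G} : g ∈ Cz z ↔ g * z = z * g := Subgroup.mem_centralizer_singleton_iff

/-- The ten generators. -/
def wG (t x : G) (e : ℕ → G) : ℕ → G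
  | 0 => t
  | 1 => x
  | 2 => e 0
  | 3 => e 1
  | 4 => e 2
  | 5 => e 3
  | 6 => e 4
  | 7 => e 5
  | 8 => e 6
  | 9 => e 7
  | _ => 1

theorem wG_e {k : ℕ} (hk : k < 8) : wG t x e (k + 2) = e k := by
  interval_cases k <;> rfl

theorem Base.wG_mem (B : Base t x z e s n x') (i : ℕ) : wG t x e i ∈ Cz z := by
  rw [mem_Cz]
  match i with
  | 0 => exact B.zt.symm
  | 1 => exact B.zx.symm
  | 2 => exact (B.ze 0 (by norm_num)).symm
  | 3 => exact (B.ze 1 (by norm_num)).symm
  | 4 => exact (B.ze 2 (by norm_num)).symm
  | 5 => exact (B.ze 3 (by norm_num)).symm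
  | 6 => exact (B.ze 4 (by norm_num)).symm
  | 7 => exact (B.ze 5 (by norm_num)).symm
  | 8 => exact (B.ze 6 (by norm_num)).symm
  | 9 => exact (B.ze 7 (by norm_num)).symm
  | k + 10 => simp [wG]

/-- The generators in the centraliser. -/
def Base.wC (B : Base t x z e s n x') (i : ℕ) : Cz z := ⟨wG t x e i, B.wG_mem i⟩

/-- `z` in the centraliser. -/
def zC (z : G) : Cz z := ⟨z, mem_Cz.2 rfl⟩

theorem Base.xt (B : Base t x z e s n x') : x * t = t * x * z := by
  rw [B.tx, mul_assoc, B.zz, mul_one]

theorem Base.cmG (B : Base t x z e s n x') : ∀ i < 10, ∀ j < 10,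
    wG t x e i * wG t x e j = wG t x e j * wG t x e i * (if j = pr i then z else 1) := by
  intro i hi j hj
  match i, j with
  | 0, 0 => simp [pr]
  | 0, 1 => simpa [pr, wG] using B.tx
  | 1, 0 => simpa [pr, wG] using B.xt
  | 1, 1 => simp [pr]
  | 0, l + 2 =>
    rw [wG_e (by omega)]
    simpa [pr, wG] using B.te l (by omega)
  | 1, l + 2 =>
    rw [wG_e (by omega)]
    simpa [pr, wG] using B.xe l (by omega)
  | k + 2, 0 =>
    have h : ¬ 0 = pr (k + 2) := by
      have : ∀ k < 8, ¬ 0 = pr (k + 2) := by decide
      exact this k (by omega)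
    rw [wG_e (by omega), if_neg h, mul_one]
    exact (B.te k (by omega)).symm
  | k + 2, 1 =>
    have h : ¬ 1 = pr (k + 2) := by
      have : ∀ k < 8, ¬ 1 = pr (k + 2) := by decide
      exact this k (by omega)
    rw [wG_e (by omega), if_neg h, mul_one]
    exact (B.xe k (by omega)).symm
  | k + 2, l + 2 =>
    rw [wG_e (by omega), wG_e (by omega)]
    have h : (l + 2 = pr (k + 2)) ↔ l = 7 - k := by
      have : ∀ k < 8, ∀ l < 8, (l + 2 = pr (k + 2)) ↔ l = 7 - k := by decide
      exact this k (by omega) l (by omega)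
    by_cases hl : l = 7 - k
    · rw [if_pos (h.2 hl), hl]
      exact B.ed k (by omega)
    · rw [if_neg (fun h' => hl (h.1 h')), mul_one]
      exact B.ec k (by omega) l (by omega) hl

theorem Base.centG (B : Base t x z e s n x') {g : G} (h : ∀ i < 10, g * wG t x e i = wG t x e i * g) :
    g = 1 ∨ g = z := by
  have h0 := h 0 (by norm_num)
  have h1 := h 1 (by norm_num)
  change g * t = t * g at h0
  change g * x = x * g at h1
  rcases B.cQ g h0 (fun S hS => by have := h (S + 2) (by omega); rwa [wG_e hS] at this) with h | h | h | h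
  · exact Or.inl h
  · exfalso
    rw [h, B.tx] at h1
    exact B.z_ne (mul_left_cancel (h1.trans (mul_one _).symm))
  · exact Or.inr h
  · exfalso
    rw [h] at h1
    have h2 : t * z * x = x * (t * z) * z := by
      calc t * z * x = (t * x) * z := by rw [mul_assoc, B.zx, ← mul_assoc]
        _ = x * (t * z) * z := by rw [B.tx]; simp only [mul_assoc]
    rw [h2] at h1
    exact B.z_ne (mul_left_cancel (h1.trans (mul_one _).symm))

theorem Base.cd (B : Base t x z e s n x') : CD (zC z) B.wC where
  zz := Subtype.ext B.zz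
  z1 := fun h => B.z_ne (congrArg Subtype.val h)
  zc := fun g => Subtype.ext (mem_Cz.1 g.2)
  sq := by
    intro i hi
    apply Subtype.ext
    change wG t x e i * wG t x e i = 1
    match i with
    | 0 => exact B.tt
    | 1 => exact B.xx
    | k + 2 => rw [wG_e (by omega)]; exact B.ee k (by omega)
  cm := by
    intro i hi j hj
    apply Subtype.ext
    have := B.cmG i hi j hj
    by_cases h : j = pr i
    · simp only [h, if_true] at this
      simpa [zb, h, zC, Base.wC] using this
    · simp only [h, if_false] at this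
      simpa [zb, h, zC, Base.wC] using this
  cent := by
    intro g hg
    rcases B.centG (g := g) (fun i hi => congrArg Subtype.val (hg i hi)) with h | h
    · exact Or.inl (Subtype.ext h)
    · exact Or.inr (Subtype.ext h)

instance zpowers_normal (z : G) : (Subgroup.zpowers (zC z)).Normal := by
  constructor
  intro a ha g
  obtain ⟨k, rfl⟩ := Subgroup.mem_zpowers_iff.1 ha
  have h1 : g * zC z = zC z * g := Subtype.ext (mem_Cz.1 g.2)
  have h2 : Commute g (zC z ^ k) := (show Commute g (zC z) from h1).zpow_right k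
  rw [h2.eq, mul_inv_cancel_right]
  exact ha

/-- The quotient map. -/
abbrev piz (z : G) : Cz z →* Cz z ⧸ Subgroup.zpowers (zC z) := QuotientGroup.mk' _

theorem quo (zz : z * z = 1) : Quo (zC z) (piz z) where
  surj := QuotientGroup.mk'_surjective _
  eq_iff := by
    intro a b
    have hz : ∀ g : Cz z, g ∈ Subgroup.zpowers (zC z) ↔ g = 1 ∨ g = zC z := by
      intro g
      constructor
      · intro h
        obtain ⟨k, rfl⟩ := Subgroup.mem_zpowers_iff.1 h
        have h2 : zC z ^ (2 : ℤ) = 1 := by
          apply Subtype.ext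
          change z ^ (2 : ℤ) = 1
          rw [zpow_two, zz]
        rcases Int.even_or_odd' k with ⟨m, hm | hm⟩
        · left; rw [hm, zpow_mul, h2, one_zpow]
        · right; rw [hm, zpow_add, zpow_mul, h2, one_zpow, one_mul, zpow_one]
      · rintro (rfl | rfl)
        · exact Subgroup.one_mem _
        · exact Subgroup.mem_zpowers _
    change (a : Cz z ⧸ Subgroup.zpowers (zC z)) = b ↔ _
    rw [QuotientGroup.eq, hz]
    have hzz : zC z * zC z = 1 := Subtype.ext zz
    constructor
    · rintro (h | h)
      · left; rw [inv_mul_eq_one] at h; exact h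
      · right
        rw [inv_mul_eq_iff_eq_mul] at h
        rw [h, mul_assoc, hzz, mul_one]
    · rintro (h | h)
      · left; rw [h, inv_mul_cancel]
      · right
        rw [h, mul_inv_rev, mul_assoc, inv_mul_cancel, mul_one]
        exact inv_eq_of_mul_eq_one_left hzz

end Cfsg.Agent.StdO8.Shadow
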