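import Cfsg.Agent.StdO8.InstRel
import Cfsg.Agent.StdO8.ShadowDefs

/-!
# The pattern `ε = (1,1,1)`: the input of the shadow theorem
-/

set_option autoImplicit false
set_option linter.all false

namespace Cfsg.Agent.StdO8.ShadowInst

open Subgroup Cfsg.Agent.StdO8.D4Root Cfsg.Agent.StdO8.DoubCore Cfsg.Agent.StdO8.DoubRefl
  Cfsg.Agent.StdO8.DoubRoot Cfsg.Agent.StdO8.InstRel

variable {G : Type*} [Group G]

/-- the outer simple roots indexed by naturals -/
def alN (i : ℕ) : E := if i = 0 then al 0 else if i = 1 then al 1 else al 2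

/-- `s i` -/
def sN (x : E → G) (i : ℕ) : G := x (alN i)
/-- `n i` -/
def nN (x : E → G) (i : ℕ) : G := x (-alN i)

theorem alN_mem : ∀ i < 3, alN i ∈ roots ∧ -alN i ∈ roots := by decide +kernel

theorem alN_zr : ∀ i < 3, 0 ≤ ip zr (alN i) ∧ 0 ≤ ip zr (-alN i) := by decide +kernel

theorem nal_zr : ∀ i : Fin 3, 0 ≤ ip zr (-al i) := by decide +kernel

theorem er_zr : ∀ S < 8, 0 ≤ ip zr (er S) := by decide +kernel

theorem er_comm : ∀ S < 8, ∀ R < 8, R ≠ 7 - S → 0 ≤ ip (er S) (er R) := by decide +kernel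

theorem er_spec : ∀ S < 8, ip (er (7 - S)) (er S) = -1 ∧ er (7 - S) + er S = zr := by decide +kernel

theorem er_al : ∀ i < 3, ∀ S < 8, if S.testBit i then 0 ≤ ip (er S) (alN i) else
    (ip (er S) (alN i) = -1 ∧ er S + alN i = er (S + 2 ^ i)) := by decide +kernel

theorem er_nal : ∀ i < 3, ∀ S < 8, if S.testBit i then
    (ip (er S) (-alN i) = -1 ∧ er S + -alN i = er (S - 2 ^ i)) else 0 ≤ ip (er S) (-alN i) := by decide +kernel

theorem er7 : er 7 = rr := by decide +kernel
theorem er0 : er 0 = ac := by decide +kernel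

theorem alN_eq : ∀ i < 3, ∃ j : Fin 3, alN i = al j := by
  intro i hi
  interval_cases i
  · exact ⟨0, rfl⟩
  · exact ⟨1, rfl⟩
  · exact ⟨2, rfl⟩

variable {t : G} {L : Subgroup G} {x : E → G} (X : XD t L x) {y : G} (Y : YZ t x y)

include X Y

theorem conj_x1 (a : G) : (x1 x y)⁻¹ * a * x1 x y = cj (x1 x y) a := by
  unfold cj; rw [x1_inv X Y]

theorem base (h : One x y)
    (hcQ : ∀ g, g * t = t * g → (∀ S < 8, g * x (er S) = x (er S) * g) →
      g = 1 ∨ g = t ∨ g = x zr ∨ g = t * x zr) :
    Shadow.Base t y (x zr) (ee x) (sN x) (nN x) (x1 x y) := by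
  have hz := zz2 X
  have hm : zr ∈ roots := by decide
  have hyt : y * t = t * x zr * y := by
    have := Y.yt
    rwa [mul_inv_eq_iff_eq_mul] at this
  have htz := tz X
  have hyz := Y.yz
  -- `y` and `τ`
  have hτ : ∀ i, (x (al i))⁻¹ * y * x (al i) = y * x zr := by
    intro i
    have h1 : y * x (al i) * y⁻¹ = x (al i) * x zr := h i
    have h2 : y * x (al i) = x (al i) * x zr * y := by rwa [mul_inv_eq_iff_eq_mul] at h1
    rw [mul_assoc, h2, hyz]
    group
  have hτ' : ∀ i, (x (-al i))⁻¹ * y * x (-al i) = y * x zr := by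
    intro i
    have h1 : y * (x (al i) * x (-al i)) = x (al i) * x (-al i) * y := Y.yd i
    have h2 : y * x (al i) = x (al i) * x zr * y := by
      have := h i
      rwa [mul_inv_eq_iff_eq_mul] at this
    have h3 : x zr * y * x (-al i) = x (-al i) * y := by
      have : x (al i) * (x zr * y * x (-al i)) = x (al i) * (x (-al i) * y) := by
        rw [← mul_assoc, ← mul_assoc, ← h2, mul_assoc, h1, mul_assoc]
      exact mul_left_cancel this
    have h4 : y * x (-al i) = x zr * (x (-al i) * y) := by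
      rw [← h3, ← mul_assoc, ← mul_assoc, hz, one_mul]
    have h5 : x zr * x (-al i) = x (-al i) * x zr :=
      X.x_comm zr hm _ (al_mem i).2 (nal_zr i)
    rw [mul_assoc, h4, ← mul_assoc (x zr), h5, mul_assoc, ← hyz]
    group
  refine
    { tt := X.tt
      xx := Y.yy
      zz := hz
      z_ne := X.x_ne zr hm
      zt := htz.symm
      zx := hyz.symm
      ze := fun S hS => X.x_comm zr hm _ (er_mem S hS) (er_zr S hS)
      zs := fun i hi => X.x_comm zr hm _ (alN_mem i hi).1 (alN_zr i hi).1
      zn := fun i hi => X.x_comm zr hm _ (alN_mem i hi).2 (alN_zr i hi).2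
      zx' := (cj_eq_self.1 (x1_z X Y)).symm
      tx := ?_
      te := fun S hS => X.tL _ (X.xL _ (er_mem S hS))
      xe := fun S hS => cj_eq_self.1 (ye X Y S hS)
      ee := fun S hS => X.x_sq _ (er_mem S hS)
      ec := fun S hS R hR hne => X.x_comm _ (er_mem S hS) _ (er_mem R hR) (er_comm S hS R hR hne)
      ed := ?_
      cQ := hcQ
      ts := fun i hi => X.tL _ (X.xL _ (alN_mem i hi).1)
      tn := fun i hi => X.tL _ (X.xL _ (alN_mem i hi).2)
      xs := ?_
      xn := ?_
      es := ?_
      en := ?_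
      tx' := ?_
      e1' := ?_
      e3' := ?_ }
  · rw [hyt]
    simp only [mul_assoc, hyz, sq' hz]
  · intro S hS
    obtain ⟨h1, h2⟩ := er_spec S hS
    have h3 := X.x_conj _ (er_mem (7 - S) (by omega)) _ (er_mem S hS) h1
    rw [h2] at h3
    have h4 : x (er S) * x (er S) = 1 := X.x_sq _ (er_mem S hS)
    have h5 : x zr * x (er S) = x (er S) * x zr := X.x_comm zr hm _ (er_mem S hS) (er_zr S hS)
    show x (er S) * x (er (7 - S)) = x (er (7 - S)) * x (er S) * x zr
    have h6 : x (er S) * x (er (7 - S)) * x (er S) * x (er S) = x (er (7 - S)) * x zr * x (er S) := by rw [h3]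
    rw [mul_assoc, h4, mul_one] at h6
    rw [h6, mul_assoc, h5, mul_assoc]
  · intro i hi
    obtain ⟨j, hj⟩ := alN_eq i hi
    right
    show (x (alN i))⁻¹ * y * x (alN i) = y * x zr
    rw [hj]; exact hτ j
  · intro i hi
    obtain ⟨j, hj⟩ := alN_eq i hi
    right
    show (x (-alN i))⁻¹ * y * x (-alN i) = y * x zr
    rw [hj]; exact hτ' j
  · intro i hi S hS
    left
    have h1 := er_al i hi S hS
    have h2 := X.inv (alN_mem i hi).1
    show (x (alN i))⁻¹ * x (er S) * x (alN i) = if S.testBit i then x (er S) else x (er S) * x (er (S + 2 ^ i))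
    rw [h2]
    split_ifs at h1 ⊢ with hb
    · have := X.x_comm _ (er_mem S hS) _ (alN_mem i hi).1 h1
      rw [← this, mul_assoc, X.x_sq _ (alN_mem i hi).1, mul_one]
    · rw [X.x_conj _ (er_mem S hS) _ (alN_mem i hi).1 h1.1, h1.2]
  · intro i hi S hS
    left
    have h1 := er_nal i hi S hS
    have h2 := X.inv (alN_mem i hi).2
    show (x (-alN i))⁻¹ * x (er S) * x (-alN i) = if S.testBit i then x (er S) * x (er (S - 2 ^ i)) else x (er S)
    rw [h2]
    split_ifs at h1 ⊢ with hb
    · rw [X.x_conj _ (er_mem S hS) _ (alN_mem i hi).2 h1.1, h1.2]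
    · have := X.x_comm _ (er_mem S hS) _ (alN_mem i hi).2 h1
      rw [← this, mul_assoc, X.x_sq _ (alN_mem i hi).2, mul_one]
  · left
    rw [conj_x1 X Y, x1_t X Y]
    show t * x rr = t * x (er 7)
    rw [er7]
  · intro S hS
    left
    rw [conj_x1 X Y]
    show cj (x1 x y) (ee x S) = ee x S * x (er 7)
    rw [er7]
    rcases hS with rfl | rfl | rfl
    · exact x1_si X Y h 0
    · exact x1_si X Y h 1
    · exact x1_si X Y h 2
  · intro S hS
    left
    rw [conj_x1 X Y]
    rcases hS with rfl | rfl | rfl | rfl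
    · exact x1_pr X Y 2
    · exact x1_pr X Y 1
    · exact x1_pr X Y 0
    · show cj (x1 x y) (x (er 7)) = x (er 7)
      rw [er7]; exact x1_r X Y

/-- **the two cases** -/
theorem cases (h : One x y) (hD : DCR t x)
    (hcQ : ∀ g, g * t = t * g → (∀ S < 8, g * x (er S) = x (er S) * g) →
      g = 1 ∨ g = t ∨ g = x zr ∨ g = t * x zr)
    (nz : ¬ IsConj t (x zr))
    (cardC : ¬ 2 ^ 15 ∣ Nat.card (Subgroup.centralizer ({t} : Set G)))
    (five : ∀ g, g * t = t * g → g * x zr = x zr * g → g ^ 5 = 1 → g = 1)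
    (norm : ∀ g, g * t = t * g → g * x zr = x zr * g → ∀ S < 8,
      g⁻¹ * ee x S * g ∈ Subgroup.closure (ee x '' Set.Iio 8))
    (nr : ∀ g, g * t = t * g → g⁻¹ * x ac * g ≠ x (er 1) * x (er 3) * x (er 5) ∧
      g⁻¹ * x ac * g ≠ x (er 1) * x (er 3) * x (er 5) * x zr) :
    Shadow.Data t y (x zr) (ee x) (sN x) (nN x) (x1 x y) ∨
    Shadow.Data1 t y (x zr) (ee x) (sN x) (nN x) (x1 x y) := by
  have hB := base X Y h hcQ
  have hz := zz2 X; have hr := rr2 X; have hc := zr_comm X
  have htz := tz X; have htr := tr X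
  have hy := Y.yy
  have hyz := Y.yz
  have hyr := Y.yr
  have hPE := pp_e0 X; have hPz := pp_z X; have hPr := pp_r X; have hPt := pp_t X
  have hyP := y_pp X Y; have hyE := y_e0 X Y
  have hzE : x zr * x ac = x ac * x zr := (cj_eq_self.1 (e0_z X)).symm
  have htE : t * x ac = x ac * t := X.tL _ (X.xL _ (by decide))
  have hxy : x1 x y * y * x1 x y = y * cc x y := by
    unfold cc
    simp only [mul_assoc, sq' hy]
  have e0' : ∀ a, (x1 x y)⁻¹ * a * x1 x y = x1 x y * a * x1 x y := fun a => by rw [x1_inv X Y]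
  have hee0 : ee x 0 = x ac := by unfold ee; rw [er0]
  have hpp : ∀ a : G, a * ee x 3 * ee x 5 * ee x 6 = a * pp x := fun a => by unfold pp; group
  rcases main X Y hD h with ⟨h1, α, hα, h2⟩ | ⟨h1, α, hα, h2⟩
  · left
    refine { toBase := hB, xx' := ?_, e0' := ?_, nz := nz, cardC := cardC, five := five, norm := norm }
    · left
      rw [e0', hxy, h1, mul_one]
    · rw [e0', hee0, h2, hpp]
      rcases hα with rfl | rfl
      · left
        simp only [mul_assoc, one_mul, mul_one, lc hyE.symm, hyE.symm, hPE, lc hPE, lc hyP.symm, hyP.symm]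
      · right
        simp only [mul_assoc, lc hyz.symm, lc hyE.symm, hyE.symm, hPE, lc hPE, lc hPz, hPz, lc hzE, hzE]
  · right
    refine { toBase := hB, xx' := ?_, e0' := ?_, nr := ?_ }
    · right
      rw [e0', hxy, h1]
      show y * (x zr * x rr) = y * x (er 7) * x zr
      rw [er7, mul_assoc, hc]
    · rw [e0', hee0, h2, hpp]
      show _ = (x ac * y * t * pp x * x (er 7)) ∨ _ = (x ac * y * t * pp x * x (er 7)) * x zr
      rw [er7]
      have hER : x rr * x ac = x zr * (x ac * x rr) := by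
        have := re0r X
        calc x rr * x ac = x rr * x ac * (x rr * x rr) := by rw [hr, mul_one]
          _ = (x rr * x ac * x rr) * x rr := by group
          _ = x ac * x zr * x rr := by rw [this]
          _ = x zr * (x ac * x rr) := by rw [← hzE, mul_assoc]
      have lER : ∀ u, x rr * (x ac * u) = x zr * (x ac * (x rr * u)) := fun u => by
        rw [← mul_assoc, hER]; simp only [mul_assoc]
      have hrz : x rr * x zr = x zr * x rr := hc.symm
      have hez : x ac * x zr = x zr * x ac := hzE.symm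
      rcases hα with rfl | rfl
      · right
        simp only [mul_assoc, one_mul, mul_one, hPE, lc hPE, lc hPr, hPr, lER, hER, lc htE, htE, lc hyE, hyE,
          lc hPz, hPz, lc hrz, hrz, lc htz, htz, lc hyz, hyz, lc hez, hez, hz, sq' hz]
      · left
        simp only [mul_assoc, one_mul, mul_one, hPE, lc hPE, lc hPr, hPr, lER, hER, lc htE, htE, lc hyE, hyE,
          lc hPz, hPz, lc hrz, hrz, lc htz, htz, lc hyz, hyz, lc hez, hez, hz, sq' hz]
    · intro g ht hgz hE
      have := nr g ht
      rw [hee0] at hE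
      rcases hE with hE | hE
      · exact this.1 hE
      · exact this.2 hE

end Cfsg.Agent.StdO8.ShadowInst
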