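import Cfsg.Agent.StdO8.ShadowCent

/-!
# The orbits of the 128 matrices on the vectors with `λ = -1`
-/

set_option autoImplicit false

namespace Cfsg.Agent.StdO8.Shadow

/-- The orbit of `t`. -/
def orb1 : List ℕ := [1, 33, 129, 257, 513, 545, 641, 769]

/-- The other short orbit. -/
def orb161 : List ℕ := [161, 289, 385, 417, 673, 801, 897, 929]

/-- Ten matrices. -/
def RL : List (List ℕ) := [0, 121, 110, 107, 72, 60, 59, 58, 43, 19].map (fun k => SL.getD k [])

/-- Number of distinct entries. -/
def cnt : List ℕ → ℕ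
  | [] => 0
  | a :: l => (if l.elem a then 0 else 1) + cnt l

theorem cnt_le (l : List ℕ) (s : Finset ℕ) (h : ∀ a ∈ l, a ∈ s) : cnt l ≤ s.card := by
  induction l generalizing s with
  | nil => exact Nat.zero_le _
  | cons a l ih =>
    simp only [cnt]
    by_cases ha : l.elem a = true
    · simp only [ha, if_true, zero_add]
      exact ih s (fun b hb => h b (List.mem_cons_of_mem _ hb))
    · simp only [ha, if_false, Bool.false_eq_true]
      have h1 : a ∈ s := h a List.mem_cons_self
      have h2 := ih (s.erase a) (by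
        intro b hb
        refine Finset.mem_erase.2 ⟨?_, h b (List.mem_cons_of_mem _ hb)⟩
        rintro rfl
        exact ha (List.elem_iff.2 hb))
      rw [Finset.card_erase_of_mem h1] at h2
      have h3 : 0 < s.card := Finset.card_pos.2 ⟨a, h1⟩
      omega

theorem orb_chk : (List.range 1024).all (fun v => v % 2 == 0 || sqf tails v || orb1.elem v || orb161.elem v ||
    Nat.ble 9 (cnt (RL.map (fun m => ap m v)))) = true := by decide +kernel

theorem orb1_chk : orb1.all (fun v => SL.any (fun m => ap m v == 1)) = true := by decide +kernel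

theorem orb161_chk : orb161.all (fun v => SL.any (fun m => ap m v == 161)) = true := by decide +kernel

theorem RL_mem : ∀ m ∈ RL, m ∈ SL := by decide +kernel

theorem SL_fixX : ∀ m ∈ SL, ap m 2 = 2 := by decide +kernel

theorem par_row1 : ∀ v < 1024, par (row 1) v = (v % 2 == 1) := by decide +kernel

theorem par_row0 : ∀ v < 1024, par (row 0) v = (v / 2 % 2 == 1) := by decide +kernel

/-- The orbits on the singular vectors outside the hyperplane of `x`. -/
theorem orbits (v : ℕ) (hv : v < 1024) (h1 : sqf tails v = false) (h2 : v % 2 = 1) :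
    (∃ m ∈ SL, ap m v = 1) ∨ (∃ m ∈ SL, ap m v = 161) ∨ 9 ≤ cnt (RL.map (fun m => ap m v)) := by
  have h := List.all_eq_true.1 orb_chk v (List.mem_range.2 hv)
  simp only [h1, Bool.or_eq_true, beq_iff_eq, h2, one_ne_zero, false_or, Bool.false_eq_true] at h
  rcases h with (h | h) | h
  · left
    have h3 := List.all_eq_true.1 orb1_chk v (List.elem_iff.1 h)
    obtain ⟨m, hm, h4⟩ := List.any_eq_true.1 h3
    exact ⟨m, hm, beq_iff_eq.1 h4⟩
  · right; left
    have h3 := List.all_eq_true.1 orb161_chk v (List.elem_iff.1 h)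
    obtain ⟨m, hm, h4⟩ := List.any_eq_true.1 h3
    exact ⟨m, hm, beq_iff_eq.1 h4⟩
  · right; right
    exact Nat.le_of_ble_eq_true h

end Cfsg.Agent.StdO8.Shadow
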