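import Cfsg.Agent.StdO8.ShadowComp

/-!
# Elementary abelian groups with a basis, actions by matrices, weak closure
-/

set_option autoImplicit false

namespace Cfsg.Agent.StdO8.Shadow

section Ph

variable {H : Type*} [Group H]

/-- The product of the members of the list at the bits of `v`. -/
def ph : List H → ℕ → H
  | [], _ => 1
  | g :: l, v => (if v % 2 = 1 then g else 1) * ph l (v / 2)

/-- Commuting involutions. -/
structure El (W : List H) : Prop where
  sq : ∀ a ∈ W, a * a = 1
  comm : ∀ a ∈ W, ∀ b ∈ W, a * b = b * a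

theorem ph_zero (W : List H) : ph W 0 = 1 := by
  induction W with
  | nil => rfl
  | cons a l ih => simp [ph, ih]

theorem comm_ph {g : H} {L : List H} (h : ∀ a ∈ L, g * a = a * g) (v : ℕ) : g * ph L v = ph L v * g := by
  induction L generalizing v with
  | nil => simp [ph]
  | cons a l ih =>
    have h1 := ih (fun b hb => h b (List.mem_cons_of_mem _ hb)) (v / 2)
    have h2 : g * (if v % 2 = 1 then a else 1) = (if v % 2 = 1 then a else 1) * g := by
      split
      · exact h a List.mem_cons_self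
      · rw [mul_one, one_mul]
    simp only [ph]
    rw [← mul_assoc, h2, mul_assoc, h1, mul_assoc]

theorem El.tail {a : H} {l : List H} (h : El (a :: l)) : El l :=
  ⟨fun b hb => h.sq b (List.mem_cons_of_mem _ hb),
    fun b hb c hc => h.comm b (List.mem_cons_of_mem _ hb) c (List.mem_cons_of_mem _ hc)⟩

theorem El.ph_xor {W : List H} (h : El W) (u v : ℕ) : ph W (u ^^^ v) = ph W u * ph W v := by
  induction W generalizing u v with
  | nil => simp [ph]
  | cons a l ih =>
    have ha : ∀ b ∈ l, a * b = b * a := fun b hb => h.comm a List.mem_cons_self b (List.mem_cons_of_mem _ hb)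
    have hsq := h.sq a List.mem_cons_self
    have hc := comm_ph ha (u / 2)
    simp only [ph, Nat.xor_div_two, ih h.tail, Nat.xor_mod_two_eq_one]
    by_cases h1 : u % 2 = 1 <;> by_cases h2 : v % 2 = 1
    · simp only [h1, h2, iff_self, not_true_eq_false, if_false, if_true, one_mul]
      calc ph l (u / 2) * ph l (v / 2) = (a * a) * ph l (u / 2) * ph l (v / 2) := by rw [hsq, one_mul]
        _ = a * (a * ph l (u / 2)) * ph l (v / 2) := by simp only [mul_assoc]
        _ = a * (ph l (u / 2) * a) * ph l (v / 2) := by rw [← hc]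
        _ = a * ph l (u / 2) * (a * ph l (v / 2)) := by simp only [mul_assoc]
    · simp only [h1, h2, iff_false, not_true_eq_false, not_false_eq_true, if_false, if_true, one_mul]
      rw [mul_assoc]
    · simp only [h1, h2, false_iff, not_true_eq_false, not_false_eq_true, if_false, if_true, one_mul]
      rw [← mul_assoc, hc, mul_assoc]
    · simp only [h1, h2, iff_self, not_true_eq_false, if_false, one_mul]

theorem El.ph_comm {W : List H} (h : El W) (u v : ℕ) : ph W u * ph W v = ph W v * ph W u := by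
  rw [← h.ph_xor, ← h.ph_xor, Nat.xor_comm]

theorem El.ph_sq {W : List H} (h : El W) (u : ℕ) : ph W u * ph W u = 1 := by
  rw [← h.ph_xor, Nat.xor_self, ph_zero]

theorem ph_mod (W : List H) (k : ℕ) (hk : W.length ≤ k) (v : ℕ) : ph W (v % 2 ^ k) = ph W v := by
  induction W generalizing k v with
  | nil => rfl
  | cons a l ih =>
    obtain ⟨j, rfl⟩ : ∃ j, k = j + 1 := ⟨k - 1, by simp at hk; omega⟩
    have h1 : v % 2 ^ (j + 1) % 2 = v % 2 := by
      rw [pow_succ']
      exact Nat.mod_mul_right_mod v 2 (2 ^ j)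
    have h2 : v % 2 ^ (j + 1) / 2 = v / 2 % 2 ^ j := by
      rw [pow_succ']
      exact Nat.mod_mul_right_div_self v 2 (2 ^ j)
    simp only [ph, h1, h2]
    rw [ih j (by simpa using hk)]

/-- `h` acts (by `a ↦ h⁻¹ a h`) with the matrix `m`. -/
def ActH (W : List H) (h : H) (m : List ℕ) : Prop :=
  List.Forall₂ (fun a b => h⁻¹ * a * h = ph W b) W m

theorem act_aux {W : List H} (hW : El W) {h : H} {L : List H} {m : List ℕ}
    (hf : List.Forall₂ (fun a b => h⁻¹ * a * h = ph W b) L m) (v : ℕ) :
    h⁻¹ * ph L v * h = ph W (ap m v) := by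
  induction hf generalizing v with
  | nil => simp [ph, ap, ph_zero]
  | @cons a b l l' hab _ ih =>
    simp only [ph, ap]
    rw [hW.ph_xor, ← ih]
    have h2 : h⁻¹ * (if v % 2 = 1 then a else 1) * h = ph W (if v % 2 = 1 then b else 0) := by
      split
      · exact hab
      · rw [ph_zero]; group
    rw [← h2]
    group

theorem ActH.conj_ph {W : List H} (hW : El W) {h : H} {m : List ℕ} (hf : ActH W h m) (v : ℕ) :
    h⁻¹ * ph W v * h = ph W (ap m v) := act_aux hW hf v

theorem ActH.mul {W : List H} (hW : El W) {g h : H} {a b : List ℕ} (ha : ActH W g a) (hb : ActH W h b) :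
    ActH W (g * h) (mulM a b) := by
  unfold ActH mulM
  rw [List.forall₂_map_right_iff]
  refine List.Forall₂.imp ?_ ha
  intro w c hwc
  rw [← hb.conj_ph hW c, ← hwc]
  group

theorem ActH.length {W : List H} {h : H} {m : List ℕ} (hf : ActH W h m) : W.length = m.length :=
  List.Forall₂.length_eq hf

theorem forall2_uniq {W : List H} (inj : ∀ u < 1024, ∀ v < 1024, ph W u = ph W v → u = v) {h : H} :
    ∀ {L : List H} {a b : List ℕ}, (∀ c ∈ a, c < 1024) → (∀ c ∈ b, c < 1024) →
    List.Forall₂ (fun x y => h⁻¹ * x * h = ph W y) L a → List.Forall₂ (fun x y => h⁻¹ * x * h = ph W y) L b → a = b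
  | [], [], [], _, _, _, _ => rfl
  | x :: l, c :: a, d :: b, ha, hb, h1, h2 => by
    rw [List.forall₂_cons] at h1 h2
    have e1 : c = d := inj c (ha c List.mem_cons_self) d (hb d List.mem_cons_self) (by rw [← h1.1, ← h2.1])
    have e2 := forall2_uniq inj (fun y hy => ha y (List.mem_cons_of_mem _ hy))
      (fun y hy => hb y (List.mem_cons_of_mem _ hy)) h1.2 h2.2
    rw [e1, e2]

theorem ActH.uniq {W : List H} (inj : ∀ u < 1024, ∀ v < 1024, ph W u = ph W v → u = v) {h : H} {a b : List ℕ}
    (ha : ∀ c ∈ a, c < 1024) (hb : ∀ c ∈ b, c < 1024) (h1 : ActH W h a) (h2 : ActH W h b) : a = b :=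
  forall2_uniq inj ha hb h1 h2

theorem ph_idM {W : List H} (hl : W.length = 10) : List.Forall₂ (fun a b => a = ph W b) W idM := by
  match W, hl with
  | [a0, a1, a2, a3, a4, a5, a6, a7, a8, a9], _ => simp [ph, idM]

theorem actH_idM_iff {W : List H} (hl : W.length = 10) {h : H} : ActH W h idM ↔ ∀ a ∈ W, h⁻¹ * a * h = a := by
  match W, hl with
  | [a0, a1, a2, a3, a4, a5, a6, a7, a8, a9], _ => simp [ActH, ph, idM]

theorem ap_lt {m : List ℕ} (hm : ∀ a ∈ m, a < 1024) (v : ℕ) : ap m v < 1024 := by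
  induction m generalizing v with
  | nil => simp [ap]
  | cons a l ih =>
    simp only [ap]
    have h1 : (if v % 2 = 1 then a else 0) < 2 ^ 10 := by
      split
      · exact hm a List.mem_cons_self
      · norm_num
    exact Nat.xor_lt_two_pow h1 (ih (fun b hb => hm b (List.mem_cons_of_mem _ hb)) _)

theorem mulM_lt {a b : List ℕ} (hb : ∀ c ∈ b, c < 1024) : ∀ c ∈ mulM a b, c < 1024 := by
  intro c hc
  obtain ⟨d, _, rfl⟩ := List.mem_map.1 hc
  exact ap_lt hb d

theorem mulM_idM {m : List ℕ} (hm : ∀ a ∈ m, a < 1024) : mulM m idM = m := by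
  unfold mulM
  conv_rhs => rw [← List.map_id m]
  apply List.map_congr_left
  intro a ha
  exact ap_idM a (hm a ha)

/-- The group spanned by the basis. -/
def MH (W : List H) (hW : El W) : Subgroup H where
  carrier := {h | ∃ v < 1024, h = ph W v}
  one_mem' := ⟨0, by norm_num, (ph_zero W).symm⟩
  mul_mem' := by
    rintro a b ⟨u, hu, rfl⟩ ⟨v, hv, rfl⟩
    exact ⟨u ^^^ v, Nat.xor_lt_two_pow (n := 10) hu hv, (hW.ph_xor u v).symm⟩
  inv_mem' := by
    rintro a ⟨u, hu, rfl⟩
    exact ⟨u, hu, inv_eq_of_mul_eq_one_left (hW.ph_sq u)⟩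

/-- The fixed points of a matrix. -/
def FH (W : List H) (hW : El W) (p : ℕ → Bool) (hp : p 0 = true)
    (hp2 : ∀ u v, p u = true → p v = true → p (u ^^^ v) = true) : Subgroup H where
  carrier := {h | ∃ v < 1024, h = ph W v ∧ p v = true}
  one_mem' := ⟨0, by norm_num, (ph_zero W).symm, hp⟩
  mul_mem' := by
    rintro a b ⟨u, hu, rfl, h1⟩ ⟨v, hv, rfl, h2⟩
    exact ⟨u ^^^ v, Nat.xor_lt_two_pow (n := 10) hu hv, (hW.ph_xor u v).symm, hp2 u v h1 h2⟩
  inv_mem' := by
    rintro a ⟨u, hu, rfl, h1⟩
    exact ⟨u, hu, inv_eq_of_mul_eq_one_left (hW.ph_sq u), h1⟩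

theorem card_FH {W : List H} {hW : El W} {p : ℕ → Bool} {hp : p 0 = true}
    {hp2 : ∀ u v, p u = true → p v = true → p (u ^^^ v) = true}
    (inj : ∀ u < 1024, ∀ v < 1024, ph W u = ph W v → u = v) :
    Nat.card (FH W hW p hp hp2) = (List.range 1024).countP p := by
  have h1 : ((List.range 1024).filter p).toFinset.card = (List.range 1024).countP p := by
    rw [List.countP_eq_length_filter, List.toFinset_card_of_nodup (List.nodup_range.filter _)]
  have h2 : Nat.card (((List.range 1024).filter p).toFinset : Finset ℕ) = ((List.range 1024).filter p).toFinset.card := by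
    rw [Nat.card_eq_fintype_card, Fintype.card_coe]
  have hmem : ∀ v, v ∈ ((List.range 1024).filter p).toFinset ↔ v < 1024 ∧ p v = true := by
    intro v
    rw [List.mem_toFinset, List.mem_filter, List.mem_range]
  rw [← h1, ← h2]
  symm
  refine Nat.card_congr (Equiv.ofBijective (fun v => ⟨ph W v.1, v.1, ((hmem _).1 v.2).1, rfl, ((hmem _).1 v.2).2⟩) ⟨?_, ?_⟩)
  · intro u v huv
    have h3 : ph W u.1 = ph W v.1 := congrArg Subtype.val huv
    exact Subtype.ext (inj _ ((hmem _).1 u.2).1 _ ((hmem _).1 v.2).1 h3)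
  · rintro ⟨h, v, hv, rfl, hpv⟩
    exact ⟨⟨v, (hmem v).2 ⟨hv, hpv⟩⟩, rfl⟩

theorem card_le_of_subset_list {α : Type*} [DecidableEq α] {A : Finset α} {l : List α} (h : ∀ a ∈ A, a ∈ l) :
    A.card ≤ l.length :=
  (Finset.card_le_card (fun a ha => List.mem_toFinset.2 (h a ha))).trans (List.toFinset_card_le l)

/-- The combinatorial end: numbers. -/
theorem comb {A : Finset (List ℕ)} {f : ℕ} (hid : idM ∈ A) (hcard : A.card * f = 1024) (hA : ∀ m ∈ A, m ∈ SL)
    (hsq : ∀ m ∈ A, mulM m m = idM) (hcomm : ∀ a ∈ A, ∀ b ∈ A, mulM a b = mulM b a)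
    (hdvd : ∀ m ∈ A, f ∣ nf m) (hle : ∀ a ∈ A, ∀ b ∈ A, f ≤ nf2 a b)
    (hfix : ∀ a ∈ A, nf a = f → ∀ b ∈ A, ∀ u < 1024, ap a u = u → ap b u = u) : A = {idM} := by
  classical
  by_contra hne
  have hcl : ∀ m ∈ A, m ≠ idM → m ∈ i256 ∨ m ∈ i64.map Prod.fst := by
    intro m hm h1
    rcases SL_inv m (hA m hm) (hsq m hm) with h | h
    · exact absurd h h1
    · exact h
  have hinv : ∀ m ∈ A.erase idM, m ∈ invs := by
    intro m hm
    rw [Finset.mem_erase] at hm
    exact List.mem_append.2 (hcl m hm.2 hm.1)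
  have hce : (A.erase idM).card = A.card - 1 := Finset.card_erase_of_mem hid
  have hne2 : (A.erase idM).Nonempty := by
    rw [Finset.nonempty_iff_ne_empty]
    intro h
    apply hne
    rw [← Finset.insert_erase hid, h]
    rfl
  by_cases h64 : ∃ q ∈ i64, q.1 ∈ A
  · obtain ⟨q, hq, hqA⟩ := h64
    have hf : f ∣ 64 := by
      have := hdvd q.1 hqA
      rwa [nf_64 q hq] at this
    by_cases hf64 : f = 64
    · have hn : A.card = 16 := by rw [hf64] at hcard; omega
      obtain ⟨hb1, hb2⟩ := bas_64 q hq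
      have h3 : (A.erase idM).card ≤ (invs.filter (fun b => q.2.all (fun u => ap b u == u))).length := by
        apply card_le_of_subset_list
        intro b hb
        rw [List.mem_filter]
        refine ⟨hinv b hb, ?_⟩
        rw [List.all_eq_true]
        intro u hu
        rw [beq_iff_eq]
        exact hfix q.1 hqA (by rw [nf_64 q hq, hf64]) b (Finset.mem_of_mem_erase hb) u (hb1 u hu).1 (hb1 u hu).2
      omega
    · have hf32 : f ≤ 32 := by
        have h1 : f ≤ 64 := Nat.le_of_dvd (by norm_num) hf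
        obtain ⟨k, hk⟩ := hf
        have hk2 : 2 ≤ k := by
          by_contra hk3
          have : k = 0 ∨ k = 1 := by omega
          rcases this with rfl | rfl <;> omega
        nlinarith
      have hn : 32 ≤ A.card := by
        by_contra h
        have h1 : A.card ≤ 31 := by omega
        have : A.card * f ≤ 31 * 32 := Nat.mul_le_mul h1 hf32
        omega
      have h3 : (A.erase idM).card ≤
          (invs.filter (fun a => Nat.ble 31 (invs.countP (fun b => mulM a b == mulM b a)))).length := by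
        apply card_le_of_subset_list
        intro a ha
        rw [List.mem_filter]
        refine ⟨hinv a ha, ?_⟩
        rw [Nat.ble_eq]
        have h4 : (A.erase idM).card ≤ (invs.filter (fun b => mulM a b == mulM b a)).length := by
          apply card_le_of_subset_list
          intro b hb
          rw [List.mem_filter]
          refine ⟨hinv b hb, ?_⟩
          rw [beq_iff_eq]
          exact hcomm a (Finset.mem_of_mem_erase ha) b (Finset.mem_of_mem_erase hb)
        rw [List.countP_eq_length_filter]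
        omega
      have := com_inv
      omega
  · have h256 : ∀ m ∈ A.erase idM, m ∈ i256 := by
      intro m hm
      rw [Finset.mem_erase] at hm
      rcases hcl m hm.2 hm.1 with h | h
      · exact h
      · obtain ⟨q, hq, rfl⟩ := List.mem_map.1 h
        exact absurd ⟨q, hq, hm.2⟩ h64
    have hn : (A.erase idM).card ≤ 5 := card_le_of_subset_list h256
    obtain ⟨m, hm⟩ := hne2
    have hf : f ∣ 256 := by
      have := hdvd m (Finset.mem_of_mem_erase hm)
      rwa [nf_256 m (h256 m hm)] at this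
    have hA6 : A.card ≤ 6 := by omega
    have hf1 : 171 ≤ f := by
      by_contra h
      have h1 : f ≤ 170 := by omega
      have : A.card * f ≤ 6 * 170 := Nat.mul_le_mul hA6 h1
      omega
    have hf256 : f = 256 := by
      obtain ⟨k, hk⟩ := hf
      have : k = 1 := by
        have : k < 2 := by nlinarith
        have : k ≠ 0 := by rintro rfl; omega
        omega
      rw [this] at hk; omega
    have hA4 : A.card = 4 := by rw [hf256] at hcard; omega
    have h2 : ((A.erase idM).erase m).card = 2 := by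
      rw [Finset.card_erase_of_mem hm]; omega
    have h3 : ((A.erase idM).erase m).Nonempty := by
      rw [← Finset.card_pos]; omega
    obtain ⟨m', hm'⟩ := h3
    rw [Finset.mem_erase] at hm'
    rcases nf2_256 m (h256 m hm) m' (h256 m' hm'.2) with h | h
    · exact hm'.1 h.symm
    · have := hle m (Finset.mem_of_mem_erase hm) m' (Finset.mem_of_mem_erase hm'.2)
      omega

theorem mem_MH {W : List H} {hW : El W} {h : H} : h ∈ MH W hW ↔ ∃ v < 1024, h = ph W v := Iff.rfl

theorem SL_getlt {m : List ℕ} (hm : m ∈ SL) : ∀ c ∈ m, c < 1024 := (SL_lt m hm).2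

theorem idM_lt : ∀ c ∈ idM, c < 1024 := by decide

theorem idM_mem : idM ∈ SL := by decide +kernel

/-- Weak closure in the quotient. -/
theorem weak {W : List H} (hW : El W) (hl : W.length = 10)
    (inj : ∀ u < 1024, ∀ v < 1024, ph W u = ph W v → u = v)
    (hker : ∀ h, ActH W h idM → ∃ v < 1024, h = ph W v) (K : Subgroup H)
    (hK : ∀ h ∈ K, ∃ m ∈ SL, ActH W h m) (hab : ∀ a ∈ K, ∀ b ∈ K, a * b = b * a) (hsq : ∀ a ∈ K, a * a = 1)
    (hcard : Nat.card K = 1024) : K ≤ MH W hW := by
  classical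
  have hfin : Finite K := Nat.finite_of_card_ne_zero (by rw [hcard]; norm_num)
  choose! ρ hρ1 hρ2 using hK
  have hρ : ∀ h ∈ K, ∀ m ∈ SL, ActH W h m → m = ρ h := fun h hh m hm ha =>
    ha.uniq inj (SL_getlt hm) (SL_getlt (hρ1 h hh)) (hρ2 h hh)
  set A : Finset (List ℕ) := SL.toFinset.filter (fun m => ∃ h ∈ K, ActH W h m) with hAdef
  have hA : ∀ m, m ∈ A ↔ m ∈ SL ∧ ∃ h ∈ K, ActH W h m := by
    intro m; rw [hAdef, Finset.mem_filter, List.mem_toFinset]
  set F : Subgroup H := K ⊓ MH W hW with hF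
  have hone : ActH W 1 idM := (actH_idM_iff hl).2 (fun a _ => by group)
  have hFact : ∀ f ∈ F, ActH W f idM := by
    intro f hf
    obtain ⟨v, _, rfl⟩ := hf.2
    rw [actH_idM_iff hl]
    intro a ha
    have := comm_ph (g := a) (L := W) (fun b hb => hW.comm a ha b hb) v
    rw [mul_assoc, this, inv_mul_cancel_left]
  -- the index
  have hidx : Nat.card (K ⧸ F.subgroupOf K) = A.card := by
    have h1 : Nat.card (A : Finset (List ℕ)) = A.card := by rw [Nat.card_eq_fintype_card, Fintype.card_coe]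
    rw [← h1]
    have key : ∀ a b : K, (a : H)⁻¹ * b ∈ F → ρ a = ρ b := by
      intro a b hab'
      have h3 : ActH W b (mulM (ρ a) idM) := by
        have := (hρ2 a a.2).mul hW (hFact _ hab')
        rwa [mul_inv_cancel_left] at this
      rw [mulM_idM (SL_getlt (hρ1 a a.2))] at h3
      exact hρ b b.2 _ (hρ1 a a.2) h3
    refine Nat.card_congr (Equiv.ofBijective (fun q : K ⧸ F.subgroupOf K =>
      (⟨Quotient.liftOn' q (fun k => ρ k) ?_, ?_⟩ : (A : Finset (List ℕ)))) ⟨?_, ?_⟩)
    · intro a b hab'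
      rw [QuotientGroup.leftRel_apply, Subgroup.mem_subgroupOf] at hab'
      exact key a b hab'
    · obtain ⟨k, rfl⟩ := QuotientGroup.mk_surjective q
      exact (hA _).2 ⟨hρ1 k k.2, k, k.2, hρ2 k k.2⟩
    · intro q1 q2 h
      obtain ⟨a, rfl⟩ := QuotientGroup.mk_surjective q1
      obtain ⟨b, rfl⟩ := QuotientGroup.mk_surjective q2
      have h3 : ρ a = ρ b := congrArg Subtype.val h
      rw [QuotientGroup.eq, Subgroup.mem_subgroupOf]
      refine ⟨K.mul_mem (K.inv_mem a.2) b.2, ?_⟩
      apply hker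
      rw [actH_idM_iff hl]
      intro w hw
      have ha := hρ2 a a.2
      have hb := hρ2 b b.2
      have hai : (a : H)⁻¹ = a := inv_eq_of_mul_eq_one_left (hsq a a.2)
      obtain ⟨u, hu⟩ : ∃ u, (a : H)⁻¹ * w * a = ph W u := by
        have : ∀ {L : List H} {l : List ℕ}, List.Forall₂ (fun x y => (a : H)⁻¹ * x * a = ph W y) L l → w ∈ L →
            ∃ u, (a : H)⁻¹ * w * a = ph W u := by
          intro L l hf hwL
          induction hf with
          | nil => simp at hwL
          | @cons x y l1 l2 hxy _ ih =>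
            rcases List.mem_cons.1 hwL with rfl | h
            · exact ⟨y, hxy⟩
            · exact ih h
        exact this ha hw
      have h4 : (b : H)⁻¹ * ph W u * b = (a : H)⁻¹ * ph W u * a := by
        rw [ha.conj_ph hW, hb.conj_ph hW, h3]
      have h5 : (a : H)⁻¹ * ph W u * a = w := by
        rw [← hu]
        have h6 : (a : H) * a = 1 := hsq a a.2
        rw [hai]
        calc (a : H) * (a * w * a) * a = (a * a) * w * (a * a) := by group
          _ = w := by rw [h6]; group
      calc ((a : H)⁻¹ * b)⁻¹ * w * ((a : H)⁻¹ * b) = (b : H)⁻¹ * (a * w * (a : H)⁻¹) * b := by group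
        _ = (b : H)⁻¹ * ((a : H)⁻¹ * w * a) * b := by rw [hai]
        _ = w := by rw [hu, h4, h5]
    · rintro ⟨m, hm⟩
      obtain ⟨h1, k, hk, hkm⟩ := (hA m).1 hm
      refine ⟨((⟨k, hk⟩ : K) : K ⧸ F.subgroupOf K), Subtype.ext ?_⟩
      exact (hρ k hk m h1 hkm).symm
  have hcf : A.card * Nat.card F = 1024 := by
    have h1 := Subgroup.card_eq_card_quotient_mul_card_subgroup (F.subgroupOf K)
    rw [hidx, hcard] at h1
    have h2 : Nat.card (F.subgroupOf K) = Nat.card F :=
      Nat.card_congr (Subgroup.subgroupOfEquivOfLe (inf_le_left)).toEquiv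
    rw [h2] at h1
    exact h1.symm
  -- the fixed points
  have hfixF : ∀ m ∈ A, ∀ f ∈ F, ∃ v < 1024, f = ph W v ∧ ap m v = v := by
    intro m hm f hf
    obtain ⟨v, hv, rfl⟩ := hf.2
    obtain ⟨h1, k, hk, hkm⟩ := (hA m).1 hm
    refine ⟨v, hv, rfl, ?_⟩
    have h2 := hkm.conj_ph hW v
    have h3 : k⁻¹ * ph W v * k = ph W v := by
      rw [mul_assoc, hab _ hf.1 k hk, inv_mul_cancel_left]
    rw [h3] at h2
    exact (inj v hv _ (ap_lt (SL_getlt h1) v) h2).symm
  have hp0 : ∀ m : List ℕ, (ap m 0 == 0) = true := fun m => by rw [ap_zero]; rfl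
  have hpx : ∀ (m : List ℕ) (u v : ℕ), (ap m u == u) = true → (ap m v == v) = true →
      (ap m (u ^^^ v) == u ^^^ v) = true := by
    intro m u v h1 h2
    rw [beq_iff_eq] at h1 h2 ⊢
    rw [ap_xor, h1, h2]
  let FF : List ℕ → Subgroup H := fun m => FH W hW (fun v => ap m v == v) (hp0 m) (hpx m)
  have hFF : ∀ m, Nat.card (FF m) = nf m := fun m => card_FH inj
  have hleF : ∀ m ∈ A, F ≤ FF m := by
    intro m hm f hf
    obtain ⟨v, hv, h1, h2⟩ := hfixF m hm f hf
    exact ⟨v, hv, h1, by rw [beq_iff_eq]; exact h2⟩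
  have hcomb := comb (A := A) (f := Nat.card F) ((hA _).2 ⟨idM_mem, 1, K.one_mem, hone⟩) hcf
    (fun m hm => ((hA m).1 hm).1) ?_ ?_ ?_ ?_ ?_
  · intro h hh
    have h1 : ρ h ∈ A := (hA _).2 ⟨hρ1 h hh, h, hh, hρ2 h hh⟩
    rw [hcomb, Finset.mem_singleton] at h1
    have h2 := hρ2 h hh
    rw [h1] at h2
    exact hker h h2
  · intro m hm
    obtain ⟨h1, k, hk, hkm⟩ := (hA m).1 hm
    have h2 := hkm.mul hW hkm
    rw [hsq k hk] at h2
    exact h2.uniq inj (mulM_lt (SL_getlt h1)) idM_lt hone
  · intro a ha b hb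
    obtain ⟨h1, k, hk, hkm⟩ := (hA a).1 ha
    obtain ⟨h1', k', hk', hkm'⟩ := (hA b).1 hb
    have h2 := hkm.mul hW hkm'
    have h3 := hkm'.mul hW hkm
    rw [hab k' hk' k hk] at h3
    exact h2.uniq inj (mulM_lt (SL_getlt h1')) (mulM_lt (SL_getlt h1)) h3
  · intro m hm
    rw [← hFF m]
    exact Subgroup.card_dvd_of_le (hleF m hm)
  · intro a ha b hb
    have hp02 : (ap a 0 == 0 && ap b 0 == 0) = true := by rw [hp0, hp0]; rfl
    have hpx2 : ∀ u v : ℕ, (ap a u == u && ap b u == u) = true → (ap a v == v && ap b v == v) = true →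
        (ap a (u ^^^ v) == u ^^^ v && ap b (u ^^^ v) == u ^^^ v) = true := by
      intro u v h1 h2
      rw [Bool.and_eq_true] at h1 h2 ⊢
      exact ⟨hpx a u v h1.1 h2.1, hpx b u v h1.2 h2.2⟩
    have h1 : Nat.card (FH W hW (fun v => ap a v == v && ap b v == v) hp02 hpx2) = nf2 a b := card_FH inj
    have hfin2 : Finite (FH W hW (fun v => ap a v == v && ap b v == v) hp02 hpx2) := by
      apply Set.Finite.to_subtype
      apply ((Finset.range 1024).finite_toSet.image (ph W)).subset
      rintro h ⟨v, hv, rfl, _⟩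
      exact ⟨v, by simpa using hv, rfl⟩
    rw [← h1]
    apply Subgroup.card_le_of_le
    intro f hf
    obtain ⟨v, hv, h3, h4⟩ := hfixF a ha f hf
    obtain ⟨v', hv', h3', h4'⟩ := hfixF b hb f hf
    have : v = v' := inj v hv v' hv' (by rw [← h3, ← h3'])
    subst this
    exact ⟨v, hv, h3, by rw [Bool.and_eq_true, beq_iff_eq, beq_iff_eq]; exact ⟨h4, h4'⟩⟩
  · intro a ha hna b hb u hu hau
    have h1 : F = FF a := by
      have hfin3 : Finite (FF a) := Nat.finite_of_card_ne_zero (by
        rw [hFF a, hna]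
        intro h0
        rw [h0, mul_zero] at hcf
        exact absurd hcf (by norm_num))
      apply Subgroup.eq_of_le_of_card_ge (hleF a ha)
      rw [hFF a, hna]
    have h2 : ph W u ∈ F := by
      rw [h1]
      exact ⟨u, hu, rfl, by rw [beq_iff_eq]; exact hau⟩
    obtain ⟨v, hv, h3, h4⟩ := hfixF b hb _ h2
    have : u = v := inj u hu v hv h3
    subst this
    exact h4

end Ph

end Cfsg.Agent.StdO8.Shadow
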