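import Cfsg.Agent.StdO8.ShadowReal

/-!
# The 2-group `S` of order `2 ^ 18` in `G`
-/

set_option autoImplicit false
set_option linter.unusedSectionVars false

namespace Cfsg.Agent.StdO8.Shadow

open Subgroup

theorem SL_orb1 : ∀ m ∈ SL, ap m 1 ∈ orb1 := by decide +kernel

universe u

variable {G : Type u} [Group G] [Finite G] {t x z x' : G} {e s n : ℕ → G}

/-- `S` in `G`. -/
def Data.SG (D : Data t x z e s n x') : Subgroup G := (SS D.toBase.cd (quo D.zz)).map (Cz z).subtype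

/-- `M` in `G`. -/
def Data.MG (D : Data t x z e s n x') : Subgroup G := (MM D.toBase.cd (quo D.zz)).map (Cz z).subtype

theorem Data.mem_SG (D : Data t x z e s n x') {g : G} :
    g ∈ D.SG ↔ ∃ c : Cz z, c ∈ SS D.toBase.cd (quo D.zz) ∧ (c : G) = g := Iff.rfl

theorem Data.mem_MG (D : Data t x z e s n x') {g : G} :
    g ∈ D.MG ↔ ∃ c : Cz z, c ∈ MM D.toBase.cd (quo D.zz) ∧ (c : G) = g := Iff.rfl

theorem Data.SG_comm (D : Data t x z e s n x') {g : G} (hg : g ∈ D.SG) : g * z = z * g := by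
  obtain ⟨c, _, rfl⟩ := D.mem_SG.1 hg
  exact mem_Cz.1 c.2

theorem Data.MG_le (D : Data t x z e s n x') : D.MG ≤ D.SG := by
  rintro _ ⟨c, hc, rfl⟩
  exact ⟨c, MM_le_SS _ _ hc, rfl⟩

theorem Data.SG_pgroup (D : Data t x z e s n x') : IsPGroup 2 D.SG := (SS_pgroup D.toBase.cd (quo D.zz)).map _

theorem Data.card_SS (D : Data t x z e s n x') : Nat.card (SS D.toBase.cd (quo D.zz)) = 2 ^ 18 := by
  refine le_antisymm (card_SS_le _ _) ?_
  have C := D.toBase.cd
  have Q := quo (z := z) D.zz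
  choose! r hr using D.real
  let f : (SL.toFinset × MM C Q) → SS C Q := fun p =>
    ⟨r p.1 * p.2, (SS C Q).mul_mem ⟨p.1, List.mem_toFinset.1 p.1.2, hr _ (List.mem_toFinset.1 p.1.2)⟩
      (MM_le_SS C Q p.2.2)⟩
  have hf : Function.Injective f := by
    rintro ⟨⟨m, hm⟩, ⟨y, hy⟩⟩ ⟨⟨m', hm'⟩, ⟨y', hy'⟩⟩ h
    have h1 : r m * y = r m' * y' := congrArg Subtype.val h
    rw [List.mem_toFinset] at hm hm'
    have a1 := (hr m hm).mul C Q (MM_act C Q hy)
    have a2 := (hr m' hm').mul C Q (MM_act C Q hy')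
    rw [mulM_idM (SL_getlt hm)] at a1
    rw [mulM_idM (SL_getlt hm')] at a2
    rw [← h1] at a2
    have h2 := a1.uniq C Q (SL_getlt hm) (SL_getlt hm') a2
    subst h2
    have h3 := mul_left_cancel h1
    subst h3
    rfl
  have h1 := Nat.card_le_card_of_injective f hf
  rw [Nat.card_prod, card_MM, Nat.card_eq_fintype_card (α := SL.toFinset), Fintype.card_coe,
    List.toFinset_card_of_nodup SL_nodup, SL_len] at h1
  exact h1

theorem Data.card_SG (D : Data t x z e s n x') : Nat.card D.SG = 2 ^ 18 := by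
  rw [← D.card_SS]
  exact Subgroup.card_map_of_injective Subtype.val_injective

theorem Data.wC_mem (D : Data t x z e s n x') {i : ℕ} (hi : i < 10) :
    D.toBase.wC i ∈ MM D.toBase.cd (quo D.zz) := by
  apply mem_MM_of_act
  unfold Act
  rw [actH_idM_iff WB_length]
  intro a ha
  obtain ⟨j, hj, rfl⟩ := mem_WB ha
  have := (D.toBase.cd.elW (quo D.zz)).comm _ (WB_mem hj) _ (WB_mem hi)
  rw [mul_assoc, this, inv_mul_cancel_left]

theorem Data.wG_mem (D : Data t x z e s n x') {i : ℕ} (hi : i < 10) : wG t x e i ∈ D.MG :=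
  ⟨D.toBase.wC i, D.wC_mem hi, rfl⟩

theorem Data.t_mem (D : Data t x z e s n x') : t ∈ D.MG := D.wG_mem (i := 0) (by norm_num)

theorem Data.x_mem (D : Data t x z e s n x') : x ∈ D.MG := D.wG_mem (i := 1) (by norm_num)

theorem Data.e_mem (D : Data t x z e s n x') {S : ℕ} (hS : S < 8) : e S ∈ D.MG := by
  have := D.wG_mem (i := S + 2) (by omega)
  rwa [wG_e hS] at this

theorem Data.z_mem (D : Data t x z e s n x') : z ∈ D.MG :=
  ⟨zC z, (mem_MM _ _).2 ⟨0, by norm_num, true, by simp [ph_zero, zb]⟩, rfl⟩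

/-- The action on `x`. -/
theorem Data.SG_x (D : Data t x z e s n x') {g : G} (hg : g ∈ D.SG) : x * g = g * x ∨ x * g = g * x * z := by
  obtain ⟨c, ⟨m, hm, hc⟩, rfl⟩ := D.mem_SG.1 hg
  have h1 := hc.conj D.toBase.cd (quo D.zz) 2
  rw [SL_fixX m hm, (quo D.zz).eq_iff] at h1
  have h2 : ((ph (WL D.toBase.wC) 2 : Cz z) : G) = x := by
    rw [D.toBase.coe_ph]; simp [ph]
  rcases h1 with h | h
  · left
    have := congrArg Subtype.val h
    simp only [Subgroup.coe_mul, Subgroup.coe_inv, h2] at this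
    calc x * c = c * ((c : G)⁻¹ * x * c) := by group
      _ = c * x := by rw [this]
  · right
    have := congrArg Subtype.val h
    simp only [Subgroup.coe_mul, Subgroup.coe_inv, h2] at this
    calc x * c = c * ((c : G)⁻¹ * x * c) := by group
      _ = c * (x * z) := by rw [this]; rfl
      _ = c * x * z := by group

/-- The subgroup `T`. -/
def Data.TG (D : Data t x z e s n x') : Subgroup G := D.SG ⊓ centralizer ({t} : Set G)

theorem Data.mem_TG (D : Data t x z e s n x') {g : G} : g ∈ D.TG ↔ g ∈ D.SG ∧ g * t = t * g := by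
  unfold Data.TG
  rw [Subgroup.mem_inf, mem_centralizer_singleton_iff]

/-- The conjugates of `t` under `S`. -/
theorem Data.SG_t (D : Data t x z e s n x') {g : G} (hg : g ∈ D.SG) :
    ∃ v ∈ orb1, ∃ b : Bool, g⁻¹ * t * g = ph (LG t x e) v * zb z b := by
  obtain ⟨c, ⟨m, hm, hc⟩, rfl⟩ := D.mem_SG.1 hg
  have h1 := hc.conj D.toBase.cd (quo D.zz) 1
  rw [(quo D.zz).eq_iff] at h1
  have h2 : ((ph (WL D.toBase.wC) 1 : Cz z) : G) = t := by
    rw [D.toBase.coe_ph]; simp [ph]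
  refine ⟨ap m 1, SL_orb1 m hm, ?_⟩
  rcases h1 with h | h
  · refine ⟨false, ?_⟩
    have := congrArg Subtype.val h
    simp only [Subgroup.coe_mul, Subgroup.coe_inv, h2, D.toBase.coe_ph] at this
    rw [this]; simp [zb]
  · refine ⟨true, ?_⟩
    have := congrArg Subtype.val h
    simp only [Subgroup.coe_mul, Subgroup.coe_inv, h2, D.toBase.coe_ph] at this
    rw [this]; rfl

theorem Data.card_TG (D : Data t x z e s n x') : 2 ^ 14 ≤ Nat.card D.TG := by
  classical
  have hle : D.TG ≤ D.SG := inf_le_left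
  have h1 := Subgroup.card_eq_card_quotient_mul_card_subgroup (D.TG.subgroupOf D.SG)
  have h2 : Nat.card (D.TG.subgroupOf D.SG) = Nat.card D.TG :=
    Nat.card_congr (Subgroup.subgroupOfEquivOfLe hle).toEquiv
  have h3 : Nat.card (D.SG ⧸ D.TG.subgroupOf D.SG) ≤ 16 := by
    have hρ : ∀ g : D.SG, ∃ p : ℕ × Bool, p.1 ∈ orb1 ∧ (g : G) * t * (g : G)⁻¹ = ph (LG t x e) p.1 * zb z p.2 := by
      intro g
      obtain ⟨v, hv, b, h⟩ := D.SG_t (D.SG.inv_mem g.2)
      exact ⟨(v, b), hv, by rw [inv_inv] at h; exact h⟩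
    choose ρ hρ1 hρ2 using hρ
    let f : (D.SG ⧸ D.TG.subgroupOf D.SG) → orb1.toFinset × Bool := fun q =>
      (⟨(ρ q.out).1, List.mem_toFinset.2 (hρ1 _)⟩, (ρ q.out).2)
    have hf : Function.Injective f := by
      intro p q hpq
      have h4 : (ρ p.out).1 = (ρ q.out).1 := congrArg (fun r => (r.1 : ℕ)) hpq
      have h5 : (ρ p.out).2 = (ρ q.out).2 := congrArg (fun r => r.2) hpq
      rw [← QuotientGroup.out_eq' p, ← QuotientGroup.out_eq' q, QuotientGroup.eq, Subgroup.mem_subgroupOf, D.mem_TG]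
      refine ⟨((p.out)⁻¹ * q.out).2, ?_⟩
      have h6 := hρ2 p.out
      have h7 := hρ2 q.out
      rw [h4, h5, ← h7] at h6
      push_cast
      calc ((p.out : D.SG) : G)⁻¹ * (q.out : D.SG) * t
          = ((p.out : D.SG) : G)⁻¹ * ((q.out : D.SG) * t * ((q.out : D.SG) : G)⁻¹) * (q.out : D.SG) := by group
        _ = ((p.out : D.SG) : G)⁻¹ * ((p.out : D.SG) * t * ((p.out : D.SG) : G)⁻¹) * (q.out : D.SG) := by rw [h6]
        _ = t * (((p.out : D.SG) : G)⁻¹ * (q.out : D.SG)) := by group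
    have h5 := Nat.card_le_card_of_injective f hf
    have h6 : Nat.card (orb1.toFinset × Bool) ≤ 16 := by
      rw [Nat.card_prod, Nat.card_eq_fintype_card (α := orb1.toFinset), Fintype.card_coe,
        Nat.card_eq_fintype_card (α := Bool), Fintype.card_bool]
      have : orb1.toFinset.card ≤ 8 := (List.toFinset_card_le _).trans (by simp [orb1])
      omega
    exact h5.trans h6
  rw [D.card_SG, h2] at h1
  have h4 : 2 ^ 18 ≤ 16 * Nat.card D.TG := by
    rw [h1]; exact Nat.mul_le_mul_right _ h3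
  omega

/-- Weak closure. -/
theorem Data.weakG (D : Data t x z e s n x') {c : G} (hc : c * z = z * c) (h : ∀ g ∈ D.MG, c⁻¹ * g * c ∈ D.SG) :
    ∀ g ∈ D.MG, c⁻¹ * g * c ∈ D.MG := by
  have key := weakC D.toBase.cd (quo D.zz) ⟨c, mem_Cz.2 hc⟩ (by
    intro g hg
    obtain ⟨k, hk, h1⟩ := D.mem_SG.1 (h g ⟨g, hg, rfl⟩)
    have h2 : k = (⟨c, mem_Cz.2 hc⟩ : Cz z)⁻¹ * g * ⟨c, mem_Cz.2 hc⟩ := Subtype.ext h1
    rw [← h2]
    exact hk)
  rintro _ ⟨g, hg, rfl⟩
  exact ⟨_, key g hg, rfl⟩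

end Cfsg.Agent.StdO8.Shadow
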