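import Cfsg.Agent.StdO8.DataOf

/-!
# Triality of `Ω₈⁺(2)` on the root elements

`gen`: `Om` is generated by the root elements `xm s`, `s` in `D4`. `tri : MulAut Om` with `tri (xm s) = xm (rho s)`, `rho` the
diagram automorphism of order 3. It is constructed with a product on the natural module: `x_s (v * w) = x_{ρ s} v * x_{ρ⁻¹ s} w`.
-/

set_option autoImplicit false

namespace Cfsg.Agent.StdO8.Tri

open Cfsg.Agent.StdO8.Model (V q B X O8 Om)
open Cfsg.Agent.StdO8.D4Root (E ip roots Φ)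
open Cfsg.Agent.StdO8.Bas
open Cfsg.Agent.StdO8.DataOf (xm)

/-! ### Generation -/

/-- The group generated by the root elements. -/
def H : Subgroup (V ≃ₗ[ZMod 2] V) := Subgroup.closure {g | ∃ i j, ok i j ∧ g = xb i j}

theorem xb_mem_H {i j : Fin 8} (h : ok i j) : xb i j ∈ H := Subgroup.subset_closure ⟨i, j, h, rfl⟩

theorem H_le : H ≤ Om := by
  unfold H
  rw [Subgroup.closure_le]
  rintro _ ⟨i, j, _, rfl⟩
  exact xb_mem i j

theorem eq_sum (w : V) : w = ∑ j : Fin 8, B w (bv (j + 4)) • bv j := by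
  have h1 : toD w = ∑ j : Fin 8, B w (bv (j + 4)) • Dc.b j := by
    funext k
    rw [Finset.sum_apply]
    have h2 : ∀ j : Fin 8, (B w (bv (j + 4)) • Dc.b j) k = if j = k then toD w k else 0 := by
      intro j
      rw [Pi.smul_apply, Dc.b_apply, smul_eq_mul, ← B_toD, toD_bv, ← Dc.coord]
      by_cases h : j = k
      · rw [if_pos h.symm, if_pos h, mul_one, h]
      · rw [if_neg (Ne.symm h), if_neg h, mul_zero]
    rw [Finset.sum_congr rfl fun j _ => h2 j, Finset.sum_ite_eq' Finset.univ k, if_pos (Finset.mem_univ k)]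
  have h3 := congrArg ofD h1
  rw [ofD_toD] at h3
  have h4 : ∀ (s : Finset (Fin 8)), ofD (∑ j ∈ s, B w (bv (j + 4)) • Dc.b j) = ∑ j ∈ s, B w (bv (j + 4)) • bv j := by
    intro s
    induction s using Finset.induction_on with
    | empty => rfl
    | insert a s ha ih => rw [Finset.sum_insert ha, Finset.sum_insert ha, ofD_add, ih]; rfl
  exact h3.trans (h4 _)

/-- The subgroup `X (bv i) *`. -/
theorem X_mem_H (i : Fin 8) {w : V} (hw : B (bv i) w = 0) : X (bv i) w ∈ H := by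
  have key : ∀ s : Finset (Fin 8), (∀ j ∈ s, j ≠ i + 4) → B (bv i) (∑ j ∈ s, B w (bv (j + 4)) • bv j) = 0 ∧
      X (bv i) (∑ j ∈ s, B w (bv (j + 4)) • bv j) ∈ H := by
    intro s
    induction s using Finset.induction_on with
    | empty =>
      intro _
      rw [Finset.sum_empty]
      exact ⟨Model.B_zero_right _, by rw [Model.X_zero_right]; exact one_mem _⟩
    | insert a s ha ih =>
      intro hs
      obtain ⟨ih1, ih2⟩ := ih fun j hj => hs j (Finset.mem_insert_of_mem hj)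
      have ha4 := hs a (Finset.mem_insert_self a s)
      have h1 : B (bv i) (B w (bv (a + 4)) • bv a) = 0 := by
        rw [Model.B_smul_right, B_bv, if_neg ha4, mul_zero]
      rw [Finset.sum_insert ha]
      refine ⟨by rw [Model.B_add_right, h1, ih1, add_zero], ?_⟩
      rw [← Model.X_mul (q_bv i) h1 ih1]
      refine mul_mem ?_ ih2
      rcases Model.z2 (B w (bv (a + 4))) with h2 | h2
      · rw [h2, zero_smul, Model.X_zero_right]; exact one_mem _
      · rw [h2, one_smul]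
        by_cases hai : a = i
        · rw [hai, Model.X_self (q_bv i)]; exact one_mem _
        · exact xb_mem_H ⟨hai, ha4⟩
  have h1 := eq_sum w
  have h2 : B w (bv (i + 4 + 4)) • bv (i + 4) = 0 := by
    rw [add_four, Model.B_comm, hw, zero_smul]
  have h3 := Finset.sum_erase Finset.univ (f := fun j => B w (bv (j + 4)) • bv j) h2
  rw [h1, ← h3]
  exact (key _ fun j hj => Finset.ne_of_mem_erase hj).2

/-- A singular vector which is not orthogonal to `bv i` is conjugate to `bv (i + 4)`. -/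
theorem exists_H (i : Fin 8) {u : V} (hu : q u = 0) (h : B (bv i) u = 1) : ∃ g ∈ H, g (bv (i + 4)) = u := by
  have h4 : B (bv i) (bv (i + 4)) = 1 := by rw [B_bv, if_pos rfl]
  have h0 : B (bv i) (u + bv (i + 4)) = 0 := by
    rw [Model.B_add_right, h, h4]; decide
  refine ⟨X (bv i) (u + bv (i + 4)), X_mem_H i h0, ?_⟩
  have h5 : B (bv (i + 4)) (bv (i + 4)) = 0 := Model.B_self _
  rw [Model.X_apply' (q_bv i) h0, h4, one_smul, Model.B_add_left, h5, add_zero, Model.q_add, hu, q_bv, zero_add, zero_add, mul_one]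
  have h6 : ∀ a b c : V, a + (b + a) + c + c = b := fun a b c => by
    have h7 : a + (b + a) + c + c = b + (a + a) + (c + c) := by abel
    rw [h7, Model.add_self, Model.add_self, add_zero, add_zero]
  exact h6 _ _ _

theorem exists_conn : ∀ i j : Fin 8, ∃ k, ok (i + 4) (k + 4) ∧ (ok (j + 4) (k + 4) ∨ k = j) := by decide

/-- The basis vectors are conjugate. -/
theorem exists_H_b (i j : Fin 8) (h : ok i j) : ∃ g ∈ H, g (bv i) = bv j := by
  have h4 : ∀ i j : Fin 8, ok i j → ok (i + 4) (j + 4) ∧ ok j i := by decide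
  obtain ⟨h5, h6⟩ := h4 i j h
  have hq : q (bv i + bv j) = 0 := by rw [Model.q_add, q_bv, q_bv, B_bv, if_neg h.2]; decide
  have e1 : B (bv (i + 4)) (bv i + bv j) = 1 := by
    rw [Model.B_add_right, B_bv, B_bv, add_four, if_pos rfl, if_neg h.1, add_zero]
  have e2 : B (bv (j + 4)) (bv i + bv j) = 1 := by
    rw [Model.B_add_right, B_bv, B_bv, add_four, if_pos rfl, if_neg h6.1, zero_add]
  obtain ⟨g1, hg1, k1⟩ := exists_H (i + 4) hq e1
  obtain ⟨g2, hg2, k2⟩ := exists_H (j + 4) hq e2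
  rw [add_four] at k1 k2
  refine ⟨g2⁻¹ * g1, mul_mem (inv_mem hg2) hg1, ?_⟩
  show g2.symm (g1 (bv i)) = bv j
  rw [k1, ← k2, LinearEquiv.symm_apply_apply]

theorem exists_H_zero (i : Fin 8) : ∃ g ∈ H, g (bv 0) = bv i := by
  have h : ∀ i : Fin 8, i = 0 ∨ ok 0 i ∨ (ok 0 1 ∧ ok 1 i) := by decide
  rcases h i with h | h | ⟨h1, h2⟩
  · exact ⟨1, one_mem _, by rw [h]; rfl⟩
  · exact exists_H_b 0 i h
  · obtain ⟨g1, hg1, k1⟩ := exists_H_b 0 1 h1
    obtain ⟨g2, hg2, k2⟩ := exists_H_b 1 i h2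
    refine ⟨g2 * g1, mul_mem hg2 hg1, ?_⟩
    show g2 (g1 (bv 0)) = bv i
    rw [k1, k2]

/-- `H` is transitive on the singular vectors. -/
theorem exists_H_sing {u : V} (hu : q u = 0) (h0 : u ≠ 0) : ∃ g ∈ H, g (bv 0) = u := by
  have h1 : ∃ i, B (bv i) u = 1 := by
    by_contra hcon
    push Not at hcon
    apply h0
    rw [eq_sum u]
    refine Finset.sum_eq_zero fun j _ => ?_
    rw [Model.B_comm, (Model.z2 _).resolve_right (hcon _), zero_smul]
  obtain ⟨i, hi⟩ := h1
  obtain ⟨g1, hg1, k1⟩ := exists_H i hu hi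
  obtain ⟨g2, hg2, k2⟩ := exists_H_zero (i + 4)
  refine ⟨g1 * g2, mul_mem hg1 hg2, ?_⟩
  show g1 (g2 (bv 0)) = u
  rw [k2, k1]

theorem X_mem_H' {u w : V} : X u w ∈ H := by
  by_cases h : q u = 0 ∧ B u w = 0
  · by_cases h0 : u = 0
    · have : X u w = 1 := by
        ext v : 1
        rw [Model.X_apply' h.1 h.2, h0, Model.B_zero_left]
        simp
      rw [this]; exact one_mem _
    · obtain ⟨g, hg, k⟩ := exists_H_sing h.1 h0
      have hgO : g ∈ O8 := Model.Om_le (H_le hg)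
      have h1 : B (bv 0) (g⁻¹ w) = 0 := by
        rw [← Model.O8_B hgO, k]
        show B u (g (g.symm w)) = 0
        rw [LinearEquiv.apply_symm_apply]
        exact h.2
      have h2 := Model.X_conj hgO (bv 0) (g⁻¹ w)
      rw [k] at h2
      have h3 : g (g⁻¹ w) = w := LinearEquiv.apply_symm_apply g w
      rw [h3] at h2
      rw [← h2]
      exact mul_mem (mul_mem hg (X_mem_H 0 h1)) (inv_mem hg)
  · rw [X, dif_neg h]; exact one_mem _

theorem H_eq : H = Om := by
  apply le_antisymm H_le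
  show Subgroup.closure _ ≤ H
  rw [Subgroup.closure_le]
  rintro _ ⟨u, w, hu, hw, rfl⟩
  have h1 := Model.X_eq hu hw
  rw [← h1]
  exact X_mem_H'

/-- **`Om` is generated by the 24 root elements.** -/
theorem gen : Subgroup.closure {m : Om | ∃ s ∈ Φ, m = xm s} = ⊤ := by
  rw [eq_top_iff]
  intro m _
  have h1 : (m : V ≃ₗ[ZMod 2] V) ∈ H := by rw [H_eq]; exact m.2
  have h2 : H ≤ (Subgroup.closure {m : Om | ∃ s ∈ Φ, m = xm s}).map Om.subtype := by
    unfold H
    rw [Subgroup.closure_le]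
    rintro _ ⟨i, j, hij, rfl⟩
    exact ⟨xm (wt i + wt j), Subgroup.subset_closure ⟨_, wt_mem i j hij, rfl⟩, xO_wt hij⟩
  obtain ⟨m', hm', e⟩ := h2 h1
  have e2 : m' = m := Subtype.ext e
  rw [← e2]
  exact hm'

/-! ### The product -/

/-- The diagram automorphism of order 3. -/
def rho (s : E) : E :=
  ![(s 0 + s 1 + s 2 + s 3) / 2, (s 0 + s 1 - s 2 - s 3) / 2, (s 0 - s 1 + s 2 - s 3) / 2, (-s 0 + s 1 + s 2 - s 3) / 2]

/-- The inverse of `rho`. -/
def rhoi (s : E) : E :=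
  ![(s 0 + s 1 + s 2 - s 3) / 2, (s 0 + s 1 - s 2 + s 3) / 2, (s 0 - s 1 + s 2 + s 3) / 2, (s 0 - s 1 - s 2 - s 3) / 2]

theorem rho_mem : ∀ s ∈ roots, rho s ∈ roots ∧ rhoi s ∈ roots ∧ rho (rhoi s) = s ∧ rhoi (rho s) = s ∧ rho (rho s) = rhoi s := by
  decide +kernel

/-- The product. -/
def pr (v w : Dc.V) : Dc.V :=
  ![v 0 * w 3 + v 1 * w 2 + v 2 * w 1 + v 7 * w 0,
    v 0 * w 6 + v 1 * w 7 + v 3 * w 1 + v 6 * w 0,
    v 0 * w 5 + v 2 * w 7 + v 3 * w 2 + v 5 * w 0,
    v 0 * w 4 + v 5 * w 1 + v 6 * w 2 + v 7 * w 7,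
    v 3 * w 4 + v 4 * w 7 + v 5 * w 6 + v 6 * w 5,
    v 2 * w 4 + v 4 * w 2 + v 5 * w 3 + v 7 * w 5,
    v 1 * w 4 + v 4 * w 1 + v 6 * w 3 + v 7 * w 6,
    v 1 * w 5 + v 2 * w 6 + v 3 * w 3 + v 4 * w 0]

theorem pr_add_left (u v w : Dc.V) : pr (u + v) w = pr u w + pr v w := by
  funext k
  fin_cases k <;> simp only [pr, Pi.add_apply] <;> simp <;> ring

theorem pr_add_right (u v w : Dc.V) : pr u (v + w) = pr u v + pr u w := by
  funext k
  fin_cases k <;> simp only [pr, Pi.add_apply] <;> simp <;> ring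

theorem pr_smul_left (a : ZMod 2) (v w : Dc.V) : pr (a • v) w = a • pr v w := by
  funext k
  fin_cases k <;> simp only [pr, Pi.smul_apply, smul_eq_mul] <;> simp <;> ring

theorem pr_smul_right (a : ZMod 2) (v w : Dc.V) : pr v (a • w) = a • pr v w := by
  funext k
  fin_cases k <;> simp only [pr, Pi.smul_apply, smul_eq_mul] <;> simp <;> ring

/-- the root element in coordinates -/
def xf (s : E) (v : Dc.V) : Dc.V := Dc.Xf (Dc.b (hd s).1) (Dc.b (hd s).2) v

theorem pr_b : ∀ s ∈ roots, ∀ k l : Fin 8,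
    xf s (pr (Dc.b k) (Dc.b l)) = pr (xf (rho s) (Dc.b k)) (xf (rhoi s) (Dc.b l)) := by
  decide +kernel

end Cfsg.Agent.StdO8.Tri
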